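import Mathlib
import Cfsg.Agent.Lib.CommCalc

/-!
# The Lie ring associated with a central filtration of a group
-/

set_option autoImplicit false

namespace CfsgLib.AssocLie

open Subgroup
open scoped commutatorElement DirectSum

variable {G : Type*} [Group G]

/-- A strongly central series, indexed as `lowerCentralSeries`. -/
class IsNS (K : ℕ → Subgroup G) : Prop where
  anti : ∀ i, K (i + 1) ≤ K i
  comm : ∀ i j, ∀ x ∈ K i, ∀ y ∈ K j, ⁅x, y⁆ ∈ K (i + j + 1)

instance isNS_lcs (H : Subgroup G) : IsNS H.lowerCentralSeries where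
  anti _ := H.lowerCentralSeries_antitone (by omega)
  comm _ _ _ hx _ hy := CommCalc.commutator_mem_lcs hx hy

variable (K : ℕ → Subgroup G) [hK : IsNS K]

theorem antitone : Antitone K := antitone_nat_of_succ_le hK.anti

variable {K}

theorem comm_mem {i j n : ℕ} {x y : G} (hx : x ∈ K i) (hy : y ∈ K j) (h : n ≤ i + j + 1) :
    ⁅x, y⁆ ∈ K n := antitone K h (hK.comm i j x hx y hy)

theorem conj_mem {i j : ℕ} {x y : G} (hx : x ∈ K i) (hy : y ∈ K j) : x * y * x⁻¹ ∈ K j := by
  have := (K j).mul_mem (comm_mem hx hy (by omega)) hy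
  rwa [commutatorElement_def, inv_mul_cancel_right] at this

variable (K)

instance normal_subgroupOf (n : ℕ) : ((K (n + 1)).subgroupOf (K n)).Normal :=
  ⟨fun _ hy x => conj_mem x.2 hy⟩

/-- The graded pieces. -/
def Q (n : ℕ) : Type _ := K n ⧸ (K (n + 1)).subgroupOf (K n)

instance (n : ℕ) : CommGroup (Q K n) :=
  { (inferInstance : Group (K n ⧸ (K (n + 1)).subgroupOf (K n))) with
    mul_comm := fun a b => by
      induction a using QuotientGroup.induction_on with | H a => ?_
      induction b using QuotientGroup.induction_on with | H b => ?_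
      refine QuotientGroup.eq.2 ?_
      have := comm_mem (n := n + 1) (inv_mem b.2) (inv_mem a.2) (by omega)
      rw [mem_subgroupOf]
      simpa [commutatorElement_def, mul_assoc] using this }

/-- The associated Lie ring. -/
def AL : Type _ := ⨁ n, Additive (Q K n)

noncomputable instance : AddCommGroup (AL K) := inferInstanceAs (AddCommGroup (⨁ n, Additive (Q K n)))

/-- The projection to a graded piece. -/
def mkQ (n : ℕ) : K n →* Q K n := QuotientGroup.mk' _

open Classical in
/-- The class of `g ∈ K n` in degree `n`. -/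
noncomputable def ι (n : ℕ) (g : G) : AL K :=
  if h : g ∈ K n then DirectSum.of (fun n => Additive (Q K n)) n (Additive.ofMul (mkQ K n ⟨g, h⟩))
  else 0

variable {K}

theorem ι_of_mem {n : ℕ} {g : G} (h : g ∈ K n) : ι K n g =
    DirectSum.of (fun n => Additive (Q K n)) n (Additive.ofMul (mkQ K n ⟨g, h⟩)) := dif_pos h

theorem ι_mul {n : ℕ} {g h : G} (hg : g ∈ K n) (hh : h ∈ K n) :
    ι K n (g * h) = ι K n g + ι K n h := by
  rw [ι_of_mem hg, ι_of_mem hh, ι_of_mem (mul_mem hg hh)]
  erw [← map_add, ← ofMul_mul, ← map_mul]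
  rfl

theorem ι_eq_zero_iff {n : ℕ} {g : G} (hg : g ∈ K n) : ι K n g = 0 ↔ g ∈ K (n + 1) := by
  rw [ι_of_mem hg]
  erw [map_eq_zero_iff _ (DirectSum.of_injective n), ofMul_eq_zero, QuotientGroup.eq_one_iff]
  rfl

theorem ι_eq_zero {n : ℕ} {g : G} (hg : g ∈ K (n + 1)) : ι K n g = 0 :=
  (ι_eq_zero_iff (hK.anti n hg)).2 hg

variable (K) in
/-- `ι` as a homomorphism. -/
noncomputable def ιHom (n : ℕ) : K n →* Multiplicative (AL K) :=
  MonoidHom.mk' (fun g => Multiplicative.ofAdd (ι K n g)) fun a b => by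
    rw [← ofAdd_add, ← ι_mul a.2 b.2]; rfl

theorem ι_one (n : ℕ) : ι K n 1 = 0 := ι_eq_zero (one_mem _)

theorem ι_inv {n : ℕ} {g : G} (hg : g ∈ K n) : ι K n g⁻¹ = -ι K n g := by
  rw [eq_neg_iff_add_eq_zero, ← ι_mul (inv_mem hg) hg, inv_mul_cancel, ι_one]

theorem ι_pow {n : ℕ} {g : G} (hg : g ∈ K n) (m : ℕ) : ι K n (g ^ m) = m • ι K n g := by
  induction m with
  | zero => rw [pow_zero, ι_one, zero_smul]
  | succ m ih => rw [pow_succ, ι_mul (pow_mem hg m) hg, ih, succ_nsmul]

theorem ι_conj {i n : ℕ} {c g : G} (hc : c ∈ K i) (hg : g ∈ K n) :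
    ι K n (c * g * c⁻¹) = ι K n g := by
  rw [show c * g * c⁻¹ = ⁅c, g⁆ * g by simp [commutatorElement_def],
    ι_mul (comm_mem hc hg (by omega)) hg, ι_eq_zero (comm_mem hc hg (by omega)), zero_add]

@[elab_as_elim]
theorem induction_on {P : AL K → Prop} (x : AL K) (h0 : P 0)
    (h1 : ∀ n, ∀ g ∈ K n, P (ι K n g)) (h2 : ∀ x y, P x → P y → P (x + y)) : P x := by
  refine DirectSum.induction_on (β := fun n => Additive (Q K n)) x h0 (fun n a => ?_) h2
  obtain ⟨g, hg⟩ := QuotientGroup.mk'_surjective _ (Additive.toMul a)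
  have := h1 n g g.2
  rwa [ι_of_mem g.2, show mkQ K n ⟨g, g.2⟩ = Additive.toMul a from hg] at this

/-- The universal property. -/
noncomputable def lift {M : Type*} [AddCommGroup M] (f : ∀ n, K n → M)
    (hmul : ∀ n a b, f n (a * b) = f n a + f n b)
    (hker : ∀ n (a : K n), (a : G) ∈ K (n + 1) → f n a = 0) : AL K →+ M :=
  DirectSum.toAddMonoid (β := fun n => Additive (Q K n)) fun n =>
    MonoidHom.toAdditiveLeft (QuotientGroup.lift _
      (MonoidHom.mk' (fun g => Multiplicative.ofAdd (f n g)) fun a b => by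
        rw [← ofAdd_add, hmul]) fun a ha => by
      rw [MonoidHom.mem_ker, MonoidHom.mk'_apply, hker n a ha]; rfl)

theorem lift_ι {M : Type*} [AddCommGroup M] (f : ∀ n, K n → M) (hmul) (hker) {n : ℕ} {g : G}
    (hg : g ∈ K n) : lift f hmul hker (ι K n g) = f n ⟨g, hg⟩ := by
  rw [ι_of_mem hg]
  exact DirectSum.toAddMonoid_of _ _ _

theorem hom_ext {M : Type*} [AddCommGroup M] {f g : AL K →+ M}
    (h : ∀ n, ∀ x ∈ K n, f (ι K n x) = g (ι K n x)) : f = g := by
  ext x
  induction x using induction_on with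
  | h0 => rw [map_zero, map_zero]
  | h1 n x hx => exact h n x hx
  | h2 x y hx hy => rw [map_add, map_add, hx, hy]

/-- Bracket with a homogeneous element. -/
noncomputable def br1 (i : ℕ) (g : K i) : AL K →+ AL K :=
  lift (fun j h => ι K (i + j + 1) ⁅(g : G), (h : G)⁆)
    (fun j a b => by
      rw [coe_mul, CommCalc.comm_mul_right, ι_mul (comm_mem g.2 a.2 le_rfl)
        (conj_mem a.2 (comm_mem g.2 b.2 le_rfl)), ι_conj a.2 (comm_mem g.2 b.2 le_rfl)])
    fun j a ha => ι_eq_zero (comm_mem g.2 ha (by omega))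

theorem br1_ι (i : ℕ) (g : K i) {j : ℕ} {h : G} (hh : h ∈ K j) :
    br1 i g (ι K j h) = ι K (i + j + 1) ⁅(g : G), h⁆ := lift_ι _ _ _ hh

/-- The bracket. -/
noncomputable def br2 : AL K →+ AL K →+ AL K :=
  lift br1
    (fun i a b => hom_ext fun j c hc => by
      rw [AddMonoidHom.add_apply, br1_ι _ _ hc, br1_ι _ _ hc, br1_ι _ _ hc, coe_mul,
        CommCalc.comm_mul_left, ι_mul (conj_mem a.2 (comm_mem b.2 hc le_rfl))
        (comm_mem a.2 hc le_rfl), ι_conj a.2 (comm_mem b.2 hc le_rfl), add_comm])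
    fun i a ha => hom_ext fun j c hc => by
      rw [br1_ι _ _ hc, ι_eq_zero (comm_mem ha hc (by omega))]; rfl

theorem br2_ι {i j : ℕ} {g h : G} (hg : g ∈ K i) (hh : h ∈ K j) :
    br2 (ι K i g) (ι K j h) = ι K (i + j + 1) ⁅g, h⁆ := by
  rw [br2, lift_ι _ _ _ hg, br1_ι _ _ hh]

theorem br2_skew (x y : AL K) : br2 x y + br2 y x = 0 := by
  induction x using induction_on with
  | h0 => simp
  | h2 x x' hx hx' =>
    rw [map_add, map_add, AddMonoidHom.add_apply, add_add_add_comm, hx, hx', add_zero]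
  | h1 i g hg =>
  induction y using induction_on with
  | h0 => simp
  | h2 x x' hx hx' =>
    rw [map_add, map_add, AddMonoidHom.add_apply, add_add_add_comm, hx, hx', add_zero]
  | h1 j h hh =>
    rw [br2_ι hg hh, br2_ι hh hg, add_comm j i, ← ι_mul (comm_mem hg hh le_rfl)
      (comm_mem hh hg (by omega)), ← commutatorElement_inv g h, mul_inv_cancel, ι_one]

theorem br2_self (x : AL K) : br2 x x = 0 := by
  induction x using induction_on with
  | h0 => simp
  | h1 i g hg => rw [br2_ι hg hg, commutatorElement_self, ι_one]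
  | h2 x y hx hy =>
    simp only [map_add, AddMonoidHom.add_apply, hx, hy, zero_add, add_zero]
    rw [add_comm, br2_skew]

theorem br2_jacobi (x y z : AL K) :
    br2 (br2 x y) z + br2 (br2 y z) x + br2 (br2 z x) y = 0 := by
  induction x using induction_on with
  | h0 => simp
  | h2 x x' hx hx' =>
    simp only [map_add, AddMonoidHom.add_apply]
    linear_combination (norm := abel1) hx + hx'
  | h1 i a ha =>
  induction y using induction_on with
  | h0 => simp
  | h2 x x' hx hx' =>
    simp only [map_add, AddMonoidHom.add_apply]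
    linear_combination (norm := abel1) hx + hx'
  | h1 j b hb =>
  induction z using induction_on with
  | h0 => simp
  | h2 x x' hx hx' =>
    simp only [map_add, AddMonoidHom.add_apply]
    linear_combination (norm := abel1) hx + hx'
  | h1 k c hc =>
    have hab := comm_mem ha hb le_rfl
    have hbc := comm_mem hb hc le_rfl
    have hca := comm_mem hc ha le_rfl
    have hc' := conj_mem hb hc
    have ha' := conj_mem hc ha
    have hb' := conj_mem ha hb
    rw [br2_ι ha hb, br2_ι hb hc, br2_ι hc ha, ← ι_conj hb hc, ← ι_conj hc ha, ← ι_conj ha hb,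
      br2_ι hab hc', br2_ι hbc ha', br2_ι hca hb',
      show j + k + 1 + i + 1 = i + j + 1 + k + 1 by omega,
      show k + i + 1 + j + 1 = i + j + 1 + k + 1 by omega,
      ← ι_mul (comm_mem hab hc' le_rfl) (comm_mem hbc ha' (by omega)),
      ← ι_mul (mul_mem (comm_mem hab hc' le_rfl) (comm_mem hbc ha' (by omega)))
        (comm_mem hca hb' (by omega)), ← ι_one (K := K) (i + j + 1 + k + 1)]
    congr 1
    simp only [commutatorElement_def]
    group

noncomputable instance : LieRing (AL K) where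
  bracket x y := br2 x y
  add_lie x y z := by rw [map_add, AddMonoidHom.add_apply]
  lie_add x y z := map_add _ _ _
  lie_self := br2_self
  leibniz_lie x y z := by
    have h1 := br2_jacobi x y z
    have h2 := br2_skew x (br2 y z)
    have h3 := br2_skew y (br2 x z)
    have h4 := congrArg (fun t => br2 t y) (br2_skew x z)
    simp only [map_add, AddMonoidHom.add_apply, map_zero, AddMonoidHom.zero_apply] at h4
    linear_combination (norm := abel1) h2 - h1 - h3 + h4

theorem lie_ι {i j : ℕ} {g h : G} (hg : g ∈ K i) (hh : h ∈ K j) :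
    ⁅ι K i g, ι K j h⁆ = ι K (i + j + 1) ⁅g, h⁆ := br2_ι hg hh

/-- The additive endomorphism induced by a group endomorphism. -/
noncomputable def map (α : G →* G) (hα : ∀ n, ∀ g ∈ K n, α g ∈ K n) : AL K →+ AL K :=
  lift (fun n g => ι K n (α g))
    (fun n a b => by rw [coe_mul, map_mul, ι_mul (hα _ _ a.2) (hα _ _ b.2)])
    fun n a ha => ι_eq_zero (hα _ _ ha)

theorem map_ι (α : G →* G) (hα : ∀ n, ∀ g ∈ K n, α g ∈ K n) {n : ℕ} {g : G} (hg : g ∈ K n) :
    map α hα (ι K n g) = ι K n (α g) := lift_ι _ _ _ hg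

theorem map_lie (α : G →* G) (hα : ∀ n, ∀ g ∈ K n, α g ∈ K n) (x y : AL K) :
    map α hα ⁅x, y⁆ = ⁅map α hα x, map α hα y⁆ := by
  induction x using induction_on with
  | h0 => simp
  | h2 x x' hx hx' => rw [add_lie, map_add, map_add, add_lie, hx, hx']
  | h1 i g hg =>
  induction y using induction_on with
  | h0 => simp
  | h2 x x' hx hx' => rw [lie_add, map_add, map_add, lie_add, hx, hx']
  | h1 j h hh =>
    rw [lie_ι hg hh, map_ι _ _ hg, map_ι _ _ hh, map_ι _ _ (comm_mem hg hh le_rfl),
      lie_ι (hα _ _ hg) (hα _ _ hh), map_commutatorElement]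

end CfsgLib.AssocLie
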