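import Mathlib

/-! The trace lemma: if every element of a coset `Q t` has order dividing the prime `p` and has
constant trace on an abelian group `V` of order prime to `|Q|`, then `Q` centralizes `V`.
Consequences: the abelian step of Kegel's theorem and `p`-stability of groups with an abelian
normal `p`-complement. -/

set_option autoImplicit false

namespace CfsgLib.H5

open Subgroup Finset

theorem mul_pow_mul_inv_pow_mem {H : Type*} [Group H] {Q : Subgroup H} {t : H}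
    (ht : t ∈ normalizer (Q : Set H)) {x : H} (hx : x ∈ Q) (j : ℕ) :
    (x * t) ^ j * (t ^ j)⁻¹ ∈ Q := by
  induction j with
  | zero => simp
  | succ j ih =>
    have : (x * t) ^ (j + 1) * (t ^ (j + 1))⁻¹ = x * (t * ((x * t) ^ j * (t ^ j)⁻¹) * t⁻¹) := by
      rw [pow_succ' (x * t), pow_succ' t]; group
    rw [this]
    exact Q.mul_mem hx ((mem_normalizer_iff.mp ht _).mp ih)

theorem eq_of_pow_eq_of_pow_prime {H : Type*} [Group H] {p j : ℕ} (hp : p.Prime) (hj : ¬ p ∣ j)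
    {a b : H} (ha : a ^ p = 1) (hb : b ^ p = 1) (h : a ^ j = b ^ j) : a = b := by
  have hc : Nat.Coprime j p := ((Nat.Prime.coprime_iff_not_dvd hp).mpr hj).symm
  obtain ⟨m, -, hm⟩ := Nat.exists_mul_mod_eq_one_of_coprime hc hp.one_lt
  have key : ∀ c : H, c ^ p = 1 → (c ^ j) ^ m = c := by
    intro c hc
    rw [← pow_mul, ← Nat.mod_add_div (j * m) p, hm, pow_add, pow_mul, hc]
    simp
  rw [← key a ha, h, key b hb]

/-- The trace lemma, for a group of automorphisms. -/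
theorem trace_lemma_aut {V : Type*} [CommGroup V] [Finite V] (Q : Subgroup (MulAut V))
    {p : ℕ} (hp : p.Prime) (t : MulAut V) (ht : t ∈ normalizer (Q : Set (MulAut V)))
    (hpow : ∀ x ∈ Q, (x * t) ^ p = 1) (c : ℤ)
    (htr : ∀ x ∈ Q, ∀ v : V, ∏ j ∈ range p, ((x * t) ^ j) v = v ^ c)
    (hc : IsCoprime (c - 1) (Nat.card V : ℤ)) (hQ : (Nat.card Q).Coprime (Nat.card V)) :
    Q = ⊥ := by
  classical
  have : Fintype Q := Fintype.ofFinite Q
  let T : V →* V :=
    { toFun := fun v => ∏ x : Q, (x : MulAut V) v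
      map_one' := by simp
      map_mul' := by intro a b; simp [prod_mul_distrib] }
  have hT : ∀ v, T v = ∏ x : Q, (x : MulAut V) v := fun v => rfl
  have hfix : ∀ y ∈ Q, ∀ v, y (T v) = T v := by
    intro y hy v
    rw [hT, map_prod]
    exact Fintype.prod_equiv (Equiv.mulLeft (⟨y, hy⟩ : Q)) _ _ (fun x => rfl)
  have hj : ∀ j : ℕ, ¬ p ∣ j → ∀ v, ∏ x : Q, (((x : MulAut V) * t) ^ j) v = T ((t ^ j) v) := by
    intro j hj v
    let f : Q → Q := fun x => ⟨((x : MulAut V) * t) ^ j * (t ^ j)⁻¹, mul_pow_mul_inv_pow_mem ht x.2 j⟩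
    have hf : Function.Injective f := by
      intro x y hxy
      have h1 : ((x : MulAut V) * t) ^ j * (t ^ j)⁻¹ = ((y : MulAut V) * t) ^ j * (t ^ j)⁻¹ :=
        congrArg Subtype.val hxy
      have h2 := eq_of_pow_eq_of_pow_prime hp hj (hpow _ x.2) (hpow _ y.2) (mul_right_cancel h1)
      exact Subtype.ext (mul_right_cancel h2)
    rw [hT]
    refine Fintype.prod_bijective f (Finite.injective_iff_bijective.mp hf) _ _ (fun x => ?_)
    simp [f]
  obtain ⟨n, rfl⟩ : ∃ n, p = n + 1 := ⟨p - 1, (Nat.succ_pred_eq_of_pos hp.pos).symm⟩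
  have key : ∀ v : V, (v ^ (c - 1)) ^ Nat.card Q = T (v ^ (c - 1)) := by
    intro v
    have h1 : ∏ x : Q, ∏ j ∈ range (n + 1), (((x : MulAut V) * t) ^ j) v = (v ^ c) ^ Nat.card Q := by
      rw [prod_congr rfl (fun (x : Q) _ => htr x x.2 v)]
      simp
    have h2 : ∏ j ∈ range n, (t ^ (j + 1)) v = v ^ (c - 1) := by
      have := htr 1 Q.one_mem v
      rw [prod_range_succ', one_mul] at this
      rw [zpow_sub_one, ← this]
      simp
    rw [prod_comm, prod_range_succ', prod_congr rfl (fun j hj' => hj (j + 1)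
      (Nat.not_dvd_of_pos_of_lt (Nat.succ_pos j) (by simpa using hj')) v), ← map_prod, h2] at h1
    simp only [pow_zero, MulAut.one_apply, prod_const, card_univ, ← Nat.card_eq_fintype_card] at h1
    rw [zpow_sub_one, mul_pow, ← h1, zpow_sub_one]
    simp
  rw [eq_bot_iff]
  intro y hy
  rw [mem_bot]
  ext v
  have hcop : IsCoprime ((c - 1) * (Nat.card Q : ℤ)) (Nat.card V : ℤ) :=
    hc.mul_left (Nat.isCoprime_iff_coprime.mpr hQ)
  obtain ⟨a, b, hab⟩ := hcop
  have hv : v = ((v ^ (c - 1)) ^ Nat.card Q) ^ a := by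
    have h0 : v ^ (Nat.card V : ℤ) = 1 := by simp
    rw [← zpow_natCast, ← zpow_mul, ← zpow_mul]
    conv_lhs => rw [← zpow_one v, ← hab, zpow_add, mul_comm b, zpow_mul v (Nat.card V : ℤ), h0]
    rw [one_zpow, mul_one]
    congr 1
    ring
  rw [MulAut.one_apply, hv, map_zpow, key, hfix y hy]

/-- The trace lemma for an action given by a homomorphism. -/
theorem trace_lemma {H V : Type*} [Group H] [CommGroup V] [Finite V] (φ : H →* MulAut V)
    (Q : Subgroup H) {p : ℕ} (hp : p.Prime) (t : H) (ht : t ∈ normalizer (Q : Set H))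
    (hpow : ∀ x ∈ Q, φ ((x * t) ^ p) = 1) (c : ℤ)
    (htr : ∀ x ∈ Q, ∀ v : V, ∏ j ∈ range p, (φ ((x * t) ^ j)) v = v ^ c)
    (hc : IsCoprime (c - 1) (Nat.card V : ℤ)) (hQ : (Nat.card Q).Coprime (Nat.card V)) :
    Q ≤ φ.ker := by
  rw [← Subgroup.map_eq_bot_iff]
  refine trace_lemma_aut (Q.map φ) hp (φ t) (le_normalizer_map φ ⟨t, ht, rfl⟩) ?_ c ?_ hc ?_
  · rintro _ ⟨x, hx, rfl⟩
    rw [← map_mul, ← map_pow, hpow x hx]
  · rintro _ ⟨x, hx, rfl⟩ v
    simpa only [← map_mul, ← map_pow] using htr x hx v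
  · exact Nat.Coprime.coprime_dvd_left (Subgroup.card_map_dvd Q φ) hQ

/-- The trace of a quadratic automorphism of odd order `p` is `v ↦ v ^ p`. -/
theorem trace_of_quadratic {V : Type*} [CommGroup V] {p : ℕ} (hp : Odd p) (b : MulAut V)
    (hb : b ^ p = 1) (hq : ∀ v : V, b (b v * v⁻¹) = b v * v⁻¹) (v : V) :
    ∏ j ∈ range p, (b ^ j) v = v ^ p := by
  have h1 : ∀ j : ℕ, (b ^ j) v = v * (b v * v⁻¹) ^ j := by
    intro j
    induction j with
    | zero => simp
    | succ j ih =>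
      rw [pow_succ', MulAut.mul_apply, ih, map_mul, map_pow, hq, pow_succ']
      rw [← mul_assoc, mul_comm v (b v * v⁻¹), inv_mul_cancel_right]
  have h2 : (b v * v⁻¹) ^ p = 1 := by
    have := h1 p
    rw [hb, MulAut.one_apply] at this
    exact left_eq_mul.mp this
  rw [prod_congr rfl (fun j _ => h1 j), prod_mul_distrib, prod_pow_eq_pow_sum, prod_const,
    card_range, sum_range_id]
  obtain ⟨k, rfl⟩ := hp
  have : (2 * k + 1) * (2 * k + 1 - 1) / 2 = (2 * k + 1) * k := by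
    rw [Nat.add_sub_cancel, mul_comm 2 k, ← mul_assoc, Nat.mul_div_cancel _ two_pos]
  rw [this, pow_mul, h2, one_pow, mul_one]

/-- `p`-stability: a quadratic automorphism `b` of odd prime order `p` of an abelian `p`-group
centralizes every abelian `p'`-group of automorphisms that it normalizes. -/
theorem quadratic_centralizes {V : Type*} [CommGroup V] [Finite V] {p : ℕ} [hp : Fact p.Prime]
    (hp2 : p ≠ 2) (hV : IsPGroup p V) (R : Subgroup (MulAut V)) (hR : ¬ p ∣ Nat.card R)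
    (hcomm : ∀ x ∈ R, ∀ y ∈ R, x * y = y * x) (b : MulAut V)
    (hbR : b ∈ normalizer (R : Set (MulAut V)))
    (hb : b ^ p = 1) (hq : ∀ v : V, b (b v * v⁻¹) = b v * v⁻¹) :
    ∀ y ∈ R, b * y = y * b := by
  have hconj : ∀ y ∈ R, b * y * b⁻¹ ∈ R := fun y hy => (mem_normalizer_iff.mp hbR y).mp hy
  let R₀ : Subgroup (MulAut V) :=
    { carrier := {x | ∃ y ∈ R, x = y⁻¹ * (b * y * b⁻¹)}
      one_mem' := ⟨1, R.one_mem, by simp⟩
      mul_mem' := by
        rintro _ _ ⟨y, hy, rfl⟩ ⟨z, hz, rfl⟩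
        refine ⟨y * z, R.mul_mem hy hz, ?_⟩
        have h1 := hcomm _ (R.mul_mem (R.inv_mem hy) (hconj y hy)) _ (R.inv_mem hz)
        calc y⁻¹ * (b * y * b⁻¹) * (z⁻¹ * (b * z * b⁻¹))
            = (y⁻¹ * (b * y * b⁻¹) * z⁻¹) * (b * z * b⁻¹) := by group
          _ = (z⁻¹ * (y⁻¹ * (b * y * b⁻¹))) * (b * z * b⁻¹) := by rw [h1]
          _ = _ := by group
      inv_mem' := by
        rintro _ ⟨y, hy, rfl⟩
        refine ⟨y⁻¹, R.inv_mem hy, ?_⟩
        have h1 := hcomm _ hy _ (R.inv_mem (hconj y hy))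
        calc (y⁻¹ * (b * y * b⁻¹))⁻¹ = (b * y * b⁻¹)⁻¹ * y := by group
          _ = y * (b * y * b⁻¹)⁻¹ := h1.symm
          _ = _ := by group }
  have hle : R₀ ≤ R := by
    rintro _ ⟨y, hy, rfl⟩
    exact R.mul_mem (R.inv_mem hy) (hconj y hy)
  obtain ⟨n, hn⟩ := IsPGroup.iff_card.mp hV
  have hodd : Odd p := hp.out.odd_of_ne_two hp2
  have hmul : ∀ y : MulAut V, y⁻¹ * (b * y * b⁻¹) * b = y⁻¹ * b * y⁻¹⁻¹ := by
    intro y; group
  have hR₀ : R₀ = ⊥ := by
    refine trace_lemma_aut R₀ hp.out b ?_ ?_ p ?_ ?_ ?_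
    · apply mem_normalizer_fintype
      rintro _ ⟨y, hy, rfl⟩
      exact ⟨b * y * b⁻¹, hconj y hy, by group⟩
    · rintro _ ⟨y, hy, rfl⟩
      rw [hmul, conj_pow, hb]; simp
    · rintro _ ⟨y, hy, rfl⟩ v
      simp only [hmul y, conj_pow]
      simp only [MulAut.mul_apply, inv_inv]
      rw [← map_prod, trace_of_quadratic hodd b hb hq, map_pow, zpow_natCast]
      simp
    · rw [hn]
      push_cast
      apply IsCoprime.pow_right
      exact ⟨-1, 1, by ring⟩
    · rw [hn]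
      apply Nat.Coprime.pow_right
      exact Nat.Coprime.coprime_dvd_left (Subgroup.card_dvd_of_le hle)
        ((Nat.Prime.coprime_iff_not_dvd hp.out).mpr hR).symm
  intro y hy
  have : y⁻¹ * (b * y * b⁻¹) ∈ R₀ := ⟨y, hy, rfl⟩
  rw [hR₀, mem_bot] at this
  calc b * y = y * (y⁻¹ * (b * y * b⁻¹)) * b := by group
    _ = y * b := by rw [this, mul_one]

end CfsgLib.H5
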