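import Mathlib
import Cfsg.Agent.Lib.CoreFitting
import Cfsg.Agent.Lib.FrobeniusPComplement
import Cfsg.Agent.Lib.H5Trace
import Cfsg.Agent.Lib.H5Replacement
import Cfsg.Agent.Lib.H5SylowIn

/-! Thompson's normal `p`-complement theorem. -/

set_option autoImplicit false

namespace CfsgLib.H5

open Subgroup Cfsg CfsgLib.PCompl CfsgLib.PRes
open scoped commutatorElement

universe u

variable {G : Type*} [Group G] {p : ℕ}

/-- The hypothesis of Thompson's theorem. -/
def ThompsonHyp (p : ℕ) (P : Subgroup G) : Prop :=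
  HasNormalPComplement p (centralizer (centerOf P : Set G)) ∧
    HasNormalPComplement p (normalizer (thompsonSubgroupAOf P : Set G))

theorem map_centralizer_le' {H : Type*} [Group H] (f : H →* G) (X : Subgroup H) :
    (centralizer (X : Set H)).map f ≤ centralizer ((X.map f : Subgroup G) : Set G) := by
  rintro _ ⟨c, hc, rfl⟩ _ ⟨x, hx, rfl⟩
  rw [← map_mul, ← map_mul, hc x hx]

theorem ThompsonHyp.of_injective [Finite G] [Fact p.Prime] {H : Type*} [Group H] (f : H →* G)
    (hf : Function.Injective f) {S : Subgroup H} (h : ThompsonHyp p (S.map f)) :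
    ThompsonHyp p S := by
  have hd : Disjoint S f.ker := by
    rw [(MonoidHom.ker_eq_bot_iff f).mpr hf]; exact disjoint_bot_right
  refine ⟨hnpc_of_map_le f hf ?_ h.1, hnpc_of_map_le f hf ?_ h.2⟩
  · rw [centerOf_map f S hd]; exact map_centralizer_le' f _
  · rw [thompsonAOf_map f S hd]; exact le_normalizer_map f

theorem ThompsonHyp.sylow [Finite G] [Fact p.Prime] {P : Sylow p G}
    (h : ThompsonHyp p (P : Subgroup G)) (Q : Sylow p G) : ThompsonHyp p (Q : Subgroup G) := by
  obtain ⟨g, rfl⟩ := MulAction.exists_smul_eq G Q P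
  exact ThompsonHyp.of_injective (MulAut.conj g).toMonoidHom (MulAut.conj g).injective h

theorem ThompsonHyp.map_coprime [Finite G] [Fact p.Prime] {G' : Type*} [Group G'] [Finite G']
    (f : G →* G') (hf : Function.Surjective f) (hK : (Nat.card f.ker).Coprime p)
    {P : Subgroup G} (hP : IsPGroup p P) (h : ThompsonHyp p P) : ThompsonHyp p (P.map f) := by
  have hd : Disjoint P f.ker := disjoint_of_isPGroup_of_coprime hP hK
  refine ⟨hnpc_of_le (hnpc_map h.1 f) ?_, hnpc_of_le (hnpc_map h.2 f) ?_⟩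
  · rw [centerOf_map f P hd]
    exact centralizer_map_le_of_coprime f hf hK (hP.to_le (centerOf_le P))
  · rw [thompsonAOf_map f P hd]
    exact normalizer_map_le_of_coprime f hf hK (hP.to_le (thompsonAOf_le P))

theorem ThompsonHyp.of_normalizer [Finite G] [Fact p.Prime] {P : Subgroup G} (hP : P ≠ ⊥)
    (hp : IsPGroup p P)
    (h : ∀ X : Subgroup G, X ≠ ⊥ → X ≤ P → normalizer (P : Set G) ≤ normalizer (X : Set G) →
      HasNormalPComplement p (normalizer (X : Set G))) : ThompsonHyp p P :=
  ⟨hnpc_of_le (h _ (centerOf_ne_bot hp hP) (centerOf_le P) (normalizer_le_normalizer_centerOf P))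
    (centralizer_le_normalizer _),
    h _ (thompsonAOf_ne_bot hP) (thompsonAOf_le P) (normalizer_le_normalizer_thompsonAOf P)⟩

/-- A group with a normal `p`-complement whose Sylow `p`-subgroups are maximal has a nontrivial
abelian normal `p'`-subgroup. -/
theorem exists_abelian_normal_of_sylow_maximal [Finite G] [hp : Fact p.Prime]
    (h : HasNormalPComplement p G) (hG : ¬ IsPGroup p G)
    (hmax : ∀ (S : Sylow p G) (H : Subgroup G), (S : Subgroup G) ≤ H → H = S ∨ H = ⊤) :
    ∃ R : Subgroup G, R.Normal ∧ IsMulCommutative R ∧ R ≠ ⊥ ∧ (Nat.card R).Coprime p := by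
  have hL := hnpc_iff_coprime_pResidual.mp h
  have hLn : (pResidual p G).Normal := pResidual_normal
  set L := pResidual p G with hLdef
  have hL0 : Nat.card L ≠ 1 := fun h0 => hG (pResidual_eq_bot_iff.mp (card_eq_one.mp h0))
  obtain ⟨q, hq, hqL⟩ := Nat.exists_prime_and_dvd hL0
  have : Fact q.Prime := ⟨hq⟩
  obtain ⟨Q₀⟩ : Nonempty (Sylow q L) := inferInstance
  set Q := (Q₀ : Subgroup L).map L.subtype with hQ
  have hQq : IsPGroup q Q := Q₀.isPGroup'.map _
  have hQ0 : Q ≠ ⊥ := by
    rw [hQ, Ne, map_eq_bot_iff_of_injective _ L.subtype_injective]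
    exact Q₀.ne_bot_of_dvd_card hqL
  have hRc : (Nat.card (centerOf Q)).Coprime p :=
    Nat.Coprime.coprime_dvd_left (card_dvd_of_le ((centerOf_le Q).trans (map_subtype_le _))) hL
  refine ⟨centerOf Q, ?_, centerOf_isMulCommutative Q, centerOf_ne_bot hQq hQ0, hRc⟩
  have h1 : normalizer (centerOf Q : Set G) ⊔ L = ⊤ :=
    top_le_iff.mp ((Sylow.normalizer_sup_eq_top Q₀).symm.le.trans
      (sup_le_sup_right (normalizer_le_normalizer_centerOf Q) L))
  have h2 := index_dvd_card_of_sup_eq_top le_normalizer_of_normal h1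
  obtain ⟨S, hS⟩ := exists_sylow_le_of_not_dvd_index (p := p)
    (fun h3 => (Nat.Prime.coprime_iff_not_dvd hp.out).mp hL.symm (h3.trans h2))
  rcases hmax S _ hS with h3 | h3
  · exact absurd (eq_bot_of_isPGroup_of_coprime (S.isPGroup'.to_le (h3 ▸ le_normalizer)) hRc)
      (centerOf_ne_bot hQq hQ0)
  · exact normalizer_eq_top_iff.mp h3

/-- The final configuration of the proof of Thompson's theorem. -/
theorem thompson_normal_of_maximal [Finite G] [hp : Fact p.Prime] (hp2 : p ≠ 2)
    (h : HasNormalPComplement p (G ⧸ pCore p G)) (hG : ¬ IsPGroup p G)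
    (hmax : ∀ (S : Sylow p G) (H : Subgroup G), (S : Subgroup G) ≤ H → H = S ∨ H = ⊤)
    (hC : centralizer (centerOf (pCore p G) : Set G) ≤ pCore p G) (P : Sylow p G) :
    thompsonSubgroupAOf (P : Subgroup G) ≤ pCore p G := by
  set U := pCore p G with hU
  have hUp : IsPGroup p U := pCore_isPGroup p
  have hker : IsPGroup p (QuotientGroup.mk' U).ker := by rwa [QuotientGroup.ker_mk']
  have hsurj := QuotientGroup.mk'_surjective U
  have hmax' : ∀ (S : Sylow p (G ⧸ U)) (H : Subgroup (G ⧸ U)), (S : Subgroup (G ⧸ U)) ≤ H →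
      H = S ∨ H = ⊤ := by
    intro S H hle
    rcases hmax (S.comapOfKerIsPGroup (QuotientGroup.mk' U) hker (fun x _ => hsurj x))
      (H.comap (QuotientGroup.mk' U)) (comap_mono hle) with h1 | h1
    · exact Or.inl (comap_injective hsurj h1)
    · exact Or.inr (comap_injective hsurj (h1.trans (comap_top _).symm))
  have hG' : ¬ IsPGroup p (G ⧸ U) := fun h0 => hG
    (((h0.to_subgroup ⊤).comap_of_ker_isPGroup (QuotientGroup.mk' U) hker).of_equiv
      ((MulEquiv.subgroupCongr (comap_top _)).trans topEquiv))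
  obtain ⟨R, hRn, hRc, hR0, hRp⟩ := exists_abelian_normal_of_sylow_maximal h hG' hmax'
  set V := centerOf U with hV
  have hVn : V.Normal := normalizer_eq_top_iff.mp
    (top_le_iff.mp ((normalizer_eq_top U).symm.le.trans (normalizer_le_normalizer_centerOf U)))
  have hVc : IsMulCommutative V := centerOf_isMulCommutative U
  by_contra hJ
  obtain ⟨b, hbP, hb1, hb2, hb3⟩ := exists_quadratic P.isPGroup'
    ((centerOf_le U).trans (pCore_le_sylow P)) le_normalizer_of_normal hVc
    (fun h0 => hJ (h0.trans hC))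
  let _ : CommGroup V := { (inferInstance : Group V) with mul_comm := hVc.is_comm.comm }
  let φ : G →* MulAut V := MulAut.conjNormal
  have hφ : ∀ g, φ g = 1 ↔ g ∈ centralizer (V : Set G) := by
    intro g
    constructor
    · intro h0 v hv
      have : g * v * g⁻¹ = v := congrArg Subtype.val (DFunLike.congr_fun h0 (⟨v, hv⟩ : V))
      exact (mul_inv_eq_iff_eq_mul.mp this).symm
    · intro h0
      ext v
      change g * v * g⁻¹ = v
      rw [← h0 v v.2, mul_inv_cancel_right]
  let ψ : G ⧸ U →* MulAut V :=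
    QuotientGroup.lift U φ (fun x hx => (hφ x).mpr (le_centralizer_centerOf U hx))
  have hψ : Function.Injective ψ := by
    rw [injective_iff_map_eq_one]
    intro x hx
    obtain ⟨x, rfl⟩ := hsurj x
    exact (QuotientGroup.eq_one_iff x).mpr (hC ((hφ x).mp hx))
  have key := quadratic_centralizes hp2 (hUp.to_le (centerOf_le U)) (R.map ψ)
    (by rw [card_map_of_injective hψ]; exact (Nat.Prime.coprime_iff_not_dvd hp.out).mp hRp.symm)
    (isMulCommutative_iff'.mp inferInstance) (ψ (b : G ⧸ U))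
    (le_normalizer_map ψ ⟨b, le_normalizer_of_normal (mem_top _), rfl⟩)
    (by rw [← map_pow]; exact (hφ _).mpr hb2)
    (by
      intro v
      apply Subtype.ext
      change b * (b * v * b⁻¹ * (v : G)⁻¹) * b⁻¹ = b * v * b⁻¹ * (v : G)⁻¹
      rw [mul_inv_eq_iff_eq_mul]
      exact hb3 v v.2)
  let S : Sylow p (G ⧸ U) := P.mapSurjective hsurj
  have hD : (S : Subgroup (G ⧸ U)) ⊓ centralizer (R : Set (G ⧸ U)) = ⊥ := by
    have hN : ((S : Subgroup (G ⧸ U)) ⊓ centralizer (R : Set (G ⧸ U))).Normal := by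
      rcases hmax' S (normalizer (((S : Subgroup (G ⧸ U)) ⊓ centralizer (R : Set (G ⧸ U)) :
          Subgroup (G ⧸ U)) : Set (G ⧸ U))) ((le_inf le_normalizer le_normalizer_of_normal).trans
            inf_normalizer_le_normalizer_inf) with h1 | h1
      · refine absurd (eq_bot_of_isPGroup_of_coprime (S.isPGroup'.to_le ?_) hRp) hR0
        rw [← h1]
        exact (le_centralizer_iff.mp inf_le_right).trans (centralizer_le_normalizer _)
      · exact normalizer_eq_top_iff.mp h1
    exact le_bot_iff.mp ((le_pCore S.isPGroup'.to_inf_left).trans (pCore_quotient_pCore p).le)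
  apply hb1
  have : (b : G ⧸ U) ∈ (S : Subgroup (G ⧸ U)) ⊓ centralizer (R : Set (G ⧸ U)) := by
    refine ⟨⟨b, hbP, rfl⟩, fun y hy => hψ ?_⟩
    rw [map_mul, map_mul, key _ ⟨y, hy, rfl⟩]
  rw [hD, mem_bot, QuotientGroup.eq_one_iff] at this
  exact le_centralizer_centerOf U this

theorem thompson_aux [hp : Fact p.Prime] (hp2 : p ≠ 2) (G : Type u) [Group G] [Finite G] :
    ∀ P : Sylow p G, ThompsonHyp p (P : Subgroup G) → HasNormalPComplement p G := by
  revert G
  refine card_induction fun G _ _ IH => ?_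
  intro P₀ hP₀
  have hyp : ∀ P : Sylow p G, ThompsonHyp p (P : Subgroup G) := hP₀.sylow
  by_contra hG
  have IHsub : ∀ H : Subgroup G, H ≠ ⊤ → ∀ S : Subgroup G, S ≤ H → IsPGroup p S →
      ¬ p ∣ S.relIndex H → ThompsonHyp p S → HasNormalPComplement p H := by
    intro H hH S h1 h2 h3 h4
    obtain ⟨S, rfl⟩ := exists_sylow_map_eq h1 h2 h3
    exact IH H (card_lt_of_ne_top hH) S (h4.of_injective H.subtype H.subtype_injective)
  -- Step 1
  set 𝒰 : Set (Subgroup G) := {U | U ≠ ⊥ ∧ IsPGroup p U ∧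
    ¬ HasNormalPComplement p (normalizer (U : Set G))} with h𝒰
  have hne : 𝒰.Nonempty := by
    by_contra h0
    refine hG (FrobNPC.hnpc_of_hnpc_normalizer fun U h2 h1 => ?_)
    by_contra h3
    exact h0 ⟨U, h1, h2, h3⟩
  let a : Subgroup G → ℕ := fun U => (Nat.card (normalizer (U : Set G))).factorization p
  obtain ⟨U₀, hU₀, hmax₀⟩ := Set.exists_max_image 𝒰 a (Set.toFinite _) hne
  obtain ⟨U, ⟨hU, hUa⟩, hmax₁⟩ := Set.exists_max_image {U | U ∈ 𝒰 ∧ a U = a U₀}
    (fun U => Nat.card U) (Set.toFinite _) ⟨U₀, hU₀, rfl⟩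
  have hle : ∀ X ∈ 𝒰, ∀ T : Subgroup G, IsPGroup p T → T ≤ normalizer (X : Set G) →
      Nat.card T ∣ p ^ a X := by
    intro X _ T hT hTX
    obtain ⟨k, hk⟩ := IsPGroup.iff_card.mp hT
    rw [hk]
    exact pow_dvd_pow p ((hp.out.pow_dvd_iff_le_factorization Nat.card_pos.ne').mp
      (hk ▸ card_dvd_of_le hTX))
  have hUn : U.Normal := by
    rw [← normalizer_eq_top_iff]
    by_contra hN
    obtain ⟨S₀, hS₀⟩ := exists_sylow_map_ge (le_normalizer : U ≤ _) hU.2.1
    set S := (S₀ : Subgroup _).map (normalizer (U : Set G)).subtype with hS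
    have hSp : IsPGroup p S := S₀.isPGroup'.map _
    have hScard : Nat.card S = p ^ a U := by
      rw [hS, card_map_subtype, S₀.card_eq_multiplicity]
    have hS0 : S ≠ ⊥ := fun h0 => hU.1 (le_bot_iff.mp (h0 ▸ hS₀))
    obtain ⟨P, hP⟩ := hSp.exists_le_sylow
    refine hU.2.2 (IHsub _ hN S (map_subtype_le _) hSp (not_dvd_relIndex_sylow_map S₀) ?_)
    rcases hP.eq_or_lt with h1 | h1
    · exact h1 ▸ hyp P
    · refine ThompsonHyp.of_normalizer hS0 hSp fun X hX0 hXS hXN => ?_
      by_contra hX
      have hX𝒰 : X ∈ 𝒰 := ⟨hX0, hSp.to_le hXS, hX⟩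
      have h2 := card_lt_card_of_lt (lt_inf_normalizer_of_isNilpotent P.isPGroup'.isNilpotent h1)
      have h3 := Nat.le_of_dvd (pow_pos hp.out.pos _)
        (hle X hX𝒰 _ P.isPGroup'.to_inf_left (inf_le_right.trans hXN))
      have h4 := Nat.pow_le_pow_right hp.out.pos ((hmax₀ X hX𝒰).trans hUa.symm.le)
      omega
  have hK : ∀ (P : Sylow p G) (X : Subgroup G), IsPGroup p X → U < X →
      (P : Subgroup G) ≤ normalizer (X : Set G) →
      HasNormalPComplement p (normalizer (X : Set G)) := by
    intro P X hX h1 h2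
    by_contra h3
    have hX𝒰 : X ∈ 𝒰 := ⟨ne_bot_of_gt h1, hX, h3⟩
    have h4 := hle X hX𝒰 _ P.isPGroup' h2
    rw [P.card_eq_multiplicity, Nat.pow_dvd_pow_iff_le_right hp.out.one_lt] at h4
    have h5 : a U = (Nat.card G).factorization p := by
      simp only [a]
      rw [normalizer_eq_top, card_top]
    have h6 := hmax₁ X ⟨hX𝒰, le_antisymm (hmax₀ X hX𝒰) (hUa ▸ h5 ▸ h4)⟩
    exact absurd (card_lt_card_of_lt h1) (not_lt.mpr h6)
  have hUcore : U = pCore p G := by
    by_contra h0
    have h1 := hK P₀ _ (pCore_isPGroup p) (lt_of_le_of_ne (le_pCore hU.2.1) h0)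
      le_normalizer_of_normal
    rw [normalizer_eq_top] at h1
    exact hG (hnpc_top_iff.mp h1)
  subst hUcore
  have hU0 : pCore p G ≠ ⊥ := hU.1
  clear hmax₁ hle hUa hmax₀ hU₀ hU U₀ a hne h𝒰 𝒰
  set U := pCore p G with hUdef
  have hUp : IsPGroup p U := pCore_isPGroup p
  have hker : IsPGroup p (QuotientGroup.mk' U).ker := by rwa [QuotientGroup.ker_mk']
  have hsurj := QuotientGroup.mk'_surjective U
  -- Step 2
  have h2 : HasNormalPComplement p (G ⧸ U) := by
    obtain ⟨S⟩ : Nonempty (Sylow p (G ⧸ U)) := inferInstance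
    by_cases hS : (S : Subgroup (G ⧸ U)) = ⊥
    · exact hnpc_of_not_dvd fun h0 => S.ne_bot_of_dvd_card h0 hS
    refine IH _ (card_quotient_lt hU0) S
      (ThompsonHyp.of_normalizer hS S.isPGroup' fun X hX0 hXS hXN => ?_)
    have h1 := hK (S.comapOfKerIsPGroup (QuotientGroup.mk' U) hker (fun x _ => hsurj x))
      (X.comap (QuotientGroup.mk' U))
      ((S.isPGroup'.to_le hXS).comap_of_ker_isPGroup _ hker)
      (lt_of_le_of_ne (QuotientGroup.le_comap_mk' U X) fun h0 => hX0 (comap_injective hsurj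
        (h0.symm.trans (QuotientGroup.ker_mk' U).symm)))
      (by
        rw [← comap_normalizer_eq_of_surjective X hsurj]
        exact comap_mono (le_normalizer.trans hXN))
    have h3 := hnpc_map h1 (QuotientGroup.mk' U)
    rwa [← comap_normalizer_eq_of_surjective X hsurj, map_comap_eq_self_of_surjective hsurj] at h3
  -- Step 3
  have h3 : pPrimeCore p G = ⊥ := by
    by_contra h0
    have hs := QuotientGroup.mk'_surjective (pPrimeCore p G)
    refine hG (hnpc_of_quotient_coprime _ (pPrimeCore_coprime p)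
      (IH _ (card_quotient_lt h0) (P₀.mapSurjective hs) ?_))
    exact hP₀.map_coprime _ hs (by rw [QuotientGroup.ker_mk']; exact pPrimeCore_coprime p)
      P₀.isPGroup'
  -- Step 4
  have h4 : centralizer (U : Set G) ≤ U := centralizer_pCore_le
    (isPSolvable_of_normal_of_quotient U (isPSolvable_of_isPGroup hUp) (isPSolvable_of_hnpc h2)) h3
  have hmax : ∀ (S : Sylow p G) (H : Subgroup G), (S : Subgroup G) ≤ H → H = S ∨ H = ⊤ := by
    intro S H hle
    by_cases hH : H = ⊤
    · exact Or.inr hH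
    have h5 := IHsub H hH S hle S.isPGroup'
      (fun h0 => S.not_dvd_index (h0.trans (relIndex_dvd_index_of_le hle))) (hyp S)
    refine Or.inl (S.is_maximal' (isPGroup_of_forall_coprime fun x hx hc => ?_) hle)
    exact eq_one_of_mem_of_coprime hUp (h4 (hnpc_mem_centralizer_of_le h5
      ((pCore_le_sylow S).trans hle) hUp hx (le_normalizer_of_normal (mem_top x)) hc)) hc
  -- Step 5
  have h5 : centralizer (centerOf U : Set G) ≤ U := by
    have hVn : (centerOf U).Normal := normalizer_eq_top_iff.mp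
      (top_le_iff.mp ((normalizer_eq_top U).symm.le.trans (normalizer_le_normalizer_centerOf U)))
    have h6 : centerOf (P₀ : Subgroup G) ≤ centerOf U := fun z hz =>
      have : z ∈ centralizer (U : Set G) := fun y hy => hz.2 y (pCore_le_sylow P₀ hy)
      ⟨h4 this, this⟩
    rcases hmax P₀ _ (le_centralizer_centerOf (P₀ : Subgroup G)) with h7 | h7
    · exact le_pCore (P₀.isPGroup'.to_le (h7 ▸ centralizer_le h6))
    · exact absurd (hnpc_top_iff.mp (h7 ▸ hP₀.1)) hG
  -- Step 6
  have h6 := thompson_normal_of_maximal hp2 h2 (fun h0 => hG (hnpc_of_isPGroup h0)) hmax h5 P₀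
  have h7 := hP₀.2
  rw [← thompsonAOf_eq_of_le (pCore_le_sylow P₀) h6, top_le_iff.mp
    ((normalizer_eq_top U).symm.le.trans (normalizer_le_normalizer_thompsonAOf U))] at h7
  exact hG (hnpc_top_iff.mp h7)

/-- **Thompson's normal `p`-complement theorem** (`p` odd, abelian version of `J`). -/
theorem thompson_normal_p_complement [Finite G] [Fact p.Prime] (hp2 : p ≠ 2) (P : Sylow p G)
    (hZ : HasNormalPComplement p (centralizer (centerOf (P : Subgroup G) : Set G)))
    (hJ : HasNormalPComplement p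
      (normalizer (thompsonSubgroupAOf (P : Subgroup G) : Set G))) :
    HasNormalPComplement p G :=
  thompson_aux hp2 G P ⟨hZ, hJ⟩

/-- Thompson's theorem in the form: normalizers of all nontrivial subgroups of `P` that are
normalized by `N(P)` have normal `p`-complements. -/
theorem thompson_of_normalizers [Finite G] [Fact p.Prime] (hp2 : p ≠ 2) (P : Sylow p G)
    (h : ∀ X : Subgroup G, X ≠ ⊥ → X ≤ P →
      normalizer ((P : Subgroup G) : Set G) ≤ normalizer (X : Set G) →
      HasNormalPComplement p (normalizer (X : Set G))) : HasNormalPComplement p G := by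
  by_cases hP : (P : Subgroup G) = ⊥
  · exact hnpc_of_not_dvd fun h0 => P.ne_bot_of_dvd_card h0 hP
  exact thompson_aux hp2 G P (ThompsonHyp.of_normalizer hP P.isPGroup' h)

/-- Thompson's theorem in the form: normalizers of all nontrivial characteristic subgroups of `P`
have normal `p`-complements. -/
theorem thompson_of_characteristic [Finite G] [Fact p.Prime] (hp2 : p ≠ 2) (P : Sylow p G)
    (h : ∀ X : Subgroup (P : Subgroup G), X ≠ ⊥ → X.Characteristic →
      HasNormalPComplement p (normalizer ((X.map (P : Subgroup G).subtype : Subgroup G) : Set G))) :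
    HasNormalPComplement p G := by
  by_cases hP : (P : Subgroup G) = ⊥
  · exact hnpc_of_not_dvd fun h0 => P.ne_bot_of_dvd_card h0 hP
  refine thompson_aux hp2 G P ⟨hnpc_of_le ?_ (centralizer_le_normalizer _), h _ ?_ ?_⟩
  · rw [centerOf_eq_map]
    refine h _ (fun h0 => centerOf_ne_bot P.isPGroup' hP ?_) inferInstance
    rw [centerOf_eq_map, h0, Subgroup.map_bot]
  · intro h0
    apply thompsonAOf_ne_bot hP
    rw [thompsonSubgroupAOf, h0, Subgroup.map_bot]
  · exact thompsonSubgroupA_characteristic _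

end CfsgLib.H5
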