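import Mathlib
import Cfsg.Agent.Lib.H5Thompson
import Cfsg.Agent.Lib.FrobBasic

/-! Kegel's theorem (splitting automorphisms of prime order), Thompson's theorem on
fixed-point-free automorphisms of prime order, nilpotency of Frobenius kernels. -/

set_option autoImplicit false

namespace CfsgLib.H5

open Subgroup Cfsg CfsgLib.PCompl CfsgLib.PRes Finset
open scoped commutatorElement

universe u

variable {G : Type*} [Group G] {p : ℕ}

theorem mul_pow_eq_prod_conj (V : Subgroup G) [V.Normal] (s : G) (v : V)
    (n : ℕ) : ((v : G) * s) ^ n =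
      (((List.range n).map fun j => MulAut.conjNormal (s ^ j) v).prod : V) * s ^ n := by
  induction n with
  | zero => simp
  | succ n ih =>
    rw [pow_succ, ih, List.range_succ, List.map_append, List.prod_append]
    simp only [List.map_cons, List.map_nil, List.prod_cons, List.prod_nil, mul_one, Subgroup.coe_mul,
      MulAut.conjNormal_apply]
    group

/-- The abelian step of Kegel's theorem. -/
theorem le_centralizer_of_coset_pow [Finite G] (hp : p.Prime) {V Q : Subgroup G} [V.Normal]
    (hV : IsMulCommutative V) {t : G} (ht : t ∈ normalizer (Q : Set G))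
    (h : ∀ v ∈ V, ∀ x ∈ Q, (v * (x * t)) ^ p = 1) (hc : (Nat.card Q).Coprime (Nat.card V)) :
    Q ≤ centralizer (V : Set G) := by
  let _ : CommGroup V := { (inferInstance : Group V) with mul_comm := hV.is_comm.comm }
  have h1 : ∀ x ∈ Q, (x * t) ^ p = 1 := fun x hx => by simpa using h 1 V.one_mem x hx
  have key := trace_lemma (V := V) MulAut.conjNormal Q hp t ht
    (fun x hx => by rw [h1 x hx, map_one]) 0 (fun x hx v => by
      have h2 := mul_pow_eq_prod_conj V (x * t) v p
      rw [h v v.2 x hx, h1 x hx, mul_one] at h2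
      rw [zpow_zero]
      exact Subtype.ext h2.symm) (by simpa using isCoprime_one_left.neg_left) hc
  intro x hx v hv
  have : x * v * x⁻¹ = v := congrArg Subtype.val (DFunLike.congr_fun (key hx) (⟨v, hv⟩ : V))
  exact (mul_inv_eq_iff_eq_mul.mp this).symm

theorem kegel_aux (hp : p.Prime) (n : ℕ) : ∀ (H : Type u) [Group H] [Finite H] (K : Subgroup H)
    [K.Normal] (t : H), Nat.card K = n → (∀ x ∈ K, (x * t) ^ p = 1) → Group.IsNilpotent K := by
  induction n using Nat.strong_induction_on with | _ n IH => ?_
  intro H _ _ K hK t hn h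
  have IHsub : ∀ L : Subgroup H, L < K → ∀ s ∈ normalizer (L : Set H), s * t⁻¹ ∈ K →
      Group.IsNilpotent L := by
    intro L hL s hs hst
    have h1 := IH _ (hn ▸ card_lt_card_of_lt hL) (normalizer (L : Set H))
      (L.subgroupOf (normalizer (L : Set H))) ⟨s, hs⟩ (card_subgroupOf_of_le le_normalizer)
      (fun x hx => Subtype.ext (by
        have := h _ (K.mul_mem (hL.le hx) hst)
        simpa [mul_assoc] using this))
    exact Group.nilpotent_of_mulEquiv (subgroupOfEquivOfLe le_normalizer)
  -- Frattini argument
  have frat : ∀ (q : ℕ) [Fact q.Prime] (Q : Subgroup H), IsSylowIn q Q K →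
      ∃ s ∈ normalizer (Q : Set H), s * t⁻¹ ∈ K := by
    intro q _ Q hQ
    obtain ⟨k, hk, hkt⟩ := hQ.frattini_elem (g := t) (le_normalizer_of_normal (mem_top t))
    exact ⟨k * t, hkt, by simpa using hk⟩
  -- it suffices to find a nontrivial normal subgroup of prime power order
  have main : ∀ (r : ℕ) [Fact r.Prime] (M : Subgroup H), M ≠ ⊥ → M ≤ K → M.Normal →
      IsPGroup r M → Group.IsNilpotent K := by
    intro r hr M hM0 hMK hMn hMr
    set V := centerOf M with hV
    have hVn : V.Normal := normalizer_eq_top_iff.mp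
      (top_le_iff.mp ((normalizer_eq_top M).symm.le.trans (normalizer_le_normalizer_centerOf M)))
    have hVr : IsPGroup r V := hMr.to_le (centerOf_le M)
    have hVK : V ≤ K := (centerOf_le M).trans hMK
    obtain ⟨R, hVR, hR⟩ := IsSylowIn.exists_ge hVr hVK
    have hZ := inf_centralizer_ne_bot_of_isNilpotent hR.isPGroup.isNilpotent hVR
      le_normalizer_of_normal (centerOf_ne_bot hMr hM0)
    have hKZ : K ≤ centralizer ((V ⊓ centralizer (R : Set H) : Subgroup H) : Set H) := by
      refine le_of_forall_sylow_le fun q hq _ => ?_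
      by_cases hqr : q = r
      · subst hqr
        obtain ⟨S, hS⟩ := hR.exists_sylow_map
        exact ⟨S, hS ▸ le_centralizer_iff.mp inf_le_right⟩
      · obtain ⟨S⟩ : Nonempty (Sylow q K) := inferInstance
        have hS := IsSylowIn.of_sylow_subgroup S
        obtain ⟨s, hs, hst⟩ := frat q _ hS
        refine ⟨S, (le_centralizer_of_coset_pow hp (centerOf_isMulCommutative M) hs ?_ ?_).trans
          (centralizer_le inf_le_left)⟩
        · intro v hv x hx
          have := h _ (K.mul_mem (hVK hv) (K.mul_mem (hS.le hx) hst))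
          simpa [mul_assoc] using this
        · exact IsPGroup.coprime_card_of_ne q r hqr _ _ hS.isPGroup hVr
    have hZ0 : centerOf K ≠ ⊥ := fun h0 => hZ (le_bot_iff.mp (h0 ▸
      le_inf (inf_le_left.trans hVK) (le_centralizer_iff.mp hKZ)))
    have hZn : (centerOf K).Normal := normalizer_eq_top_iff.mp
      (top_le_iff.mp ((normalizer_eq_top K).symm.le.trans (normalizer_le_normalizer_centerOf K)))
    have hKn : (K.map (QuotientGroup.mk' (centerOf K))).Normal :=
      hK.map _ (QuotientGroup.mk'_surjective _)
    have h1 := IH _ (by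
        rw [← hn, ← card_map_mk'_mul_card_inf K (centerOf K), inf_eq_left.mpr (centerOf_le K)]
        exact lt_mul_of_one_lt_right Nat.card_pos ((one_lt_card_iff_ne_bot _).mpr hZ0))
      (H ⧸ centerOf K) (K.map (QuotientGroup.mk' (centerOf K))) (t : H ⧸ centerOf K) rfl (by
        rintro _ ⟨x, hx, rfl⟩
        have := congrArg (QuotientGroup.mk' (centerOf K)) (h x hx)
        simpa using this)
    refine Subgroup.isNilpotent_of_ker_le_center
      ((QuotientGroup.mk' (centerOf K)).subgroupMap K) fun x hx => ?_
    have h2 : (x : H) ∈ centerOf K :=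
      (QuotientGroup.eq_one_iff _).mp (congrArg Subtype.val hx)
    exact mem_center_iff.mpr fun y => Subtype.ext (h2.2 y y.2)
  by_cases h2 : IsPGroup 2 K
  · exact h2.isNilpotent
  obtain ⟨q, hq, hqK, hq2⟩ : ∃ q, q.Prime ∧ q ∣ Nat.card K ∧ q ≠ 2 := by
    by_contra h0
    push Not at h0
    exact h2 (isPGroup_iff_isPiSubgroup.mpr fun q hq hqK => h0 q hq hqK)
  have : Fact q.Prime := ⟨hq⟩
  obtain ⟨S⟩ : Nonempty (Sylow q K) := inferInstance
  have hS := IsSylowIn.of_sylow_subgroup S
  obtain ⟨s, hs, hst⟩ := frat q _ hS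
  by_contra hnil
  have hX : ∀ X : Subgroup H, X ≠ ⊥ → X ≤ (S : Subgroup K).map K.subtype →
      normalizer (((S : Subgroup K).map K.subtype : Subgroup H) : Set H) ≤ normalizer (X : Set H) →
      HasNormalPComplement q (K ⊓ normalizer (X : Set H) : Subgroup H) := by
    intro X hX0 hXS hXN
    rcases (inf_le_left : K ⊓ normalizer (X : Set H) ≤ K).eq_or_lt with h1 | h1
    · refine absurd (main q X hX0 (hXS.trans hS.le) ?_ (hS.isPGroup.to_le hXS)) hnil
      rw [← normalizer_eq_top_iff, eq_top_iff, ← Sylow.normalizer_sup_eq_top S]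
      exact sup_le hXN (inf_eq_left.mp h1)
    · have := IHsub _ h1 s (inf_normalizer_le_normalizer_inf
        ⟨le_normalizer_of_normal (mem_top s), le_normalizer (hXN hs)⟩) hst
      exact hnpc_of_isNilpotent
  have hS0 : (S : Subgroup K).map K.subtype ≠ ⊥ := hS.ne_bot hqK
  have hd : Disjoint (S : Subgroup K) K.subtype.ker := by simp
  have hnpc : HasNormalPComplement q K := by
    refine thompson_normal_p_complement hq2 S ?_ ?_
    · refine hnpc_of_map_le K.subtype K.subtype_injective ?_
        (hX _ (centerOf_ne_bot hS.isPGroup hS0) (centerOf_le _)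
          (normalizer_le_normalizer_centerOf _))
      rw [centerOf_map _ _ hd]
      exact le_inf (map_subtype_le _)
        ((map_centralizer_le' _ _).trans (centralizer_le_normalizer _))
    · refine hnpc_of_map_le K.subtype K.subtype_injective ?_
        (hX _ (thompsonAOf_ne_bot hS0) (thompsonAOf_le _)
          (normalizer_le_normalizer_thompsonAOf _))
      rw [thompsonAOf_map _ _ hd]
      exact le_inf (map_subtype_le _) (le_normalizer_map _)
  have hL := hnpc_iff_not_dvd_pResidual.mp hnpc
  have hLc : (pResidual q K).Characteristic := pResidual_characteristic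
  set L := (pResidual q K).map K.subtype with hLdef
  have hLn : L.Normal := inferInstance
  have hLK : L < K := lt_of_le_of_ne (map_subtype_le _) fun h0 => hL (by
    rw [← card_map_subtype K, ← hLdef, h0]; exact hqK)
  have hLnil := IHsub L hLK t (le_normalizer_of_normal (mem_top t)) (by simp)
  by_cases hL0 : Nat.card L = 1
  · have h3 : pResidual q K = ⊥ := by
      rw [card_map_subtype] at hL0
      exact card_eq_one.mp hL0
    exact hnil (pResidual_eq_bot_iff.mp h3).isNilpotent
  obtain ⟨r, hr, hrL⟩ := Nat.exists_prime_and_dvd hL0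
  have : Fact r.Prime := ⟨hr⟩
  obtain ⟨R⟩ : Nonempty (Sylow r L) := inferInstance
  have hRc : (R : Subgroup L).Characteristic := Sylow.characteristic_of_normal R inferInstance
  exact hnil (main r ((R : Subgroup L).map L.subtype)
    ((IsSylowIn.of_sylow_subgroup R).ne_bot hrL) ((map_subtype_le _).trans hLK.le) inferInstance
    (R.isPGroup'.map _))

/-- **Kegel's theorem**: if `t` normalizes `K` and every element of the coset `K t` has order
dividing the prime `p`, then `K` is nilpotent. -/
theorem isNilpotent_of_coset_pow_eq_one [Finite G] (hp : p.Prime) {K : Subgroup G} {t : G}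
    (ht : t ∈ normalizer (K : Set G)) (h : ∀ x ∈ K, (x * t) ^ p = 1) : Group.IsNilpotent K := by
  have h1 := kegel_aux hp _ (normalizer (K : Set G)) (K.subgroupOf (normalizer (K : Set G)))
    ⟨t, ht⟩ rfl (fun x hx => Subtype.ext (h _ hx))
  exact Group.nilpotent_of_mulEquiv (subgroupOfEquivOfLe le_normalizer)

/-- **Thompson's theorem**, ambient form: if `t` has prime order, normalizes `K` and centralizes
no nontrivial element of `K`, then `K` is nilpotent. -/
theorem isNilpotent_of_fpf [Finite G] (hp : p.Prime) {K : Subgroup G} {t : G}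
    (ht : t ∈ normalizer (K : Set G)) (htp : t ^ p = 1)
    (hf : ∀ k ∈ K, t * k = k * t → k = 1) : Group.IsNilpotent K := by
  refine isNilpotent_of_coset_pow_eq_one hp ht fun x hx => ?_
  obtain ⟨y, -, hy⟩ := Frob.exists_conj_eq_mul_of_fpf
    (fun k hk => conj_mem_of_mem_normalizer ht hk) hf hx
  rw [← hy, conj_pow, htp]
  simp

/-- Frobenius kernels are nilpotent. -/
theorem isNilpotent_of_isFrobeniusKernel [Finite G] {K : Subgroup G}
    (hK : Frob.IsFrobeniusKernel K) : Group.IsNilpotent K := by
  have hn := hK.normal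
  have h1 : K.index ≠ 1 := fun h0 => hK.ne_top (index_eq_one.mp h0)
  obtain ⟨r, hr, hrK⟩ := Nat.exists_prime_and_dvd h1
  have : Fact r.Prime := ⟨hr⟩
  obtain ⟨g, hg⟩ := exists_prime_orderOf_dvd_card' (G := G ⧸ K) r hrK
  obtain ⟨g, rfl⟩ := QuotientGroup.mk_surjective g
  have hgK : g ∉ K := fun h0 => hr.one_lt.ne' (by
    rw [← hg, (QuotientGroup.eq_one_iff g).mpr h0, orderOf_one])
  rw [hK.orderOf_mk hgK] at hg
  exact isNilpotent_of_fpf hr (le_normalizer_of_normal (mem_top g))
    (hg ▸ pow_orderOf_eq_one g) (hK.fpf hgK)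

theorem isNilpotent_of_isFrobeniusPair [Finite G] {K H : Subgroup G}
    (h : Frob.IsFrobeniusPair K H) : Group.IsNilpotent K :=
  isNilpotent_of_isFrobeniusKernel h.isFrobeniusKernel

theorem inl_mul_inr_pow {A : Type*} [Group A] (φ : A →* MulAut G) (x : G) (a : A) (n : ℕ) :
    ((SemidirectProduct.inl x : G ⋊[φ] A) * SemidirectProduct.inr a) ^ n =
      SemidirectProduct.inl (((List.range n).map fun i => φ (a ^ i) x).prod) *
        SemidirectProduct.inr (a ^ n) := by
  induction n with
  | zero => simp
  | succ n ih =>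
    rw [pow_succ, ih, List.range_succ, List.map_append, List.prod_append]
    simp only [List.map_cons, List.map_nil, List.prod_cons, List.prod_nil, mul_one, map_mul,
      SemidirectProduct.inl_aut, pow_succ, map_inv]
    group

/-- **Kegel's theorem** for a splitting automorphism `α` with `α ^ p = 1`. -/
theorem isNilpotent_of_splitting [Finite G] (hp : p.Prime) (α : MulAut G) (hα : α ^ p = 1)
    (hsplit : ∀ x : G, ((List.range p).map fun i : ℕ => (α ^ i) x).prod = 1) :
    Group.IsNilpotent G := by
  let φ : MulAut G →* MulAut G := MonoidHom.id _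
  have : Finite (G ⋊[φ] MulAut G) := Finite.of_equiv _ SemidirectProduct.equivProd.symm
  have hn : (SemidirectProduct.inl : G →* G ⋊[φ] MulAut G).range.Normal := by
    rw [SemidirectProduct.range_inl_eq_ker_rightHom]; infer_instance
  have h1 : Group.IsNilpotent (SemidirectProduct.inl : G →* G ⋊[φ] MulAut G).range := by
    refine isNilpotent_of_coset_pow_eq_one hp (t := SemidirectProduct.inr α)
      (le_normalizer_of_normal (mem_top _)) ?_
    rintro _ ⟨x, rfl⟩
    rw [inl_mul_inr_pow, hα]
    change SemidirectProduct.inl ((List.range p).map fun i : ℕ => (α ^ i) x).prod * _ = 1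
    rw [hsplit]; simp
  exact Group.nilpotent_of_mulEquiv
    (MonoidHom.ofInjective (SemidirectProduct.inl_injective (φ := φ))).symm

/-- **Thompson's theorem**: a finite group with a fixed-point-free automorphism of prime order
is nilpotent. -/
theorem isNilpotent_of_fpf_aut [Finite G] (hp : p.Prime) (α : MulAut G) (hα : α ^ p = 1)
    (hf : ∀ x : G, α x = x → x = 1) : Group.IsNilpotent G := by
  refine isNilpotent_of_splitting hp α hα fun x => ?_
  obtain ⟨y, rfl⟩ := MonoidHom.FixedPointFree.commutatorMap_surjective (φ := α) hf x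
  have : ∀ n : ℕ, ((List.range n).map fun i : ℕ =>
      (α ^ i) (MonoidHom.commutatorMap α y)).prod = y * ((α ^ n) y)⁻¹ := by
    intro n
    induction n with
    | zero => simp
    | succ n ih =>
      rw [List.range_succ, List.map_append, List.prod_append, ih]
      simp [pow_succ, div_eq_mul_inv]
  rw [this, hα]
  simp

end CfsgLib.H5
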