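import Mathlib
import Cfsg.Agent.Lib.FrobFPFStruct
import Cfsg.Agent.Lib.CharFrobenius
import Cfsg.Agent.Lib.PGroupRankOne

/-! Frobenius groups: consequences of the kernel theorem, Sylow structure of complements. -/

set_option autoImplicit false

namespace CfsgLib.Frob

open Subgroup Cfsg

variable {G : Type*} [Group G]

theorem _root_.Cfsg.IsFrobeniusComplement.exists_isFrobeniusPair [Finite G] {H : Subgroup G}
    (hH : IsFrobeniusComplement H) : ∃ K : Subgroup G, IsFrobeniusPair K H := by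
  obtain ⟨N, -, hN, -⟩ := frobenius_kernel hH
  exact ⟨N, isFrobeniusPair_of_frobeniusKernel_eq hH hN.symm⟩

theorem _root_.Cfsg.IsFrobeniusComplement.hasFPF [Finite G] {H : Subgroup G}
    (hH : IsFrobeniusComplement H) : HasFPF H := by
  obtain ⟨K, hK⟩ := hH.exists_isFrobeniusPair
  exact hK.hasFPF

theorem hasFPF_of_mulEquiv_complement {A : Type*} [Group A] [Finite G] {H : Subgroup G}
    (hH : IsFrobeniusComplement H) (e : A ≃* H) : HasFPF A := hH.hasFPF.of_mulEquiv e.symm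

theorem hasFPF_iff_exists_isFrobeniusComplement.{w} {A : Type*} [Group A] [Nontrivial A] :
    HasFPF A ↔ ∃ (L : Type w) (_ : Group L) (_ : Finite L) (H : Subgroup L),
      IsFrobeniusComplement H ∧ Nonempty (A ≃* H) :=
  ⟨fun h => h.exists_isFrobeniusComplement,
    fun ⟨_, _, _, _, hH, ⟨e⟩⟩ => hasFPF_of_mulEquiv_complement hH e⟩

variable {A : Type*} [Group A]

theorem HasFPF.isCyclic_or_quaternion (h : HasFPF A) {p : ℕ} [Fact p.Prime] {P : Subgroup A}
    (hP : IsPGroup p P) :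
    IsCyclic P ∨ (p = 2 ∧ ∃ k : ℕ, 1 ≤ k ∧ Nonempty (P ≃* QuaternionGroup (2 ^ k))) := by
  have := h.finite
  exact PGrp.isCyclic_or_quaternion_of_comm_isCyclic hP fun B hB =>
    ((h.subgroup P).subgroup B).isCyclic_of_comm hB.is_comm.comm

theorem HasFPF.isCyclic_of_isPGroup (h : HasFPF A) {p : ℕ} [Fact p.Prime] (hp : p ≠ 2)
    {P : Subgroup A} (hP : IsPGroup p P) : IsCyclic P :=
  (h.isCyclic_or_quaternion hP).resolve_right fun h => hp h.1

theorem HasFPF.isZGroup_of_odd (h : HasFPF A) (hA : Odd (Nat.card A)) : IsZGroup A := by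
  have := h.finite
  refine ⟨fun p hp P => ?_⟩
  have := Fact.mk hp
  by_cases hp2 : p = 2
  · subst hp2
    have : (P : Subgroup A) = ⊥ := by
      by_contra hne
      obtain ⟨n, hn, hc⟩ := P.2.nontrivial_iff_card.mp ((nontrivial_iff_ne_bot _).mpr hne)
      have h2 : 2 ∣ Nat.card A :=
        (hc ▸ dvd_pow_self 2 hn.ne' : 2 ∣ Nat.card P).trans (card_subgroup_dvd_card _)
      exact absurd hA (Nat.not_odd_iff_even.mpr (even_iff_two_dvd.mpr h2))
    rw [this]
    infer_instance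
  · exact h.isCyclic_of_isPGroup hp2 P.2

theorem HasFPF.isZGroup_of_isCyclic_sylow_two (h : HasFPF A)
    (h2 : ∀ P : Sylow 2 A, IsCyclic P) : IsZGroup A := by
  refine ⟨fun p hp P => ?_⟩
  have := Fact.mk hp
  by_cases hp2 : p = 2
  · subst hp2
    exact h2 P
  · exact h.isCyclic_of_isPGroup hp2 P.2

theorem HasFPF.isCyclic_of_isNilpotent_of_odd (h : HasFPF A) [Group.IsNilpotent A]
    (hA : Odd (Nat.card A)) : IsCyclic A := by
  have := h.finite
  have := h.isZGroup_of_odd hA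
  infer_instance

theorem HasFPF.isSolvable_of_odd (h : HasFPF A) (hA : Odd (Nat.card A)) : Group.IsSolvable A := by
  have := h.finite
  have := h.isZGroup_of_odd hA
  infer_instance

/-- In a generalized quaternion group there are elements `i`, `j` generating `Q₈`. -/
theorem exists_quaternion_pair {k : ℕ} (hk : 1 ≤ k) :
    ∃ i j : QuaternionGroup (2 ^ k), i * i ≠ 1 ∧ (i * i) * (i * i) = 1 ∧ j * j = i * i ∧
      i * j = (i * i) * (j * i) := by
  obtain ⟨k, rfl⟩ : ∃ m, k = m + 1 := ⟨k - 1, by omega⟩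
  have h1 : ((2 ^ k : ℕ) : ZMod (2 * 2 ^ (k + 1))) + (2 ^ k : ℕ) = (2 ^ (k + 1) : ℕ) := by
    rw [← Nat.cast_add]; congr 1; ring
  have h2 : ((2 ^ (k + 1) : ℕ) : ZMod (2 * 2 ^ (k + 1))) + (2 ^ (k + 1) : ℕ) = 0 := by
    rw [← Nat.cast_add, ← two_mul, ZMod.natCast_self]
  refine ⟨QuaternionGroup.a (2 ^ k : ℕ), QuaternionGroup.xa 0, ?_, ?_, ?_, ?_⟩
  · rw [QuaternionGroup.a_mul_a, h1, QuaternionGroup.one_def]
    intro e
    have := (ZMod.natCast_eq_zero_iff _ _).mp (QuaternionGroup.a.inj e)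
    have := Nat.le_of_dvd (by positivity) this
    have : 0 < 2 ^ (k + 1) := by positivity
    omega
  · rw [QuaternionGroup.a_mul_a, h1, QuaternionGroup.a_mul_a, h2, QuaternionGroup.one_def]
  · rw [QuaternionGroup.a_mul_a, h1, QuaternionGroup.xa_mul_xa]; simp
  · rw [QuaternionGroup.a_mul_a, h1, QuaternionGroup.xa_mul_a, QuaternionGroup.a_mul_xa,
      QuaternionGroup.a_mul_xa, ← h1]
    congr 1
    ring

/-- a group with a fixed-point-free action and a non-cyclic Sylow subgroup contains `Q₈` -/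
theorem HasFPF.exists_quaternion_pair (h : HasFPF A) {p : ℕ} [Fact p.Prime] {P : Subgroup A}
    (hP : IsPGroup p P) (hc : ¬ IsCyclic P) :
    ∃ i j : A, i ∈ P ∧ j ∈ P ∧ i * i ≠ 1 ∧ (i * i) * (i * i) = 1 ∧ j * j = i * i ∧
      i * j = (i * i) * (j * i) := by
  obtain ⟨-, k, hk, ⟨e⟩⟩ := (h.isCyclic_or_quaternion hP).resolve_left hc
  obtain ⟨i, j, h1, h2, h3, h4⟩ := Frob.exists_quaternion_pair hk
  let f : QuaternionGroup (2 ^ k) →* A := P.subtype.comp e.symm.toMonoidHom
  have hf : Function.Injective f := P.subtype_injective.comp e.symm.injective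
  refine ⟨f i, f j, (e.symm i).2, (e.symm j).2, fun h => h1 (hf ?_), ?_, ?_, ?_⟩
  · rw [map_mul, h, map_one]
  · rw [← map_mul, ← map_mul, h2, map_one]
  · rw [← map_mul, ← map_mul, h3]
  · rw [← map_mul, h4]; simp only [map_mul]

end CfsgLib.Frob
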