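import Mathlib
import Cfsg.Agent.Lib.ClassSize
import Cfsg.Agent.Lib.CoreElements

/-! More on class sizes: orbits under subgroups, minimal supplements, Camina-type lemmas. -/

set_option autoImplicit false

namespace CfsgLib.Frob

open Subgroup
open scoped Pointwise

variable {G : Type*} [Group G]

/-- the number of `D`-conjugates of `g` is `[D : C_D(g)]` -/
theorem ncard_conj_subgroup (D : Subgroup G) (g : G) :
    {y : G | ∃ x ∈ D, x * g * x⁻¹ = y}.ncard = (centralizer ({g} : Set G)).relIndex D := by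
  let _ : MulAction D G := MulAction.compHom G ((MulAut.conj : G →* MulAut G).comp D.subtype)
  have h1 : {y : G | ∃ x ∈ D, x * g * x⁻¹ = y} = MulAction.orbit D g := by
    ext y
    exact ⟨fun ⟨x, hx, e⟩ => ⟨⟨x, hx⟩, e⟩, fun ⟨x, e⟩ => ⟨x, x.2, e⟩⟩
  have h2 : MulAction.stabilizer D g = (centralizer ({g} : Set G)).subgroupOf D := by
    ext x
    rw [MulAction.mem_stabilizer_iff, mem_subgroupOf, mem_centralizer_singleton_iff]
    exact mul_inv_eq_iff_eq_mul
  rw [h1, ← MulAction.index_stabilizer, h2, relIndex]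

theorem ncard_coset (N : Subgroup G) (g : G) :
    {y : G | ∃ n ∈ N, g * n = y}.ncard = Nat.card N := by
  have : {y : G | ∃ n ∈ N, g * n = y} = (fun n => g * n) '' (N : Set G) := rfl
  rw [this, Set.ncard_image_of_injective _ (mul_right_injective g), ← Nat.card_coe_set_eq]
  rfl

theorem mem_comap_centralizer_mk (N : Subgroup G) [N.Normal] {g x : G} :
    x ∈ (centralizer ({(g : G ⧸ N)} : Set (G ⧸ N))).comap (QuotientGroup.mk' N) ↔
      g⁻¹ * (x * g * x⁻¹) ∈ N := by
  rw [mem_comap, mem_centralizer_singleton_iff, ← QuotientGroup.eq, QuotientGroup.mk'_apply,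
    QuotientGroup.mk_mul, QuotientGroup.mk_mul, QuotientGroup.mk_inv, eq_mul_inv_iff_mul_eq,
    eq_comm]

/-- `|cl(g) ∩ gN| · |C_G(g)| = |C_{G/N}(gN)| · |N|` -/
theorem ncard_conj_inter_coset_mul [Finite G] (N : Subgroup G) [N.Normal] (g : G) :
    {y : G | IsConj g y ∧ g⁻¹ * y ∈ N}.ncard * Nat.card (centralizer ({g} : Set G)) =
      Nat.card (centralizer ({(g : G ⧸ N)} : Set (G ⧸ N))) * Nat.card N := by
  set D := (centralizer ({(g : G ⧸ N)} : Set (G ⧸ N))).comap (QuotientGroup.mk' N) with hD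
  have h1 : {y : G | IsConj g y ∧ g⁻¹ * y ∈ N} = {y : G | ∃ x ∈ D, x * g * x⁻¹ = y} := by
    ext y
    constructor
    · rintro ⟨h1, h2⟩
      obtain ⟨x, rfl⟩ := isConj_iff.mp h1
      exact ⟨x, (mem_comap_centralizer_mk N).mpr h2, rfl⟩
    · rintro ⟨x, hx, rfl⟩
      exact ⟨isConj_iff.mpr ⟨x, rfl⟩, (mem_comap_centralizer_mk N).mp hx⟩
  have h2 : centralizer ({g} : Set G) ≤ D := map_le_iff_le_comap.mp
    (map_centralizer_singleton_le (QuotientGroup.mk' N) g)
  rw [h1, ncard_conj_subgroup, mul_comm, card_mul_relIndex h2, hD, card_comap_mk']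

theorem card_centralizer_mk_le [Finite G] (N : Subgroup G) [N.Normal] (g : G) :
    Nat.card (centralizer ({(g : G ⧸ N)} : Set (G ⧸ N))) ≤ Nat.card (centralizer ({g} : Set G)) := by
  have h1 := ncard_conj_inter_coset_mul N g
  have h2 : {y : G | IsConj g y ∧ g⁻¹ * y ∈ N}.ncard ≤ Nat.card N := by
    rw [← ncard_coset N g]
    exact Set.ncard_le_ncard fun y hy => ⟨_, hy.2, by group⟩
  have h3 : 0 < Nat.card N := Nat.card_pos
  nlinarith

/-- the coset `gN` lies in the class of `g` iff `|C_G(g)| = |C_{G/N}(gN)|` -/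
theorem coset_subset_conj_iff [Finite G] (N : Subgroup G) [N.Normal] (g : G) :
    (∀ n ∈ N, ∃ x : G, x * g * x⁻¹ = g * n) ↔ Nat.card (centralizer ({g} : Set G)) =
      Nat.card (centralizer ({(g : G ⧸ N)} : Set (G ⧸ N))) := by
  have h1 := ncard_conj_inter_coset_mul N g
  have h3 : 0 < Nat.card N := Nat.card_pos
  have h4 : 0 < Nat.card (centralizer ({g} : Set G)) := Nat.card_pos
  have hsub : {y : G | IsConj g y ∧ g⁻¹ * y ∈ N} ⊆ {y : G | ∃ n ∈ N, g * n = y} :=
    fun y hy => ⟨_, hy.2, by group⟩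
  constructor
  · intro h
    have : {y : G | IsConj g y ∧ g⁻¹ * y ∈ N} = {y : G | ∃ n ∈ N, g * n = y} := by
      refine hsub.antisymm ?_
      rintro _ ⟨n, hn, rfl⟩
      exact ⟨isConj_iff.mpr (h n hn), by simpa using hn⟩
    rw [this, ncard_coset, mul_comm] at h1
    exact Nat.eq_of_mul_eq_mul_right h3 h1
  · intro h n hn
    rw [← h, mul_comm] at h1
    have h5 := Nat.eq_of_mul_eq_mul_left h4 h1
    have h6 := Set.eq_of_subset_of_ncard_le hsub (by rw [h5, ncard_coset])
    have : g * n ∈ {y : G | IsConj g y ∧ g⁻¹ * y ∈ N} := by rw [h6]; exact ⟨n, hn, rfl⟩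
    exact isConj_iff.mp this.1

/-- A minimal supplement to a normal subgroup `N` involves only primes dividing `[G : N]`. -/
theorem exists_supplement_primes_dvd_index [Finite G] (N : Subgroup G) [N.Normal] :
    ∃ H : Subgroup G, H ⊔ N = ⊤ ∧ ∀ q : ℕ, q.Prime → q ∣ Nat.card H → q ∣ N.index := by
  obtain ⟨H, -, hmin⟩ := exists_minimal_le_of_wellFoundedLT (fun H : Subgroup G => H ⊔ N = ⊤) ⊤
    (top_sup_eq N)
  refine ⟨H, hmin.1, fun q hq hd => ?_⟩
  by_contra hqN
  have := Fact.mk hq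
  have key : ∀ K : Subgroup H, K ⊔ N.subgroupOf H = ⊤ → K = ⊤ := fun K hK => by
    have h1 : K.map H.subtype ⊔ N = ⊤ := by
      rw [eq_top_iff, ← hmin.1]
      refine sup_le ?_ le_sup_right
      calc H = (K ⊔ N.subgroupOf H).map H.subtype := by
            rw [hK, ← MonoidHom.range_eq_map, range_subtype]
        _ ≤ _ := by
            rw [Subgroup.map_sup, subgroupOf_map_subtype]
            exact sup_le_sup_left inf_le_left _
    have h2 := hmin.2 h1 (map_subtype_le K)
    rw [eq_top_iff]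
    intro x _
    exact (mem_map_iff_mem H.subtype_injective).mp (h2 x.2)
  obtain ⟨Q⟩ : Nonempty (Sylow q H) := inferInstance
  have hidx : (N.subgroupOf H).index = N.index := by
    rw [← relIndex, ← relIndex_sup_right, hmin.1, relIndex_top_right]
  have hQN : (Q : Subgroup H) ≤ N.subgroupOf H := by
    obtain ⟨k, hk⟩ := Q.2.exists_card_eq
    refine le_of_coprime_index ?_
    rw [hk, hidx]
    exact ((Nat.Prime.coprime_iff_not_dvd hq).mpr hqN).pow_left k
  have hn : (Q : Subgroup H).Normal :=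
    normalizer_eq_top_iff.mp (key _ (Q.normalizer_sup_eq_top' hQN))
  obtain ⟨K, hK⟩ := exists_right_complement'_of_coprime Q.card_coprime_index
  have hK' : K = ⊤ := key K (by
    rw [eq_top_iff, ← hK.sup_eq_top, sup_comm]
    exact sup_le_sup_left hQN _)
  rw [hK'] at hK
  exact Q.ne_bot_of_dvd_card hd (isComplement'_top_right.mp hK)

theorem exists_orderOf_prime_mem_zpowers [Finite G] {x : G} (hx : x ≠ 1) :
    ∃ p : ℕ, p.Prime ∧ p ∣ orderOf x ∧ ∃ y ∈ zpowers x, orderOf y = p := by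
  obtain ⟨p, hp, hd⟩ := Nat.exists_prime_and_dvd (mt orderOf_eq_one_iff.mp hx)
  exact ⟨p, hp, hd, x ^ (orderOf x / p), npow_mem_zpowers _ _,
    orderOf_pow_orderOf_div (orderOf_pos x).ne' hd⟩

theorem exists_orderOf_eq_mem_zpowers [Finite G] {x : G} {d : ℕ} (hd : d ∣ orderOf x) :
    ∃ y ∈ zpowers x, orderOf y = d :=
  ⟨x ^ (orderOf x / d), npow_mem_zpowers _ _, orderOf_pow_orderOf_div (orderOf_pos x).ne' hd⟩

end CfsgLib.Frob
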