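import Mathlib
import Cfsg.Agent.Lib.FrobFPFStruct

/-! Fixed-point-free actions: additive form, reduction from characteristic zero. -/

set_option autoImplicit false

namespace CfsgLib.Frob

open Subgroup Cfsg

variable {A : Type*} [Group A]

/-- the multiplicative form of a representation -/
def repToMulAut {k V : Type*} [CommSemiring k] [AddCommGroup V] [Module k V]
    (ρ : Representation k A V) : A →* MulAut (Multiplicative V) where
  toFun a :=
    { toFun := fun v => Multiplicative.ofAdd (ρ a v.toAdd)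
      invFun := fun v => Multiplicative.ofAdd (ρ a⁻¹ v.toAdd)
      left_inv := fun v => by simp
      right_inv := fun v => by simp
      map_mul' := fun v w => by simp }
  map_one' := by ext v; simp
  map_mul' a b := by ext v; simp

theorem isFPF_repToMulAut {k V : Type*} [CommSemiring k] [AddCommGroup V] [Module k V]
    (ρ : Representation k A V) (h : ∀ a : A, a ≠ 1 → ∀ v : V, ρ a v = v → v = 0) :
    IsFPF (repToMulAut ρ) := fun a ha v hv => h a ha v.toAdd hv

theorem hasFPF_of_rep {k V : Type*} [CommSemiring k] [AddCommGroup V] [Module k V] [Finite V]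
    [Nontrivial V] (ρ : Representation k A V)
    (h : ∀ a : A, a ≠ 1 → ∀ v : V, ρ a v = v → v = 0) : HasFPF A :=
  (isFPF_repToMulAut ρ h).hasFPF

theorem rep_sum_range_eq_zero {k V : Type*} [CommSemiring k] [AddCommGroup V] [Module k V]
    (ρ : Representation k A V) {a : A} (h : ∀ v : V, ρ a v = v → v = 0) {n : ℕ} (hn : a ^ n = 1)
    (v : V) : ∑ i ∈ Finset.range n, ρ (a ^ i) v = 0 := by
  refine h _ ?_
  rw [map_sum]
  have h1 := Finset.sum_range_succ (fun i => ρ (a ^ i) v) n
  rw [Finset.sum_range_succ', hn, pow_zero] at h1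
  rw [← add_right_cancel h1]
  exact Finset.sum_congr rfl fun i _ => by rw [pow_succ', map_mul]; rfl

/-- Reduction modulo `p`: a finitely generated `ℤ`-module containing an element of infinite order
on which all norm maps of non-identity elements vanish gives a fixed-point-free action on an
elementary abelian `p`-group, for any prime `p` not dividing `|A|`. -/
theorem exists_rep_mod_p [Finite A] {M : Type*} [AddCommGroup M] [Module.Finite ℤ M]
    (ρ : Representation ℤ A M) (m : M) (hm : ∀ n : ℤ, n • m = 0 → n = 0)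
    (h : ∀ a : A, a ≠ 1 → ∀ v : M, ∑ i ∈ Finset.range (orderOf a), ρ (a ^ i) v = 0)
    {p : ℕ} (hp : p.Prime) (hpA : ¬ p ∣ Nat.card A) :
    ∃ (W : Type) (_ : CommGroup W) (_ : Finite W) (_ : Nontrivial W) (ψ : A →* MulAut W),
      IsFPF ψ ∧ ∀ w : W, w ^ p = 1 := by
  set S : Submodule ℤ M := LinearMap.range (LinearMap.lsmul ℤ M p) with hS
  have hinv : ∀ a : A, S ≤ S.comap (ρ a) := by
    rintro a _ ⟨v, rfl⟩
    exact ⟨ρ a v, by simp⟩
  have hfin : Finite (M ⧸ S) := by
    refine Module.finite_of_fg_torsion _ fun x => ⟨⟨p, by simpa using hp.ne_zero⟩, ?_⟩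
    obtain ⟨x, rfl⟩ := Submodule.Quotient.mk_surjective S x
    rw [Submonoid.mk_smul, ← Submodule.Quotient.mk_smul, Submodule.Quotient.mk_eq_zero]
    exact ⟨x, rfl⟩
  have hnt : Nontrivial (M ⧸ S) := by
    rw [Submodule.Quotient.nontrivial_iff]
    intro htop
    obtain ⟨r, hr1, hr2⟩ := Submodule.exists_sub_one_mem_and_smul_eq_zero_of_fg_of_le_smul
      (Ideal.span {(p : ℤ)}) (⊤ : Submodule ℤ M) Module.Finite.fg_top (by
        rw [← htop]
        rintro _ ⟨v, rfl⟩
        exact Submodule.smul_mem_smul (Ideal.mem_span_singleton_self _) (by rw [htop]; trivial))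
    have h0 := hm r (hr2 m trivial)
    rw [h0, Ideal.mem_span_singleton] at hr1
    have h1 : (p : ℤ) ∣ 1 := by simpa using hr1
    exact hp.one_lt.ne' (by exact_mod_cast Int.eq_one_of_dvd_one (by positivity) h1)
  have hpz : ∀ x : M ⧸ S, p • x = 0 := fun x => by
    obtain ⟨x, rfl⟩ := Submodule.Quotient.mk_surjective S x
    rw [← Submodule.Quotient.mk_smul, Submodule.Quotient.mk_eq_zero]
    exact ⟨x, by simp⟩
  have hf : IsFPF (repToMulAut (ρ.quotient S hinv)) := isFPF_repToMulAut _ fun a ha v hv => by
    have h1 : ∀ i : ℕ, ρ.quotient S hinv (a ^ i) v = v := fun i => by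
      induction i with
      | zero => rw [pow_zero, map_one]; rfl
      | succ i ih => rw [pow_succ, map_mul, Module.End.mul_apply, hv, ih]
    have h2 : ∑ i ∈ Finset.range (orderOf a), ρ.quotient S hinv (a ^ i) v = 0 := by
      obtain ⟨x, rfl⟩ := Submodule.Quotient.mk_surjective S v
      have := congrArg S.mkQ (h a ha x)
      rw [map_sum, map_zero] at this
      exact this
    simp only [h1, Finset.sum_const, Finset.card_range] at h2
    have hcop : (orderOf a).Coprime p :=
      ((Nat.Prime.coprime_iff_not_dvd hp).mpr fun hd => hpA (hd.trans (orderOf_dvd_natCard a))).symm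
    have := addOrderOf_dvd_iff_nsmul_eq_zero.mpr h2
    exact AddMonoid.addOrderOf_eq_one_iff.mp (Nat.eq_one_of_dvd_coprimes hcop this
      (addOrderOf_dvd_iff_nsmul_eq_zero.mpr (hpz v)))
  let e : Shrink.{0} (Multiplicative (M ⧸ S)) ≃* Multiplicative (M ⧸ S) := Shrink.mulEquiv
  refine ⟨Shrink.{0} (Multiplicative (M ⧸ S)), inferInstance, Finite.of_equiv _ e.symm.toEquiv,
    e.nontrivial, _, hf.congr e.symm, fun w => e.injective ?_⟩
  rw [map_pow, map_one]
  exact hpz (e w).toAdd

theorem exists_prime_not_dvd_card (A : Type*) [Finite A] [Nonempty A] :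
    ∃ p : ℕ, p.Prime ∧ ¬ p ∣ Nat.card A := by
  obtain ⟨p, hp1, hp⟩ := Nat.exists_infinite_primes (Nat.card A + 1)
  exact ⟨p, hp, fun h => by have := Nat.le_of_dvd Nat.card_pos h; omega⟩

/-- A finite group acting fixed-point-freely on a module with an element of infinite additive order
acts fixed-point-freely on an elementary abelian `p`-group for every prime `p ∤ |A|`. -/
theorem exists_fpf_of_rep_charZero [Finite A] {k V : Type*} [CommRing k] [AddCommGroup V]
    [Module k V] (ρ : Representation k A V) (m : V) (hm : ∀ n : ℤ, n • m = 0 → n = 0)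
    (h : ∀ a : A, a ≠ 1 → ∀ v : V, ρ a v = v → v = 0) {p : ℕ} (hp : p.Prime)
    (hpA : ¬ p ∣ Nat.card A) :
    ∃ (W : Type) (_ : CommGroup W) (_ : Finite W) (_ : Nontrivial W) (ψ : A →* MulAut W),
      IsFPF ψ ∧ ∀ w : W, w ^ p = 1 := by
  set M : Submodule ℤ V := Submodule.span ℤ (Set.range fun a : A => ρ a m) with hM
  have : Module.Finite ℤ M := Module.Finite.span_of_finite ℤ (Set.finite_range _)
  let σ : Representation ℤ A V :=
    { toFun := fun a => (ρ a).toAddMonoidHom.toIntLinearMap
      map_one' := by ext; simp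
      map_mul' := fun a b => by ext; simp }
  have hinv : ∀ a : A, M ≤ M.comap (σ a) := by
    intro a
    rw [hM, Submodule.span_le]
    rintro _ ⟨b, rfl⟩
    exact Submodule.subset_span ⟨a * b, by simp [σ]⟩
  refine exists_rep_mod_p (σ.subrepresentation M hinv)
    ⟨m, Submodule.subset_span ⟨1, by simp⟩⟩ (fun n hn => hm n (congrArg Subtype.val hn))
    (fun a ha v => Subtype.ext ?_) hp hpA
  rw [Submodule.coe_sum]
  exact rep_sum_range_eq_zero ρ (h a ha) (pow_orderOf_eq_one a) v

theorem hasFPF_of_rep_charZero [Finite A] {k V : Type*} [CommRing k] [AddCommGroup V]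
    [Module k V] (ρ : Representation k A V) (m : V) (hm : ∀ n : ℤ, n • m = 0 → n = 0)
    (h : ∀ a : A, a ≠ 1 → ∀ v : V, ρ a v = v → v = 0) : HasFPF A := by
  obtain ⟨p, hp, hpA⟩ := exists_prime_not_dvd_card A
  obtain ⟨W, _, _, _, ψ, h1, -⟩ := exists_fpf_of_rep_charZero ρ m hm h hp hpA
  exact h1.hasFPF

/-- a finite subgroup of the multiplicative group of a division ring acts fixed-point-freely -/
theorem hasFPF_of_units_divisionRing [Finite A] {D : Type*} [DivisionRing D] (f : A →* Dˣ)
    (hf : Function.Injective f) : HasFPF A := by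
  let ρ : Representation ℤ A D :=
    { toFun := fun a => LinearMap.mulLeft ℤ (f a : D)
      map_one' := by ext; simp
      map_mul' := fun a b => by ext; simp }
  have hρ : ∀ a : A, a ≠ 1 → ∀ v : D, ρ a v = v → v = 0 := fun a ha v hv => by
    have h1 : (f a : D) * v = v := hv
    by_contra h0
    have h2 : (f a : D) = 1 := mul_right_cancel₀ h0 (by rw [h1, one_mul])
    exact ha (hf (by rw [map_one]; exact Units.ext h2))
  by_cases hc : ∀ n : ℤ, n • (1 : D) = 0 → n = 0
  · exact hasFPF_of_rep_charZero ρ 1 hc hρ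
  · push Not at hc
    obtain ⟨n, hn, hn0⟩ := hc
    set M : Submodule ℤ D := Submodule.span ℤ (Set.range fun a : A => ρ a 1) with hM
    have : Module.Finite ℤ M := Module.Finite.span_of_finite ℤ (Set.finite_range _)
    have hinv : ∀ a : A, M ≤ M.comap (ρ a) := by
      intro a
      rw [hM, Submodule.span_le]
      rintro _ ⟨b, rfl⟩
      exact Submodule.subset_span ⟨a * b, by simp⟩
    have : Finite M := Module.finite_of_fg_torsion _ fun x => ⟨⟨n, by simpa using hn0⟩,
      Subtype.ext (by
        change n • (x : D) = 0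
        rw [← one_mul (x : D), ← smul_mul_assoc, hn, zero_mul])⟩
    have : Nontrivial M := ⟨⟨⟨1, Submodule.subset_span ⟨1, by simp⟩⟩, 0, by simp⟩⟩
    exact hasFPF_of_rep (ρ.subrepresentation M hinv) fun a ha v hv =>
      Subtype.ext (hρ a ha v (congrArg Subtype.val hv))

theorem hasFPF_of_isCyclic [Finite A] [IsCyclic A] : HasFPF A := by
  have hn : Nat.card A ≠ 0 := Nat.card_pos.ne'
  have hζ := Complex.isPrimitiveRoot_exp _ hn
  obtain ⟨g, hg⟩ := IsCyclic.exists_generator (α := A)
  let u : ℂˣ := (hζ.isUnit hn).unit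
  have hu : orderOf u = Nat.card A := by
    rw [← orderOf_units]
    exact hζ.eq_orderOf.symm
  have : IsCyclic (zpowers u) := inferInstance
  let e : A ≃* zpowers u := mulEquivOfCyclicCardEq (by rw [Nat.card_zpowers, hu])
  exact hasFPF_of_units_divisionRing ((zpowers u).subtype.comp e.toMonoidHom)
    ((zpowers u).subtype_injective.comp e.injective)

/-- the representation on column vectors given by a matrix representation -/
def matrixRep {k n : Type*} [CommRing k] [Fintype n] [DecidableEq n] (f : A →* Matrix n n k) :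
    Representation k A (n → k) :=
  (Matrix.toLinAlgEquiv' : Matrix n n k ≃ₐ[k] _).toMonoidHom.comp f

theorem matrixRep_fpf {k n : Type*} [CommRing k] [IsDomain k] [Fintype n] [DecidableEq n]
    (f : A →* Matrix n n k) {a : A} (h : (f a - 1).det ≠ 0) (v : n → k)
    (hv : matrixRep f a v = v) : v = 0 := by
  refine Matrix.eq_zero_of_mulVec_eq_zero h ?_
  have h1 : (f a).mulVec v = v := hv
  rw [Matrix.sub_mulVec, h1, Matrix.one_mulVec, sub_self]

theorem hasFPF_of_matrix_finite {k n : Type*} [CommRing k] [IsDomain k] [Finite k] [Fintype n]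
    [DecidableEq n] [Nonempty n] (f : A →* Matrix n n k)
    (h : ∀ a : A, a ≠ 1 → (f a - 1).det ≠ 0) : HasFPF A :=
  hasFPF_of_rep (matrixRep f) fun a ha => matrixRep_fpf f (h a ha)

theorem hasFPF_of_matrix_charZero [Finite A] {k n : Type*} [CommRing k] [IsDomain k] [CharZero k]
    [Fintype n] [DecidableEq n] [Nonempty n] (f : A →* Matrix n n k)
    (h : ∀ a : A, a ≠ 1 → (f a - 1).det ≠ 0) : HasFPF A :=
  hasFPF_of_rep_charZero (matrixRep f) 1 (fun m hm => by
    have := congrFun hm (Classical.arbitrary n)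
    simpa using this) fun a ha => matrixRep_fpf f (h a ha)

end CfsgLib.Frob
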