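import Mathlib
import Cfsg.Agent.Lib.FrobMain
import Cfsg.Agent.Lib.ClassSize2
import Cfsg.Agent.Lib.CoreSolvable
import Cfsg.Agent.Lib.H5Kegel

/-! Two-Frobenius groups and solvable groups with disconnected prime graph. -/

set_option autoImplicit false

namespace CfsgLib.Frob

open Subgroup Cfsg
open scoped commutatorElement

variable {G : Type*} [Group G]

theorem nonempty_quotient_subgroupOf_equiv_map (H K : Subgroup G) [H.Normal] :
    Nonempty ((K ⧸ H.subgroupOf K) ≃* K.map (QuotientGroup.mk' H)) := by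
  refine ⟨(QuotientGroup.quotientMulEquivOfEq ?_).trans ((QuotientGroup.quotientKerEquivRange
    ((QuotientGroup.mk' H).domRestrict K)).trans (MulEquiv.subgroupCongr ?_))⟩
  · rw [MonoidHom.ker_domRestrict, QuotientGroup.ker_mk']
  · rw [MonoidHom.domRestrict_range]

/-- commutators centralize a cyclic normal subgroup -/
theorem commutator_commute_of_isCyclic (N : Subgroup G) [N.Normal] [IsCyclic N] (x y : G) {n : G}
    (hn : n ∈ N) : ⁅x, y⁆ * n = n * ⁅x, y⁆ := by
  have h1 : (MulAut.conjNormal ⁅x, y⁆ : MulAut N) = 1 := by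
    rw [map_commutatorElement, commutatorElement_eq_one_iff_mul_comm]
    apply (IsCyclic.mulAutMulEquiv N).injective
    rw [map_mul, map_mul, mul_comm]
  have h2 : ⁅x, y⁆ * n * ⁅x, y⁆⁻¹ = n := congrArg Subtype.val (MulEquiv.congr_fun h1 ⟨n, hn⟩)
  exact mul_inv_eq_iff_eq_mul.mp h2

theorem exists_orderOf_eq_of_dvd_orderOf_map [Finite G] {G' : Type*} [Group G'] (f : G →* G')
    (x : G) {d : ℕ} (hd : d ∣ orderOf (f x)) : ∃ g : G, orderOf g = d := by
  obtain ⟨y, -, hy⟩ := exists_orderOf_eq_mem_zpowers (hd.trans (orderOf_map_dvd f x))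
  exact ⟨y, hy⟩

theorem exists_orderOf_eq_of_isCyclic [Finite G] (K : Subgroup G) [IsCyclic K] {d : ℕ}
    (hd : d ∣ Nat.card K) : ∃ g ∈ K, orderOf g = d := by
  obtain ⟨x, hx⟩ := IsCyclic.exists_ofOrder_eq_natCard (α := K)
  obtain ⟨y, hy, e⟩ := exists_orderOf_eq_mem_zpowers (x := (x : G)) (d := d)
    (by rwa [orderOf_coe, hx])
  exact ⟨y, zpowers_le.mpr x.2 hy, e⟩

theorem exists_orderOf_prime_mem [Finite G] (K : Subgroup G) {p : ℕ} (hp : p.Prime)
    (hd : p ∣ Nat.card K) : ∃ g ∈ K, orderOf g = p := by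
  have := Fact.mk hp
  obtain ⟨x, hx⟩ := exists_prime_orderOf_dvd_card' p hd
  exact ⟨x, x.2, by rw [orderOf_coe, hx]⟩

/-- a normal subgroup which acts fixed-point-freely somewhere and has even order contains a central
involution -/
theorem HasFPF.exists_central_of_even [Finite G] {K : Subgroup G} [hK : K.Normal] (h : HasFPF K)
    (he : Even (Nat.card K)) : ∃ t ∈ K, orderOf t = 2 ∧ t ∈ center G := by
  obtain ⟨t, ht, h2⟩ := exists_orderOf_prime_mem K Nat.prime_two he.two_dvd
  refine ⟨t, ht, h2, mem_center_iff.mpr fun g => ?_⟩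
  have h1 : t ≠ 1 := by
    rintro rfl
    simp at h2
  have h3 : t * t = 1 := by rw [← sq, ← h2, pow_orderOf_eq_one]
  have := h.involution_unique (s := ⟨g * t * g⁻¹, hK.conj_mem t ht g⟩) (t := ⟨t, ht⟩)
    (by simpa using h1) (Subtype.ext (by
      change g * t * g⁻¹ * (g * t * g⁻¹) = 1
      rw [conj_mul, h3]; simp)) (by simpa using h1) (Subtype.ext h3)
  exact mul_inv_eq_iff_eq_mul.mp (congrArg Subtype.val this)

/-- a Frobenius kernel which is also an abstract Frobenius complement is cyclic of odd order -/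
theorem IsFrobeniusKernel.odd_of_hasFPF [Finite G] {K : Subgroup G} (hK : IsFrobeniusKernel K)
    (h : HasFPF K) : Odd (Nat.card K) := by
  have := hK.normal
  by_contra he
  obtain ⟨t, -, h2, ht⟩ := h.exists_central_of_even (Nat.not_odd_iff_even.mp he)
  rw [hK.center_eq_bot, mem_bot] at ht
  simp [ht] at h2

theorem IsFrobeniusKernel.isCyclic_of_hasFPF [Finite G] {K : Subgroup G} (hK : IsFrobeniusKernel K)
    (h : HasFPF K) : IsCyclic K := by
  have := H5.isNilpotent_of_isFrobeniusKernel hK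
  exact h.isCyclic_of_isNilpotent_of_odd (hK.odd_of_hasFPF h)

/-- a Frobenius group with cyclic kernel has cyclic complement -/
theorem IsFrobeniusKernel.isCyclic_quotient [Finite G] {K : Subgroup G} [K.Normal]
    (hK : IsFrobeniusKernel K) [IsCyclic K] : IsCyclic (G ⧸ K) := by
  refine hK.hasFPF_quotient.isCyclic_of_comm fun a b => ?_
  obtain ⟨a, rfl⟩ := QuotientGroup.mk_surjective a
  obtain ⟨b, rfl⟩ := QuotientGroup.mk_surjective b
  obtain ⟨⟨k, hk⟩, hk1⟩ := ne_bot_iff_exists_ne_one.mp hK.ne_bot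
  rw [← commutatorElement_eq_one_iff_mul_comm, ← QuotientGroup.mk'_apply, ← QuotientGroup.mk'_apply,
    ← map_commutatorElement, QuotientGroup.mk'_apply, QuotientGroup.eq_one_iff]
  exact hK.mem_of_commute k hk (by simpa using hk1) _ (commutator_commute_of_isCyclic K a b hk)

/-! ### disconnected prime graph -/

/-- every element is a `π`-element or a `π'`-element -/
def PiSplit (π : Set ℕ) (G : Type*) [Group G] : Prop :=
  ∀ g : G, IsPiNum π (orderOf g) ∨ IsPiNum πᶜ (orderOf g)

theorem PiSplit.compl {π : Set ℕ} (h : PiSplit π G) : PiSplit πᶜ G := fun g => by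
  rw [compl_compl]; exact (h g).symm

theorem PiSplit.of_surjective {π : Set ℕ} (h : PiSplit π G) {G' : Type*} [Group G'] (f : G →* G')
    (hf : Function.Surjective f) : PiSplit π G' := fun g => by
  obtain ⟨g, rfl⟩ := hf g
  exact (h g).imp (·.of_dvd (orderOf_map_dvd f g)) (·.of_dvd (orderOf_map_dvd f g))

theorem PiSplit.eq_one_of_commute {π : Set ℕ} (h : PiSplit π G) {x y : G} (hc : Commute x y)
    (hx : IsPiNum π (orderOf x)) (hy : IsPiNum πᶜ (orderOf y)) : x = 1 ∨ y = 1 := by
  have h1 := hc.orderOf_mul_eq_mul_orderOf_of_coprime (hx.coprime_compl hy)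
  rcases h (x * y) with h2 | h2
  · exact Or.inr (orderOf_eq_one_iff.mp ((h2.of_dvd (Dvd.intro_left _ h1.symm)).eq_one hy))
  · exact Or.inl (orderOf_eq_one_iff.mp (hx.eq_one (h2.of_dvd (Dvd.intro _ h1.symm))))

theorem piSplit_of_forall_orderOf_ne [Finite G] {π : Set ℕ}
    (h : ∀ a ∈ π, ∀ b ∉ π, a.Prime → b.Prime → a ∣ Nat.card G → b ∣ Nat.card G →
      ¬ ∃ g : G, orderOf g = a * b) : PiSplit π G := by
  intro g
  by_contra hcon
  rw [not_or] at hcon
  obtain ⟨h1, h2⟩ := hcon
  simp only [IsPiNum, not_forall] at h1 h2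
  obtain ⟨b, hb, hbd, hb'⟩ := h1
  obtain ⟨a, ha, had, ha'⟩ := h2
  have ha'' : a ∈ π := not_not.mp ha'
  have hab : a.Coprime b := (Nat.coprime_primes ha hb).mpr fun e => hb' (e ▸ ha'')
  obtain ⟨y, -, hy⟩ := exists_orderOf_eq_mem_zpowers (hab.mul_dvd_of_dvd_of_dvd had hbd)
  exact h a ha'' b hb' ha hb (had.trans (orderOf_dvd_natCard g)) (hbd.trans (orderOf_dvd_natCard g))
    ⟨y, hy⟩

theorem isPiNum_orderOf_of_mem [Finite G] {π : Set ℕ} {K : Subgroup G} (hK : IsPiSubgroup π K)
    {x : G} (hx : x ∈ K) : IsPiNum π (orderOf x) := isPiSubgroup_iff_orderOf.mp hK x hx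

/-- Gruenberg–Kegel for solvable groups, with `π` normalised so that `O_π(G) ≠ 1`. -/
theorem PiSplit.frobenius_or_twoFrobenius [Finite G] [Group.IsSolvable G] {π : Set ℕ}
    (h : PiSplit π G) (h1 : piCore π G ≠ ⊥) (h2 : piCore π G ≠ ⊤) :
    IsFrobeniusKernel (piCore π G) ∨ ∃ K : Subgroup G, K.Normal ∧ piCore π G < K ∧
      IsFrobeniusKernel ((piCore π G).subgroupOf K) ∧
      IsFrobeniusKernel (K.map (QuotientGroup.mk' (piCore π G))) := by
  set H := piCore π G with hH
  have hHπ : ∀ x ∈ H, IsPiNum π (orderOf x) := fun x hx =>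
    isPiNum_orderOf_of_mem (piCore_isPiSubgroup π) hx
  by_cases hall : ∀ g : G, IsPiNum π (orderOf g) → g ∈ H
  · refine Or.inl ⟨inferInstance, h1, h2, fun k hk hk1 g hc => ?_⟩
    rcases h g with hg | hg
    · exact hall g hg
    · rw [(h.eq_one_of_commute (Commute.symm hc) (hHπ k hk) hg).resolve_left hk1]
      exact H.one_mem
  right
  push Not at hall
  obtain ⟨u, hu, huH⟩ := hall
  have hQ : PiSplit π (G ⧸ H) := h.of_surjective _ (QuotientGroup.mk'_surjective H)
  have : Nontrivial (G ⧸ H) := QuotientGroup.nontrivial_iff.mpr h2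
  set F := fittingSubgroup (G ⧸ H) with hF
  have hF1 : F ≠ ⊥ := fitting_ne_bot
  have hFπ : ∀ x ∈ F, IsPiNum π (orderOf x) → x = 1 := fun x hx hxπ => by
    have := le_piCore_of_le_fitting (zpowers_le.mpr hx) (isPiSubgroup_zpowers_iff.mpr hxπ)
    rw [piCore_quotient_piCore] at this
    exact this (mem_zpowers x)
  have hFπ' : ∀ x ∈ F, IsPiNum πᶜ (orderOf x) := fun x hx => by
    rcases hQ x with h3 | h3
    · rw [hFπ x hx h3, orderOf_one]; exact isPiNum_one _
    · exact h3
  set K := F.comap (QuotientGroup.mk' H) with hK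
  have hKF : K.map (QuotientGroup.mk' H) = F :=
    map_comap_eq_self_of_surjective (QuotientGroup.mk'_surjective H) F
  have hHK : H ≤ K := QuotientGroup.le_comap_mk' H F
  have hKH : ¬ K ≤ H := fun hle => hF1 (by
    rw [← hKF, Subgroup.map_eq_bot_iff, QuotientGroup.ker_mk']; exact hle)
  have hfr : IsFrobeniusKernel (H.subgroupOf K) := by
    refine isFrobeniusKernel_subgroupOf le_normalizer_of_normal (by rwa [inf_eq_left.mpr hHK]) hKH
      fun k hk _ hk1 g hg hc => ?_
    rcases h g with hgπ | hgπ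
    · exact (QuotientGroup.eq_one_iff g).mp
        (hFπ _ hg (hgπ.of_dvd (orderOf_map_dvd (QuotientGroup.mk' H) g)))
    · rw [(h.eq_one_of_commute (Commute.symm hc) (hHπ k hk) hgπ).resolve_left hk1]
      exact H.one_mem
  refine ⟨K, inferInstance, lt_of_le_not_ge hHK hKH, hfr, ?_⟩
  rw [hKF]
  have hFF : HasFPF F := by
    obtain ⟨e⟩ := nonempty_quotient_subgroupOf_equiv_map H K
    rw [← hKF]
    exact hfr.hasFPF_quotient.of_mulEquiv e
  have huπ : IsPiNum π (orderOf (u : G ⧸ H)) := hu.of_dvd (orderOf_map_dvd (QuotientGroup.mk' H) u)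
  have hu1 : (u : G ⧸ H) ≠ 1 := fun e => huH ((QuotientGroup.eq_one_iff u).mp e)
  have huF : (u : G ⧸ H) ∉ F := fun e => hu1 (hFπ _ e huπ)
  have hodd : Odd (Nat.card F) := by
    by_contra he
    obtain ⟨t, ht, h3, h4⟩ := hFF.exists_central_of_even (Nat.not_odd_iff_even.mp he)
    rcases hQ.eq_one_of_commute (mem_center_iff.mp h4 u) huπ (hFπ' t ht) with h5 | h5
    · exact hu1 h5
    · simp [h5] at h3
  have : Group.IsNilpotent F := fitting_isNilpotent
  have : IsCyclic F := hFF.isCyclic_of_isNilpotent_of_odd hodd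
  refine ⟨inferInstance, hF1, fun e => huF (by rw [e]; trivial), fun k hk hk1 g hc => ?_⟩
  rcases hQ g with hg | hg
  · rw [(hQ.eq_one_of_commute hc hg (hFπ' k hk)).resolve_right hk1]
    exact F.one_mem
  · have hQ' : PiSplit π ((G ⧸ H) ⧸ F) := hQ.of_surjective _ (QuotientGroup.mk'_surjective F)
    have hcomm : Commute (QuotientGroup.mk' F u) (QuotientGroup.mk' F g) := by
      rw [← commutatorElement_eq_one_iff_commute, ← map_commutatorElement, QuotientGroup.mk'_apply,
        QuotientGroup.eq_one_iff]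
      exact centralizer_fitting_le fun n hn => (commutator_commute_of_isCyclic F _ _ hn).symm
    rcases hQ'.eq_one_of_commute hcomm (huπ.of_dvd (orderOf_map_dvd _ _))
      (hg.of_dvd (orderOf_map_dvd _ _)) with h3 | h3
    · exact absurd ((QuotientGroup.eq_one_iff _).mp h3) huF
    · exact (QuotientGroup.eq_one_iff _).mp h3

end CfsgLib.Frob
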