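import Mathlib
import Cfsg.Agent.Lib.FrobTwo
import Cfsg.Agent.Lib.FrobCharZero
import Cfsg.Agent.Lib.ClassSize2
import Cfsg.Agent.Lib.CoreSolvable
import Cfsg.Agent.Lib.CoreElements
import Cfsg.Agent.Lib.CorePiSep
import Cfsg.Agent.Lib.CoprimeGen
import Cfsg.Agent.Lib.CoprimeSylow
import Cfsg.Agent.Lib.SylowIn
import Cfsg.Agent.Lib.CharFrobenius

/-! Coprime actions with constant centralizers, and TI Hall subgroups. -/

set_option autoImplicit false

namespace CfsgLib.Frob

open Subgroup Cfsg
open scoped commutatorElement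

variable {G : Type*} [Group G]

theorem isSolvable_zpowers (x : G) : Group.IsSolvable (zpowers x) :=
  isSolvable_of_isMulCommutative

theorem isPGroup_of_isPiHallOf [Finite G] {q : ℕ} [Fact q.Prime] {P K : Subgroup G}
    (h : IsPiHallOf {q} P K) : IsPGroup q P :=
  isPGroup_iff_isPiSubgroup.mpr h.2.1

/-- a coprime action on a nilpotent group in which all non-identity elements have the same
(proper) centralizer has a fixed-point-free section -/
theorem hasFPF_of_centralizer_const_nilpotent [Finite G] {A R : Subgroup G}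
    (hAR : A ≤ normalizer (R : Set G)) (hR : Group.IsNilpotent R)
    (hcop : (Nat.card A).Coprime (Nat.card R))
    (hc : ∀ a ∈ A, a ≠ 1 → ∀ k ∈ R, a * k = k * a → k ∈ centralizer (A : Set G))
    (hne : ¬ R ≤ centralizer (A : Set G)) : HasFPF A := by
  set D := R ⊓ centralizer (A : Set G) with hD
  set M := R ⊓ normalizer (D : Set G) with hM
  have hDR : D < R := lt_of_le_of_ne inf_le_left fun e => hne (e ▸ inf_le_right)
  have hDM : D < M := lt_inf_normalizer_of_isNilpotent hR hDR
  have hAD : A ≤ normalizer (D : Set G) := Cop.le_normalizer_inf_centralizer hAR le_normalizer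
  have hAM : A ≤ normalizer (M : Set G) := fun a ha => mem_normalizer_of_conj_mem fun x hx =>
    ⟨conj_mem_of_mem_normalizer (hAR ha) hx.1,
      (normalizer _).mul_mem ((normalizer _).mul_mem (hAD ha) hx.2)
        ((normalizer _).inv_mem (hAD ha))⟩
  have hn : (D.subgroupOf M).Normal := (normal_subgroupOf_iff_le_normalizer hDM.le).mpr inf_le_right
  have hnt : Nontrivial (M ⧸ D.subgroupOf M) := by
    rw [QuotientGroup.nontrivial_iff]
    exact fun e => hDM.not_ge (subgroupOf_eq_top.mp e)
  refine IsFPF.hasFPF (φ := Cop.sectionAction A M D hAM hAD) fun a ha v hv => ?_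
  induction v using QuotientGroup.induction_on with
  | H m =>
    rw [Cop.sectionAction_mk, QuotientGroup.eq] at hv
    rw [QuotientGroup.eq_one_iff]
    have hv' : ((a : G) * m * (a : G)⁻¹)⁻¹ * m ∈ D := hv
    have hle : zpowers (a : G) ≤ A := zpowers_le_of_mem a.2
    have hpow : ∀ b ∈ zpowers (a : G), (m : G)⁻¹ * (b * m * b⁻¹) ∈ D := by
      intro b hb
      obtain ⟨n, rfl⟩ := mem_powers_iff_mem_zpowers.mpr hb
      induction n with
      | zero => simp
      | succ n ih =>
        have h1 := ih ⟨n, by simp⟩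
        have h2 := conj_mem_of_mem_normalizer (hAD a.2) h1
        have h3 := D.mul_mem (D.inv_mem hv') h2
        convert h3 using 1
        simp only [pow_succ']
        group
    obtain ⟨u, hu, hc'⟩ := Cop.exists_mul_mem_centralizer_of_coset (A := zpowers (a : G)) (U := D)
      (hle.trans hAD) ((hcop.coprime_dvd_left (card_dvd_of_le hle)).coprime_dvd_right
        (card_dvd_of_le hDR.le)) (Or.inl (isSolvable_zpowers _)) hpow
    have h4 : (m : G) * u ∈ D := ⟨R.mul_mem m.2.1 hu.1, hc a a.2 (by simpa using ha) _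
      (R.mul_mem m.2.1 hu.1) (hc' a (mem_zpowers _))⟩
    simpa [mem_subgroupOf] using D.mul_mem h4 (D.inv_mem hu)

theorem hasFPF_of_centralizer_const_solvable [Finite G] {A K : Subgroup G}
    (hAK : A ≤ normalizer (K : Set G)) (hcop : (Nat.card A).Coprime (Nat.card K))
    (hs : Group.IsSolvable A ∨ Group.IsSolvable K)
    (hc : ∀ a ∈ A, a ≠ 1 → ∀ k ∈ K, a * k = k * a → k ∈ centralizer (A : Set G))
    (hne : ¬ K ≤ centralizer (A : Set G)) : HasFPF A := by
  by_contra hcon
  refine hne (Cop.le_of_forall_invariant_sylowOf_le hAK hcop hs fun q _ P _ hP hAP => ?_)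
  by_contra hPc
  exact hcon (hasFPF_of_centralizer_const_nilpotent hAP (isPGroup_of_isPiHallOf hP).isNilpotent
    (hcop.coprime_dvd_right (card_dvd_of_le hP.1)) (fun a ha h1 k hk => hc a ha h1 k (hP.1 hk)) hPc)

theorem isSolvable_dihedral [Finite G] {s t : G} (hs : s * s = 1) (ht : t * t = 1) :
    Group.IsSolvable (zpowers s ⊔ zpowers (s * t) : Subgroup G) := by
  refine isSolvable_sup (zpowers_le_of_mem (mem_normalizer_of_conj_mem fun x hx => ?_))
    (isSolvable_zpowers _) (isSolvable_zpowers _)
  obtain ⟨n, rfl⟩ := hx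
  have h1 : s * (s * t) * s⁻¹ = (s * t)⁻¹ := by
    rw [← mul_assoc, hs, one_mul, mul_inv_rev, inv_eq_of_mul_eq_one_right ht]
  refine ⟨-n, ?_⟩
  simp only
  rw [← conj_zpow, h1, inv_zpow']

/-- if `A` acts coprimely and nontrivially on `K` and all non-identity elements of `A` have the same
centralizer in `K`, then `A` is an abstract Frobenius complement (no solvability needed) -/
theorem hasFPF_of_centralizer_const [Finite G] {A K : Subgroup G}
    (hAK : A ≤ normalizer (K : Set G)) (hcop : (Nat.card A).Coprime (Nat.card K))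
    (hc : ∀ a ∈ A, a ≠ 1 → ∀ k ∈ K, a * k = k * a → k ∈ centralizer (A : Set G))
    (hne : ¬ K ≤ centralizer (A : Set G)) : HasFPF A := by
  have hne' : ∀ B : Subgroup G, B ≤ A → B ≠ ⊥ → ¬ K ≤ centralizer (B : Set G) := by
    intro B hB hB1 h
    obtain ⟨⟨b, hb⟩, hb1⟩ := ne_bot_iff_exists_ne_one.mp hB1
    exact hne fun k hk => hc b (hB hb) (by simpa using hb1) k hk (h hk b hb)
  have hsub : ∀ B : Subgroup G, B ≤ A → Group.IsSolvable B → HasFPF B := by
    intro B hB hs
    by_cases hB1 : B = ⊥
    · subst hB1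
      exact hasFPF_of_isCyclic
    · exact hasFPF_of_centralizer_const_solvable (hB.trans hAK)
        (hcop.coprime_dvd_left (card_dvd_of_le hB)) (Or.inl hs)
        (fun a ha h1 k hk e => centralizer_le (by exact hB) (hc a (hB ha) h1 k hk e))
        (hne' B hB hB1)
  rcases Nat.even_or_odd (Nat.card A) with he | ho
  · obtain ⟨t, htA, ht⟩ := exists_orderOf_prime_mem A Nat.prime_two he.two_dvd
    have ht1 : t ≠ 1 := by rintro rfl; simp at ht
    have ht2 : t * t = 1 := by rw [← sq, ← ht, pow_orderOf_eq_one]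
    have hcent : ∀ a ∈ A, a * t * a⁻¹ = t := by
      intro a ha
      have hs2 : (a * t * a⁻¹) * (a * t * a⁻¹) = 1 := by
        calc _ = a * (t * t) * a⁻¹ := by group
          _ = 1 := by rw [ht2]; group
      have hsA : a * t * a⁻¹ ∈ A := A.mul_mem (A.mul_mem ha htA) (A.inv_mem ha)
      have hs1 : a * t * a⁻¹ ≠ 1 := by simpa using ht1
      generalize a * t * a⁻¹ = s at hs2 hsA hs1
      have hB := hsub _ (sup_le (zpowers_le_of_mem hsA) (zpowers_le_of_mem (A.mul_mem hsA htA)))
        (isSolvable_dihedral hs2 ht2)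
      have hsB : s ∈ zpowers s ⊔ zpowers (s * t) := mem_sup_left (mem_zpowers s)
      have htB : t ∈ zpowers s ⊔ zpowers (s * t) := by
        simpa using mul_mem (inv_mem hsB) (mem_sup_right (mem_zpowers (s * t)))
      have := hB.involution_unique (s := ⟨s, hsB⟩) (t := ⟨t, htB⟩) (by simpa using hs1)
        (Subtype.ext hs2) (by simpa using ht1) (Subtype.ext ht2)
      exact congrArg Subtype.val this
    have hT : zpowers t ≤ A := zpowers_le_of_mem htA
    have hTK := hT.trans hAK
    have hcopT : (Nat.card (zpowers t)).Coprime (Nat.card K) :=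
      hcop.coprime_dvd_left (card_dvd_of_le hT)
    by_contra hcon
    refine hne' _ hT (by simpa using ht1) (Cop.le_of_forall_invariant_sylowOf_le hTK hcopT
      (Or.inl (isSolvable_zpowers _)) fun q _ P _ hP hTP => ?_)
    have hAP : A ≤ normalizer (P : Set G) := by
      intro a ha
      have hP' := Hall.isPiHallOf_map_conj hP (hAK ha)
      have hTP' : zpowers t ≤
          normalizer ((P.map (MulAut.conj a).toMonoidHom : Subgroup G) : Set G) := by
        rw [normalizer_map_conj, zpowers_le, ← hcent a ha]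
        exact conj_mem_map_conj (hTP (mem_zpowers t))
      obtain ⟨c, ⟨hcK, hcT⟩, e⟩ := Cop.conj_invariant_sylowOf hTK hcopT
        (Or.inl (isSolvable_zpowers _)) hP hP' hTP hTP'
      have hcA : c ∈ centralizer (A : Set G) := hc t htA ht1 c hcK (hcT t (mem_zpowers t))
      have h1 : c⁻¹ * a ∈ normalizer (P : Set G) := by
        rw [← map_conj_eq_iff_mem_normalizer, map_conj_mul, e, map_conj_inv_map_conj]
      have h2 : Commute c⁻¹ a := (show Commute c a from (hcA a ha).symm).inv_left
      refine zpowers_le_of_mem h1 (mem_zpowers_mul_right_of_coprime h2 ?_)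
      rw [orderOf_inv]
      exact ((hcop.coprime_dvd_left (A.orderOf_dvd_natCard ha)).coprime_dvd_right
        (K.orderOf_dvd_natCard hcK)).symm
    by_contra hPc
    exact hcon (hasFPF_of_centralizer_const_nilpotent hAP (isPGroup_of_isPiHallOf hP).isNilpotent
      (hcop.coprime_dvd_right (card_dvd_of_le hP.1)) (fun a ha h1 k hk => hc a ha h1 k (hP.1 hk))
      fun h => hPc (h.trans (centralizer_le (by exact hT))))
  · have hZ : IsZGroup A := ⟨fun p hp P => by
      have := Fact.mk hp
      by_cases hp2 : p = 2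
      · subst hp2
        obtain ⟨n, hn⟩ := P.isPGroup'.exists_card_eq
        have h1 : Nat.card P ∣ Nat.card A := card_subgroup_dvd_card _
        rcases n with _ | n
        · have : Subsingleton P := (Nat.card_eq_one_iff_unique.mp (by simpa using hn)).1
          infer_instance
        · exact absurd (ho.of_dvd_nat h1) (by rw [hn, pow_succ]; simp)
      · have h1 := hsub ((P : Subgroup A).map A.subtype) (map_subtype_le _)
          (isSolvable_of_isPGroup (P.isPGroup'.map _))
        have h2 : HasFPF P := h1.of_mulEquiv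
          ((P : Subgroup A).equivMapOfInjective _ A.subtype_injective).symm
        have h3 := h2.isCyclic_of_isPGroup hp2 (P := ⊤) (P.isPGroup'.to_subgroup ⊤)
        exact isCyclic_of_surjective topEquiv topEquiv.surjective⟩
    exact hsub A le_rfl inferInstance

/-! ### TI Hall subgroups -/

theorem _root_.Cfsg.IsTISubset.mem_normalizer {H : Subgroup G} (h : IsTISubset (H : Set G))
    {g x : G} (hx : x ∈ H) (h1 : x ≠ 1) (hg : g * x * g⁻¹ ∈ H) : g ∈ normalizer (H : Set G) := by
  by_contra hn
  exact h1 (h g hn x hx hg)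

theorem _root_.Cfsg.IsTISubset.normalizer_le {H : Subgroup G} (h : IsTISubset (H : Set G))
    {S : Subgroup G} (hS : S ≤ H) (h1 : S ≠ ⊥) : normalizer (S : Set G) ≤ normalizer (H : Set G) := by
  intro g hg
  obtain ⟨⟨a, ha⟩, ha1⟩ := ne_bot_iff_exists_ne_one.mp h1
  exact h.mem_normalizer (hS ha) (by simpa using ha1) (hS (conj_mem_of_mem_normalizer hg ha))

/-- a TI subgroup which is a Hall subgroup of its normalizer is a Hall subgroup -/
theorem _root_.Cfsg.IsTISubset.coprime_index [Finite G] {H : Subgroup G}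
    (h : IsTISubset (H : Set G))
    (hH : (Nat.card H).Coprime (H.relIndex (normalizer (H : Set G)))) :
    (Nat.card H).Coprime H.index := by
  refine Nat.coprime_of_dvd fun p hp h1 h2 => ?_
  have := Fact.mk hp
  obtain ⟨S, hS⟩ := IsSylowIn.exists_in (p := p) H
  have hS1 := hS.ne_bot h1
  have hSN : IsSylowIn p S (normalizer (H : Set G)) := by
    refine ⟨hS.le.trans le_normalizer, hS.isPGroup, ?_⟩
    rw [← relIndex_mul_relIndex S H _ hS.le le_normalizer, hp.dvd_mul, not_or]
    exact ⟨hS.not_dvd, fun h3 => hp.one_lt.ne' (Nat.eq_one_of_dvd_coprimes hH h1 h3)⟩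
  have hST : IsSylowIn p S ⊤ := by
    refine IsSylowIn.of_maximal le_top hS.isPGroup fun T hT hST _ => ?_
    by_contra hlt
    have h3 := lt_inf_normalizer_of_isPGroup hT (lt_of_le_not_ge hST hlt)
    exact h3.ne' (hSN.eq_of_le (hT.to_inf_left) h3.le
      (inf_le_right.trans (h.normalizer_le hS.le hS1)))
  refine hST.not_dvd ?_
  rw [← relIndex_mul_relIndex S H _ hS.le le_top, relIndex_top_right]
  exact h2.mul_left _

theorem mem_of_coprime_relIndex {L N : Subgroup G} (hN : N ≤ normalizer (L : Set G)) {x : G}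
    (hx : x ∈ N) (h : (orderOf x).Coprime (L.relIndex N)) : x ∈ L := by
  have hn : (L.subgroupOf N).Normal := normal_subgroupOf_of_le_normalizer hN
  exact mem_of_coprime_index (N := L.subgroupOf N) (x := ⟨x, hx⟩) (by rwa [← orderOf_coe])

/-- an element of `N(H) ∩ N(H)^g`, `g ∉ N(H)`, has order prime to `|H|` -/
theorem _root_.Cfsg.IsTISubset.coprime_orderOf [Finite G] {H : Subgroup G}
    (h : IsTISubset (H : Set G))
    (hH : (Nat.card H).Coprime (H.relIndex (normalizer (H : Set G)))) {g y : G}
    (hg : g ∉ normalizer (H : Set G)) (hy : y ∈ normalizer (H : Set G))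
    (hy' : g * y * g⁻¹ ∈ normalizer (H : Set G)) : (orderOf y).Coprime (Nat.card H) := by
  refine Nat.coprime_of_dvd fun p hp h1 h2 => ?_
  obtain ⟨u, hu, hup⟩ := exists_orderOf_eq_mem_zpowers h1
  have h3 : p.Coprime (H.relIndex (normalizer (H : Set G))) := hH.coprime_dvd_left h2
  have hu1 : u ∈ H := mem_of_coprime_relIndex le_rfl (zpowers_le_of_mem hy hu) (hup ▸ h3)
  have hu2 : g * u * g⁻¹ ∈ H := by
    refine mem_of_coprime_relIndex le_rfl ?_ (by rw [orderOf_conj_eq, hup]; exact h3)
    obtain ⟨n, rfl⟩ := hu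
    simp only
    rw [← conj_zpow]
    exact zpow_mem hy' n
  have := h g hg u hu1 hu2
  rw [this, orderOf_one] at hup
  exact hp.one_lt.ne hup

/-- Wielandt's theorem applied to the normalizer of a TI Hall subgroup -/
theorem _root_.Cfsg.IsTISubset.exists_normal [Finite G] {H : Subgroup G}
    (h : IsTISubset (H : Set G))
    (hH : (Nat.card H).Coprime (H.relIndex (normalizer (H : Set G)))) {L : Subgroup G}
    (hL : L ≤ normalizer (H : Set G)) (hn : normalizer (H : Set G) ≤ normalizer (L : Set G))
    (hi : L.relIndex (normalizer (H : Set G)) ∣ Nat.card H) :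
    ∃ M : Subgroup G, M.Normal ∧ M ⊓ normalizer (H : Set G) = L ∧
      M ⊔ normalizer (H : Set G) = ⊤ := by
  obtain ⟨M, h1, -, h2, h3⟩ := wielandt_frobenius (normalizer (H : Set G)) L hL
    (fun a ha k hk => conj_mem_of_mem_normalizer (hn ha) hk) (fun x hx y hy hxy =>
      mem_of_coprime_relIndex hn hxy ((h.coprime_orderOf hH hx hxy
        (by simpa [mul_assoc] using hy)).coprime_dvd_right hi))
  exact ⟨M, h1, h2, h3⟩

/-- a non-normal TI subgroup `H` normalizing a subgroup `K` of coprime order which it does not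
centralize is an abstract Frobenius complement -/
theorem _root_.Cfsg.IsTISubset.hasFPF [Finite G] {H : Subgroup G} (h : IsTISubset (H : Set G))
    {K : Subgroup G} (hK : H ≤ normalizer (K : Set G)) (hcop : (Nat.card H).Coprime (Nat.card K))
    (hne : ¬ K ≤ normalizer (H : Set G)) : HasFPF H := by
  refine hasFPF_of_centralizer_const hK hcop (fun a ha h1 k hk e => ?_)
    fun hle => hne (hle.trans (centralizer_le_normalizer _))
  have hkN : k ∈ normalizer (H : Set G) := h.mem_normalizer ha h1 (by rw [← e]; simpa using ha)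
  intro b hb
  have h2 : b * k * b⁻¹ * k⁻¹ ∈ H ⊓ K := by
    refine ⟨?_, K.mul_mem (conj_mem_of_mem_normalizer (hK hb) hk) (K.inv_mem hk)⟩
    have := H.mul_mem hb (conj_mem_of_mem_normalizer hkN (H.inv_mem hb))
    simpa [mul_assoc] using this
  rw [(disjoint_of_coprime_natCard hcop).eq_bot, mem_bot] at h2
  calc b * k = b * k * b⁻¹ * k⁻¹ * (k * b) := by group
    _ = k * b := by rw [h2, one_mul]

/-- structure of a `π`-separable group with a non-normal TI Hall `π`-subgroup -/
theorem _root_.Cfsg.IsTISubset.piCore_sup_normalizer [Finite G] {H : Subgroup G}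
    (h : IsTISubset (H : Set G))
    (hH : (Nat.card H).Coprime (H.relIndex (normalizer (H : Set G))))
    (hsep : PiSep {p | p ∣ Nat.card H} G) :
    piCore {p | p ∣ Nat.card H}ᶜ G ⊔ normalizer (H : Set G) = ⊤ := by
  set π : Set ℕ := {p | p ∣ Nat.card H} with hπ
  set O := piCore πᶜ G with hO
  have hHall : IsPiHall π H := Hall.isPiHall_of_coprime (h.coprime_index hH)
  by_cases hOt : O = ⊤
  · rw [hOt, top_sup_eq]
  have hnt : Nontrivial (G ⧸ O) := QuotientGroup.nontrivial_iff.mpr hOt
  have h1 : piCore π (G ⧸ O) ≠ ⊥ :=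
    ((hsep.quotient O).core_ne_bot).resolve_right (not_not.mpr (piCore_quotient_piCore πᶜ))
  set M := (piCore π (G ⧸ O)).comap (QuotientGroup.mk' O) with hM
  have hMle : M ≤ O ⊔ H := by
    have := Hall.piCore_le_hall (Hall.isPiHall_map_of_surjective hHall
      (QuotientGroup.mk'_surjective O))
    refine (comap_mono this).trans ?_
    rw [comap_map_eq, QuotientGroup.ker_mk', sup_comm]
  obtain ⟨p, hp, hpd⟩ := Nat.exists_prime_and_dvd (card_eq_one.not.mpr h1)
  have hpπ : p ∈ π := piCore_isPiSubgroup π p hp hpd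
  have := Fact.mk hp
  obtain ⟨S, hS⟩ := IsSylowIn.exists_in (p := p) H
  have hST : IsSylowIn p S ⊤ := by
    refine ⟨le_top, hS.isPGroup, ?_⟩
    rw [← relIndex_mul_relIndex S H _ hS.le le_top, hp.dvd_mul, not_or, relIndex_top_right]
    exact ⟨hS.not_dvd, hHall.2 p hp hpπ⟩
  have hSM := hST.inf_of_le_normalizer (K := M) le_top (le_normalizer_of_normal)
  have hne := hSM.ne_bot (by rw [hM, card_comap_mk']; exact hpd.mul_right _)
  have h2 := hSM.frattini_le (H := ⊤) le_top le_normalizer_of_normal
  rw [eq_top_iff]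
  refine h2.trans (sup_le (hMle.trans (sup_le_sup_left le_normalizer _)) ?_)
  exact inf_le_right.trans ((h.normalizer_le (inf_le_left.trans hS.le) hne).trans le_sup_right)

end CfsgLib.Frob
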