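import Mathlib
import Cfsg.Agent.Lib.FrobTI
import Cfsg.Agent.Lib.CoprimePGroup

/-! Coprime action on groups with cyclic Sylow subgroups. -/

set_option autoImplicit false

namespace CfsgLib.Frob

open Subgroup Cfsg
open scoped commutatorElement

variable {G : Type*} [Group G]

/-- commutators of elements normalizing a cyclic subgroup centralize it -/
theorem commutator_mem_centralizer_of_isCyclic {D : Subgroup G} [IsCyclic D] {x y : G}
    (hx : x ∈ normalizer (D : Set G)) (hy : y ∈ normalizer (D : Set G)) :
    ⁅x, y⁆ ∈ centralizer (D : Set G) := by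
  have hc : IsCyclic (D.subgroupOf (normalizer (D : Set G))) :=
    isCyclic_of_surjective _ (subgroupOfEquivOfLe (le_normalizer (H := D))).symm.surjective
  intro d hd
  have := commutator_commute_of_isCyclic (D.subgroupOf (normalizer (D : Set G))) ⟨x, hx⟩ ⟨y, hy⟩
    (n := ⟨d, le_normalizer hd⟩) hd
  exact (congrArg Subtype.val this).symm

theorem commutator_le_centralizer_of_isCyclic {D A B : Subgroup G} [IsCyclic D]
    (hA : A ≤ normalizer (D : Set G)) (hB : B ≤ normalizer (D : Set G)) :
    ⁅A, B⁆ ≤ centralizer (D : Set G) :=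
  commutator_le.mpr fun _ ha _ hb => commutator_mem_centralizer_of_isCyclic (hA ha) (hB hb)

theorem isCyclic_of_le {H K : Subgroup G} [IsCyclic K] (h : H ≤ K) : IsCyclic H :=
  isCyclic_of_injective (inclusion h) (inclusion_injective h)

theorem isZGroup_of_le {H K : Subgroup G} [IsZGroup K] (h : H ≤ K) : IsZGroup H :=
  IsZGroup.of_injective (inclusion_injective h)

theorem isCyclic_commutator_self_of_isZGroup [Finite G] (H : Subgroup G) [IsZGroup H] :
    IsCyclic (⁅H, H⁆ : Subgroup G) := by
  rw [← map_subtype_commutator]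
  have := IsZGroup.isCyclic_commutator (G := H)
  exact isCyclic_of_surjective _ ((commutator H).equivMapOfInjective _ H.subtype_injective).surjective

theorem isCyclic_of_isPGroup_of_le [Finite G] {H P : Subgroup G} [IsZGroup H] (h : P ≤ H) {p : ℕ}
    [Fact p.Prime] (hP : IsPGroup p P) : IsCyclic P := by
  have := isZGroup_of_le h
  have := hP.isNilpotent
  infer_instance

/-- in a cyclic subgroup, the solutions of `x ^ p = 1` are the powers of an element of order `p` -/
theorem mem_zpowers_of_isCyclic [Finite G] {P : Subgroup G} [IsCyclic P] {u x : G} (hu : u ∈ P)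
    (hx : x ∈ P) (h : x ^ orderOf u = 1) : x ∈ zpowers u := by
  have h1 : zpowers (⟨x, hx⟩ : P) ≤ zpowers (⟨u, hu⟩ : P) := by
    refine PGrp.le_of_card_dvd_of_isCyclic ?_
    rw [Nat.card_zpowers, Nat.card_zpowers, ← orderOf_coe, ← orderOf_coe]
    exact orderOf_dvd_of_pow_eq_one h
  obtain ⟨n, hn⟩ := h1 (mem_zpowers _)
  exact ⟨n, congrArg Subtype.val hn⟩

/-- the fixed points of a coprime action on a Z-group form a Hall subgroup -/
theorem coprime_relIndex_centralizer_of_isZGroup [Finite G] {A H : Subgroup G} [IsZGroup H]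
    (hA : A ≤ normalizer (H : Set G)) (hcop : (Nat.card A).Coprime (Nat.card H)) :
    (Nat.card (H ⊓ centralizer (A : Set G) : Subgroup G)).Coprime
      ((H ⊓ centralizer (A : Set G)).relIndex H) := by
  refine Nat.coprime_of_dvd fun p hp h1 h2 => ?_
  have := Fact.mk hp
  obtain ⟨u, hu, hup⟩ := exists_orderOf_prime_mem _ hp h1
  obtain ⟨P, hP, hAP, huP⟩ := Cop.exists_invariant_sylowOf_ge (p := p) hA hcop
    (Or.inr inferInstance) (U := zpowers u) (isPGroup_zpowers_iff.mpr ⟨1, by simpa using hup⟩)
    (zpowers_le_of_mem hu.1) (fun a ha => mem_normalizer_of_conj_mem fun x hx => by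
      have : a * x = x * a := zpowers_le_of_mem hu.2 hx a ha
      rw [this]; simpa using hx)
  have hPp := isPGroup_of_isPiHallOf hP
  have hcyc := isCyclic_of_isPGroup_of_le hP.1 hPp
  have h3 := Cop.commutator_eq_bot_of_centralizes_omega_abelian hPp inferInstance hAP
    (hcop.coprime_dvd_right (h1.trans (card_dvd_of_le inf_le_left)))
    (fun x hx e => zpowers_le_of_mem hu.2
      (mem_zpowers_of_isCyclic (huP (mem_zpowers u)) hx (by rwa [hup])))
  rw [commutator_eq_bot_iff_le_centralizer] at h3
  exact hP.2.2 p hp rfl (h2.trans (relIndex_dvd_of_le_left H (le_inf hP.1 h3)))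

theorem isCyclic_commutator_of_isZGroup [Finite G] {A H : Subgroup G} [IsZGroup H]
    (hA : A ≤ normalizer (H : Set G)) : IsCyclic (⁅H, A⁆ : Subgroup G) := by
  have hW : ⁅H, A⁆ ≤ H := Cop.commutator_le_left_of_le_normalizer hA
  have := isCyclic_commutator_self_of_isZGroup H
  have h1 : ⁅H, A⁆ ≤ centralizer ((⁅H, H⁆ : Subgroup G) : Set G) :=
    commutator_le_centralizer_of_isCyclic
      (Cop.le_normalizer_commutator le_normalizer le_normalizer)
      (Cop.le_normalizer_commutator hA hA)
  have h2 : Group.IsNilpotent (⁅H, A⁆ : Subgroup G) := by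
    refine isNilpotent_of_commutator_commutator_eq_bot ?_
    rw [commutator_comm, commutator_eq_bot_iff_le_centralizer]
    exact h1.trans (centralizer_le (by exact commutator_mono hW hW))
  have := isZGroup_of_le hW
  infer_instance

theorem commutator_inf_centralizer_of_isZGroup [Finite G] {A H : Subgroup G} [IsZGroup H]
    (hA : A ≤ normalizer (H : Set G)) (hcop : (Nat.card A).Coprime (Nat.card H)) :
    ⁅H, A⁆ ⊓ centralizer (A : Set G) = ⊥ := by
  have hW : ⁅H, A⁆ ≤ H := Cop.commutator_le_left_of_le_normalizer hA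
  have := isCyclic_commutator_of_isZGroup hA
  have h1 := Cop.commutator_inf_centralizer_eq_bot (A := A) (G := ⁅H, A⁆)
    (Cop.le_normalizer_commutator hA le_normalizer) (hcop.coprime_dvd_right (card_dvd_of_le hW))
    inferInstance
  rwa [Cop.commutator_commutator_eq hA hcop] at h1

end CfsgLib.Frob
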