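import Cfsg.Agent.Lib.H9PLength
import Cfsg.Agent.Lib.CoprimePGroup

/-! # Structure of `O_{p,p'}(G)` in a `p`-soluble group -/

open Subgroup Cfsg
open scoped commutatorElement

namespace CfsgLib.H9

variable {G : Type*} [Group G] {p : ℕ}

/-- `O_{p,p'}(G)` -/
def ppCore (p : ℕ) (G : Type*) [Group G] : Subgroup G :=
  (pPrimeCore p (G ⧸ pCore p G)).comap (QuotientGroup.mk' _)

instance ppCore_normal : (ppCore p G).Normal := by unfold ppCore; infer_instance

theorem pCore_le_ppCore : pCore p G ≤ ppCore p G := by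
  intro x hx
  simp [ppCore, mem_comap, (QuotientGroup.eq_one_iff x).2 hx]

variable [Finite G] [hp : Fact p.Prime]

theorem ppCore_characteristic : (ppCore p G).Characteristic := by
  have := pCore_characteristic (G := G) p
  exact Subgroup.Characteristic.comap_quotient_mk (pPrimeCore_characteristic p)

theorem qSec_ppCore : QSec p (pCore p G) (ppCore p G) := by
  have := (qSec_of_coprime (pPrimeCore_coprime (G := G ⧸ pCore p G) p) ⊥).comap
      (QuotientGroup.mk' (pCore p G))
  rwa [MonoidHom.comap_bot, QuotientGroup.ker_mk'] at this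

theorem mem_ppCore_of_commutator_mem (hG : IsPSolvable p G) {x : G}
    (h : ∀ k ∈ ppCore p G, ⁅x, k⁆ ∈ pCore p G) : x ∈ ppCore p G := by
  refine centralizer_pPrimeCore_le (isPSolvable_quotient hG _) (pCore_quotient_pCore p) ?_
  rw [mem_centralizer_iff]
  intro y hy
  obtain ⟨k, rfl⟩ := QuotientGroup.mk'_surjective _ y
  have := (QuotientGroup.eq_one_iff _).2 (h k hy)
  rw [← QuotientGroup.mk'_apply, map_commutatorElement, commutatorElement_eq_one_iff_mul_comm]
    at this
  exact this.symm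

theorem mem_pCore_of_mem_ppCore {x : G} (hx : x ∈ ppCore p G) {k : ℕ} (h : x ^ p ^ k ∈ pCore p G) :
    x ∈ pCore p G := by
  obtain ⟨m, hm, hxm⟩ := qSec_ppCore x hx
  rw [← QuotientGroup.eq_one_iff] at *
  rw [QuotientGroup.mk_pow] at h hxm
  have h1 := orderOf_dvd_of_pow_eq_one h
  have h2 := orderOf_dvd_of_pow_eq_one hxm
  exact orderOf_eq_one_iff.1 (Nat.eq_one_of_dvd_coprimes (hm.pow_right k) h2 h1)

/-- A complement `K` to `O_p(G)` in `O_{p,p'}(G)` together with the Frattini argument. -/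
theorem exists_ppCore_complement :
    ∃ K : Subgroup G, (Nat.card K).Coprime p ∧ pCore p G ⊔ K = ppCore p G ∧
      ∀ g : G, ∃ u ∈ pCore p G, ∃ n ∈ normalizer (K : Set G), u * n = g := by
  have hn : ppCore p G ≤ normalizer (pCore p G : Set G) := by
    rw [normalizer_eq_top]; exact le_top
  have hi : pCore p G ⊓ ppCore p G = pCore p G := inf_eq_left.2 pCore_le_ppCore
  have hc : ((pCore p G).relIndex (ppCore p G)).Coprime p :=
    qSec_iff_coprime_relIndex.1 qSec_ppCore
  obtain ⟨a, ha⟩ := IsPGroup.iff_card.1 (pCore_isPGroup (G := G) p)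
  obtain ⟨K, h1, h2, h3, h4⟩ := Cop.exists_complement_of_le_normalizer hn
    (by rw [hi, ha]; exact (hc.pow_right a).symm)
  rw [hi] at h3
  refine ⟨K, h4 ▸ hc, h3, fun g => ?_⟩
  have hKn : K ≤ normalizer (pCore p G : Set G) := by
    rw [normalizer_eq_top]; exact le_top
  obtain ⟨n, hn, hle⟩ := Cop.exists_conj_le_of_le_sup (B := K.map (MulAut.conj g).toMonoidHom) hKn
    (by
      rw [h3, ← map_conj_eq_of_normal g (ppCore p G)]
      exact map_mono h1)
    (by rw [card_map_conj, h4, ha]; exact hc.pow_right a)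
    (Or.inr (Cop.solvable_of_isPGroup (pCore_isPGroup p)))
  rw [← map_conj_mul] at hle
  refine ⟨n⁻¹, inv_mem hn, n * g, ?_, by simp⟩
  exact mem_normalizer_of_map_conj_eq (eq_of_le_of_card_le hle (card_map_conj _ _).ge)

/-- a `p`-element centralizing the complement modulo `O_p(G)` lies in `O_p(G)`. -/
theorem mem_pCore_of_commutator_mem (hG : IsPSolvable p G) {K : Subgroup G}
    (hK : pCore p G ⊔ K = ppCore p G) {x : G} {k : ℕ} (hx : x ^ p ^ k ∈ pCore p G)
    (h : ∀ y ∈ K, ⁅x, y⁆ ∈ pCore p G) : x ∈ pCore p G := by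
  refine mem_pCore_of_mem_ppCore (mem_ppCore_of_commutator_mem hG ?_) hx
  intro y hy
  have hKn : K ≤ normalizer (pCore p G : Set G) := by
    rw [normalizer_eq_top]; exact le_top
  rw [← hK, mem_sup_iff_of_le_normalizer' hKn] at hy
  obtain ⟨u, hu, y, hy, rfl⟩ := hy
  have hN : (pCore p G).Normal := inferInstance
  have : ⁅x, u * y⁆ = (x * u * x⁻¹ * u⁻¹) * (u * ⁅x, y⁆ * u⁻¹) := by
    simp only [commutatorElement_def]; group
  rw [this]
  exact mul_mem (mul_mem (hN.conj_mem _ hu _) (inv_mem hu)) (hN.conj_mem _ (h y hy) _)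

end CfsgLib.H9
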