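import Cfsg.Agent.Lib.H9Misc
import Cfsg.Agent.Lib.H9PStruct

/-! # Hall–Higman applied to the upper `p`-series -/

set_option autoImplicit false

namespace CfsgLib.H9

open Subgroup Cfsg
open scoped commutatorElement

variable {G : Type*} [Group G] [Finite G] {p : ℕ} [hp : Fact p.Prime]

/-- the Frattini subgroup of `O_p(G)` as a subgroup of `G` -/
def phiCore (p : ℕ) (G : Type*) [Group G] : Subgroup G :=
  (frattini (pCore p G)).map (pCore p G).subtype

instance phiCore_normal : (phiCore p G).Normal := by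
  have := frattini_characteristic (G := pCore p G)
  unfold phiCore
  infer_instance

omit [Finite G] hp in
theorem phiCore_le : phiCore p G ≤ pCore p G := map_subtype_le _

theorem commutator_pCore_le_phiCore : ⁅pCore p G, pCore p G⁆ ≤ phiCore p G :=
  Cop.commutator_le_frattini_map (pCore_isPGroup p)

theorem pow_mem_phiCore {a : G} (ha : a ∈ pCore p G) : a ^ p ∈ phiCore p G :=
  Cop.pow_mem_frattini_map (pCore_isPGroup p) ha

/-- a `p'`-element acting trivially on `O_p(G) / Φ(O_p(G))` is trivial. -/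
theorem eq_one_of_coprime_of_commutator_mem_phiCore (hG : IsPSolvable p G)
    (h0 : pPrimeCore p G = ⊥) {c : G} (hc : (orderOf c).Coprime p)
    (h : ∀ a ∈ pCore p G, ⁅c, a⁆ ∈ phiCore p G) : c = 1 := by
  have hc' : (Nat.card (zpowers c)).Coprime p := by rwa [Nat.card_zpowers]
  have h1 : ⁅pCore p G, zpowers c⁆ = ⊥ := by
    refine Cop.commutator_eq_bot_of_le_frattini
      (Cop.coprime_card_of_isPGroup hc' (pCore_isPGroup p)) (commutator_le.2 fun a ha b hb => ?_)
    refine commutator_mem_of_mem_zpowers (R := phiCore p G) (le_normalizer_of_normal' ⊤ _ trivial)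
      ?_ hb
    rw [← commutatorElement_inv]
    exact inv_mem (h a ha)
  have h2 : c ∈ pCore p G :=
    centralizer_pCore_le hG h0 (Cop.commutator_eq_bot_iff_le_centralizer'.1 h1 (mem_zpowers c))
  obtain ⟨k, hk⟩ := orderOf_eq_pow_of_mem_isPGroup (pCore_isPGroup p) h2
  exact orderOf_eq_one_iff.1 (Nat.eq_one_of_dvd_coprimes (hc.pow_right k) dvd_rfl hk.dvd)

theorem hh_pCore (hG : IsPSolvable p G) (h0 : pPrimeCore p G = ⊥) {K : Subgroup G}
    (hK : (Nat.card K).Coprime p) (hPK : pCore p G ⊔ K = ppCore p G) {x : G}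
    (hxK : x ∈ normalizer (K : Set G)) {n : ℕ} (h1 : x ^ p ^ n ∉ pCore p G)
    (h2 : x ^ p ^ (n + 1) ∈ pCore p G) {s : ℕ} (hs : s < p ^ (n + 1))
    (h : (∀ a ∈ pCore p G, (fun b => ⁅x, b⁆)^[s] a ∈ phiCore p G) ∨
      (s = p ^ (n + 1) - 1 ∧
        ∀ a ∈ pCore p G, (a * x) ^ p ^ (n + 1) * (x ^ p ^ (n + 1))⁻¹ ∈ phiCore p G)) :
    ∃ q d j m : ℕ, q.Prime ∧ 1 ≤ d ∧ j + m = n + 1 ∧ 1 ≤ m ∧ q ^ d + 1 = p ^ m ∧
      p ^ j * q ^ d ≤ s ∧ ∃ Q : Subgroup G, Q ≤ K ∧ IsPGroup q Q ∧ ¬ IsMulCommutative Q := by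
  refine hh_sec p phiCore_le commutator_pCore_le_phiCore (fun a ha => pow_mem_phiCore ha)
    (le_normalizer_of_normal' _ _) (le_normalizer_of_normal' _ _)
    (le_normalizer_of_normal' ⊤ _ trivial) (le_normalizer_of_normal' ⊤ _ trivial) hxK hK hp.out hK
    (fun a ha => commutator_pCore_le_phiCore (commutator_mem_commutator h2 ha)) ?_ hs
    (h.imp_right fun h => ⟨h.1, Or.inl h.2⟩)
  by_contra hcon
  push Not at hcon
  apply h1
  refine mem_pCore_of_commutator_mem hG hPK (k := 1)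
    (by rwa [pow_one, ← pow_mul, ← pow_succ]) fun y hy => ?_
  have hm : ⁅y, x ^ p ^ n⁆ ∈ K := by
    rw [commutatorElement_def, mul_assoc, mul_assoc, ← mul_assoc (x ^ p ^ n)]
    exact mul_mem hy (conj_mem_of_mem_normalizer (pow_mem hxK _) (inv_mem hy))
  have := eq_one_of_coprime_of_commutator_mem_phiCore hG h0
    (Nat.Coprime.coprime_dvd_left (K.orderOf_dvd_natCard hm) hK) (hcon y hy)
  rw [← commutatorElement_inv, this, inv_one]
  exact one_mem _

/-- all `p`-elements have order dividing `p ^ e` -/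
def PExp (p e : ℕ) (G : Type*) [Group G] : Prop := ∀ (x : G) (k : ℕ), x ^ p ^ k = 1 → x ^ p ^ e = 1

theorem exists_lift_pElement {G' : Type*} [Group G'] (f : G →* G') (x : G) {k : ℕ}
    (h : (f x) ^ p ^ k = 1) : ∃ u ∈ zpowers x, f u = f x ∧ ∃ l, u ^ p ^ l = 1 := by
  obtain ⟨u, hu, h1, h2⟩ := exists_lift_isPiNum f (π := {p}) x
    (IsPiNum.of_dvd ((isPiNum_prime hp.out (Set.mem_singleton p)).pow k) (orderOf_dvd_of_pow_eq_one h))
  obtain ⟨l, hl⟩ := (isPiNum_singleton_iff hp.out (orderOf_pos u).ne').1 h2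
  exact ⟨u, hu, h1, l, by rw [← hl, pow_orderOf_eq_one]⟩

theorem PExp.of_surjective {e : ℕ} (h : PExp p e G) {G' : Type*} [Group G'] (f : G →* G')
    (hf : Function.Surjective f) : PExp p e G' := by
  intro y k hy
  obtain ⟨x, rfl⟩ := hf y
  obtain ⟨u, -, hu, l, hl⟩ := exists_lift_pElement f x hy
  rw [← hu, ← map_pow, h u l hl, map_one]

theorem pExp_of_sylow {e : ℕ} (h : ∀ (P : Sylow p G), ∀ x ∈ (P : Subgroup G), x ^ p ^ e = 1) :
    PExp p e G := by
  intro x k hx
  obtain ⟨l, -, hl⟩ := (Nat.dvd_prime_pow hp.out).1 (orderOf_dvd_of_pow_eq_one hx)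
  obtain ⟨P, hP⟩ := exists_sylow_mem_of_orderOf hl
  exact h P x hP

theorem coprime_of_pExp_zero (h : PExp p 0 G) : (Nat.card G).Coprime p := by
  rw [Nat.coprime_comm, hp.out.coprime_iff_not_dvd]
  intro hd
  obtain ⟨x, hx⟩ := exists_prime_orderOf_dvd_card' p hd
  have := h x 1 (by rw [pow_one, ← hx, pow_orderOf_eq_one])
  rw [pow_zero, pow_one] at this
  rw [this, orderOf_one] at hx
  exact hp.out.one_lt.ne hx

omit [Finite G] hp in
theorem exists_pow_eq_one_of_pow_mem_pCore {x : G} {k : ℕ} (h : x ^ p ^ k ∈ pCore p G) :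
    ∃ l, x ^ p ^ l = 1 := by
  obtain ⟨l, hl⟩ := pCore_isPGroup (G := G) p ⟨_, h⟩
  exact ⟨k + l, by rw [pow_add, pow_mul]; exact congrArg Subtype.val hl⟩

/-- no exceptional situation can occur -/
def NoExc (p e : ℕ) (G : Type*) [Group G] : Prop :=
  ∀ q d m : ℕ, q.Prime → 1 ≤ d → 1 ≤ m → m ≤ e → q ^ d + 1 = p ^ m →
    ∀ Q : Subgroup G, IsPGroup q Q → IsMulCommutative Q

omit hp in
theorem NoExc.of_surjective {e e' : ℕ} (h : NoExc p e G) (he : e' ≤ e) {G' : Type*} [Group G']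
    (f : G →* G') (hf : Function.Surjective f) : NoExc p e' G' := by
  intro q d m hq hd hm hme h1 Q hQ
  have := Fact.mk hq
  obtain ⟨S, -, hS, rfl⟩ := exists_lift_isPGroup f (K := ⊤)
    (by rw [map_top_of_surjective f hf]; exact le_top) hQ
  have := h q d m hq hd hm (hme.trans he) h1 S hS
  infer_instance

theorem pExp_quotient_pCore (hG : IsPSolvable p G) (h0 : pPrimeCore p G = ⊥) {e : ℕ}
    (h1 : PExp p (e + 1) G) (h2 : NoExc p (e + 1) G) : PExp p e (G ⧸ pCore p G) := by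
  obtain ⟨K, hK, hPK, hfr⟩ := exists_ppCore_complement (G := G) (p := p)
  intro y k hy
  obtain ⟨g, rfl⟩ := QuotientGroup.mk_surjective y
  obtain ⟨u, hu, x, hx, rfl⟩ := hfr g
  rw [QuotientGroup.mk_mul, (QuotientGroup.eq_one_iff u).2 hu, one_mul, ← QuotientGroup.mk_pow,
    QuotientGroup.eq_one_iff] at hy ⊢
  have hall : ∀ a ∈ pCore p G, (a * x) ^ p ^ (e + 1) = 1 := by
    intro a ha
    have : (a * x) ^ p ^ k ∈ pCore p G := by
      rw [← QuotientGroup.eq_one_iff, QuotientGroup.mk_pow, QuotientGroup.mk_mul,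
        (QuotientGroup.eq_one_iff a).2 ha, one_mul, ← QuotientGroup.mk_pow,
        QuotientGroup.eq_one_iff]
      exact hy
    obtain ⟨l, hl⟩ := exists_pow_eq_one_of_pow_mem_pCore this
    exact h1 _ l hl
  have hx1 : x ^ p ^ (e + 1) = 1 := by simpa using hall 1 (one_mem _)
  by_contra hne
  obtain ⟨q, d, j, m, hq, hd, hjm, hm, h3, -, Q, -, hQ, hnc⟩ := hh_pCore hG h0 hK hPK hx hne
    (hx1 ▸ one_mem _) (Nat.sub_one_lt (pow_pos hp.out.pos _).ne')
    (Or.inr ⟨rfl, fun a ha => by rw [hall a ha, hx1]; simp⟩)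
  exact hnc (h2 q d m hq hd hm (by omega) h3 Q hQ)

theorem pLengthLE_of_pExp.{u} (e : ℕ) : ∀ {G : Type u} [Group G] [Finite G], IsPSolvable p G →
    PExp p e G → NoExc p e G → PLengthLE p e G := by
  induction e with
  | zero => exact fun _ h _ => pLengthLE_zero_iff.2 (coprime_of_pExp_zero h)
  | succ e ih =>
    intro G _ _ hG h1 h2
    refine pLengthLE_of_quotient_coprime _ (pPrimeCore_coprime p) ?_
    have hG' := isPSolvable_quotient hG (pPrimeCore p G)
    have h1' := h1.of_surjective _ (QuotientGroup.mk'_surjective (pPrimeCore p G))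
    have h2' := h2.of_surjective le_rfl _ (QuotientGroup.mk'_surjective (pPrimeCore p G))
    exact pLengthLE_succ_of_quotient_isPGroup _ (pCore_isPGroup p)
      (ih (isPSolvable_quotient hG' _)
        (pExp_quotient_pCore hG' (pPrimeCore_quotient_pPrimeCore p) h1' h2')
        (h2'.of_surjective (Nat.le_succ e) _ (QuotientGroup.mk'_surjective _)))

end CfsgLib.H9
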