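import Mathlib
import Cfsg.Agent.Lib.CommCalc

/-!
# The Hall–Petrescu formula

Polynomial sequences with respect to a filtration form a group; Taylor expansion of polynomial
sequences gives `x^n y^n = (xy)^n c₂^(n choose 2) ⋯ c_n^(n choose n)` with `c_i ∈ γ_i`.
-/

set_option autoImplicit false

namespace CfsgLib.HallPetrescu

open Subgroup
open scoped commutatorElement

variable {G : Type*} [Group G]

/-- A filtration: a decreasing sequence of subgroups with `⁅F i, F j⁆ ≤ F (i+j)`. -/
structure IsFiltration (F : ℕ → Subgroup G) : Prop where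
  anti : ∀ i, F (i + 1) ≤ F i
  comm : ∀ i j, ∀ x ∈ F i, ∀ y ∈ F j, ⁅x, y⁆ ∈ F (i + j)

/-- The discrete derivative. -/
def der (f : ℕ → G) : ℕ → G := fun n => (f n)⁻¹ * f (n + 1)

/-- Polynomial sequences of weight `i`. -/
def IsPoly (F : ℕ → Subgroup G) (i : ℕ) (f : ℕ → G) : Prop :=
  ∀ j n, der^[j] f n ∈ F (i + j)

theorem IsPoly.der {F : ℕ → Subgroup G} {i : ℕ} {f : ℕ → G} (h : IsPoly F i f) :
    IsPoly F (i + 1) (der f) := fun j n => by
  have := h (j + 1) n
  rwa [Function.iterate_succ_apply, add_comm j, ← add_assoc] at this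

/-- The filtration generated by polynomial sequences. -/
inductive Gen (F : ℕ → Subgroup G) : ℕ → (ℕ → G) → Prop
  | base {i : ℕ} {f : ℕ → G} : IsPoly F i f → Gen F i f
  | mul {i : ℕ} {f g : ℕ → G} : Gen F i f → Gen F i g → Gen F i (f * g)
  | inv {i : ℕ} {f : ℕ → G} : Gen F i f → Gen F i f⁻¹
  | comm {i j : ℕ} {f g : ℕ → G} : Gen F i f → Gen F j g → Gen F (i + j) ⁅f, g⁆
  | mono {i : ℕ} {f : ℕ → G} : Gen F (i + 1) f → Gen F i f

variable {F : ℕ → Subgroup G}

theorem Gen.mono_add {i : ℕ} (j : ℕ) {f : ℕ → G} (h : Gen F (j + i) f) : Gen F i f := by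
  induction j with
  | zero => simpa using h
  | succ j ih => exact ih (Gen.mono (by rwa [add_right_comm] at h))

theorem Gen.conj {i j : ℕ} {f g : ℕ → G} (hf : Gen F i f) (hg : Gen F j g) :
    Gen F i (g * f * g⁻¹) := by
  have : g * f * g⁻¹ = ⁅g, f⁆ * f := by simp [commutatorElement_def]
  rw [this]
  exact ((hg.comm hf).mono_add j).mul hf

theorem Gen.mem (hF : IsFiltration F) {i : ℕ} {f : ℕ → G} (h : Gen F i f) (n : ℕ) : f n ∈ F i := by
  induction h with
  | base h => exact h 0 n
  | mul _ _ h1 h2 => exact mul_mem h1 h2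
  | inv _ h => exact inv_mem h
  | comm _ _ h1 h2 => exact hF.comm _ _ _ h1 _ h2
  | mono _ h => exact hF.anti _ h

theorem Gen.der {i : ℕ} {f : ℕ → G} (h : Gen F i f) : Gen F (i + 1) (der f) := by
  induction h with
  | base h => exact Gen.base h.der
  | @mul i f g _ hg h1 h2 =>
    have : HallPetrescu.der (f * g) = g⁻¹ * HallPetrescu.der f * g⁻¹⁻¹ * HallPetrescu.der g := by
      funext n; simp [HallPetrescu.der, mul_assoc]
    rw [this]
    exact (h1.conj hg.inv).mul h2
  | @inv i f hf h =>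
    have : HallPetrescu.der f⁻¹ = f * (HallPetrescu.der f)⁻¹ * f⁻¹ := by
      funext n; simp [HallPetrescu.der, mul_assoc]
    rw [this]
    exact h.inv.conj hf
  | @comm i j f g hf hg h1 h2 =>
    have : HallPetrescu.der ⁅f, g⁆ =
        (⁅f, g⁆⁻¹ * (f * ⁅HallPetrescu.der f, g * HallPetrescu.der g⁆ * f⁻¹) * ⁅f, g⁆⁻¹⁻¹) *
          (g * ⁅f, HallPetrescu.der g⁆ * g⁻¹) := by
      funext n; simp [HallPetrescu.der, commutatorElement_def, mul_assoc]
    rw [this]
    refine (((?_ : Gen F (i + j + 1) _).conj hf).conj (hf.comm hg).inv).mul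
      ((hf.comm h2).conj hg)
    rw [add_right_comm]
    exact h1.comm (hg.mul h2.mono)
  | mono _ h => exact h.mono

theorem Gen.isPoly (hF : IsFiltration F) {i : ℕ} {f : ℕ → G} (h : Gen F i f) : IsPoly F i f := by
  intro j
  induction j generalizing i f with
  | zero => exact h.mem hF
  | succ j ih =>
    intro n
    rw [Function.iterate_succ_apply, add_comm j, ← add_assoc]
    exact ih h.der n

theorem IsPoly.mul (hF : IsFiltration F) {i : ℕ} {f g : ℕ → G} (hf : IsPoly F i f)
    (hg : IsPoly F i g) : IsPoly F i (f * g) := ((Gen.base hf).mul (Gen.base hg)).isPoly hF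

theorem IsPoly.inv (hF : IsFiltration F) {i : ℕ} {f : ℕ → G} (hf : IsPoly F i f) :
    IsPoly F i f⁻¹ := (Gen.base hf).inv.isPoly hF

theorem isPoly_one (i : ℕ) : IsPoly F i (1 : ℕ → G) := by
  intro j n
  have : der (1 : ℕ → G) = 1 := by funext n; simp [der]
  rw [Function.iterate_fixed this]
  exact one_mem _

theorem isPoly_of_der {i : ℕ} {f : ℕ → G} (h0 : ∀ n, f n ∈ F i) (h : IsPoly F (i + 1) (der f)) :
    IsPoly F i f := by
  intro j n
  rcases j with _ | j
  · exact h0 n
  · rw [Function.iterate_succ_apply, add_comm j, ← add_assoc]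
    exact h j n

theorem IsFiltration.le_add (hF : IsFiltration F) (i j : ℕ) : F (i + j) ≤ F i :=
  antitone_nat_of_succ_le hF.anti (Nat.le_add_right i j)

theorem isPoly_pow_choose (hF : IsFiltration F) (m : ℕ) {i : ℕ} {g : G} (hg : g ∈ F (i + m)) :
    IsPoly F i fun n => g ^ n.choose m := by
  induction m generalizing i with
  | zero =>
    refine isPoly_of_der (fun n => by simpa using hg) ?_
    have : der (fun n : ℕ => g ^ n.choose 0) = 1 := by funext n; simp [der]
    rw [this]
    exact isPoly_one _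
  | succ m ih =>
    refine isPoly_of_der (fun n => pow_mem (hF.le_add _ _ hg) _) ?_
    have : der (fun n : ℕ => g ^ n.choose (m + 1)) = fun n => g ^ n.choose m := by
      funext n
      simp only [der]
      rw [Nat.choose_succ_succ', add_comm (n.choose m), pow_add, inv_mul_cancel_left]
    rw [this]
    exact ih (by rwa [add_right_comm])

theorem isPoly_pow (hF : IsFiltration F) {g : G} (hg : g ∈ F 1) : IsPoly F 0 fun n => g ^ n := by
  simpa using isPoly_pow_choose hF 1 (i := 0) (by simpa using hg)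

theorem IsPoly.mem_of_vanish {i : ℕ} {f : ℕ → G} (h : IsPoly F i f) (m : ℕ)
    (h0 : ∀ n < m, f n = 1) : f m ∈ F (i + m) := by
  induction m generalizing i f with
  | zero => exact h 0 0
  | succ m ih =>
    have := ih h.der fun n hn => by
      simp only [HallPetrescu.der]
      rw [h0 n (by omega), h0 (n + 1) (by omega)]; simp
    simp only [HallPetrescu.der] at this
    rwa [h0 m (by omega), inv_one, one_mul, add_right_comm] at this

/-- remainders in the Taylor expansion -/
def rem (f : ℕ → G) : ℕ → ℕ → G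
  | 0 => f
  | m + 1 => (fun n => (rem f m m) ^ n.choose m)⁻¹ * rem f m

theorem rem_vanish (f : ℕ → G) (m n : ℕ) (h : n < m) : rem f m n = 1 := by
  induction m with
  | zero => omega
  | succ m ih =>
    simp only [rem, Pi.mul_apply, Pi.inv_apply]
    rcases Nat.lt_succ_iff_lt_or_eq.mp h with h | rfl
    · rw [ih h, Nat.choose_eq_zero_of_lt h]; simp
    · simp

theorem IsPoly.rem (hF : IsFiltration F) {i : ℕ} {f : ℕ → G} (h : IsPoly F i f) (m : ℕ) :
    IsPoly F i (rem f m) := by
  induction m with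
  | zero => exact h
  | succ m ih =>
    exact ((isPoly_pow_choose hF m (ih.mem_of_vanish m (rem_vanish f m))).inv hF).mul hF ih

theorem prod_mul_rem (f : ℕ → G) (m n : ℕ) :
    ((List.range m).map fun k => (rem f k k) ^ n.choose k).prod * rem f m n = f n := by
  induction m with
  | zero => simp [rem]
  | succ m ih =>
    rw [List.range_succ, List.map_append, List.prod_append, ← ih]
    simp [rem, mul_assoc]

/-- Taylor expansion of a polynomial sequence. -/
theorem IsPoly.taylor (hF : IsFiltration F) {i : ℕ} {f : ℕ → G} (h : IsPoly F i f) :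
    ∃ c : ℕ → G, (∀ k, c k ∈ F (i + k)) ∧
      ∀ n, f n = ((List.range (n + 1)).map fun k => c k ^ n.choose k).prod := by
  refine ⟨fun k => HallPetrescu.rem f k k,
    fun k => (h.rem hF k).mem_of_vanish k (rem_vanish f k), fun n => ?_⟩
  rw [← prod_mul_rem f (n + 1) n, rem_vanish f _ _ (Nat.lt_succ_self n), mul_one]

theorem isPoly_prod_pow (hF : IsFiltration F) (l : List G) (hl : ∀ x ∈ l, x ∈ F 1) :
    IsPoly F 0 fun n => (l.map (· ^ n)).prod := by
  induction l with
  | nil => exact isPoly_one 0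
  | cons x l ih =>
    exact (isPoly_pow hF (hl x (by simp))).mul hF (ih fun y hy => hl y (by simp [hy]))

/-- **Hall–Petrescu formula** for a filtration. -/
theorem hall_petrescu_filtration (hF : IsFiltration F) (l : List G) (hl : ∀ x ∈ l, x ∈ F 1) :
    ∃ c : ℕ → G, (∀ k, c k ∈ F (k + 2)) ∧ ∀ n, (l.map (· ^ n)).prod =
      l.prod ^ n * ((List.range (n - 1)).map fun k => c k ^ n.choose (k + 2)).prod := by
  obtain ⟨c, hc, h⟩ := (isPoly_prod_pow hF l hl).taylor hF
  have h0 : c 0 = 1 := by simpa using (h 0).symm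
  have h1 : c 1 = l.prod := by simpa [List.range_succ, h0] using (h 1).symm
  refine ⟨fun k => c (k + 2), fun k => by simpa using hc (k + 2), fun n => ?_⟩
  rw [h n]
  rcases n with _ | n
  · simp [h0]
  · rw [List.range_succ_eq_map, List.range_succ_eq_map]
    simp [h0, h1, Function.comp_def]

theorem isFiltration_lcs (H : Subgroup G) : IsFiltration fun i => H.lowerCentralSeries (i - 1) where
  anti _ := H.lowerCentralSeries_antitone (by omega)
  comm i j x hx y hy :=
    H.lowerCentralSeries_antitone (by omega) (CommCalc.commutator_mem_lcs hx hy)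

/-- **Hall–Petrescu formula**: `x₁^n ⋯ x_r^n = (x₁ ⋯ x_r)^n c₂^(n choose 2) ⋯ c_n^(n choose n)`;
here `c k` stands for `c_(k+2) ∈ γ_(k+2)(H) = H.lowerCentralSeries (k+1)`. -/
theorem hall_petrescu_list (H : Subgroup G) (l : List G) (hl : ∀ x ∈ l, x ∈ H) :
    ∃ c : ℕ → G, (∀ k, c k ∈ H.lowerCentralSeries (k + 1)) ∧ ∀ n, (l.map (· ^ n)).prod =
      l.prod ^ n * ((List.range (n - 1)).map fun k => c k ^ n.choose (k + 2)).prod :=
  hall_petrescu_filtration (isFiltration_lcs H) l hl

theorem hall_petrescu (H : Subgroup G) {x y : G} (hx : x ∈ H) (hy : y ∈ H) :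
    ∃ c : ℕ → G, (∀ k, c k ∈ H.lowerCentralSeries (k + 1)) ∧ ∀ n, x ^ n * y ^ n =
      (x * y) ^ n * ((List.range (n - 1)).map fun k => c k ^ n.choose (k + 2)).prod := by
  simpa using hall_petrescu_list H [x, y] (by simp [hx, hy])

/-- Membership form: `((xy)^n)⁻¹ x^n y^n` lies in any subgroup containing the
`(n choose (k+2))`-th powers of the elements of `F (k+2)`, `k + 2 ≤ n`. -/
theorem inv_mul_pow_mul_mem (hF : IsFiltration F) {x y : G} (hx : x ∈ F 1) (hy : y ∈ F 1) (n : ℕ)
    (N : Subgroup G) (hN : ∀ k, 2 ≤ k → k ≤ n → ∀ c ∈ F k, c ^ n.choose k ∈ N) :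
    ((x * y) ^ n)⁻¹ * (x ^ n * y ^ n) ∈ N := by
  obtain ⟨c, hc, h⟩ := hall_petrescu_filtration hF [x, y] (by simp [hx, hy])
  have := h n
  simp only [List.map_cons, List.map_nil, List.prod_cons, List.prod_nil, mul_one] at this
  rw [this, inv_mul_cancel_left]
  refine N.list_prod_mem fun z hz => ?_
  obtain ⟨k, hk, rfl⟩ := List.mem_map.mp hz
  exact hN _ (by omega) (by have := List.mem_range.mp hk; omega) _ (hc k)

theorem prime_pow_dvd_choose {p : ℕ} (hp : p.Prime) (n : ℕ) {k : ℕ} (hk : ¬ p ∣ k) :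
    p ^ n ∣ (p ^ n).choose k := by
  obtain ⟨j, rfl⟩ : ∃ j, k = j + 1 := ⟨k - 1, by
    rcases k with _ | k
    · simp at hk
    · rfl⟩
  obtain ⟨m, hm⟩ : ∃ m, p ^ n = m + 1 := ⟨p ^ n - 1, by have := pow_pos hp.pos n; omega⟩
  have h := Nat.add_one_mul_choose_eq m j
  rw [← hm] at h
  exact (Nat.Coprime.pow_left n ((Nat.Prime.coprime_iff_not_dvd hp).mpr hk)).dvd_of_dvd_mul_right
    ⟨_, h.symm⟩

/-- `(xy)^p ≡ x^p y^p` modulo `℧₁(H') γ_p(H)`. -/
theorem inv_mul_pow_prime_mem {p : ℕ} (hp : p.Prime) (H : Subgroup G) {x y : G} (hx : x ∈ H)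
    (hy : y ∈ H) (N : Subgroup G) (h1 : ∀ c ∈ ⁅H, H⁆, c ^ p ∈ N)
    (h2 : H.lowerCentralSeries (p - 1) ≤ N) : ((x * y) ^ p)⁻¹ * (x ^ p * y ^ p) ∈ N := by
  refine inv_mul_pow_mul_mem (isFiltration_lcs H) hx hy p N fun k hk hkp c hc => ?_
  rcases hkp.lt_or_eq with h | rfl
  · obtain ⟨d, hd⟩ := hp.dvd_choose_self (by omega : k ≠ 0) h
    rw [hd, pow_mul]
    exact pow_mem (h1 c (H.lowerCentralSeries_antitone (by omega : 1 ≤ k - 1) hc)) _
  · exact pow_mem (h2 hc) _

end CfsgLib.HallPetrescu
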