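import Mathlib
import Cfsg.Prelude.Def_PLocal
import Cfsg.Agent.Lib.CommCalc
import Cfsg.Agent.Lib.BurnsideBasis
import Cfsg.Agent.Lib.HallPetrescu

/-!
# Regular `p`-groups
-/

set_option autoImplicit false

namespace CfsgLib.Regular

open Subgroup Cfsg
open scoped commutatorElement

variable {G : Type*} [Group G] {p : ℕ}

theorem isRegular_of_class_lt [hp : Fact p.Prime] (hG : IsPGroup p G)
    (hcl : ∀ a b : G, (closure ({a, b} : Set G)).lowerCentralSeries (p - 1) = ⊥) :
    IsRegularPGroup p G := by
  refine ⟨hG, fun a b n => ?_⟩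
  set H := closure ({a, b} : Set G)
  have ha : a ∈ H := subset_closure (by simp)
  have hb : b ∈ H := subset_closure (by simp)
  have := HallPetrescu.inv_mul_pow_mul_mem (HallPetrescu.isFiltration_lcs H) ha hb (p ^ n)
    (powerClosure p n ⁅H, H⁆) fun k hk _ c hc => by
      by_cases h : p ∣ k
      · have : c = 1 := by
          have hle := Nat.le_of_dvd (by omega) h
          have := H.lowerCentralSeries_antitone (by omega : p - 1 ≤ k - 1) hc
          rwa [hcl, mem_bot] at this
        rw [this, one_pow]; exact one_mem _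
      · obtain ⟨d, hd⟩ := HallPetrescu.prime_pow_dvd_choose hp.out n h
        rw [hd, pow_mul]
        refine pow_mem (Subgroup.subset_closure ?_) _
        exact ⟨c, H.lowerCentralSeries_antitone (by omega : 1 ≤ k - 1) hc, rfl⟩
  exact ⟨_, inv_mem this, by group⟩

/-- a proper subgroup of a `p`-subgroup `H` lies in a proper subgroup containing `⁅H, H⁆`. -/
theorem sup_commutator_lt [Finite G] [Fact p.Prime] {H K : Subgroup G} (hH : IsPGroup p H)
    (hKH : K < H) : K ⊔ ⁅H, H⁆ < H := by
  refine lt_of_le_of_ne (sup_le hKH.le (commutator_le_self H)) fun h => hKH.ne ?_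
  have h1 : K.subgroupOf H ⊔ frattini H = ⊤ := by
    rw [eq_top_iff]
    refine le_trans ?_ (sup_le_sup_left (BurnsideBasis.commutator_le_frattini hH) _)
    apply (map_le_map_iff_of_injective H.subtype_injective).mp
    rw [Subgroup.map_sup, map_subtype_commutator, subgroupOf_map_subtype, inf_eq_left.mpr hKH.le, h,
      ← MonoidHom.range_eq_map, subtype_range]
  have := frattini_nongenerating h1
  exact le_antisymm hKH.le (subgroupOf_eq_top.mp this)

theorem commutator_closure_pair_le {a b : G} {N : Subgroup G}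
    (hN : closure ({a, b} : Set G) ≤ normalizer (N : Set G)) (h : ⁅a, b⁆ ∈ N) :
    ⁅closure ({a, b} : Set G), closure ({a, b} : Set G)⁆ ≤ N := by
  refine CommCalc.commutator_closure_closure_le (subset_closure.trans hN)
    (subset_closure.trans hN) ?_
  rintro s (rfl | rfl) t (rfl | rfl)
  · simp
  · exact h
  · rw [← commutatorElement_inv]; exact inv_mem h
  · simp

section

variable [Finite G] [Fact p.Prime] (hG : IsRegularPGroup p G) (k : ℕ)
include hG

theorem pow_eq_pow_iff_aux (H : Subgroup G) :
    ∀ a ∈ H, ∀ b ∈ H, a ^ p ^ k = b ^ p ^ k ↔ (a * b⁻¹) ^ p ^ k = 1 := by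
  induction H using WellFoundedLT.induction with
  | ind H ih =>
  -- key: if `u^q` commutes with `v` and `H = ⟨u, v⟩` then `(uv)^q = u^q v^q`
  have key : ∀ u v : G, closure ({u, v} : Set G) = H → Commute (u ^ p ^ k) v →
      (u * v) ^ p ^ k = u ^ p ^ k * v ^ p ^ k := by
    intro u v hH huv
    have hu : u ∈ H := hH ▸ subset_closure (by simp)
    have hv : v ∈ H := hH ▸ subset_closure (by simp)
    by_cases hc : zpowers u = H
    · obtain ⟨m, rfl⟩ : v ∈ zpowers u := hc ▸ hv
      exact (Commute.self_zpow u m).mul_pow _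
    have hlt := sup_commutator_lt (hG.1.to_subgroup H)
      (lt_of_le_of_ne ((zpowers_le).mpr hu) hc)
    set M := zpowers u ⊔ ⁅H, H⁆
    have huM : u ∈ M := mem_sup_left (mem_zpowers u)
    have h1 : ⁅u, v⁆ ^ p ^ k = 1 := by
      have e : ⁅u, v⁆ = u * (v * u * v⁻¹)⁻¹ := by simp only [commutatorElement_def]; group
      have hm : v * u * v⁻¹ ∈ M := by
        have : v * u * v⁻¹ = ⁅v, u⁆ * u := by simp only [commutatorElement_def]; group
        rw [this]
        exact mul_mem (mem_sup_right (commutator_mem_commutator hv hu)) huM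
      rw [e, ← ih M hlt u huM _ hm, conj_pow, ← huv.eq, mul_inv_cancel_right]
    let N : Subgroup G :=
      { carrier := {x | x ∈ ⁅H, H⁆ ∧ x ^ p ^ k = 1}
        one_mem' := ⟨one_mem _, one_pow _⟩
        mul_mem' := fun {x y} hx hy => ⟨mul_mem hx.1 hy.1, by
          have := (ih M hlt x (mem_sup_right hx.1) y⁻¹ (mem_sup_right (inv_mem hy.1))).mp
            (by rw [inv_pow, hx.2, hy.2, inv_one])
          rwa [inv_inv] at this⟩
        inv_mem' := fun {x} hx => ⟨inv_mem hx.1, by rw [inv_pow, hx.2, inv_one]⟩ }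
    have hN : H ≤ normalizer (N : Set G) := fun g hg => by
      apply mem_normalizer_fintype
      intro x hx
      exact ⟨(mem_normalizer_iff.mp (normalizer_commutator_ge_left H H hg) x).mp hx.1,
        by rw [conj_pow, hx.2]; group⟩
    have h2 : ⁅H, H⁆ ≤ N := by
      have := commutator_closure_pair_le (N := N) (hH ▸ hN)
        ⟨commutator_mem_commutator hu hv, h1⟩
      rwa [hH] at this
    obtain ⟨c, hc, e⟩ := hG.2 u v k
    have : c = 1 := by
      rw [hH] at hc
      have : powerClosure p k ⁅H, H⁆ ≤ ⊥ := (closure_le _).mpr (by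
        rintro _ ⟨x, hx, rfl⟩; exact (h2 hx).2)
      exact this hc
    rw [e, this, mul_one]
  intro a ha b hb
  have hle : closure ({a, b} : Set G) ≤ H := (closure_le _).mpr (by
    rintro _ (rfl | rfl) <;> assumption)
  rcases hle.lt_or_eq with hlt | heq
  · exact ih _ hlt a (subset_closure (by simp)) b (subset_closure (by simp))
  have ha' : a ∈ closure ({a, b} : Set G) := subset_closure (by simp)
  have hb' : b ∈ closure ({a, b} : Set G) := subset_closure (by simp)
  constructor
  · intro h
    rw [key a b⁻¹ ?_ (h ▸ (Commute.refl b).inv_right.pow_left _), h, inv_pow, mul_inv_cancel]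
    rw [← heq]
    apply le_antisymm <;> rw [closure_le] <;> rintro _ (rfl | rfl)
    · exact ha'
    · exact inv_mem hb'
    · exact subset_closure (by simp)
    · exact (inv_mem_iff (x := _)).mp (subset_closure (by simp))
  · intro h
    have := key (a * b⁻¹) b ?_ (h ▸ Commute.one_left b)
    · rwa [h, inv_mul_cancel_right, one_mul] at this
    rw [← heq]
    apply le_antisymm <;> rw [closure_le] <;> rintro x (rfl | rfl)
    · exact mul_mem ha' (inv_mem hb')
    · exact hb'
    · have h1 : x * b⁻¹ ∈ closure ({x * b⁻¹, b} : Set G) := subset_closure (by simp)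
      have h2 : b ∈ closure ({x * b⁻¹, b} : Set G) := subset_closure (by simp)
      simpa using mul_mem h1 h2
    · exact subset_closure (by simp)

theorem pow_eq_pow_iff (a b : G) : a ^ p ^ k = b ^ p ^ k ↔ (a * b⁻¹) ^ p ^ k = 1 :=
  pow_eq_pow_iff_aux hG k ⊤ a (mem_top a) b (mem_top b)

theorem mul_pow_eq_one {a b : G} (ha : a ^ p ^ k = 1) (hb : b ^ p ^ k = 1) :
    (a * b) ^ p ^ k = 1 := by
  have := (pow_eq_pow_iff hG k a b⁻¹).mp (by rw [inv_pow, ha, hb, inv_one])
  rwa [inv_inv] at this

theorem commute_pow_iff (a b : G) : Commute (a ^ p ^ k) b ↔ ⁅a, b⁆ ^ p ^ k = 1 := by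
  have e : ⁅a, b⁆ = a * (b * a * b⁻¹)⁻¹ := by simp only [commutatorElement_def]; group
  rw [e, ← pow_eq_pow_iff hG, conj_pow, eq_mul_inv_iff_mul_eq, commute_iff_eq]

/-- the subgroup of elements of order dividing `p^k` in a regular `p`-group -/
def omega : Subgroup G where
  carrier := {x | x ^ p ^ k = 1}
  one_mem' := one_pow _
  mul_mem' := mul_pow_eq_one hG k
  inv_mem' := fun {x} hx => by
    simp only [Set.mem_ofPred_eq] at hx ⊢
    rw [inv_pow, hx, inv_one]

theorem mem_omega {x : G} : x ∈ omega hG k ↔ x ^ p ^ k = 1 := Iff.rfl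

theorem omega_characteristic : (omega hG k).Characteristic := by
  rw [characteristic_iff_le_comap]
  intro φ x hx
  rw [mem_comap, mem_omega, ← map_pow, (mem_omega hG k).mp hx, map_one]

end

end CfsgLib.Regular
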