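import Mathlib
import Cfsg.Prelude.Def_OddOrderLocal
import Cfsg.Agent.Lib.PGroupDihQuat
import Cfsg.Agent.Lib.H1Pairing

/-! Metacyclic `p`-groups for odd `p`: symplectic coordinates on `G / Z(G)`. -/

set_option autoImplicit false

namespace CfsgLib.PGrp

open Subgroup Finset
open scoped commutatorElement

variable {G : Type*} [Group G] {p : ℕ}

theorem pow_dvd_geom_sum_iff [hp : Fact p.Prime] (hp2 : p ≠ 2) {r : ℤ} (hr : (p : ℤ) ∣ r - 1)
    (s j : ℕ) : (p : ℤ) ^ s ∣ ∑ t ∈ range j, r ^ t ↔ p ^ s ∣ j := by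
  by_cases h1 : r = 1
  · subst h1
    simp only [one_pow, sum_const, card_range, nsmul_eq_mul, mul_one]
    exact_mod_cast Iff.rfl
  have hpr : ¬ (p : ℤ) ∣ r := by
    intro h
    have := (dvd_sub_right h).1 hr
    exact (Nat.prime_iff_prime_int.1 hp.out).not_dvd_one this
  have h2 := Int.emultiplicity_pow_sub_pow hp.out (hp.out.odd_of_ne_two hp2) (x := r) (y := 1)
    hr hpr j
  rw [one_pow, ← geom_sum_mul, emultiplicity_mul (Nat.prime_iff_prime_int.1 hp.out),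
    add_comm] at h2
  have hfin : emultiplicity (p : ℤ) (r - 1) ≠ ⊤ := by
    rw [← finiteMultiplicity_iff_emultiplicity_ne_top, Int.finiteMultiplicity_iff]
    exact ⟨by simpa using hp.out.ne_one, sub_ne_zero.2 h1⟩
  have h3 := WithTop.add_left_cancel hfin h2
  rw [pow_dvd_iff_le_emultiplicity, pow_dvd_iff_le_emultiplicity, h3]

theorem geom_sum_zmod_surjective [hp : Fact p.Prime] (hp2 : p ≠ 2) {r : ℤ} (hr : (p : ℤ) ∣ r - 1)
    (n : ℕ) (t : ZMod (p ^ n)) : ∃ j : ℕ, ((∑ i ∈ range j, r ^ i : ℤ) : ZMod (p ^ n)) = t := by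
  have : NeZero (p ^ n) := ⟨pow_ne_zero _ hp.out.ne_zero⟩
  have hpr : ¬ (p : ℤ) ∣ r := by
    intro h
    have := (dvd_sub_right h).1 hr
    exact (Nat.prime_iff_prime_int.1 hp.out).not_dvd_one this
  let f : Fin (p ^ n) → ZMod (p ^ n) := fun j => ((∑ i ∈ range j, r ^ i : ℤ) : ZMod (p ^ n))
  have key : ∀ j l : Fin (p ^ n), (j : ℕ) ≤ l → f j = f l → j = l := by
    intro j l hjl h
    obtain ⟨d, hd⟩ := Nat.exists_eq_add_of_le hjl
    simp only [f] at h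
    rw [ZMod.intCast_eq_intCast_iff_dvd_sub, hd, sum_range_add, add_sub_cancel_left] at h
    simp_rw [pow_add] at h
    rw [← mul_sum, Nat.cast_pow] at h
    have h2 := (Nat.prime_iff_prime_int.1 hp.out).pow_dvd_of_dvd_mul_left n
      (fun h' => hpr ((Nat.prime_iff_prime_int.1 hp.out).dvd_of_dvd_pow h')) h
    rw [pow_dvd_geom_sum_iff hp2 hr] at h2
    have h3 : d = 0 := Nat.eq_zero_of_dvd_of_lt h2 (by have := l.2; omega)
    exact Fin.ext (by omega)
  have hf : Function.Injective f := fun j l h =>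
    (le_total (j : ℕ) l).elim (fun h' => key j l h' h) fun h' => (key l j h' h.symm).symm
  obtain ⟨j, hj⟩ := ((Fintype.bijective_iff_injective_and_card f).2 ⟨hf, by simp⟩).2 t
  exact ⟨j, hj⟩

theorem exists_metacyclic_gens [Finite G] [hp : Fact p.Prime] (hG : IsPGroup p G)
    (hmc : Cfsg.IsMetacyclic G) : ∃ (a b : G) (r : ℤ), (p : ℤ) ∣ r - 1 ∧ b * a * b⁻¹ = a ^ r ∧
      ∀ g, ∃ (i : ℤ) (j : ℕ), g = a ^ i * b ^ j := by
  obtain ⟨N, hN, h1, h2⟩ := hmc
  obtain ⟨a, rfl⟩ := (Subgroup.isCyclic_iff_exists_zpowers_eq_top N).1 h1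
  obtain ⟨b', hb'⟩ := IsCyclic.exists_monoid_generator (α := G ⧸ zpowers a)
  obtain ⟨b, rfl⟩ := QuotientGroup.mk_surjective b'
  have h3 : ∀ g, ∃ (i : ℤ) (j : ℕ), g = a ^ i * b ^ j := by
    intro g
    obtain ⟨j, hj⟩ := hb' (g : G ⧸ zpowers a)
    have hj' : ((b ^ j : G) : G ⧸ zpowers a) = g := hj
    rw [QuotientGroup.eq] at hj'
    have := hN.conj_mem _ hj' (b ^ j)
    obtain ⟨i, hi⟩ := mem_zpowers_iff.1 this
    exact ⟨i, j, by rw [hi]; group⟩
  by_cases ha : a = 1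
  · exact ⟨a, b, 1, by simp, by simp [ha], h3⟩
  obtain ⟨r, hr⟩ := exists_conj_eq_zpow (x := a) b
  refine ⟨a, b, r, ?_, hr, h3⟩
  obtain ⟨k, hk⟩ := hG b
  have h4 := pow_conj_of_conj hr (p ^ k)
  rw [hk, one_mul, inv_one, mul_one, eq_comm, ← mul_inv_eq_one, ← zpow_sub_one,
    ← orderOf_dvd_iff_zpow_eq_one] at h4
  obtain ⟨m, hm⟩ := (IsPGroup.iff_orderOf.1 hG) a
  have h5 : (p : ℤ) ∣ orderOf a := by
    rw [hm]
    refine Int.natCast_dvd_natCast.2 (dvd_pow_self _ ?_)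
    rintro rfl
    exact ha (orderOf_eq_one_iff.1 hm)
  have h6 := h5.trans h4
  rw [← ZMod.intCast_zmod_eq_zero_iff_dvd] at h6 ⊢
  push_cast at h6 ⊢
  rwa [ZMod.pow_card_pow] at h6

theorem commutatorElement_metacyclic {a b : G} {r : ℤ} (hr : b * a * b⁻¹ = a ^ r) (i k : ℤ)
    (j l : ℕ) : ⁅a ^ i * b ^ j, a ^ k * b ^ l⁆ =
      (a ^ (r - 1)) ^ (k * ∑ t ∈ range j, r ^ t - i * ∑ t ∈ range l, r ^ t) := by
  have h1 := conj_zpow_of_conj (pow_conj_of_conj hr j) k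
  have h2 := conj_zpow_of_conj (pow_conj_of_conj hr l) (-i)
  have h3 : ⁅a ^ i * b ^ j, a ^ k * b ^ l⁆ =
      a ^ i * (b ^ j * a ^ k * (b ^ j)⁻¹) * (b ^ l * a ^ (-i) * (b ^ l)⁻¹) * a ^ (-k) := by
    rw [commutatorElement_def]
    group
  rw [h3, h1, h2, ← zpow_add, ← zpow_add, ← zpow_add, ← zpow_mul]
  congr 1
  have h4 := geom_sum_mul r j
  have h5 := geom_sum_mul r l
  linear_combination (-k) * h4 + i * h5

theorem mul_metacyclic {a b : G} {r : ℤ} (hr : b * a * b⁻¹ = a ^ r) (i k : ℤ) (j l : ℕ) :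
    a ^ i * b ^ j * (a ^ k * b ^ l) = a ^ (i + r ^ j * k) * b ^ (j + l) := by
  rw [zpow_add, ← conj_zpow_of_conj (pow_conj_of_conj hr j) k]
  group

theorem pow_metacyclic {a b : G} {r : ℤ} (hr : b * a * b⁻¹ = a ^ r) (i : ℤ) (j m : ℕ) :
    (a ^ i * b ^ j) ^ m = a ^ (i * ∑ t ∈ range m, (r ^ j) ^ t) * b ^ (j * m) := by
  induction m with
  | zero => simp
  | succ m ih =>
    rw [pow_succ', ih, mul_metacyclic hr, geom_sum_succ]
    congr 2 <;> ring

theorem commutator_eq_zpowers_metacyclic {a b : G} {r : ℤ} (hr : b * a * b⁻¹ = a ^ r)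
    (hg : ∀ g, ∃ (i : ℤ) (j : ℕ), g = a ^ i * b ^ j) :
    _root_.commutator G = zpowers (a ^ (r - 1)) := by
  apply le_antisymm
  · rw [_root_.commutator_def, commutator_le]
    intro x _ y _
    obtain ⟨i, j, rfl⟩ := hg x
    obtain ⟨k, l, rfl⟩ := hg y
    rw [commutatorElement_metacyclic hr]
    exact zpow_mem_zpowers _ _
  · rw [zpowers_le]
    have : a ^ (r - 1) = ⁅b, a⁆ := by rw [commutatorElement_def, hr, zpow_sub_one]
    rw [this]
    exact commutator_mem_commutator (mem_top _) (mem_top _)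

/-- Coordinates on a metacyclic `p`-group with derived group of order `p ^ n`: a surjective
cocycle to `(ℤ / p ^ n)²` under which commuting becomes vanishing of the determinant. -/
structure MetaCoord (G : Type*) [Group G] (p n : ℕ) where
  φ : G → ZMod (p ^ n) × ZMod (p ^ n)
  χ : G → ℤ
  χ_dvd : ∀ x, (p : ℤ) ∣ χ x - 1
  map_mul : ∀ x y, φ (x * y) = φ x + χ x • φ y
  surj : Function.Surjective φ
  commute_iff : ∀ x y, Commute x y ↔ (φ y).1 * (φ x).2 - (φ x).1 * (φ y).2 = 0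
  mem_agemo : ∀ s ≤ n, ∀ g v, φ g = p ^ s • v → g ∈ closure {x | ∃ y : G, y ^ p ^ s = x}

theorem nonempty_metaCoord [Finite G] [hp : Fact p.Prime] (hp2 : p ≠ 2) (hG : IsPGroup p G)
    (hmc : Cfsg.IsMetacyclic G) {n : ℕ} (hn : Nat.card (_root_.commutator G) = p ^ n) :
    Nonempty (MetaCoord G p n) := by
  obtain ⟨a, b, r, hr1, hr, hg⟩ := exists_metacyclic_gens hG hmc
  rw [commutator_eq_zpowers_metacyclic hr hg, Nat.card_zpowers] at hn
  choose I J hIJ using hg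
  let φ : G → ZMod (p ^ n) × ZMod (p ^ n) :=
    fun g => (((I g : ℤ) : ZMod (p ^ n)), ((∑ t ∈ range (J g), r ^ t : ℤ) : ZMod (p ^ n)))
  have hc : ∀ u v : ℤ, (a ^ (r - 1)) ^ u = (a ^ (r - 1)) ^ v ↔
      (u : ZMod (p ^ n)) = (v : ZMod (p ^ n)) := by
    intro u v
    rw [zpow_eq_zpow_iff_modEq, hn, ZMod.intCast_eq_intCast_iff]
  have hφ : ∀ (i : ℤ) (j : ℕ), φ (a ^ i * b ^ j) =
      ((i : ZMod (p ^ n)), ((∑ t ∈ range j, r ^ t : ℤ) : ZMod (p ^ n))) := by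
    intro i j
    have h1 := commutatorElement_metacyclic hr i 0 j 1
    have h2 := commutatorElement_metacyclic hr i 1 j 0
    rw [hIJ (a ^ i * b ^ j), commutatorElement_metacyclic hr, hc] at h1 h2
    simp only [φ]
    ext
    · simpa using h1
    · simpa using h2
  refine ⟨⟨φ, fun g => r ^ J g, fun x => hr1.trans ?_, fun x y => ?_, fun v => ?_, fun x y => ?_,
    fun s hs g v hv => ?_⟩⟩
  · simpa using sub_dvd_pow_sub_pow r 1 (J x)
  · conv_lhs => rw [hIJ x, hIJ y, mul_metacyclic hr, hφ]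
    simp only [φ]
    ext
    · simp
    · simp [sum_range_add, pow_add, mul_sum]
  · obtain ⟨j, hj⟩ := geom_sum_zmod_surjective hp2 hr1 n v.2
    obtain ⟨i, hi⟩ := ZMod.intCast_surjective v.1
    exact ⟨a ^ i * b ^ j, by rw [hφ, hi, hj]⟩
  · rw [← commutatorElement_eq_one_iff_commute]
    conv_lhs => rw [hIJ x, hIJ y, commutatorElement_metacyclic hr, ← zpow_zero (a ^ (r - 1)), hc]
    simp [φ]
  · have key : ∀ (z : ℤ) (w : ZMod (p ^ n)), (z : ZMod (p ^ n)) = p ^ s • w → (p : ℤ) ^ s ∣ z := by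
      intro z w hw
      obtain ⟨w, rfl⟩ := ZMod.intCast_surjective w
      replace hw : (z : ZMod (p ^ n)) = (((p : ℤ) ^ s * w : ℤ) : ZMod (p ^ n)) := by
        rw [hw]; simp
      rw [ZMod.intCast_eq_intCast_iff_dvd_sub, Nat.cast_pow] at hw
      exact (dvd_sub_right (dvd_mul_right _ _)).1 ((pow_dvd_pow _ hs).trans hw)
    obtain ⟨i, hi⟩ := key _ _ (congrArg Prod.fst hv)
    obtain ⟨j, hj⟩ := (pow_dvd_geom_sum_iff hp2 hr1 s _).1 (key _ _ (congrArg Prod.snd hv))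
    rw [hIJ g, hi, hj]
    refine mul_mem (subset_closure ⟨a ^ i, ?_⟩) (subset_closure ⟨b ^ j, ?_⟩)
    · rw [← zpow_natCast, ← zpow_mul, mul_comm, Nat.cast_pow]
    · rw [← pow_mul, mul_comm]

end CfsgLib.PGrp
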