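import Mathlib
import Cfsg.Agent.Lib.Metacyclic
import Cfsg.Agent.Lib.PGroupBasic

/-! Metacyclic `p`-groups for odd `p`: orders of centralizers, centre, class sizes. -/

set_option autoImplicit false

namespace CfsgLib.PGrp

open Subgroup Finset
open scoped commutatorElement

variable {G : Type*} [Group G] {p n : ℕ}

theorem card_perp_mul_card_zmod {q : ℕ} [NeZero q] (W : AddSubgroup (ZMod q × ZMod q)) :
    Nat.card {v : ZMod q × ZMod q | ∀ w ∈ W, v.1 * w.2 - w.1 * v.2 = 0} * Nat.card W = q ^ 2 := by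
  let β : Multiplicative (ZMod q × ZMod q) →* Multiplicative W →* Multiplicative (ZMod q) :=
    MonoidHom.mk' (fun v => MonoidHom.mk' (fun w => Multiplicative.ofAdd
      (v.toAdd.1 * w.toAdd.1.2 - w.toAdd.1.1 * v.toAdd.2)) fun w w' => by
        rw [← ofAdd_add]; congr 1; simp; ring) fun v v' => by
      refine MonoidHom.ext fun w => ?_
      simp only [MonoidHom.mk'_apply, MonoidHom.mul_apply]
      rw [← ofAdd_add]; congr 1; simp; ring
  have h1 := H1.index_ker_eq_index_ker_flip β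
  have h2 : β.flip.ker = ⊥ := by
    rw [eq_bot_iff]
    intro w hw
    rw [MonoidHom.mem_ker] at hw
    have h3 := DFunLike.congr_fun hw (Multiplicative.ofAdd (1, 0))
    have h4 := DFunLike.congr_fun hw (Multiplicative.ofAdd (0, 1))
    simp [β] at h3 h4
    rw [mem_bot]
    exact Multiplicative.toAdd.injective (Subtype.ext (Prod.ext h4 h3))
  rw [h2, index_bot] at h1
  have h5 := β.ker.card_mul_index
  rw [h1] at h5
  have h6 : Nat.card {v : ZMod q × ZMod q | ∀ w ∈ W, v.1 * w.2 - w.1 * v.2 = 0} =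
      Nat.card β.ker := by
    refine Nat.card_congr (Equiv.subtypeEquiv Multiplicative.ofAdd fun v => ?_)
    rw [MonoidHom.mem_ker, MonoidHom.ext_iff]
    simp [β, div_eq_one, sub_eq_zero]
  rw [h6]
  refine h5.trans ?_
  simp [sq]

theorem zmod_pow_nsmul_eq_zero_iff [hp : Fact p.Prime] {s : ℕ} (hs : s ≤ n) (t : ZMod (p ^ n)) :
    p ^ (n - s) • t = 0 ↔ ∃ w, t = p ^ s • w := by
  constructor
  · intro h
    obtain ⟨t, rfl⟩ := ZMod.intCast_surjective t
    replace h : (((p : ℤ) ^ (n - s) * t : ℤ) : ZMod (p ^ n)) = 0 := by rw [← h]; simp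
    rw [ZMod.intCast_zmod_eq_zero_iff_dvd, Nat.cast_pow] at h
    have h2 : (p : ℤ) ^ n = p ^ (n - s) * p ^ s := by rw [← pow_add, Nat.sub_add_cancel hs]
    rw [h2] at h
    obtain ⟨w, rfl⟩ := (mul_dvd_mul_iff_left
      (pow_ne_zero _ (Int.natCast_ne_zero.2 hp.out.ne_zero))).1 h
    exact ⟨w, by simp⟩
  · rintro ⟨w, rfl⟩
    rw [← mul_nsmul', ← pow_add, Nat.sub_add_cancel hs, nsmul_eq_mul, ZMod.natCast_self, zero_mul]

theorem card_zmod_pow_nsmul_eq_zero [hp : Fact p.Prime] {i : ℕ} (hi : i ≤ n) :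
    Nat.card {v : ZMod (p ^ n) × ZMod (p ^ n) | p ^ i • v = 0} = p ^ (2 * i) := by
  have : NeZero (p ^ n) := ⟨pow_ne_zero _ hp.out.ne_zero⟩
  have h1 : Nat.card {t : ZMod (p ^ n) | p ^ i • t = 0} = p ^ i := by
    have := IsAddCyclic.card_nsmulAddMonoidHom_ker (ZMod (p ^ n)) (p ^ i)
    rw [Nat.card_zmod, Nat.gcd_eq_right (pow_dvd_pow _ hi)] at this
    exact this
  have h2 : {v : ZMod (p ^ n) × ZMod (p ^ n) | p ^ i • v = 0} =
      {t : ZMod (p ^ n) | p ^ i • t = 0} ×ˢ {t : ZMod (p ^ n) | p ^ i • t = 0} := by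
    ext v
    simp [Prod.ext_iff]
  rw [h2, Nat.card_congr (Equiv.Set.prod _ _), Nat.card_prod, h1, two_mul, pow_add]

namespace MetaCoord

variable (c : MetaCoord G p n)

theorem isUnit_χ (x : G) : IsUnit (c.χ x : ZMod (p ^ n)) := by
  rw [ZMod.coe_int_isUnit_iff_isCoprime, Nat.cast_pow]
  refine IsCoprime.pow_left ?_
  obtain ⟨k, hk⟩ := c.χ_dvd x
  exact ⟨-k, 1, by linear_combination hk⟩

theorem χ_smul_eq_zero [hp : Fact p.Prime] (x : G) {v : ZMod (p ^ n) × ZMod (p ^ n)}
    (h : c.χ x • v = 0) : v = 0 := by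
  rw [← Int.cast_smul_eq_zsmul (ZMod (p ^ n))] at h
  exact (c.isUnit_χ x).smul_eq_zero.1 h

theorem map_one [hp : Fact p.Prime] : c.φ 1 = 0 := by
  have h := c.map_mul 1 1
  rw [one_mul, left_eq_add] at h
  exact c.χ_smul_eq_zero _ h

theorem map_inv [hp : Fact p.Prime] (x : G) : c.φ x⁻¹ = -(c.χ x⁻¹ • c.φ x) := by
  have h := c.map_mul x⁻¹ x
  rw [inv_mul_cancel, c.map_one] at h
  exact eq_neg_of_add_eq_zero_left h.symm

theorem map_pow [hp : Fact p.Prime] (x : G) (m : ℕ) :
    c.φ (x ^ m) = (∑ t ∈ range m, c.χ x ^ t) • c.φ x := by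
  induction m with
  | zero => simp [c.map_one]
  | succ m ih => rw [pow_succ', c.map_mul, ih, geom_sum_succ, add_smul, one_smul, mul_smul,
      add_comm]

theorem exists_pow [hp : Fact p.Prime] (hp2 : p ≠ 2) (x : G) (t : ZMod (p ^ n)) :
    ∃ m : ℕ, c.φ (x ^ m) = t • c.φ x := by
  obtain ⟨m, rfl⟩ := geom_sum_zmod_surjective hp2 (c.χ_dvd x) n t
  exact ⟨m, by rw [c.map_pow, Int.cast_smul_eq_zsmul]⟩

theorem mem_center_iff (x : G) : x ∈ center G ↔ c.φ x = 0 := by
  rw [Subgroup.mem_center_iff]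
  constructor
  · intro h
    obtain ⟨u, hu⟩ := c.surj (1, 0)
    obtain ⟨v, hv⟩ := c.surj (0, 1)
    have h1 := (c.commute_iff u x).1 (h u)
    have h2 := (c.commute_iff v x).1 (h v)
    rw [hu] at h1
    rw [hv] at h2
    exact Prod.ext (by simpa using h2) (by simpa using h1)
  · intro h g
    exact (c.commute_iff g x).2 (by simp [h])

theorem map_eq_iff [hp : Fact p.Prime] (x y : G) : c.φ x = c.φ y ↔ x⁻¹ * y ∈ center G := by
  have h := c.map_mul x (x⁻¹ * y)
  rw [mul_inv_cancel_left] at h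
  rw [c.mem_center_iff, h, left_eq_add]
  exact ⟨c.χ_smul_eq_zero x, fun h => by rw [h, smul_zero]⟩

theorem card_preimage [hp : Fact p.Prime] (S : Set (ZMod (p ^ n) × ZMod (p ^ n))) :
    Nat.card (c.φ ⁻¹' S) = Nat.card (center G) * Nat.card S := by
  rw [← Nat.card_prod]
  let s := Function.surjInv c.surj
  have hs : ∀ v, c.φ (s v) = v := Function.surjInv_eq c.surj
  have h1 : ∀ (v) (z : center G), c.φ (s v * z) = v := by
    intro v z
    rw [c.map_mul, (c.mem_center_iff _).1 z.2, smul_zero, add_zero, hs]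
  refine Nat.card_congr
    { toFun := fun g => (⟨(s (c.φ g))⁻¹ * g, (c.map_eq_iff _ _).1 (hs _)⟩, ⟨c.φ g, g.2⟩)
      invFun := fun z => ⟨s z.2 * z.1, by rw [Set.mem_preimage, h1]; exact z.2.2⟩
      left_inv := fun g => by simp
      right_inv := fun z => by simp [h1] }

/-- The preimage of an additive subgroup. -/
def comapSub [hp : Fact p.Prime] (W : AddSubgroup (ZMod (p ^ n) × ZMod (p ^ n))) : Subgroup G where
  carrier := c.φ ⁻¹' W
  one_mem' := by simp [c.map_one]
  mul_mem' := fun {x y} hx hy => by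
    rw [Set.mem_preimage, c.map_mul]
    exact add_mem hx (zsmul_mem hy _)
  inv_mem' := fun {x} hx => by
    rw [Set.mem_preimage, c.map_inv]
    exact neg_mem (zsmul_mem hx _)

/-- The image of a subgroup is an additive subgroup. -/
def mapSub [hp : Fact p.Prime] (hp2 : p ≠ 2) (R : Subgroup G) :
    AddSubgroup (ZMod (p ^ n) × ZMod (p ^ n)) where
  carrier := c.φ '' R
  zero_mem' := ⟨1, one_mem _, c.map_one⟩
  add_mem' := by
    rintro _ _ ⟨x, hx, rfl⟩ ⟨y, hy, rfl⟩
    obtain ⟨u, hu⟩ := c.isUnit_χ x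
    obtain ⟨m, hm⟩ := c.exists_pow hp2 y (u⁻¹ : (ZMod (p ^ n))ˣ)
    refine ⟨x * y ^ m, mul_mem hx (pow_mem hy _), ?_⟩
    rw [c.map_mul, hm, ← Int.cast_smul_eq_zsmul (ZMod (p ^ n)), ← hu, smul_smul, Units.mul_inv,
      one_smul]
  neg_mem' := by
    rintro _ ⟨x, hx, rfl⟩
    obtain ⟨m, hm⟩ := c.exists_pow hp2 x (-1)
    exact ⟨x ^ m, pow_mem hx _, by rw [hm, neg_one_smul]⟩

include c in
theorem card_eq [hp : Fact p.Prime] : Nat.card G = Nat.card (center G) * p ^ (2 * n) := by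
  have : NeZero (p ^ n) := ⟨pow_ne_zero _ hp.out.ne_zero⟩
  have h := c.card_preimage Set.univ
  rw [Set.preimage_univ, Nat.card_univ, Nat.card_univ, Nat.card_prod, Nat.card_zmod] at h
  rw [h, two_mul, pow_add]

theorem card_centralizer_mul [hp : Fact p.Prime] (S : Set G)
    (W : AddSubgroup (ZMod (p ^ n) × ZMod (p ^ n))) (hW : W = AddSubgroup.closure (c.φ '' S)) :
    Nat.card (centralizer S) * Nat.card W = Nat.card G := by
  have : NeZero (p ^ n) := ⟨pow_ne_zero _ hp.out.ne_zero⟩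
  have h1 : (centralizer S : Set G) = c.φ ⁻¹' {v | ∀ w ∈ W, v.1 * w.2 - w.1 * v.2 = 0} := by
    ext g
    rw [SetLike.mem_coe, mem_centralizer_iff, Set.mem_preimage, Set.mem_ofPred_eq, hW]
    constructor
    · intro h w hw
      induction hw using AddSubgroup.closure_induction with
      | mem w hw =>
        obtain ⟨x, hx, rfl⟩ := hw
        exact (c.commute_iff x g).1 (h x hx)
      | zero => simp
      | add u v _ _ hu hv => simp only [Prod.fst_add, Prod.snd_add]; linear_combination hu + hv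
      | neg u _ hu => simp only [Prod.fst_neg, Prod.snd_neg]; linear_combination -hu
    · intro h x hx
      exact (c.commute_iff x g).2 (h _ (AddSubgroup.subset_closure ⟨x, hx, rfl⟩))
  have h2 : Nat.card (centralizer S) = Nat.card (centralizer S : Set G) := rfl
  rw [h2, h1, c.card_preimage, mul_assoc, card_perp_mul_card_zmod, c.card_eq, ← pow_mul,
    mul_comm n]

theorem card_sup_center [hp : Fact p.Prime] (hp2 : p ≠ 2) (R : Subgroup G) :
    Nat.card (R ⊔ center G : Subgroup G) = Nat.card (center G) * Nat.card (c.mapSub hp2 R) := by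
  have h1 : ((R ⊔ center G : Subgroup G) : Set G) = c.φ ⁻¹' (c.mapSub hp2 R) := by
    apply le_antisymm
    · change R ⊔ center G ≤ c.comapSub (c.mapSub hp2 R)
      refine sup_le (fun x hx => ⟨x, hx, rfl⟩) fun x hx => ?_
      change c.φ x ∈ c.mapSub hp2 R
      rw [(c.mem_center_iff x).1 hx]
      exact zero_mem _
    · rintro g ⟨x, hx, hg⟩
      have := mul_mem (mem_sup_left hx : x ∈ R ⊔ center G)
        (mem_sup_right ((c.map_eq_iff _ _).1 hg))
      simpa using this
  have h2 : Nat.card (R ⊔ center G : Subgroup G) =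
    Nat.card ((R ⊔ center G : Subgroup G) : Set G) := rfl
  rw [h2, h1, c.card_preimage]
  rfl

include c in
theorem card_sup_center_mul_card_centralizer [hp : Fact p.Prime] (hp2 : p ≠ 2) (R : Subgroup G) :
    Nat.card (R ⊔ center G : Subgroup G) * Nat.card (centralizer (R : Set G)) =
      Nat.card G * Nat.card (center G) := by
  rw [c.card_sup_center hp2, ← c.card_centralizer_mul R (c.mapSub hp2 R)
    (AddSubgroup.closure_eq (c.mapSub hp2 R)).symm]
  ring

theorem index_centralizer [Finite G] [hp : Fact p.Prime] (g : G) :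
    (centralizer {g}).index = addOrderOf (c.φ g) := by
  have h := c.card_centralizer_mul {g} (AddSubgroup.zmultiples (c.φ g))
    (by rw [Set.image_singleton, AddSubgroup.zmultiples_eq_closure])
  rw [Nat.card_zmultiples, ← (centralizer {g}).card_mul_index] at h
  exact (Nat.eq_of_mul_eq_mul_left Nat.card_pos h).symm

theorem mem_agemo_iff [hp : Fact p.Prime] (hp2 : p ≠ 2) {s : ℕ} (hs : s ≤ n) (g : G) :
    g ∈ closure {x | ∃ y : G, y ^ p ^ s = x} ↔ p ^ (n - s) • c.φ g = 0 := by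
  constructor
  · intro hg
    have h1 : closure {x | ∃ y : G, y ^ p ^ s = x} ≤
        c.comapSub (nsmulAddMonoidHom (p ^ (n - s))).ker := by
      rw [closure_le]
      rintro _ ⟨y, rfl⟩
      change p ^ (n - s) • c.φ (y ^ p ^ s) = 0
      obtain ⟨k, hk⟩ := (pow_dvd_geom_sum_iff hp2 (c.χ_dvd y) s (p ^ s)).2 dvd_rfl
      rw [c.map_pow, hk, ← natCast_zsmul, smul_smul, ← mul_assoc, Nat.cast_pow, ← pow_add,
        Nat.sub_add_cancel hs, ← Int.cast_smul_eq_zsmul (ZMod (p ^ n))]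
      have : ((p : ZMod (p ^ n))) ^ n = 0 := by rw [← Nat.cast_pow, ZMod.natCast_self]
      simp [this]
    exact h1 hg
  · intro h
    obtain ⟨u, hu⟩ := (zmod_pow_nsmul_eq_zero_iff hs _).1 (congrArg Prod.fst h)
    obtain ⟨v, hv⟩ := (zmod_pow_nsmul_eq_zero_iff hs _).1 (congrArg Prod.snd h)
    exact c.mem_agemo s hs g (u, v) (Prod.ext hu hv)

theorem index_centralizer_dvd_iff [Finite G] [hp : Fact p.Prime] (g : G) (i : ℕ) :
    (centralizer {g}).index ∣ p ^ i ↔ p ^ i • c.φ g = 0 := by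
  rw [c.index_centralizer, addOrderOf_dvd_iff_nsmul_eq_zero]

include c in
theorem card_index_centralizer_dvd [Finite G] [hp : Fact p.Prime] {i : ℕ} (hi : i ≤ n) :
    Nat.card {g : G | (centralizer {g}).index ∣ p ^ i} = Nat.card (center G) * p ^ (2 * i) := by
  rw [← card_zmod_pow_nsmul_eq_zero hi, ← c.card_preimage]
  congr 2
  ext g
  exact c.index_centralizer_dvd_iff g i

end MetaCoord

end CfsgLib.PGrp
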