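import Mathlib
import Cfsg.Agent.Lib.MetacyclicCount
import Cfsg.Agent.Lib.CoreBasic

/-! Metacyclic `p`-groups for odd `p`: main consequences. -/

set_option autoImplicit false

namespace CfsgLib.PGrp

open Subgroup
open scoped commutatorElement

variable {G : Type*} [Group G] {p : ℕ}

theorem isMetacyclic_of_injective {H : Type*} [Group H] (hmc : Cfsg.IsMetacyclic G) (f : H →* G)
    (hf : Function.Injective f) : Cfsg.IsMetacyclic H := by
  obtain ⟨N, hN, h1, h2⟩ := hmc
  refine ⟨N.comap f, inferInstance, ?_, ?_⟩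
  · exact isCyclic_of_injective (f.subgroupComap N) fun x y h => Subtype.ext
      (hf (congrArg Subtype.val h))
  · refine isCyclic_of_injective (QuotientGroup.map _ N f le_rfl) ?_
    rw [← MonoidHom.ker_eq_bot_iff, QuotientGroup.ker_map, eq_bot_iff]
    rintro _ ⟨x, hx, rfl⟩
    exact (QuotientGroup.eq_one_iff x).2 hx

theorem isMetacyclic_subgroup (hmc : Cfsg.IsMetacyclic G) (H : Subgroup G) : Cfsg.IsMetacyclic H :=
  isMetacyclic_of_injective hmc H.subtype H.subtype_injective

theorem card_center_eq_card_inf (H : Subgroup G) :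
    Nat.card (center H) = Nat.card (H ⊓ centralizer (H : Set G) : Subgroup G) := by
  rw [← card_map_of_injective H.subtype_injective]
  congr 2
  ext x
  constructor
  · rintro ⟨y, hy, rfl⟩
    exact ⟨y.2, fun g hg => congrArg Subtype.val (mem_center_iff.1 hy ⟨g, hg⟩)⟩
  · rintro ⟨h1, h2⟩
    exact ⟨⟨x, h1⟩, mem_center_iff.2 fun g => Subtype.ext (h2 g g.2), rfl⟩

section

variable [Finite G] [hp : Fact p.Prime] (hp2 : p ≠ 2) (hG : IsPGroup p G)
  (hmc : Cfsg.IsMetacyclic G)
include hp2 hG hmc

theorem metacyclic_index_center : (center G).index = Nat.card (_root_.commutator G) ^ 2 := by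
  obtain ⟨n, hn⟩ := IsPGroup.iff_card.1 (hG.to_subgroup (_root_.commutator G))
  obtain ⟨c⟩ := nonempty_metaCoord hp2 hG hmc hn
  have h := c.card_eq
  rw [← (center G).card_mul_index] at h
  rw [Nat.eq_of_mul_eq_mul_left Nat.card_pos h, hn, ← pow_mul, mul_comm]

theorem metacyclic_card_mul_card_center :
    Nat.card G * Nat.card (center G) = (_root_.commutator G).index ^ 2 := by
  have h1 := (center G).card_mul_index
  have h2 := (_root_.commutator G).card_mul_index
  rw [metacyclic_index_center hp2 hG hmc] at h1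
  refine Nat.eq_of_mul_eq_mul_left (pow_pos (Nat.card_pos (α := _root_.commutator G)) 2) ?_
  rw [← mul_pow, h2, sq (Nat.card G)]
  nth_rewrite 3 [← h1]
  ring

theorem metacyclic_card_sup_center_mul (R : Subgroup G) :
    Nat.card (R ⊔ center G : Subgroup G) * Nat.card (centralizer (R : Set G)) =
      Nat.card G * Nat.card (center G) := by
  obtain ⟨n, hn⟩ := IsPGroup.iff_card.1 (hG.to_subgroup (_root_.commutator G))
  obtain ⟨c⟩ := nonempty_metaCoord hp2 hG hmc hn
  exact c.card_sup_center_mul_card_centralizer hp2 R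

theorem metacyclic_mem_agemo_iff {n : ℕ} (hn : Nat.card (_root_.commutator G) = p ^ n) {s : ℕ}
    (hs : s ≤ n) (g : G) : g ∈ closure {x : G | ∃ y : G, y ^ p ^ s = x} ↔
      (centralizer ({g} : Set G)).index ≤ p ^ (n - s) := by
  obtain ⟨c⟩ := nonempty_metaCoord hp2 hG hmc hn
  obtain ⟨k, hk⟩ := hG.index (centralizer ({g} : Set G))
  rw [c.mem_agemo_iff hp2 hs, ← c.index_centralizer_dvd_iff, hk,
    Nat.pow_dvd_pow_iff_le_right hp.out.one_lt, Nat.pow_le_pow_iff_right hp.out.one_lt]

theorem metacyclic_agemo_eq_center {n : ℕ} (hn : Nat.card (_root_.commutator G) = p ^ n) :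
    closure {x : G | ∃ y : G, y ^ p ^ n = x} = center G := by
  obtain ⟨c⟩ := nonempty_metaCoord hp2 hG hmc hn
  ext g
  rw [c.mem_agemo_iff hp2 le_rfl, c.mem_center_iff, Nat.sub_self, pow_zero, one_smul]

omit hp2 in
theorem metacyclic_frattini_eq : frattini G = closure {x : G | ∃ y : G, y ^ p ^ 1 = x} := by
  obtain ⟨a, b, r, ⟨k, hk⟩, hr, hg⟩ := exists_metacyclic_gens hG hmc
  rw [frattini_eq_commutator_sup hG, commutator_eq_zpowers_metacyclic hr hg, pow_one]
  refine sup_eq_right.2 (zpowers_le.2 (subset_closure ⟨a ^ k, ?_⟩))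
  rw [hk, mul_comm, zpow_mul, zpow_natCast]

theorem metacyclic_center_le_frattini (hna : ¬ IsMulCommutative G) : center G ≤ frattini G := by
  obtain ⟨n, hn⟩ := IsPGroup.iff_card.1 (hG.to_subgroup (_root_.commutator G))
  rw [← metacyclic_agemo_eq_center hp2 hG hmc hn, metacyclic_frattini_eq hG hmc]
  refine Subgroup.closure_mono ?_
  rintro _ ⟨y, rfl⟩
  obtain _ | n := n
  · rw [pow_zero, ← Subgroup.eq_bot_iff_card, commutator_eq_bot_iff] at hn
    exact absurd hn hna
  · exact ⟨y ^ p ^ n, by rw [← pow_mul, ← pow_add]⟩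

theorem metacyclic_coatom_card_mul_card_center (hna : ¬ IsMulCommutative G) {M : Subgroup G}
    (hM : IsCoatom M) :
    Nat.card M * Nat.card (center M) = Nat.card G * Nat.card (center G) := by
  have h1 : center G ≤ M :=
    (metacyclic_center_le_frattini hp2 hG hmc hna).trans (frattini_le_coatom hM)
  have h2 : centralizer (M : Set G) ≤ M := by
    intro g hg
    by_contra hgM
    apply hgM (h1 _)
    have h3 : M ⊔ zpowers g = ⊤ := hM.2 _ (left_lt_sup.2 (by rwa [zpowers_le]))
    have h4 : M ⊔ zpowers g ≤ centralizer {g} :=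
      sup_le (fun x hx => mem_centralizer_singleton_iff.2 (hg x hx))
        (zpowers_le.2 (mem_centralizer_singleton_iff.2 rfl))
    rw [h3] at h4
    exact mem_center_iff.2 fun x => mem_centralizer_singleton_iff.1 (h4 (mem_top x))
  rw [card_center_eq_card_inf, inf_eq_right.2 h2, ← metacyclic_card_sup_center_mul hp2 hG hmc M,
    sup_eq_left.2 h1]

end

universe u

theorem metacyclic_card_mul_card_center_aux [hp : Fact p.Prime] (hp2 : p ≠ 2) (m : ℕ) :
    ∀ (G : Type u) [Group G] [Finite G], Nat.card G = m → IsPGroup p G → Cfsg.IsMetacyclic G →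
      ∀ R : Subgroup G, ¬ IsMulCommutative R →
        Nat.card R * Nat.card (center R) = Nat.card G * Nat.card (center G) := by
  induction m using Nat.strong_induction_on with
  | _ m ih =>
    intro G _ _ hm hG hmc R hR
    rcases eq_top_or_exists_le_coatom R with rfl | ⟨M, hM, hRM⟩
    · rw [card_top, card_center_eq_card_inf, coe_top, centralizer_univ, top_inf_eq]
    have hna : ¬ IsMulCommutative G := fun h => hR inferInstance
    have e := subgroupOfEquivOfLe hRM
    have h1 := ih (Nat.card M) (hm ▸ card_lt_of_ne_top hM.1) M rfl (hG.to_subgroup M)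
      (isMetacyclic_subgroup hmc M) (R.subgroupOf M)
      (fun h => hR ⟨⟨fun x y => e.symm.injective (by rw [map_mul, map_mul, mul_comm'])⟩⟩)
    rw [← metacyclic_coatom_card_mul_card_center hp2 hG hmc hna hM, ← h1, Nat.card_congr e.toEquiv,
      Nat.card_congr (Subgroup.centerCongr e).toEquiv]

section

variable [Finite G] [hp : Fact p.Prime] (hp2 : p ≠ 2) (hG : IsPGroup p G)
  (hmc : Cfsg.IsMetacyclic G)
include hp2 hG hmc

theorem metacyclic_card_mul_card_center_of_not_comm {R : Subgroup G} (hR : ¬ IsMulCommutative R) :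
    Nat.card R * Nat.card (center R) = (_root_.commutator G).index ^ 2 := by
  rw [metacyclic_card_mul_card_center_aux hp2 _ G rfl hG hmc R hR,
    metacyclic_card_mul_card_center hp2 hG hmc]

theorem metacyclic_isMulCommutative_iff (L : Subgroup G) :
    IsMulCommutative L ↔ Nat.card L ≤ (_root_.commutator G).index := by
  constructor
  · intro h
    have h1 := metacyclic_card_sup_center_mul hp2 hG hmc L
    rw [metacyclic_card_mul_card_center hp2 hG hmc] at h1
    rw [← Nat.pow_le_pow_iff_left two_ne_zero, ← h1, sq]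
    exact Nat.mul_le_mul (card_le_of_le le_sup_left) (card_le_of_le L.le_centralizer)
  · intro h
    by_contra hL
    have h1 := metacyclic_card_mul_card_center_of_not_comm hp2 hG hmc hL
    have h2 : Nat.card (center L) < Nat.card L :=
      card_lt_of_ne_top fun h => hL ⟨⟨fun x y => mem_center_iff.1 (h ▸ mem_top y) x⟩⟩
    have h3 : Nat.card L * Nat.card (center L) < Nat.card L * Nat.card L :=
      Nat.mul_lt_mul_of_pos_left h2 Nat.card_pos
    have h4 := Nat.mul_le_mul h h
    rw [h1, sq] at h3
    omega

theorem metacyclic_maximal_comm_iff (L : Subgroup G) :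
    Maximal (fun K : Subgroup G => IsMulCommutative K) L ↔
      Nat.card L = (_root_.commutator G).index := by
  constructor
  · intro h
    have hL := isMulCommutative_iff_forall.1 h.1
    have h1 : centralizer (L : Set G) ≤ L := by
      intro g hg
      refine h.2 (y := L ⊔ zpowers g) ?_ le_sup_left (mem_sup_right (mem_zpowers g))
      rw [← closure_eq L, zpowers_eq_closure, ← Subgroup.closure_union]
      refine isMulCommutative_closure ?_
      rintro x (hx | rfl) y (hy | rfl)
      · exact hL x hx y hy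
      · exact hg x hx
      · exact (hg y hy).symm
      · rfl
    have := h.1
    have h2 := metacyclic_card_sup_center_mul hp2 hG hmc L
    rw [metacyclic_card_mul_card_center hp2 hG hmc, le_antisymm h1 L.le_centralizer,
      sup_eq_left.2 ((center_le_centralizer _).trans h1), ← sq] at h2
    exact Nat.pow_left_injective two_ne_zero h2
  · intro h
    refine ⟨(metacyclic_isMulCommutative_iff hp2 hG hmc L).2 h.le, fun K hK hLK => ?_⟩
    exact (eq_of_le_of_card_ge hLK (h ▸ (metacyclic_isMulCommutative_iff hp2 hG hmc K).1 hK)).ge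

end

end CfsgLib.PGrp
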