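import Mathlib

/-!
# Gaschütz' splitting theorem
-/

set_option autoImplicit false

namespace CfsgLib.Gaschuetz

open Subgroup

variable {G : Type*} [Group G] (A : Subgroup G) [hA : A.Normal]

/-- `m` is a multiplier: there is a crossed homomorphism `G → A` restricting to `a ↦ a ^ m`. -/
def IsMult (m : ℤ) : Prop :=
  ∃ δ : G → A, (∀ x y, δ (x * y) = δ x * MulAut.conjNormal x (δ y)) ∧ ∀ a : A, δ a = a ^ m

variable {A}

open scoped IsMulCommutative

theorem IsMult.add [IsMulCommutative A] {m n : ℤ} (hm : IsMult A m) (hn : IsMult A n) :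
    IsMult A (m + n) := by
  obtain ⟨δ, h1, h2⟩ := hm
  obtain ⟨ε, h3, h4⟩ := hn
  refine ⟨fun x => δ x * ε x, fun x y => ?_, fun a => by simp only [h2, h4, zpow_add]⟩
  simp only [h1, h3, map_mul]
  exact mul_mul_mul_comm _ _ _ _

theorem IsMult.mul [IsMulCommutative A] {m : ℤ} (hm : IsMult A m) (n : ℤ) : IsMult A (m * n) := by
  obtain ⟨δ, h1, h2⟩ := hm
  refine ⟨fun x => δ x ^ n, fun x y => ?_, fun a => by simp only [h2, zpow_mul]⟩
  simp only [h1, map_zpow, mul_zpow]

theorem exists_isComplement'_of_isMult_one (h : IsMult A 1) : ∃ K : Subgroup G, K.IsComplement' A := by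
  obtain ⟨δ, h1, h2⟩ := h
  have h0 : δ 1 = 1 := by simpa using h2 1
  let K : Subgroup G :=
    { carrier := {x | δ x = 1}
      one_mem' := h0
      mul_mem' := fun {x y} hx hy => by
        simp only [Set.mem_ofPred_eq] at hx hy ⊢
        rw [h1, hx, hy, map_one, one_mul]
      inv_mem' := fun {x} hx => by
        simp only [Set.mem_ofPred_eq] at hx ⊢
        have := h1 x⁻¹ x
        rw [inv_mul_cancel, h0, hx, map_one, mul_one] at this
        exact this.symm }
  refine ⟨K, IsComplement'.symm (isComplement'_of_disjoint_and_mul_eq_univ ?_ ?_)⟩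
  · rw [disjoint_def]
    intro x hx hK
    have := h2 ⟨x, hx⟩
    rw [zpow_one] at this
    exact congrArg Subtype.val (this.symm.trans hK)
  · rw [Set.eq_univ_iff_forall]
    intro g
    refine ⟨δ g, (δ g).2, ((δ g)⁻¹ : A) * g, ?_, by simp⟩
    change δ _ = 1
    rw [h1, h2, zpow_one]
    ext
    simp

theorem isMult_index [IsMulCommutative A] {H K : Subgroup G} [H.FiniteIndex] (h1 : K ⊓ A = ⊥)
    (h2 : K ⊔ A = H) : IsMult A H.index := by
  classical
  have hAH : A ≤ H := h2 ▸ le_sup_right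
  have hex : ∀ h ∈ H, ∃ a : A, (a : G)⁻¹ * h ∈ K := fun h hh => by
    rw [← h2, sup_comm, ← SetLike.mem_coe, normal_mul] at hh
    obtain ⟨a, ha, k, hk, rfl⟩ := hh
    exact ⟨⟨a, ha⟩, by simpa using hk⟩
  have huniq : ∀ (h : G) (a b : A), (a : G)⁻¹ * h ∈ K → (b : G)⁻¹ * h ∈ K → a = b := by
    intro h a b ha hb
    have h3 : (a : G)⁻¹ * b ∈ K ⊓ A := ⟨by simpa [mul_assoc] using K.mul_mem ha (K.inv_mem hb),
      A.mul_mem (A.inv_mem a.2) b.2⟩
    rw [h1, mem_bot, inv_mul_eq_one] at h3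
    exact Subtype.ext h3
  choose! ε hε using hex
  have hεmul : ∀ x ∈ H, ∀ y ∈ H, ε (x * y) = ε x * MulAut.conjNormal x (ε y) := by
    intro x hx y hy
    refine huniq _ _ _ (hε _ (mul_mem hx hy)) ?_
    have := mul_mem (hε x hx) (hε y hy)
    have hc : (ε x : G) * (MulAut.conjNormal x (ε y) : A) = (MulAut.conjNormal x (ε y) : A) * ε x :=
      congrArg Subtype.val (mul_comm (ε x) _)
    rw [coe_mul, hc, MulAut.conjNormal_apply]
    convert this using 1
    group
  have hεA : ∀ a : A, ε a = a := fun a => huniq _ _ _ (hε _ (hAH a.2)) (by simpa using one_mem K)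
  have := Fintype.ofFinite (G ⧸ H)
  let c : G → G ⧸ H → G := fun g ω => (g • ω).out⁻¹ * g * ω.out
  have hc : ∀ g ω, c g ω ∈ H := fun g ω => by
    simp only [c]
    rw [mul_assoc, ← QuotientGroup.eq, QuotientGroup.out_eq']
    exact (MulAction.Quotient.coe_smul_out H g ω).symm
  refine ⟨fun g => ∏ ω : G ⧸ H, MulAut.conjNormal (g • ω).out (ε (c g ω)), fun x y => ?_,
    fun a => ?_⟩
  · simp only
    rw [map_prod, ← Equiv.prod_comp (MulAction.toPerm y)
      (fun ω => MulAut.conjNormal (x • ω).out (ε (c x ω))), ← Finset.prod_mul_distrib]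
    refine Finset.prod_congr rfl fun ω _ => ?_
    have e : c (x * y) ω = c x (y • ω) * c y ω := by simp only [c, mul_smul]; group
    rw [e, hεmul _ (hc _ _) _ (hc _ _), map_mul, mul_smul, MulAction.toPerm_apply]
    congr 1
    ext
    simp only [MulAut.conjNormal_apply, c]
    group
  · simp only
    rw [zpow_natCast, index, Nat.card_eq_fintype_card, ← Finset.card_univ, ← Finset.prod_const]
    refine Finset.prod_congr rfl fun ω _ => ?_
    have h3 : (a : G) • ω = ω := by
      conv_lhs => rw [← QuotientGroup.out_eq' ω]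
      conv_rhs => rw [← QuotientGroup.out_eq' ω]
      rw [MulAction.Quotient.smul_coe, smul_eq_mul, eq_comm, QuotientGroup.eq, ← mul_assoc]
      exact hAH (hA.conj_mem' _ a.2 _)
    have h4 : c a ω = (⟨_, hA.conj_mem' _ a.2 ω.out⟩ : A) := by simp only [c, h3]
    rw [h4, hεA, h3]
    ext
    simp only [MulAut.conjNormal_apply]
    group

theorem isMult_pow_exponent {n : ℕ} (h : ∀ a : A, a ^ n = 1) : IsMult A n :=
  ⟨fun _ => 1, by simp, fun a => by rw [zpow_natCast, h]⟩

theorem IsMult.gcd [IsMulCommutative A] {m n : ℕ} (hm : IsMult A m) (hn : IsMult A n) :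
    IsMult A (Nat.gcd m n) := by
  rw [Nat.gcd_eq_gcd_ab]
  exact (hm.mul _).add (hn.mul _)

/-- **Gaschütz' theorem**: if the abelian normal subgroup `A` has a complement in `H ≥ A` and the
index of `H` is prime to the order of `A`, then `A` has a complement in `G`. -/
theorem exists_isComplement'_of_coprime [Finite G] [IsMulCommutative A] {H K : Subgroup G}
    (h1 : K ⊓ A = ⊥) (h2 : K ⊔ A = H) (hc : H.index.Coprime (Nat.card A)) :
    ∃ L : Subgroup G, L.IsComplement' A := by
  have := (isMult_index h1 h2).gcd (isMult_pow_exponent fun a : A => pow_card_eq_one')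
  rw [hc] at this
  exact exists_isComplement'_of_isMult_one this

theorem exists_isComplement'_of_forall_prime [Finite G] [IsMulCommutative A]
    (h : ∀ p : ℕ, p.Prime → p ∣ A.index → ∃ H K : Subgroup G, K ⊓ A = ⊥ ∧ K ⊔ A = H ∧
      ¬ p ∣ H.index) : ∃ L : Subgroup G, L.IsComplement' A := by
  classical
  have h0 : IsMult A A.index := isMult_index (bot_inf_eq A) (bot_sup_eq A)
  have hex : ∃ n : ℕ, 0 < n ∧ n ∣ A.index ∧ IsMult A n :=
    ⟨_, Nat.pos_of_ne_zero index_ne_zero_of_finite, dvd_rfl, h0⟩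
  obtain ⟨hpos, hdvd, hm⟩ := Nat.find_spec hex
  by_cases h1 : Nat.find hex = 1
  · rw [h1] at hm
    exact exists_isComplement'_of_isMult_one hm
  obtain ⟨p, hp, hpd⟩ := Nat.exists_prime_and_dvd h1
  obtain ⟨H, K, hK1, hK2, hH⟩ := h p hp (hpd.trans hdvd)
  refine absurd ⟨Nat.gcd_pos_of_pos_left _ hpos, (Nat.gcd_dvd_left _ _).trans hdvd,
    hm.gcd (isMult_index hK1 hK2)⟩ (Nat.find_min hex ?_)
  refine lt_of_le_of_ne (Nat.gcd_le_left _ hpos) fun h => hH (hpd.trans ?_)
  rw [← h]
  exact Nat.gcd_dvd_right _ _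

/-- A complement in `G` gives a complement in every subgroup containing `A`. -/
theorem inf_sup_eq_of_isComplement' {K H : Subgroup G} (hK : K.IsComplement' A) (hH : A ≤ H) :
    (K ⊓ H) ⊓ A = ⊥ ∧ (K ⊓ H) ⊔ A = H := by
  refine ⟨eq_bot_iff.mpr ((inf_le_inf_right _ inf_le_left).trans hK.disjoint.eq_bot.le),
    le_antisymm (sup_le inf_le_right hH) fun g hg => ?_⟩
  obtain ⟨⟨k, a⟩, rfl⟩ := hK.2 g
  exact mul_mem (mem_sup_left ⟨k.2, (H.mul_mem_cancel_right (hH a.2)).mp hg⟩) (mem_sup_right a.2)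

end CfsgLib.Gaschuetz
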