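import Cfsg.Agent.Lib.H9HHGroup
import Cfsg.Agent.Lib.CoreSolvable
import Cfsg.Agent.Lib.CoreElements
import Cfsg.Agent.Lib.CoprimeAut

/-!
# Fixed-point-free coprime operator groups: reduction to faithful modules
-/

set_option autoImplicit false

namespace CfsgLib.Fpf

open Module Subgroup CfsgLib CfsgLib.H9 Cfsg
open scoped commutatorElement

universe u

theorem exists_prime_of_chief {X : Type*} [Group X] [Finite X] {N M : Subgroup X} [hN : N.Normal]
    [hM : M.Normal] (hc : ⁅N, N⁆ ≤ M) (hMN : M < N)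
    (hch : ∀ W : Subgroup X, W.Normal → M ≤ W → W ≤ N → W = M ∨ W = N) :
    ∃ ℓ : ℕ, ℓ.Prime ∧ ℓ ∣ Nat.card N ∧ ∀ a ∈ N, a ^ ℓ ∈ M := by
  obtain ⟨ℓ, hℓ, hd⟩ := Nat.exists_prime_and_dvd (n := M.relIndex N)
    fun h => hMN.not_ge (relIndex_eq_one.1 h)
  have := Fact.mk hℓ
  obtain ⟨x, hx⟩ := exists_prime_orderOf_dvd_card' (G := N ⧸ M.subgroupOf N) ℓ hd
  obtain ⟨x, rfl⟩ := QuotientGroup.mk_surjective x
  let W : Subgroup X :=
    { carrier := {a | a ∈ N ∧ a ^ ℓ ∈ M}
      one_mem' := ⟨one_mem _, by rw [one_pow]; exact one_mem _⟩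
      mul_mem' := fun {a b} ha hb => ⟨mul_mem ha.1 hb.1, by
        have h : Commute (a : X ⧸ M) b := by
          rw [← commutatorElement_eq_one_iff_commute]
          exact (QuotientGroup.eq_one_iff ⁅a, b⁆).2 (hc (commutator_mem_commutator ha.1 hb.1))
        rw [← QuotientGroup.eq_one_iff, QuotientGroup.mk_pow, QuotientGroup.mk_mul, h.mul_pow,
          ← QuotientGroup.mk_pow, ← QuotientGroup.mk_pow, (QuotientGroup.eq_one_iff _).2 ha.2,
          (QuotientGroup.eq_one_iff _).2 hb.2, one_mul]⟩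
      inv_mem' := fun {a} ha => ⟨inv_mem ha.1, by rw [inv_pow]; exact inv_mem ha.2⟩ }
  refine ⟨ℓ, hℓ, hd.trans (relIndex_dvd_card _ _), fun a ha => ?_⟩
  rcases hch W ⟨fun a ha g => ⟨hN.conj_mem _ ha.1 g, by
    rw [conj_pow]; exact hM.conj_mem _ ha.2 g⟩⟩ (fun a ha => ⟨hMN.le ha, pow_mem ha _⟩)
    (fun a ha => ha.1) with h | h
  · have h1 : (x : X) ∈ W := ⟨x.2, by
      have := pow_orderOf_eq_one (x : N ⧸ M.subgroupOf N)
      rw [hx, ← QuotientGroup.mk_pow, QuotientGroup.eq_one_iff] at this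
      exact this⟩
    rw [h] at h1
    rw [(QuotientGroup.eq_one_iff x).2 h1, orderOf_one] at hx
    exact absurd hx.symm hℓ.ne_one
  · exact (h.ge ha).2

theorem secRep_normOp_eq_zero {ℓ : ℕ} {G X : Type*} [Group G] [Finite G] [Group X] {j : G →* X}
    {M N : Subgroup X} {k W : Type*} [Field k] [AddCommGroup W] [Module k W]
    {ρ : G →* Module.End k W} {ι : X → W} (S : SecRep ℓ j M N ρ ι) (B : Subgroup G)
    (h : ∀ m ∈ M, (∀ b ∈ B, ⁅j b, m⁆ ∈ N) → m ∈ N) : normOp ρ B = 0 := by
  classical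
  have := Fintype.ofFinite B
  refine S.ext fun m hm => ?_
  have h1 : ∀ s : Finset B, ∃ m' ∈ M, ι m' = ∑ a ∈ s, ρ a (ι m) := by
    intro s
    induction s using Finset.induction_on with
    | empty => exact ⟨1, one_mem _, S.map_one⟩
    | insert a s ha ih =>
      obtain ⟨m', h1, h2⟩ := ih
      exact ⟨_, mul_mem (S.conj_mem a hm) h1, by
        rw [S.map_mul _ (S.conj_mem a hm) _ h1, S.conj _ _ hm, h2, Finset.sum_insert ha]⟩
  obtain ⟨m', h2, h3⟩ := h1 Finset.univ
  rw [← LinearMap.sum_apply, ← normOp_eq] at h3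
  rw [← h3, LinearMap.zero_apply, S.eq_zero_iff _ h2]
  refine h m' h2 fun a ha => (S.eq_zero_iff _ (S.commutator_mem a h2)).1 ?_
  rw [S.map_commutator a h2, h3, normOp_fixed ha, sub_self]

/-- A solvable normal subgroup `H` with `O_ℓ(H) = 1`, represented faithfully in characteristic
`ℓ`, with a coprime operator group `A` acting fixed-point-freely on `H` and on the module. -/
structure Conf (ℓ : ℕ) {Y : Type*} [Group Y] [Finite Y] {k W : Type*} [Field k] [AddCommGroup W]
    [Module k W] (ρ : Y →* Module.End k W) (H A : Subgroup Y) : Prop where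
  normal : H.Normal
  solv : Group.IsSolvable H
  cop : (Nat.card A).Coprime (Nat.card H)
  fpf : H ⊓ centralizer (A : Set Y) = ⊥
  faithful : ∀ h ∈ H, ρ h = 1 → h = 1
  core : ∀ R : Subgroup Y, R.Normal → R ≤ H → IsPGroup ℓ R → R = ⊥
  norm : normOp ρ A = 0

theorem reduce {X : Type u} [Group X] [Finite X] {G A N : Subgroup X} [hG : G.Normal] [N.Normal]
    (hNG : N ≤ G) (hs : Group.IsSolvable G) (hcop : (Nat.card A).Coprime (Nat.card G))
    (hf : G ⊓ centralizer (A : Set X) = ⊥)
    (h : ∀ (Y : Type u) [Group Y] [Finite Y] (π : X →* Y) (ℓ : ℕ) [Fact ℓ.Prime] (W : Type u)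
      [AddCommGroup W] [Module (AlgebraicClosure (ZMod ℓ)) W]
      [FiniteDimensional (AlgebraicClosure (ZMod ℓ)) W]
      (ρ : Y →* Module.End (AlgebraicClosure (ZMod ℓ)) W), Conf ℓ ρ (G.map π) (A.map π) →
      (∀ a ∈ A, π a = 1 → a = 1) → N.map π = ⊥) : Group.IsNilpotent N := by
  refine isNilpotent_of_commutator_ne fun T hTN hT hT0 heq => ?_
  have hTn : T.Normal := by rwa [normalizer_eq_top, top_le_iff, normalizer_eq_top_iff] at hT
  obtain ⟨L, hLn, -, hLT, hch⟩ := exists_chief_below (bot_lt_iff_ne_bot.2 hT0)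
  have hTG := hTN.trans hNG
  have hc := commutator_le_of_chief_of_isSolvable (isSolvable_of_le hs hTG) hLT hch
  obtain ⟨ℓ, hℓ, hd, hpow⟩ := exists_prime_of_chief hc hLT hch
  have := Fact.mk hℓ
  obtain ⟨W, _, _, _, ρ, ι, S⟩ := exists_secRep ℓ (MonoidHom.id X) T L hLT.le
    (fun g => by rw [normalizer_eq_top]; trivial) (fun g => by rw [normalizer_eq_top]; trivial)
    hc hpow
  let K := G ⊓ ρ.ker
  let π := QuotientGroup.mk' K
  have hπ : ∀ g, π g = 1 ↔ g ∈ K := fun g => QuotientGroup.eq_one_iff g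
  have hA : ∀ a ∈ A, π a = 1 → a = 1 := fun a ha h1 =>
    mem_bot.1 ((inf_eq_bot_of_coprime hcop).le ⟨ha, ((hπ a).1 h1).1⟩)
  have hker : ∀ R : Subgroup X, R ≤ G → ⁅T, R⁆ ≤ L → R ≤ K := fun R h1 h2 g hg =>
    ⟨h1 hg, (S.rho_eq_one_iff g).2 fun a ha => by
      rw [← inv_mem_iff, commutatorElement_inv]; exact h2 (commutator_mem_commutator ha hg)⟩
  have hKL : ⁅T, K⁆ ≤ L := commutator_le.2 fun a ha g hg => by
    rw [← inv_mem_iff, commutatorElement_inv]; exact (S.rho_eq_one_iff g).1 hg.2 a ha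
  have := h (X ⧸ K) π ℓ W (QuotientGroup.lift K ρ fun g hg => hg.2) ⟨?_, ?_, ?_, ?_, ?_, ?_, ?_⟩ hA
  · rw [Subgroup.map_eq_bot_iff, QuotientGroup.ker_mk'] at this
    exact hLT.not_ge (heq.ge.trans ((commutator_mono le_rfl this).trans hKL))
  · exact hG.map _ (QuotientGroup.mk'_surjective K)
  · exact Cop.solvable_map hs _
  · exact (hcop.coprime_dvd_left (card_map_dvd _ _)).coprime_dvd_right (card_map_dvd _ _)
  · rw [Cop.map_inf_centralizer_map π le_normalizer_of_normal
      (hcop.coprime_dvd_right (card_dvd_of_le inf_le_left))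
      (Or.inr (isSolvable_of_le hs inf_le_left)), hf, Subgroup.map_bot]
  · rintro _ ⟨g, hg, rfl⟩ h1
    exact (hπ g).2 ⟨hg, h1⟩
  · intro R hR hRG hRp
    have hRn : (R.comap π).Normal := hR.comap π
    have h1 : R.comap π ≤ G := (comap_mono hRG).trans (by
      rw [comap_map_eq, QuotientGroup.ker_mk', sup_eq_left.2 inf_le_left])
    rw [← map_comap_eq_self_of_surjective (QuotientGroup.mk'_surjective K) R,
      Subgroup.map_eq_bot_iff, QuotientGroup.ker_mk']
    refine hker _ h1 ?_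
    -- `T R₀ / L` modulo `K`: use a Sylow subgroup
    obtain ⟨P, hP⟩ := IsSylowIn.exists_in (p := ℓ) (R.comap π)
    have h2 : (R.comap π) ≤ K ⊔ P := by
      have h3 := hP.map π
      rw [map_comap_eq_self_of_surjective (QuotientGroup.mk'_surjective K)] at h3
      have h4 := h3.eq_of_le hRp h3.le le_rfl
      rw [h4, comap_map_eq, QuotientGroup.ker_mk', sup_comm]
    rcases hch (⁅T, R.comap π⁆ ⊔ L) inferInstance le_sup_right
      (sup_le (commutator_le_left _ _) hLT.le) with h3 | h3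
    · exact le_sup_left.trans h3.le
    · exfalso
      -- in `X / L` the `ℓ`-group `T P` is nilpotent
      let f := QuotientGroup.mk' L
      have hTp : IsPGroup ℓ (T.map f) := by
        rintro ⟨_, a, ha, rfl⟩
        exact ⟨1, Subtype.ext (by
          rw [pow_one]; exact (QuotientGroup.eq_one_iff _).2 (hpow a ha))⟩
      have hTn' : (T.map f).Normal := hTn.map _ (QuotientGroup.mk'_surjective L)
      have h4 := (hTp.to_sup_of_normal_left (hP.isPGroup.map f)).isNilpotent
      have h5 : T ≤ ⁅T, P⁆ ⊔ L := by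
        refine h3.ge.trans (sup_le ((commutator_mono le_rfl h2).trans ?_) le_sup_right)
        refine CommCalc.commutator_sup_right_le ?_ ?_ (hKL.trans le_sup_right) le_sup_left
        · exact Cop.le_normalizer_of_commutator_le (G := T) (hKL.trans le_sup_right)
            (sup_le (commutator_le_left _ _) hLT.le)
        · exact Cop.le_normalizer_of_commutator_le (G := T) le_sup_left
            (sup_le (commutator_le_left _ _) hLT.le)
      have h6 := eq_bot_of_le_commutator_of_isNilpotent h4 le_sup_left (by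
        refine (map_mono (f := f) h5).trans ?_
        rw [Subgroup.map_sup, Subgroup.map_commutator,
          (Subgroup.map_eq_bot_iff L).2 (QuotientGroup.ker_mk' L).ge, sup_bot_eq]
        exact commutator_mono le_rfl le_sup_right)
      rw [Subgroup.map_eq_bot_iff, QuotientGroup.ker_mk'] at h6
      exact hLT.not_ge h6
  · classical
    have := Fintype.ofFinite A
    have := Fintype.ofFinite (A.map π)
    have e : normOp (QuotientGroup.lift K ρ fun g hg => hg.2) (A.map π) = normOp ρ A := by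
      rw [normOp_eq, normOp_eq]
      refine (Fintype.sum_bijective (π.subgroupMap A) ⟨?_, π.subgroupMap_surjective A⟩ _ _
        fun a => rfl).symm
      rw [injective_iff_map_eq_one]
      exact fun a ha => Subtype.ext (hA a a.2 (congrArg Subtype.val ha))
    rw [e]
    refine secRep_normOp_eq_zero S A fun m' h2 h3 => ?_
    obtain ⟨n, hn, c, hc', rfl⟩ := Cop.exists_mul_centralizer_of_commutator_mem
      (A := A) (N := L) le_normalizer_of_normal
      (hcop.coprime_dvd_right (card_dvd_of_le (hLT.le.trans hTG)))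
      (Or.inr (isSolvable_of_le hs (hLT.le.trans hTG))) (g := m') fun a ha => by
        rw [← inv_mem_iff, commutatorElement_inv]
        exact h3 a ha
    have : c ∈ G ⊓ centralizer (A : Set X) :=
      ⟨(G.mul_mem_cancel_left (hTG (hLT.le hn))).1 (hTG h2), hc'⟩
    rw [hf, mem_bot] at this
    rwa [this, mul_one]

variable {ℓ : ℕ} [Fact ℓ.Prime] {Y : Type*} [Group Y] [Finite Y] {k W : Type*} [Field k]
  [AddCommGroup W] [Module k W] {ρ : Y →* Module.End k W} {H A : Subgroup Y}

theorem Conf.coprime_of_isNilpotent (c : Conf ℓ ρ H A) {F : Subgroup Y} [F.Normal] (hFH : F ≤ H)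
    (hF : Group.IsNilpotent F) : (Nat.card F).Coprime ℓ := by
  rw [Nat.coprime_comm, (Fact.out : ℓ.Prime).coprime_iff_not_dvd]
  intro hd
  obtain ⟨x, hx⟩ := exists_prime_orderOf_dvd_card' ℓ hd
  have h1 : zpowers (x : Y) ≤ pCore ℓ Y := le_pCore_of_le_fitting
    ((zpowers_le.2 x.2).trans (le_fitting hF))
    (isPGroup_zpowers_iff.2 ⟨1, by rw [pow_one, Subgroup.orderOf_coe, hx]⟩)
  have h2 := c.core (pCore ℓ Y ⊓ F) inferInstance (inf_le_right.trans hFH)
    (pCore_isPGroup ℓ).to_inf_left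
  have h3 : (x : Y) ∈ pCore ℓ Y ⊓ F := ⟨h1 (mem_zpowers _), x.2⟩
  rw [h2, mem_bot, OneMemClass.coe_eq_one] at h3
  rw [h3, orderOf_one] at hx
  exact (Fact.out : ℓ.Prime).ne_one hx.symm

theorem Conf.exists_fitting (c : Conf ℓ ρ H A) : ∃ F : Subgroup Y, F.Normal ∧ F ≤ H ∧
    Group.IsNilpotent F ∧ H ⊓ centralizer (F : Set Y) ≤ F ∧
    ∀ K : Subgroup Y, K.Normal → K ≤ H → Group.IsNilpotent K → K ≤ F := by
  have := c.normal
  have := c.solv
  have := fitting_characteristic (G := H)
  refine ⟨(fittingSubgroup H).map H.subtype, inferInstance, map_subtype_le _,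
    isNilpotent_map fitting_isNilpotent _, fun x hx => ⟨⟨x, hx.1⟩, centralizer_fitting_le
      fun y hy => Subtype.ext (hx.2 y ⟨y, hy, rfl⟩), rfl⟩, fun K hK hKH hKn => ?_⟩
  rw [← map_subgroupOf_eq_of_le hKH]
  exact map_mono (le_fitting (isNilpotent_subgroupOf hKn H))

end CfsgLib.Fpf
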