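import Cfsg.Agent.Lib.SylowIn
import Cfsg.Agent.Lib.ClassCount
import Cfsg.Agent.Lib.CoprimeSylow

/-! # Numbers of Sylow subgroups -/

open Subgroup Cfsg

namespace CfsgLib.H9

variable {G : Type*} [Group G] [Finite G] {p : ℕ} [hp : Fact p.Prime]

omit hp in
theorem relIndex_eq_of_mul {H B C : Subgroup G} (hBC : B ≤ C)
    (h : ∀ c ∈ C, ∃ b ∈ B, ∃ a ∈ H, c = b * a) : H.relIndex C = H.relIndex B := by
  rw [← relIndex_subgroupOf hBC]
  refine ((ClassCount.relIndex_eq_index_iff _ _).2 ?_).symm
  intro c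
  obtain ⟨b, hb, a, ha, hc⟩ := h c c.2
  have haC : a ∈ C := by
    have := mul_mem (inv_mem (hBC hb)) c.2
    rwa [hc, inv_mul_cancel_left] at this
  exact ⟨⟨b, hBC hb⟩, hb, ⟨a, haC⟩, ha, Subtype.ext hc⟩

omit hp in
theorem relIndex_sup_eq_of_le_normalizer {H A B : Subgroup G} (hAH : A ≤ H)
    (hAB : A ≤ normalizer (B : Set G)) : H.relIndex (A ⊔ B) = H.relIndex B := by
  refine relIndex_eq_of_mul le_sup_right fun c hc => ?_
  rw [sup_comm, mem_sup_iff_of_le_normalizer' hAB] at hc
  obtain ⟨b, hb, a, ha, rfl⟩ := hc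
  exact ⟨b, hb, a, hAH ha, rfl⟩

theorem card_sylow_subgroup {S H : Subgroup G} (h : IsSylowIn p S H) :
    Nat.card (Sylow p H) = (normalizer (S : Set G)).relIndex H := by
  obtain ⟨P, hP⟩ := h.exists_sylow
  rw [P.card_eq_index_normalizer, relIndex, subgroupOf_normalizer_eq h.le, ← hP]
  rfl

theorem card_sylow_eq_index (P : Sylow p G) :
    Nat.card (Sylow p G) = (normalizer ((P : Subgroup G) : Set G)).index :=
  P.card_eq_index_normalizer

theorem normalizer_sylow_sup (P : Sylow p G) (K : Subgroup G) [K.Normal] :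
    normalizer (((P : Subgroup G) ⊔ K : Subgroup G) : Set G) =
      normalizer ((P : Subgroup G) : Set G) ⊔ K := by
  apply le_antisymm
  · intro g hg
    obtain ⟨k, hk, hkg⟩ := (IsSylowIn.of_sylow P (le_sup_left (b := K))).frattini_elem hg
    have h1 : k ∈ normalizer ((P : Subgroup G) : Set G) ⊔ K :=
      (sup_le_sup_right le_normalizer K) hk
    simpa using mul_mem (inv_mem h1) (mem_sup_left hkg)
  · refine sup_le ?_ (le_sup_right.trans le_normalizer)
    intro g hg
    refine mem_normalizer_of_map_conj_eq ?_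
    rw [Subgroup.map_sup, map_conj_eq_of_mem_normalizer hg, map_conj_eq_of_normal]

theorem card_sylow_of_surjective {G' : Type*} [Group G'] (f : G →* G')
    (hf : Function.Surjective f) (P : Sylow p G) :
    Nat.card (Sylow p G') = (normalizer ((P : Subgroup G) : Set G) ⊔ f.ker).index := by
  have : Finite G' := Finite.of_surjective f hf
  rw [card_sylow_eq_index (P.mapSurjective hf), ← index_comap_of_surjective _ hf,
    Sylow.coe_mapSurjective, comap_normalizer_eq_of_surjective _ hf, comap_map_eq,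
    normalizer_sylow_sup]

theorem card_sylow_quotient (K : Subgroup G) [K.Normal] (P : Sylow p G) :
    Nat.card (Sylow p (G ⧸ K)) = (normalizer ((P : Subgroup G) : Set G) ⊔ K).index := by
  rw [card_sylow_of_surjective _ (QuotientGroup.mk'_surjective K) P, QuotientGroup.ker_mk']

theorem card_sylow_quotient_of_le (K : Subgroup G) [K.Normal] (P : Sylow p G)
    (h : K ≤ normalizer ((P : Subgroup G) : Set G)) :
    Nat.card (Sylow p (G ⧸ K)) = Nat.card (Sylow p G) := by
  rw [card_sylow_quotient K P, sup_eq_left.2 h, card_sylow_eq_index]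

theorem card_sylow_eq_quotient_mul (K : Subgroup G) [K.Normal] (P : Sylow p G) :
    Nat.card (Sylow p G) =
      Nat.card (Sylow p (G ⧸ K)) * (normalizer ((P : Subgroup G) : Set G)).relIndex K := by
  rw [card_sylow_quotient K P, card_sylow_eq_index P, mul_comm,
    ← relIndex_sup_eq_of_le_normalizer (A := normalizer ((P : Subgroup G) : Set G)) (B := K) le_rfl
      (by rw [normalizer_eq_top K]; exact le_top), relIndex_mul_index le_sup_left]

theorem card_sylow_sup (K : Subgroup G) (P : Sylow p G)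
    (h : (P : Subgroup G) ≤ normalizer (K : Set G)) :
    Nat.card (Sylow p ↥((P : Subgroup G) ⊔ K)) =
      (normalizer ((P : Subgroup G) : Set G)).relIndex K := by
  rw [card_sylow_subgroup (IsSylowIn.of_sylow P le_sup_left),
    relIndex_sup_eq_of_le_normalizer le_normalizer h]

theorem relIndex_normalizer_modEq_one (K : Subgroup G) (P : Sylow p G)
    (h : (P : Subgroup G) ≤ normalizer (K : Set G)) :
    (normalizer ((P : Subgroup G) : Set G)).relIndex K ≡ 1 [MOD p] := by
  rw [← card_sylow_sup K P h]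
  exact card_sylow_modEq_one p _

theorem card_sylow_of_not_dvd_index (H : Subgroup G) [H.Normal] (h : ¬ p ∣ H.index) :
    Nat.card (Sylow p H) = Nat.card (Sylow p G) := by
  obtain ⟨P⟩ : Nonempty (Sylow p G) := inferInstance
  have hP : (P : Subgroup G) ≤ H := by
    obtain ⟨k, hk⟩ := IsPGroup.iff_card.1 P.isPGroup'
    refine Cop.le_of_coprime_relIndex (M := ⊤) le_top (by rw [normalizer_eq_top]) ?_
    rw [hk, relIndex_top_right]
    exact Nat.Coprime.pow_left _ (hp.out.coprime_iff_not_dvd.2 h)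
  rw [card_sylow_subgroup (IsSylowIn.of_sylow P hP), card_sylow_eq_index P,
    ← relIndex_top_right]
  refine (relIndex_eq_of_mul le_top fun c _ => ?_).symm
  obtain ⟨k, hk, hkc⟩ := (IsSylowIn.of_sylow P hP).frattini_elem (g := c)
    (by rw [normalizer_eq_top]; trivial)
  exact ⟨k⁻¹, inv_mem hk, k * c, hkc, by simp⟩

/-- the product formula -/
theorem card_sylow_product (K : Subgroup G) [K.Normal] (P : Sylow p G) (N : Subgroup G)
    (hN : N = ((P : Subgroup G) ⊔ K) ⊓ normalizer (((P : Subgroup G) ⊓ K : Subgroup G) : Set G))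
    [hn : (((P : Subgroup G) ⊓ K).subgroupOf N).Normal] :
    Nat.card (Sylow p G) = Nat.card (Sylow p (G ⧸ K)) * Nat.card (Sylow p K) *
      Nat.card (Sylow p (N ⧸ ((P : Subgroup G) ⊓ K).subgroupOf N)) := by
  have hKn : ∀ A : Subgroup G, A ≤ normalizer (K : Set G) := fun A => by
    rw [normalizer_eq_top]; exact le_top
  have h1 : normalizer ((P : Subgroup G) : Set G) ≤
      normalizer (((P : Subgroup G) ⊓ K : Subgroup G) : Set G) :=
    le_trans (le_inf le_rfl (hKn _)) (inf_normalizer_le_normalizer_inf)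
  have hPN : (P : Subgroup G) ≤ N := by
    rw [hN]; exact le_inf le_sup_left (le_normalizer.trans h1)
  rw [card_sylow_eq_quotient_mul K P, mul_assoc,
    card_sylow_subgroup (IsSylowIn.sylow_inf_normal P K),
    card_sylow_quotient_of_le _ (P.subtype hPN) (by
      rw [Sylow.coe_subtype]
      exact (subgroupOf_mono N inf_le_left).trans le_normalizer),
    card_sylow_subgroup (IsSylowIn.of_sylow P hPN)]
  congr 1
  have h2 : (normalizer ((P : Subgroup G) : Set G)).relIndex N =
      (normalizer ((P : Subgroup G) : Set G)).relIndex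
        (normalizer (((P : Subgroup G) ⊓ K : Subgroup G) : Set G) ⊓ K) := by
    refine relIndex_eq_of_mul ?_ fun c hc => ?_
    · rw [hN]; exact le_inf (inf_le_right.trans le_sup_right) inf_le_left
    · rw [hN] at hc
      obtain ⟨hc1, hc2⟩ := mem_inf.1 hc
      rw [sup_comm] at hc1
      obtain ⟨k, hk, a, ha, rfl⟩ := (mem_sup_iff_of_le_normalizer' (hKn _)).1 hc1
      refine ⟨k, ⟨?_, hk⟩, a, le_normalizer ha, rfl⟩
      simpa using mul_mem hc2 (inv_mem (h1 (le_normalizer ha)))
  rw [h2, mul_comm, ← inf_relIndex_right (normalizer ((P : Subgroup G) : Set G)) K,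
    ← inf_relIndex_right (normalizer (((P : Subgroup G) ⊓ K : Subgroup G) : Set G)) K,
    ← relIndex_mul_relIndex _ (normalizer (((P : Subgroup G) ⊓ K : Subgroup G) : Set G) ⊓ K) K
      (inf_le_inf_right _ h1) inf_le_right]
  congr 1
  rw [← inf_relIndex_right (normalizer ((P : Subgroup G) : Set G) ⊓ K),
    ← inf_relIndex_right (normalizer ((P : Subgroup G) : Set G))]
  congr 1
  ext x
  simp only [mem_inf]
  tauto

/-- If `P` acts on the `p'`-subgroup `K`, every prime-power part of `[K : N_K(P)]` is `1` mod `p`. -/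
theorem ordProj_relIndex_normalizer_modEq_one (K : Subgroup G) (P : Sylow p G)
    (h : (P : Subgroup G) ≤ normalizer (K : Set G)) (hK : (Nat.card K).Coprime p)
    {q : ℕ} (hq : q.Prime) :
    q ^ ((normalizer ((P : Subgroup G) : Set G)).relIndex K).factorization q ≡ 1 [MOD p] := by
  have := Fact.mk hq
  obtain ⟨k, hk⟩ := IsPGroup.iff_card.1 P.isPGroup'
  have hcop : (Nat.card (P : Subgroup G)).Coprime (Nat.card K) := by
    rw [hk]; exact (hK.pow_right k).symm
  have hs := Cop.solvable_of_isPGroup P.isPGroup'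
  obtain ⟨Q, hQ, hPQ⟩ := Cop.exists_invariant_sylowOf q h hcop (Or.inl hs)
  have hQC := Cop.sylowOf_inf_centralizer h hcop (Or.inl hs) hQ hPQ
  rw [Cop.isPiHallOf_singleton_iff] at hQ hQC
  have hdisj : (P : Subgroup G) ⊓ K = ⊥ := (disjoint_of_coprime_natCard hcop).eq_bot
  have hNC : ∀ L : Subgroup G, L ≤ K → normalizer ((P : Subgroup G) : Set G) ⊓ L =
      L ⊓ centralizer ((P : Subgroup G) : Set G) := by
    intro L hL
    apply le_antisymm
    · rintro x ⟨hx1, hx2⟩
      refine ⟨hx2, fun a ha => ?_⟩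
      have : a * x * a⁻¹ * x⁻¹ ∈ (P : Subgroup G) ⊓ K := by
        refine ⟨?_, ?_⟩
        · rw [mul_assoc, mul_assoc, ← mul_assoc x]
          exact (P : Subgroup G).mul_mem ha (conj_mem_of_mem_normalizer hx1 (inv_mem ha))
        · exact K.mul_mem (conj_mem_of_mem_normalizer (h ha) (hL hx2)) (inv_mem (hL hx2))
      rw [hdisj, mem_bot] at this
      calc a * x = (a * x * a⁻¹ * x⁻¹) * (x * a) := by group
        _ = x * a := by rw [this, one_mul]
    · rintro x ⟨hx1, hx2⟩
      exact ⟨centralizer_le_normalizer _ hx2, hx1⟩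
  have hm := relIndex_normalizer_modEq_one Q P hPQ
  rw [← inf_relIndex_right, hNC Q hQ.1] at hm
  rw [← inf_relIndex_right, hNC K le_rfl]
  set C := centralizer ((P : Subgroup G) : Set G)
  obtain ⟨j, hj⟩ := IsPGroup.iff_card.1 hQ.2.1
  obtain ⟨e, -, he⟩ : ∃ e ≤ j, (Q ⊓ C).relIndex Q = q ^ e :=
    (Nat.dvd_prime_pow hq).1 (by
      rw [← hj]
      exact relIndex_dvd_card _ _)
  have e1 := relIndex_mul_relIndex (Q ⊓ C) Q K inf_le_left hQ.1
  have e2 := relIndex_mul_relIndex (Q ⊓ C) (K ⊓ C) K (inf_le_inf_right _ hQ.1) inf_le_left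
  have e3 := congrArg (fun n => n.factorization q) (e1.trans e2.symm)
  have n0 : ∀ A B : Subgroup G, A.relIndex B ≠ 0 := fun A B => index_ne_zero_of_finite
  simp only [Nat.factorization_mul (n0 _ _) (n0 _ _), Finsupp.add_apply,
    Nat.factorization_eq_zero_of_not_dvd hQ.2.2, Nat.factorization_eq_zero_of_not_dvd hQC.2.2,
    add_zero, zero_add] at e3
  rw [he, hq.factorization_pow, Finsupp.single_eq_same] at e3
  rw [← e3, ← he]
  exact hm

end CfsgLib.H9
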