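import Mathlib
import Cfsg.Agent.Lib.H5Kegel
import Cfsg.Agent.Lib.CoreSolvable

/-! The theorem of Deskins, Janko and Thompson: a finite group with a nilpotent maximal subgroup
whose Sylow `2`-subgroup has class at most two is solvable. -/

set_option autoImplicit false

namespace CfsgLib.H5

open Subgroup Cfsg CfsgLib.PCompl CfsgLib.PRes
open scoped commutatorElement

universe u

variable {G : Type*} [Group G] {p : ℕ}

theorem isCoatom_map_of_surjective {G' : Type*} [Group G'] {f : G →* G'}
    (hf : Function.Surjective f) {M : Subgroup G} (hM : IsCoatom M) (hk : f.ker ≤ M) :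
    IsCoatom (M.map f) := by
  have h1 : (M.map f).comap f = M := comap_map_eq_self hk
  refine ⟨fun h0 => hM.1 (by rw [← h1, h0, comap_top]), fun H hH => ?_⟩
  have h2 : M < H.comap f := by
    refine lt_of_le_of_ne (map_le_iff_le_comap.mp hH.le) fun h0 => hH.ne ?_
    rw [h0, map_comap_eq_self_of_surjective hf]
  rw [← map_comap_eq_self_of_surjective hf H, hM.2 _ h2, map_top_of_surjective f hf]

/-- a Sylow subgroup of a nilpotent subgroup `M` is normalized by `M` -/
theorem le_normalizer_of_isSylowIn_of_isNilpotent [Finite G] [Fact p.Prime] {S M : Subgroup G}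
    (hS : IsSylowIn p S M) (hM : Group.IsNilpotent M) : M ≤ normalizer (S : Set G) := by
  obtain ⟨P, rfl⟩ := hS.exists_sylow_map
  have : (P : Subgroup M).Characteristic := Sylow.characteristic_of_normal P inferInstance
  exact le_normalizer.trans (normalizer_le_normalizer_map_subtype_of_characteristic M _)

/-- every `p`-subgroup of a nilpotent subgroup `M` lies in a given Sylow subgroup of `M` -/
theorem le_of_isSylowIn_of_isNilpotent [Finite G] [Fact p.Prime] {S M X : Subgroup G}
    (hS : IsSylowIn p S M) (hM : Group.IsNilpotent M) (hX : IsPGroup p X) (hXM : X ≤ M) :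
    X ≤ S := by
  have h1 := le_normalizer_of_isSylowIn_of_isNilpotent hS hM
  have h2 := hS.eq_of_le (T := X ⊔ S) (hX.to_sup_of_normal_right' hS.isPGroup (hXM.trans h1))
    le_sup_right (sup_le hXM hS.le)
  exact le_sup_left.trans h2.le

/-- in a nilpotent subgroup `M`, a normal subgroup of a Sylow subgroup is normal -/
theorem le_normalizer_of_isNilpotent [Finite G] [hp : Fact p.Prime] {S M X : Subgroup G}
    (hS : IsSylowIn p S M) (hM : Group.IsNilpotent M) (hXS : X ≤ S)
    (hX : S ≤ normalizer (X : Set G)) : M ≤ normalizer (X : Set G) := by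
  refine le_of_forall_sylow_le fun q hq _ => ?_
  by_cases hqp : q = p
  · subst hqp
    obtain ⟨P, rfl⟩ := hS.exists_sylow_map
    exact ⟨P, hX⟩
  · obtain ⟨Q⟩ : Nonempty (Sylow q M) := inferInstance
    refine ⟨Q, fun g hg => centralizer_le_normalizer _ (centralizer_le hXS ?_)⟩
    have hgM : g ∈ M := map_subtype_le _ hg
    refine hnpc_mem_centralizer_of_le hnpc_of_isNilpotent hS.le hS.isPGroup hgM
      (le_normalizer_of_isSylowIn_of_isNilpotent hS hM hgM) ?_
    have := (Q.isPGroup'.map M.subtype).orderOf_coprime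
      ((Nat.coprime_primes hq.out hp.out).mpr hqp) ⟨g, hg⟩
    rwa [← orderOf_coe] at this

/-- If `Z(P)` lies in a unique Sylow subgroup and `N(P)` acts on `P` as a `p`-group, then `G` has a
normal `p`-complement. -/
theorem hnpc_of_center_in_unique_sylow [Finite G] [Fact p.Prime] (P : Sylow p G)
    (h : ∀ Q : Sylow p G, centerOf (P : Subgroup G) ≤ Q → Q = P)
    (hN : HasNormalPComplement p (normalizer ((P : Subgroup G) : Set G))) :
    HasNormalPComplement p G := by
  refine Fusion.hnpc_of_fusion P fun x hx g hy => ?_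
  have hZp : IsPGroup p (centerOf (P : Subgroup G)) := P.isPGroup'.to_le (centerOf_le _)
  obtain ⟨S, hZS, hS⟩ := IsSylowIn.exists_ge (H := centralizer {g * x * g⁻¹}) hZp
    (fun z hz => mem_centralizer_singleton_iff.mpr (hz.2 _ hy).symm)
  obtain ⟨c, hc, hcS⟩ := hS.exists_conj_le (hZp.map (MulAut.conj g).toMonoidHom) (by
    rintro _ ⟨z, hz, rfl⟩
    rw [mem_centralizer_singleton_iff]
    have := hz.2 x hx
    calc g * z * g⁻¹ * (g * x * g⁻¹) = g * (z * x) * g⁻¹ := by group
      _ = _ := by rw [← this]; simp [mul_assoc])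
  obtain ⟨Q, hQ⟩ := hS.isPGroup.exists_le_sylow
  obtain rfl : Q = P := h Q (hZS.trans hQ)
  have h1 : (c * g)⁻¹ • Q = Q := by
    refine h _ fun z hz => ?_
    rw [sylow_coe_smul_eq_map, mem_map_conj_iff]
    have := hQ (hcS (conj_mem_map_conj (conj_mem_map_conj hz)))
    simpa [mul_assoc] using this
  have h2 : c * g ∈ normalizer ((Q : Subgroup G) : Set G) :=
    inv_mem_iff.mp (Sylow.smul_eq_iff_mem_normalizer.mp h1)
  obtain ⟨u, hu, hu'⟩ := (FrobNPC.pAutomizer_of_hnpc_normalizer Q.isPGroup' hN).exists_conj_eq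
    (IsSylowIn.of_sylow Q le_normalizer) h2
  refine ⟨u, hu, ?_⟩
  rw [← hu' x hx]
  have := mem_centralizer_singleton_iff.mp hc
  calc g * x * g⁻¹ = g * x * g⁻¹ * c * c⁻¹ := by group
    _ = _ := by rw [← this]; group

theorem isSolvable_of_nilpotent_coatom_aux (G : Type u) [Group G] [Finite G] :
    ∀ M T : Subgroup G, IsCoatom M → Group.IsNilpotent M → IsSylowIn 2 T M →
      ⁅T, T⁆ ≤ centralizer (T : Set G) → Group.IsSolvable G := by
  revert G
  refine card_induction fun G _ _ IH => ?_
  intro M T hM hnil hT hTc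
  by_cases hN : M.normalCore = ⊥
  swap
  · have hs := QuotientGroup.mk'_surjective M.normalCore
    refine isSolvable_of_normal_of_quotient M.normalCore
      (isSolvable_of_le inferInstance M.normalCore_le) (IH _ (card_quotient_lt hN)
      (M.map (QuotientGroup.mk' _)) (T.map (QuotientGroup.mk' _))
      (isCoatom_map_of_surjective hs hM (by rw [QuotientGroup.ker_mk']; exact M.normalCore_le))
      (isNilpotent_map hnil _) (hT.map _) ?_)
    rw [← map_commutator]
    exact (map_mono hTc).trans (map_centralizer_le' _ _)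
  have key : ∀ X : Subgroup G, X ≠ ⊥ → X ≤ M → M ≤ normalizer (X : Set G) →
      normalizer (X : Set G) = M := by
    intro X h0 h1 h2
    rcases h2.eq_or_lt with h3 | h3
    · exact h3.symm
    · have := normalizer_eq_top_iff.mp (hM.2 _ h3)
      exact absurd (le_bot_iff.mp (hN ▸ normal_le_normalCore.mpr h1)) h0
  by_cases hM0 : M = ⊥
  · subst hM0
    obtain ⟨g, -, hg⟩ := SetLike.exists_of_lt (lt_top_iff_ne_top.mpr hM.1)
    have h1 : zpowers g = ⊤ := hM.2 _ (bot_lt_iff_ne_bot.mpr (zpowers_ne_bot.mpr hg))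
    exact isSolvable_top_iff.mp (h1 ▸ isSolvable_of_isMulCommutative)
  have hsyl : ∀ (q : ℕ) [Fact q.Prime] (S : Subgroup G), IsSylowIn q S M → S ≠ ⊥ →
      ∃ P : Sylow q G, (P : Subgroup G) = S ∧ normalizer (S : Set G) = M := by
    intro q _ S hS hS0
    have h1 := key S hS0 hS.le (le_normalizer_of_isSylowIn_of_isNilpotent hS hnil)
    obtain ⟨P, hP⟩ := hS.isPGroup.exists_le_sylow
    refine ⟨P, ?_, h1⟩
    by_contra h2
    have h3 := lt_inf_normalizer_of_isPGroup P.isPGroup' (lt_of_le_of_ne hP (Ne.symm h2))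
    exact h3.ne' (hS.eq_of_le P.isPGroup'.to_inf_left h3.le (inf_le_right.trans h1.le))
  have hnpc : ∀ q : ℕ, q.Prime → q ∣ Nat.card M → HasNormalPComplement q G := by
    intro q hq hqM
    have : Fact q.Prime := ⟨hq⟩
    by_cases hq2 : q = 2
    · subst hq2
      obtain ⟨P, rfl, hP⟩ := hsyl 2 T hT (hT.ne_bot hqM)
      refine hnpc_of_center_in_unique_sylow P (fun Q hQ => ?_) (hP ▸ hnpc_of_isNilpotent)
      have hZD : centerOf (P : Subgroup G) ≤ (P : Subgroup G) ⊓ Q := le_inf (centerOf_le _) hQ
      have h1 := key ((P : Subgroup G) ⊓ Q) (fun h0 => centerOf_ne_bot P.isPGroup'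
        (hT.ne_bot hqM) (le_bot_iff.mp (h0 ▸ hZD))) (inf_le_left.trans hT.le)
        (le_normalizer_of_isNilpotent hT hnil inf_le_left (by
          rw [le_normalizer_iff]
          intro g hg d hd
          have h2 : ⁅g, d⁆ ∈ centerOf (P : Subgroup G) :=
            ⟨commutator_le_self _ (commutator_mem_commutator hg hd.1),
              hTc (commutator_mem_commutator hg hd.1)⟩
          simpa [commutatorElement_def] using mul_mem (hZD h2) hd))
      by_contra hQP
      have h2 : (P : Subgroup G) ⊓ Q < Q := lt_of_le_of_ne inf_le_right fun h0 =>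
        hQP (Sylow.ext (Q.is_maximal' P.isPGroup' (inf_eq_right.mp h0)).symm)
      have h3 := lt_inf_normalizer_of_isPGroup Q.isPGroup' h2
      exact h3.not_ge (le_inf (le_of_isSylowIn_of_isNilpotent hT hnil Q.isPGroup'.to_inf_left
        (inf_le_right.trans h1.le)) inf_le_left)
    · obtain ⟨S, hS⟩ := IsSylowIn.exists_in (p := q) M
      obtain ⟨P, rfl, hP⟩ := hsyl q S hS (hS.ne_bot hqM)
      refine thompson_of_normalizers hq2 P fun X h0 h1 h2 => ?_
      rw [key X h0 (h1.trans hS.le) (hP ▸ h2)]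
      exact hnpc_of_isNilpotent
  let K : Subgroup G := ⨅ q ∈ {q : ℕ | q.Prime ∧ q ∣ Nat.card M}, pResidual q G
  have hKn : K.Normal := Subgroup.normal_iInf_normal fun q =>
    Subgroup.normal_iInf_normal fun _ => pResidual_normal
  have hK : ∀ x, x ∈ K ↔ (orderOf x).Coprime (Nat.card M) := by
    intro x
    simp only [K, mem_iInf]
    constructor
    · intro h
      refine Nat.coprime_of_dvd fun q hq h1 h2 => ?_
      have : Fact q.Prime := ⟨hq⟩
      exact (Nat.Prime.coprime_iff_not_dvd hq).mp
        ((hnpc_mem_pResidual_iff (hnpc q hq h2)).mp (h q ⟨hq, h2⟩)).symm h1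
    · intro h q hq
      exact mem_pResidual_of_coprime (Nat.Coprime.coprime_dvd_right hq.2 h)
  obtain ⟨q, hq, hqM⟩ := Nat.exists_prime_and_dvd (fun h0 => hM.1 (index_eq_one.mp h0))
  have : Fact q.Prime := ⟨hq⟩
  have hqM' : ¬ q ∣ Nat.card M := by
    intro h0
    obtain ⟨S, hS⟩ := IsSylowIn.exists_in (p := q) M
    obtain ⟨P, rfl, -⟩ := hsyl q S hS (hS.ne_bot h0)
    exact P.not_dvd_index (hqM.trans (index_dvd_of_le hS.le))
  obtain ⟨y, hy⟩ := exists_prime_orderOf_dvd_card' (G := G) q (hqM.trans M.index_dvd_card)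
  have htop : M ⊔ K = ⊤ := hM.2 _ (lt_of_le_of_ne le_sup_left fun h0 => hqM' (by
    have h1 : y ∈ K := (hK y).mpr (hy ▸ (Nat.Prime.coprime_iff_not_dvd hq).mpr hqM')
    exact hy ▸ orderOf_dvd_natCard M (h0 ▸ mem_sup_right h1)))
  have hZ : centerOf M ≠ ⊥ := inf_centralizer_ne_bot_of_isNilpotent hnil le_rfl le_normalizer hM0
  obtain ⟨r, hr, hrZ⟩ := Nat.exists_prime_and_dvd (fun h0 => hZ (card_eq_one.mp h0))
  have : Fact r.Prime := ⟨hr⟩
  obtain ⟨⟨z, hzZ⟩, hz⟩ := exists_prime_orderOf_dvd_card' (G := centerOf M) r hrZ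
  rw [orderOf_mk] at hz
  have hz1 : z ≠ 1 := fun h0 => hr.one_lt.ne' (by rw [← hz, h0, orderOf_one])
  have hzle : zpowers z ≤ centerOf M := zpowers_le.mpr hzZ
  have hNz := key (zpowers z) (zpowers_ne_bot.mpr hz1) (hzle.trans (centerOf_le M))
    (((le_centralizer_centerOf M).trans (centralizer_le hzle)).trans (centralizer_le_normalizer _))
  have hKnil : Group.IsNilpotent K := by
    refine isNilpotent_of_fpf hr (le_normalizer_of_normal (mem_top z))
      (hz ▸ pow_orderOf_eq_one z) fun k hk hc => ?_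
    have h1 : k ∈ M := hNz ▸ centralizer_le_normalizer _ (by
      rintro _ ⟨m, rfl⟩
      exact (Commute.zpow_left hc m).eq)
    exact orderOf_eq_one_iff.mp (((hK k).mp hk).eq_one_of_dvd (orderOf_dvd_natCard M h1))
  exact isSolvable_top_iff.mp (htop ▸ isSolvable_sup_of_normal inferInstance inferInstance)

/-- **Deskins–Janko–Thompson**. -/
theorem isSolvable_of_nilpotent_coatom [Finite G] {M T : Subgroup G} (hM : IsCoatom M)
    (hnil : Group.IsNilpotent M) (hT : IsSylowIn 2 T M)
    (hc : ⁅T, T⁆ ≤ centralizer (T : Set G)) : Group.IsSolvable G :=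
  isSolvable_of_nilpotent_coatom_aux G M T hM hnil hT hc

theorem isSolvable_of_nilpotent_coatom_odd [Finite G] {M : Subgroup G} (hM : IsCoatom M)
    (hnil : Group.IsNilpotent M) (hodd : Odd (Nat.card M)) : Group.IsSolvable G :=
  isSolvable_of_nilpotent_coatom hM hnil (T := ⊥)
    (IsSylowIn.bot_iff.mpr fun h => (Nat.not_even_iff_odd.mpr hodd) (even_iff_two_dvd.mpr h))
    (by simp)

theorem commutator_le_centralizer_of_class_le_two {M : Subgroup G} (hnil : Group.IsNilpotent M)
    (hcl : Group.nilpotencyClass M ≤ 2) : ⁅M, M⁆ ≤ centralizer (M : Set G) := by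
  rw [← commutator_eq_bot_iff_le_centralizer]
  exact lowerCentralSeries_eq_bot_of_nilpotencyClass_le hcl

theorem isSolvable_of_nilpotent_coatom_class_two [Finite G] {M : Subgroup G} (hM : IsCoatom M)
    (hnil : Group.IsNilpotent M) (hcl : Group.nilpotencyClass M ≤ 2) : Group.IsSolvable G := by
  obtain ⟨T, hT⟩ := IsSylowIn.exists_in (p := 2) M
  exact isSolvable_of_nilpotent_coatom hM hnil hT (((commutator_mono hT.le hT.le).trans
    (commutator_le_centralizer_of_class_le_two hnil hcl)).trans (centralizer_le hT.le))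

/-- A finite group with an abelian maximal subgroup is solvable. -/
theorem isSolvable_of_abelian_coatom [Finite G] {M : Subgroup G} (hM : IsCoatom M)
    (hc : IsMulCommutative M) : Group.IsSolvable G := by
  obtain ⟨T, hT⟩ := IsSylowIn.exists_in (p := 2) M
  have hnil : Group.IsNilpotent M := by
    let _ : CommGroup M := { (inferInstance : Group M) with mul_comm := hc.is_comm.comm }
    infer_instance
  refine isSolvable_of_nilpotent_coatom hM hnil hT fun x hx y hy => ?_
  exact isMulCommutative_iff'.mp hc y (hT.le hy) x (hT.le (commutator_le_self _ hx))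

end CfsgLib.H5
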