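import Mathlib
import Cfsg.Agent.Lib.CoreBasic

/-! Counting conjugates of TI-subsets. -/

set_option autoImplicit false

namespace CfsgLib.H5

open Subgroup

variable {G : Type*} [Group G]

/-- The number of `N`-conjugates of elements of a TI-subset `S` with normalizer `M`. -/
theorem ncard_conj_of_TI (N M : Subgroup G) (S : Set G)
    (hM : ∀ m ∈ N, m ∈ M → ∀ s ∈ S, m * s * m⁻¹ ∈ S)
    (hTI : ∀ n ∈ N, ∀ s ∈ S, n * s * n⁻¹ ∈ S → n ∈ M) :
    {x | ∃ n ∈ N, ∃ s ∈ S, n * s * n⁻¹ = x}.ncard = M.relIndex N * S.ncard := by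
  rw [relIndex, index_eq_card, ← Nat.card_coe_set_eq, ← Nat.card_coe_set_eq, ← Nat.card_prod]
  symm
  refine Nat.card_congr (Equiv.ofBijective (fun q => ⟨(q.1.out : N) * q.2.1 * ((q.1.out : N) : G)⁻¹,
    _, (q.1.out).2, _, q.2.2, rfl⟩) ⟨?_, ?_⟩)
  · rintro ⟨q, s, hs⟩ ⟨q', s', hs'⟩ h
    have h1 : ((q.out : N) : G) * s * ((q.out : N) : G)⁻¹ =
      ((q'.out : N) : G) * s' * ((q'.out : N) : G)⁻¹ := congrArg Subtype.val h
    have h2 : q' = q := by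
      rw [← q.out_eq', ← q'.out_eq', QuotientGroup.eq]
      refine hTI _ (q'.out⁻¹ * q.out).2 s hs ?_
      have : (((q'.out⁻¹ * q.out : N) : G)) * s * ((q'.out⁻¹ * q.out : N) : G)⁻¹ = s' := by
        simp only [coe_mul, coe_inv]
        calc _ = ((q'.out : N) : G)⁻¹ * (((q.out : N) : G) * s * ((q.out : N) : G)⁻¹) *
            ((q'.out : N) : G) := by group
          _ = s' := by rw [h1]; group
      exact this ▸ hs'
    subst h2
    exact Prod.ext rfl (Subtype.ext (conj_injective h1))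
  · rintro ⟨_, n, hn, s, hs, rfl⟩
    obtain ⟨m, hm⟩ := QuotientGroup.mk_out_eq_mul (M.subgroupOf N) (⟨n, hn⟩ : N)
    refine ⟨⟨((⟨n, hn⟩ : N) : N ⧸ M.subgroupOf N), ((m : N) : G)⁻¹ * s * ((m : N) : G)⁻¹⁻¹,
      hM _ (inv_mem (m : N).2) (inv_mem m.2) s hs⟩, Subtype.ext ?_⟩
    simp only [hm, coe_mul]
    group

theorem ncard_conj_of_TI_top (M : Subgroup G) (S : Set G)
    (hM : ∀ m ∈ M, ∀ s ∈ S, m * s * m⁻¹ ∈ S)
    (hTI : ∀ n, ∀ s ∈ S, n * s * n⁻¹ ∈ S → n ∈ M) :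
    {x | ∃ n, ∃ s ∈ S, n * s * n⁻¹ = x}.ncard = M.index * S.ncard := by
  rw [← relIndex_top_right, ← ncard_conj_of_TI ⊤ M S (fun m _ => hM m) (fun n _ => hTI n)]
  simp

theorem ncard_diff_subgroup [Finite G] {H K : Subgroup G} (h : H ≤ K) :
    ((K : Set G) \ (H : Set G)).ncard = Nat.card K - Nat.card H := by
  rw [Set.ncard_sdiff h]
  rfl

end CfsgLib.H5
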