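import Mathlib
import Cfsg.Agent.Lib.FrobeniusCount
import Cfsg.Agent.Lib.ClassSize
import Cfsg.Agent.Lib.CoreElements
import Cfsg.Agent.Lib.PGroupBasic
import Cfsg.Agent.Lib.H5PiClosed
import Cfsg.Agent.Lib.H5Count

/-! Itô's theorem on groups with two conjugacy class sizes. -/

set_option autoImplicit false

namespace CfsgLib.H5
open Subgroup Cfsg

variable {G : Type*} [Group G] [Finite G]

theorem ncard_pow_eq_one_of_comm {A : Subgroup G} (hA : IsMulCommutative A) {a b : ℕ}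
    (hab : a.Coprime b) (hG : Nat.card G = a * b) :
    {x : G | x ∈ A ∧ x ^ a = 1}.ncard = (Nat.card A).gcd a := by
  let f : A →* A := MonoidHom.mk' (· ^ a) fun x y => (show Commute x y from mul_comm' x y).mul_pow a
  have h1 : {x : G | x ∈ A ∧ x ^ a = 1}.ncard = Nat.card f.ker := by
    rw [← card_map_subtype]
    exact congrArg Set.ncard (Set.ext fun x => ⟨fun h => ⟨⟨x, h.1⟩, Subtype.ext h.2, rfl⟩,
      fun ⟨y, hy, he⟩ => he ▸ ⟨y.2, congrArg Subtype.val hy⟩⟩)
  have h2 : ∀ (K : Subgroup A) (c d : ℕ), c.Coprime d → (∀ x ∈ K, x ^ c = 1) →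
      (Nat.card K).Coprime d := fun K c d hcd h => Nat.coprime_of_dvd fun q hq h1 h2 => by
    have := Fact.mk hq
    obtain ⟨x, hx⟩ := exists_prime_orderOf_dvd_card' q h1
    exact hq.not_dvd_one (hcd ▸ Nat.dvd_gcd (hx ▸ orderOf_dvd_of_pow_eq_one
      (Subtype.ext (h x x.2))) h2)
  have h3 := h2 f.range b a hab.symm (by
    rintro _ ⟨x, rfl⟩
    exact Subtype.ext (show ((x : G) ^ a) ^ b = 1 by rw [← pow_mul, ← hG, pow_card_eq_one']))
  have h4 : Nat.card f.ker ∣ a := (h2 f.ker a b hab fun _ h => h).dvd_of_dvd_mul_right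
    (hG ▸ (card_subgroup_dvd_card f.ker).trans (card_subgroup_dvd_card A))
  rw [h1, ← f.ker.card_mul_index, index_ker, h3.gcd_mul_right_cancel, Nat.gcd_eq_left h4]

omit [Finite G] in
theorem centralizer_eq_of_le_of_index {C D : Subgroup G} (h : C ≤ D) (hi : D.index = C.index)
    (h0 : C.index ≠ 0) : C = D :=
  h.antisymm (relIndex_eq_one.mp (Nat.eq_of_mul_eq_mul_right (Nat.pos_of_ne_zero h0)
    (by rw [one_mul, ← hi, relIndex_mul_index h, hi])))

theorem ito_arith {c z n m a b : ℕ} (hab : a.Coprime b) (h : n * (z * c) = a * b) (hz : 0 < z)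
    (h1 : n * (z * c) = z + m * (z * c - z))
    (h2 : a ∣ z.gcd a + m * ((z * c).gcd a - z.gcd a))
    (h3 : ∀ q : ℕ, q.Prime → q ∣ n → q ∣ c) (h4 : (z * c).gcd b ≠ z.gcd b) :
    a * z.gcd b + (z * c).gcd a * z.gcd b ≤ z * c := by
  have hza : z = z.gcd a * z.gcd b := (Nat.gcd_mul_gcd_eq_iff_dvd_mul_of_coprime hab).mpr
    (h ▸ (dvd_mul_right z c).trans (dvd_mul_left _ n)) |>.symm
  have hca : z * c = (z * c).gcd a * (z * c).gcd b :=
    (Nat.gcd_mul_gcd_eq_iff_dvd_mul_of_coprime hab).mpr (h ▸ dvd_mul_left _ n) |>.symm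
  have hc : 0 < c := Nat.pos_of_ne_zero fun h0 => by simp [h0] at h1; omega
  obtain ⟨s, hs⟩ := Nat.gcd_dvd_gcd_of_dvd_left a (dvd_mul_right z c)
  obtain ⟨t, ht⟩ := Nat.gcd_dvd_gcd_of_dvd_left b (dvd_mul_right z c)
  have hu := (Nat.gcd_dvd_right z b)
  have hw := (Nat.gcd_dvd_right z a)
  rw [hs] at h2 hca ⊢
  rw [ht] at h4 hca
  generalize z.gcd a = w at *
  generalize z.gcd b = u at *
  subst hza
  obtain rfl : c = s * t := Nat.eq_of_mul_eq_mul_left hz (by linarith)
  obtain ⟨s, rfl⟩ := Nat.exists_eq_add_one.mpr (Nat.pos_of_mul_pos_right hc)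
  obtain ⟨t, rfl⟩ := Nat.exists_eq_add_one.mpr (Nat.pos_of_mul_pos_left hc)
  have ht0 : 0 < t := Nat.pos_of_ne_zero fun h => h4 (by simp [h])
  rw [show w * (s + 1) - w = w * s by rw [mul_add_one, Nat.add_sub_cancel]] at h2
  rw [show w * u * ((s + 1) * (t + 1)) - w * u = w * u * (s + (s + 1) * t) by
    rw [Nat.sub_eq_iff_eq_add (by nlinarith)]; ring] at h1
  have h5 : n * ((s + 1) * (t + 1)) = 1 + m * (s + (s + 1) * t) :=
    Nat.eq_of_mul_eq_mul_left hz (by linarith)
  have h6 : a ∣ m * (w * (s + 1) * t) * u := by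
    have : u * (w + m * (w * s)) + m * (w * (s + 1) * t) * u = a * b := by rw [← h, h1]; ring
    exact (Nat.dvd_add_right (h2.mul_left u)).mp (this ▸ dvd_mul_right a b)
  obtain ⟨a', rfl⟩ := hw
  have hw0 := Nat.pos_of_mul_pos_right hz
  have h7 : a' ∣ m * ((s + 1) * t) := Nat.dvd_of_mul_dvd_mul_left hw0 (by
    rw [← mul_left_comm, ← mul_assoc w]
    exact (hab.coprime_dvd_right hu).dvd_of_dvd_mul_right h6)
  have h8 : a'.Coprime m := Nat.coprime_of_dvd fun q hq h1 h2 => by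
    have h9 : a' ∣ n * ((s + 1) * (t + 1)) * u := Nat.dvd_of_mul_dvd_mul_left hw0
      ⟨b, by linarith⟩
    have h10 := h1.trans (((hab.coprime_dvd_left (dvd_mul_left _ _)).coprime_dvd_right
      hu).dvd_of_dvd_mul_right h9)
    have h11 : q ∣ (s + 1) * (t + 1) := (hq.dvd_mul.mp h10).elim (h3 q hq) id
    have h12 : n * ((s + 1) * (t + 1)) + m = 1 + m * ((s + 1) * (t + 1)) := by rw [h5]; ring
    exact hq.not_dvd_one ((Nat.dvd_add_left (h2.mul_right _)).mp
      (h12 ▸ dvd_add (h11.mul_left n) h2))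
  have h9 := Nat.le_of_dvd (by positivity) (h8.dvd_of_dvd_mul_left h7)
  nlinarith [Nat.mul_le_mul_left (w * u) h9]

theorem isPGroup_quotient_center_of_two_class_sizes {n : ℕ} (hn : 1 < n)
    (h : ∀ x : G, (centralizer ({x} : Set G)).index = 1 ∨ (centralizer ({x} : Set G)).index = n) :
    ∃ p : ℕ, p.Prime ∧ IsPGroup p (G ⧸ center G) := by
  by_cases hab : center G = ⊤
  · exact ⟨2, Nat.prime_two, IsPGroup.of_card (n := 0) (index_eq_one.mpr hab)⟩
  have h1 : ∀ x ∉ center G, (centralizer ({x} : Set G)).index = n := fun x hx =>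
    (h x).resolve_left (mt Frob.index_centralizer_eq_one_iff.mp hx)
  have h2 : ∀ x ∉ center G, ∀ y ∉ center G, centralizer ({x} : Set G) ≤ centralizer {y} →
      centralizer ({x} : Set G) = centralizer {y} := fun x hx y hy hle =>
    centralizer_eq_of_le_of_index hle (by rw [h1 x hx, h1 y hy]) index_ne_zero_of_finite
  obtain ⟨x0, -, hx0⟩ := SetLike.exists_of_lt (Ne.lt_top hab)
  obtain ⟨c, hc⟩ := card_dvd_of_le (center_le_centralizer ({x0} : Set G))
  have hz : 0 < Nat.card (center G) := Nat.card_pos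
  have hG : n * (Nat.card (center G) * c) = Nat.card G := by
    rw [← hc, ← h1 x0 hx0, index_mul_card]
  have h3 : ∀ x ∉ center G, Nat.card (centralizer ({x} : Set G)) = Nat.card (center G) * c :=
    fun x hx => Nat.eq_of_mul_eq_mul_left (by omega : 0 < n) (by
      rw [hG, ← h1 x hx, index_mul_card])
  have h4 : ∀ x ∉ center G, (center G).relIndex (centralizer ({x} : Set G)) = c := fun x hx =>
    Nat.eq_of_mul_eq_mul_left hz (by rw [card_mul_relIndex (center_le_centralizer _), h3 x hx])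
  have h5 : ∀ q : ℕ, q.Prime → q ∣ (center G).index → q ∣ c := fun q hq hd => by
    have := Fact.mk hq
    obtain ⟨x, hx⟩ := exists_prime_orderOf_dvd_card' (G := G ⧸ center G) q hd
    obtain ⟨x, rfl⟩ := QuotientGroup.mk_surjective x
    have hx1 : x ∉ center G := fun h => by
      rw [(QuotientGroup.eq_one_iff x).mpr h, orderOf_one] at hx
      exact hq.one_lt.ne hx
    rw [← h4 x hx1, ← card_map_mk'_eq_relIndex, ← hx]
    exact orderOf_dvd_natCard _ (mem_map_of_mem _ (mem_centralizer_singleton_iff.mpr rfl))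
  have hi : (center G).index = n * c := Nat.eq_of_mul_eq_mul_left hz (by
    rw [card_mul_index, ← hG]; ring)
  obtain ⟨p, hp, hpd⟩ := Nat.exists_prime_and_dvd (mt index_eq_one.mp hab)
  refine ⟨p, hp, ?_⟩
  by_contra hne
  obtain ⟨q, hq, hqd, hqp⟩ : ∃ q : ℕ, q.Prime ∧ q ∣ (center G).index ∧ q ≠ p := by
    by_contra! hcon
    obtain ⟨k, hk⟩ := (isPiNum_singleton_iff hp index_ne_zero_of_finite).mp hcon
    have := Fact.mk hp
    exact hne (IsPGroup.of_card hk)
  have h6 : ∀ x ∉ center G, ∀ (s k : ℕ), s.Prime → orderOf x = s ^ k →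
      ∀ y ∈ centralizer ({x} : Set G), (orderOf y).Coprime s →
        centralizer ({x} : Set G) ≤ centralizer {y} := fun x hx s k hs hk y hy hco => by
    have h7 := Frob.centralizer_mul_of_coprime (mem_centralizer_singleton_iff.mp hy).symm
      (hk ▸ hco.symm.pow_left k)
    rw [← h2 (x * y) (fun h => hx (Frob.centralizer_singleton_eq_top_iff.mp (top_le_iff.mp
      ((Frob.centralizer_singleton_eq_top_iff.mpr h).ge.trans (h7.le.trans inf_le_left))))) x hx
      (h7.le.trans inf_le_left)]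
    exact h7.le.trans inf_le_right
  have h7 : ∀ x ∉ center G, ∀ y ∈ centralizer ({x} : Set G),
      centralizer ({x} : Set G) ≤ centralizer {y} := by
    intro x hx
    obtain ⟨u, hu, s, k, hs, hk, hu1⟩ : ∃ u ∈ zpowers x, ∃ s k : ℕ, s.Prime ∧ orderOf u = s ^ k ∧
        u ∉ center G := by
      by_contra! hcon
      exact hx (mem_of_forall_primePow_mem hcon)
    rw [h2 x hx u hu1 (Frob.centralizer_le_centralizer_of_mem_zpowers hu)]
    obtain ⟨t, ht, htd, hts⟩ : ∃ t : ℕ, t.Prime ∧ t ∣ c ∧ t ≠ s := by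
      by_cases hps : p = s
      exacts [⟨q, hq, h5 q hq hqd, hps ▸ hqp⟩, ⟨p, hp, h5 p hp hpd, hps⟩]
    obtain ⟨v, hv, ⟨j, hj⟩, hv1⟩ := exists_primePow_notMem_of_dvd_relIndex ht (h4 u hu1 ▸ htd)
    have hst := (Nat.coprime_primes ht hs).mpr hts
    have h8 := h2 u hu1 v hv1 (h6 u hu1 s k hs hk v hv (hj ▸ hst.pow_left j))
    intro y hy
    obtain ⟨a, ha, b, hb, rfl, -, ⟨i, hi⟩, hbo⟩ := exists_p_part hs y
    have h9 := h6 v hv1 t j ht hj a (h8 ▸ zpowers_le.mpr hy ha) (hi ▸ hst.symm.pow_left i)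
    have h10 := h6 u hu1 s k hs hk b (zpowers_le.mpr hy hb) hbo
    exact fun g hg => mem_centralizer_singleton_iff.mpr (Commute.mul_right
      (mem_centralizer_singleton_iff.mp (h9 (h8 ▸ hg))) (mem_centralizer_singleton_iff.mp (h10 hg)))
  set T := (fun x : G => centralizer ({x} : Set G)) '' (center G : Set G)ᶜ with hT
  have h8 : ∀ (S : Set G) (d : ℕ), (∀ x ∉ center G, (S ∩ centralizer ({x} : Set G)).ncard = d) →
      S.ncard = (S ∩ center G).ncard + T.ncard * (d - (S ∩ center G).ncard) := fun S d hd => by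
    rw [← Set.ncard_inter_add_ncard_diff_eq_ncard S (center G : Set G)]
    congr 1
    refine H4.ncard_eq_mul_of_fibers _ (fun x : G => centralizer ({x} : Set G)) T (Set.toFinite _) _
      (fun x hx => ⟨x, hx.2, rfl⟩) ?_
    rintro _ ⟨x, hx, rfl⟩
    rw [← hd x hx, ← Set.ncard_diff (Set.inter_subset_inter_right S (center_le_centralizer _))]
    congr 1
    ext y
    refine ⟨fun ⟨⟨h1, h2⟩, h3⟩ => ⟨⟨h1, h3.le (mem_centralizer_singleton_iff.mpr rfl)⟩,
      fun h => h2 h.2⟩, fun ⟨⟨h1, h3⟩, h4⟩ => ⟨⟨h1, fun h => h4 ⟨h1, h⟩⟩, ?_⟩⟩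
    exact (h2 x hx y (fun h => h4 ⟨h1, h⟩) (h7 x hx y h3)).symm
  have h9 := h8 Set.univ _ fun x hx => (congrArg Set.ncard (Set.univ_inter _)).trans (h3 x hx)
  rw [Set.univ_inter, Set.ncard_univ, ← hG,
    show (center G : Set G).ncard = Nat.card (center G) from rfl] at h9
  have h10 : ∀ a b : ℕ, a.Coprime b → Nat.card G = a * b → (∃ r : ℕ, r.Prime ∧ r ∣ c ∧ ¬ r ∣ a) →
      a * (Nat.card (center G)).gcd b + (Nat.card (center G) * c).gcd a *
        (Nat.card (center G)).gcd b ≤ Nat.card (center G) * c := by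
    rintro a b hab he ⟨r, hr, hrc, hra⟩
    have h11 : ∀ A : Subgroup G, IsMulCommutative A →
        ({x : G | x ^ a = 1} ∩ A).ncard = (Nat.card A).gcd a := fun A hA => by
      rw [Set.inter_comm]; exact ncard_pow_eq_one_of_comm hA hab he
    have h12 := h8 {x | x ^ a = 1} _ fun x hx => (h11 _ (PGrp.isMulCommutative_iff_forall.mpr
      fun y hy z hz => (mem_centralizer_singleton_iff.mp (h7 x hx y hy hz)).symm)).trans
        (congrArg (·.gcd a) (h3 x hx))
    rw [h11 _ inferInstance] at h12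
    refine ito_arith hab (hG.trans he) hz h9 (h12 ▸ H4.frobenius_dvd_ncard_pow_eq_one ⟨b, he⟩)
      (fun q hq hd => h5 q hq (hi ▸ hd.mul_right c)) fun h13 => ?_
    have h14 := (Nat.gcd_mul_gcd_eq_iff_dvd_mul_of_coprime hab).mpr
      (he ▸ card_subgroup_dvd_card (center G))
    have h15 := (Nat.gcd_mul_gcd_eq_iff_dvd_mul_of_coprime hab).mpr
      (he ▸ hG ▸ dvd_mul_left (Nat.card (center G) * c) n)
    have h16 : (Nat.card (center G) * c).gcd a = (Nat.card (center G)).gcd a * c :=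
      Nat.eq_of_mul_eq_mul_right (Nat.gcd_pos_of_pos_left b hz) (by
        rw [mul_right_comm, h14, ← h13, h15])
    exact hra ((h16 ▸ hrc.mul_left _).trans (Nat.gcd_dvd_right _ a))
  obtain ⟨k, b, hb, he⟩ := Nat.exists_eq_pow_mul_and_not_dvd (Nat.card_pos (α := G)).ne' p
    hp.one_lt.ne'
  have hco := ((Nat.Prime.coprime_iff_not_dvd hp).mpr hb).pow_left k
  have h11 := h10 _ _ hco he ⟨q, hq, h5 q hq hqd, fun h =>
    hqp ((Nat.prime_dvd_prime_iff_eq hq hp).mp (hq.dvd_of_dvd_pow h))⟩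
  have h12 := h10 _ _ hco.symm (he.trans (mul_comm _ _)) ⟨p, hp, h5 p hp hpd, hb⟩
  have h14 := (Nat.gcd_mul_gcd_eq_iff_dvd_mul_of_coprime hco).mpr
    (he ▸ card_subgroup_dvd_card (center G))
  have h15 := (Nat.gcd_mul_gcd_eq_iff_dvd_mul_of_coprime hco).mpr
    (he ▸ hG ▸ dvd_mul_left (Nat.card (center G) * c) n)
  have hc0 : 0 < Nat.card (center G) * c := hc ▸ Nat.card_pos
  have h16 := Nat.le_of_dvd (Nat.gcd_pos_of_pos_left _ hc0)
    (Nat.gcd_dvd_gcd_of_dvd_left b (dvd_mul_right (Nat.card (center G)) c))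
  have h17 := Nat.le_of_dvd (Nat.gcd_pos_of_pos_left _ hc0)
    (Nat.gcd_dvd_gcd_of_dvd_left (p ^ k) (dvd_mul_right (Nat.card (center G)) c))
  have h18 : c ≤ n := by
    obtain ⟨c, rfl⟩ := Nat.exists_eq_add_one.mpr (Nat.pos_of_mul_pos_left hc0)
    obtain ⟨n, rfl⟩ := Nat.exists_eq_add_one.mpr (by omega : 0 < n)
    rw [mul_add_one _ c, Nat.add_sub_cancel] at h9
    have : n + (n + 1) * c = T.ncard * c := Nat.eq_of_mul_eq_mul_left hz (by linarith)
    exact Nat.succ_le_succ (Nat.le_of_dvd (by omega)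
      ((Nat.dvd_add_left (dvd_mul_left _ _)).mp (this ▸ dvd_mul_left _ _)))
  rw [← hG] at he
  generalize (Nat.card (center G) * c).gcd (p ^ k) = X at *
  generalize (Nat.card (center G) * c).gcd b = Y at *
  generalize (Nat.card (center G)).gcd (p ^ k) = w at *
  generalize (Nat.card (center G)).gcd b = u at *
  generalize Nat.card (center G) = z at *
  have h19 : z * c ≤ z * n := Nat.mul_le_mul_left z h18
  generalize z * c = P at *
  obtain ⟨α, hα⟩ := Nat.exists_eq_add_of_le (le_of_add_le_right h11)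
  obtain ⟨β, hβ⟩ := Nat.exists_eq_add_of_le (le_of_add_le_right h12)
  have h20 : p ^ k * u * (b * w) ≤ α * β := Nat.mul_le_mul (by omega) (by omega)
  have h21 : P * (n * z + X * u + Y * w) ≤ P * (P + z) := by
    have e1 : p ^ k * u * (b * w) = P * (n * z) := by
      rw [← h14, mul_mul_mul_comm, ← he]; ring
    have e2 : P * P + P * z = α * β + P * (X * u) + P * (Y * w) := by
      have : P * z = X * u * (Y * w) := by rw [← h14, ← h15]; ring
      rw [this]
      zify at hα hβ ⊢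
      linear_combination (P - Y * w : ℤ) * hα + (α : ℤ) * hβ
    linarith
  have h22 := Nat.le_of_mul_le_mul_left h21 hc0
  nlinarith [Nat.mul_le_mul_right u h17, Nat.mul_le_mul_right w h16]

end CfsgLib.H5
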