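import Mathlib
import Cfsg.Agent.Lib.CoreBasic

/-! Commuting `2 × 2` matrices; `SL₂` in characteristic two is a CA-group. -/

set_option autoImplicit false

namespace CfsgLib.H5

open Subgroup

theorem matrix_two_commute_iff {R : Type*} [CommRing R] (A B : Matrix (Fin 2) (Fin 2) R) :
    A * B = B * A ↔ A 0 1 * B 1 0 = B 0 1 * A 1 0 ∧
      (A 0 0 - A 1 1) * B 0 1 = (B 0 0 - B 1 1) * A 0 1 ∧
      (A 0 0 - A 1 1) * B 1 0 = (B 0 0 - B 1 1) * A 1 0 := by
  constructor
  · intro h
    have h00 := congrFun (congrFun h 0) 0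
    have h01 := congrFun (congrFun h 0) 1
    have h10 := congrFun (congrFun h 1) 0
    simp only [Matrix.mul_apply, Fin.sum_univ_two] at h00 h01 h10
    exact ⟨by linear_combination h00, by linear_combination h01, by linear_combination -h10⟩
  · rintro ⟨h1, h2, h3⟩
    ext i j
    fin_cases i <;> fin_cases j <;> simp [Matrix.mul_apply, Fin.sum_univ_two]
    · linear_combination h1
    · linear_combination h2
    · linear_combination -h3
    · linear_combination -h1

theorem matrix_two_commute_trans {F : Type*} [Field F] {A B C : Matrix (Fin 2) (Fin 2) F}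
    (hA : ¬ (A 0 1 = 0 ∧ A 1 0 = 0 ∧ A 0 0 = A 1 1)) (hB : A * B = B * A) (hC : A * C = C * A) :
    B * C = C * B := by
  have key : ∀ D : Matrix (Fin 2) (Fin 2) F, A * D = D * A → ∃ t : F,
      D 0 0 - D 1 1 = t * (A 0 0 - A 1 1) ∧ D 0 1 = t * A 0 1 ∧ D 1 0 = t * A 1 0 := by
    intro D hD
    obtain ⟨h1, h2, h3⟩ := (matrix_two_commute_iff A D).mp hD
    by_cases hb : A 0 1 = 0
    · by_cases hc : A 1 0 = 0
      · have ha : A 0 0 - A 1 1 ≠ 0 := fun h => hA ⟨hb, hc, sub_eq_zero.mp h⟩
        refine ⟨(D 0 0 - D 1 1) / (A 0 0 - A 1 1), by field_simp, ?_, ?_⟩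
        · field_simp; linear_combination h2
        · field_simp; linear_combination h3
      · refine ⟨D 1 0 / A 1 0, ?_, ?_, by field_simp⟩
        · field_simp; linear_combination -h3
        · field_simp; linear_combination -h1
    · refine ⟨D 0 1 / A 0 1, ?_, by field_simp, ?_⟩
      · field_simp; linear_combination -h2
      · field_simp; linear_combination h1
  obtain ⟨s, hs1, hs2, hs3⟩ := key B hB
  obtain ⟨t, ht1, ht2, ht3⟩ := key C hC
  rw [matrix_two_commute_iff, hs1, hs2, hs3, ht1, ht2, ht3]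
  exact ⟨by ring, by ring, by ring⟩

theorem center_SL2_eq_bot {F : Type*} [Field F] [CharP F 2] :
    center (Matrix.SpecialLinearGroup (Fin 2) F) = ⊥ := by
  rw [eq_bot_iff]
  intro A hA
  obtain ⟨r, hr, hrA⟩ := Matrix.SpecialLinearGroup.mem_center_iff.mp hA
  have h1 : r = 1 := by
    have : (r - 1) ^ 2 = 0 := by
      rw [sub_pow_char r 1, one_pow, sub_eq_zero]
      simpa using hr
    exact sub_eq_zero.mp (pow_eq_zero_iff two_ne_zero |>.mp this)
  rw [mem_bot]
  apply Subtype.ext
  rw [← hrA, h1]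
  simp

theorem SL2_commute_trans {F : Type*} [Field F] {A B C : Matrix.SpecialLinearGroup (Fin 2) F}
    (hA : A ∉ center (Matrix.SpecialLinearGroup (Fin 2) F)) (hB : A * B = B * A)
    (hC : A * C = C * A) : B * C = C * B := by
  refine Subtype.ext (matrix_two_commute_trans (A := A.1) ?_ (congrArg Subtype.val hB)
    (congrArg Subtype.val hC))
  rintro ⟨h1, h2, h3⟩
  refine hA (mem_center_iff.mpr fun D => Subtype.ext ?_)
  refine ((matrix_two_commute_iff A.1 D.1).mpr ?_).symm
  simp [h1, h2, h3]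

theorem PSL2_commute_trans {F : Type*} [Field F] [CharP F 2]
    {x y w : Matrix.ProjectiveSpecialLinearGroup (Fin 2) F}
    (hx : x ≠ 1) (hy : x * y = y * x) (hw : x * w = w * x) : y * w = w * y := by
  obtain ⟨A, rfl⟩ := QuotientGroup.mk'_surjective _ x
  obtain ⟨B, rfl⟩ := QuotientGroup.mk'_surjective _ y
  obtain ⟨C, rfl⟩ := QuotientGroup.mk'_surjective _ w
  have hinj : Function.Injective
      (QuotientGroup.mk' (center (Matrix.SpecialLinearGroup (Fin 2) F))) := by
    rw [← MonoidHom.ker_eq_bot_iff, QuotientGroup.ker_mk', center_SL2_eq_bot]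
  rw [← map_mul, ← map_mul] at hy hw ⊢
  rw [SL2_commute_trans (fun h => hx ((QuotientGroup.eq_one_iff A).mpr h)) (hinj hy) (hinj hw)]

end CfsgLib.H5
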