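import Cfsg.Agent.Lib.H1TwoConj
import Cfsg.Agent.Lib.H5SL2Even
import Cfsg.Agent.Lib.PGroupRankOne

/-!
# Transvections in `SL₂(F)`
-/

set_option autoImplicit false

namespace CfsgLib.H1

open Subgroup Cfsg CfsgLib.Cop Matrix MatrixGroups
open scoped commutatorElement

variable {F : Type*} [Field F]

theorem SL2_det (g : SL(2, F)) : g 0 0 * g 1 1 - g 0 1 * g 1 0 = 1 := by
  have := g.det_coe
  rwa [det_fin_two] at this

theorem SL2_ext {g h : SL(2, F)} (h00 : g 0 0 = h 0 0) (h01 : g 0 1 = h 0 1) (h10 : g 1 0 = h 1 0)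
    (h11 : g 1 1 = h 1 1) : g = h := by
  ext i j
  fin_cases i <;> fin_cases j <;> assumption

theorem SL2_mul_apply (g h : SL(2, F)) (i j : Fin 2) :
    (g * h) i j = g i 0 * h 0 j + g i 1 * h 1 j := by
  simp [Matrix.mul_apply, Fin.sum_univ_two]

theorem SL2_inv_00 (g : SL(2, F)) : g⁻¹ 0 0 = g 1 1 := by rw [SpecialLinearGroup.SL2_inv_expl]; rfl
theorem SL2_inv_01 (g : SL(2, F)) : g⁻¹ 0 1 = -g 0 1 := by rw [SpecialLinearGroup.SL2_inv_expl]; rfl
theorem SL2_inv_10 (g : SL(2, F)) : g⁻¹ 1 0 = -g 1 0 := by rw [SpecialLinearGroup.SL2_inv_expl]; rfl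
theorem SL2_inv_11 (g : SL(2, F)) : g⁻¹ 1 1 = g 0 0 := by rw [SpecialLinearGroup.SL2_inv_expl]; rfl

theorem SL2_pow_of_trace {g : SL(2, F)} (h : g 0 0 + g 1 1 = 2) (n : ℕ) :
    (g ^ n) 0 0 = 1 + n * (g 0 0 - 1) ∧ (g ^ n) 0 1 = n * g 0 1 ∧ (g ^ n) 1 0 = n * g 1 0 ∧
      (g ^ n) 1 1 = 1 + n * (g 1 1 - 1) := by
  have hd := SL2_det g
  induction n with
  | zero => simp
  | succ n ih =>
    obtain ⟨h1, h2, h3, h4⟩ := ih
    simp only [pow_succ, SL2_mul_apply, h1, h2, h3, h4, Nat.cast_succ]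
    refine ⟨?_, ?_, ?_, ?_⟩
    · linear_combination (-n : F) * hd + n * g 0 0 * h
    · linear_combination n * g 0 1 * h
    · linear_combination n * g 1 0 * h
    · linear_combination (-n : F) * hd + n * g 1 1 * h

theorem SL2_pow_char_eq_one {p : ℕ} [CharP F p] {g : SL(2, F)} (h : g 0 0 + g 1 1 = 2) :
    g ^ p = 1 := by
  obtain ⟨h1, h2, h3, h4⟩ := SL2_pow_of_trace h p
  refine SL2_ext ?_ ?_ ?_ ?_ <;> simp [h1, h2, h3, h4]

theorem SL2_trace_of_pow {p k : ℕ} [hp : Fact p.Prime] [CharP F p] {g : SL(2, F)}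
    (h : g ^ p ^ k = 1) : g 0 0 + g 1 1 = 2 := by
  have h1 : IsNilpotent ((g : Matrix (Fin 2) (Fin 2) F) - 1) := ⟨p ^ k, by
    have h0 : (g : Matrix (Fin 2) (Fin 2) F) ^ p ^ k = 1 := congrArg Subtype.val h
    rw [sub_pow_char_pow_of_commute p k (Commute.one_right _), one_pow, h0, sub_self]⟩
  have h2 := (Matrix.isNilpotent_trace_of_isNilpotent h1).eq_zero
  rw [trace_sub, trace_one, trace_fin_two, sub_eq_zero] at h2
  simpa using h2

theorem SL2_trace_sq_of_commute {u g : SL(2, F)} (hu : u 0 0 + u 1 1 = 2) (hu1 : u ≠ 1)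
    (h : u * g = g * u) : (g 0 0 + g 1 1) ^ 2 = 4 := by
  obtain ⟨h1, h2, h3⟩ := (H5.matrix_two_commute_iff (u : Matrix (Fin 2) (Fin 2) F) g).1
    (congrArg Subtype.val h)
  have hd := SL2_det g
  have hd' := SL2_det u
  have h4 : (u 0 0 - u 1 1) ^ 2 + 4 * u 0 1 * u 1 0 = 0 := by
    linear_combination (-4) * hd' + (u 0 0 + u 1 1 + 2) * hu
  by_cases a1 : u 0 1 = 0
  · by_cases a2 : u 1 0 = 0
    · exfalso
      rw [a1, mul_zero, zero_mul, add_zero, pow_eq_zero_iff two_ne_zero, sub_eq_zero] at h4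
      rw [a1, ← h4] at hd'
      have h5 : (u 0 0 - 1) ^ 2 = 0 := by linear_combination hd' - hu - h4
      have h6 : u 0 0 = 1 := sub_eq_zero.1 (pow_eq_zero_iff two_ne_zero |>.1 h5)
      exact hu1 (SL2_ext h6 a1 a2 (h4 ▸ h6))
    · apply mul_left_cancel₀ (pow_ne_zero 2 a2)
      linear_combination (4 * u 1 0 ^ 2) * hd + (g 1 0) ^ 2 * h4 -
        ((g 0 0 - g 1 1) * u 1 0 + (u 0 0 - u 1 1) * g 1 0) * h3 - 4 * u 1 0 * g 1 0 * h1
  · apply mul_left_cancel₀ (pow_ne_zero 2 a1)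
    linear_combination (4 * u 0 1 ^ 2) * hd + (g 0 1) ^ 2 * h4 -
        ((g 0 0 - g 1 1) * u 0 1 + (u 0 0 - u 1 1) * g 0 1) * h2 + 4 * u 0 1 * g 0 1 * h1

theorem SL2_trace_sq_of_not_coprime {p : ℕ} [hp : Fact p.Prime] [CharP F p] [Finite F]
    {g : SL(2, F)} (h : ¬ (orderOf g).Coprime p) : (g 0 0 + g 1 1) ^ 2 = 4 := by
  obtain ⟨u, hu, v, -, huv, -, ⟨k, hk⟩, hc⟩ := exists_p_part hp.out g
  refine SL2_trace_sq_of_commute (u := u) (SL2_trace_of_pow (p := p) (k := k)
    (by rw [← hk, pow_orderOf_eq_one])) ?_ (commute_of_mem_zpowers hu (mem_zpowers g))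
  rintro rfl
  rw [one_mul] at huv
  exact h (huv ▸ hc)

theorem SL2_eq_neg_one_of_sq (h2 : (2 : F) ≠ 0) {g : SL(2, F)} (h : g ^ 2 = 1) (h1 : g ≠ 1) :
    g = -1 := by
  have hd := SL2_det g
  have e00 : (g ^ 2) 0 0 = 1 := by rw [h]; rfl
  have e01 : (g ^ 2) 0 1 = 0 := by rw [h]; rfl
  have e10 : (g ^ 2) 1 0 = 0 := by rw [h]; rfl
  rw [pow_two, SL2_mul_apply] at e00 e01 e10
  have h6 : g 0 0 + g 1 1 ≠ 0 := fun h => h2 (by linear_combination (-1 : F) * e00 - hd + g 0 0 * h)
  have h7 : g 0 1 = 0 := (mul_eq_zero.1 (show g 0 1 * (g 0 0 + g 1 1) = 0 by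
    linear_combination e01)).resolve_right h6
  have h8 : g 1 0 = 0 := (mul_eq_zero.1 (show g 1 0 * (g 0 0 + g 1 1) = 0 by
    linear_combination e10)).resolve_right h6
  rw [h7] at e00 hd
  have h9 : g 1 1 = g 0 0 := by linear_combination g 0 0 * hd - g 1 1 * e00
  rcases mul_self_eq_one_iff.1 (show g 0 0 * g 0 0 = 1 by linear_combination e00) with h | h
  · exact absurd (SL2_ext h h7 h8 (h9.trans h)) h1
  · refine SL2_ext ?_ ?_ ?_ ?_ <;> simp [h, h7, h8, h9]

/-- Conjugation of `SL₂` by an invertible matrix. -/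
def conjSL2 (P : GL (Fin 2) F) : SL(2, F) ≃* SL(2, F) where
  toFun g := ⟨P * g * P⁻¹, by
    rw [det_mul, det_mul, g.det_coe, mul_one, ← det_mul]; simp⟩
  invFun g := ⟨P⁻¹ * g * P, by
    rw [det_mul, det_mul, g.det_coe, mul_one, ← det_mul]; simp⟩
  left_inv g := Subtype.ext (by simp [Matrix.mul_assoc])
  right_inv g := Subtype.ext (by simp [Matrix.mul_assoc])
  map_mul' g h := Subtype.ext (by
    change P.val * (g.1 * h.1) * P⁻¹.val = (P.val * g.1 * P⁻¹.val) * (P.val * h.1 * P⁻¹.val)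
    simp [Matrix.mul_assoc])

/-- The upper transvection. -/
abbrev upT (c : F) : SL(2, F) := SpecialLinearGroup.transvection zero_ne_one c

theorem upT_00 (c : F) : upT c 0 0 = 1 := by simp [SpecialLinearGroup.transvection_coe]
theorem upT_01 (c : F) : upT c 0 1 = c := by simp [SpecialLinearGroup.transvection_coe]
theorem upT_10 (c : F) : upT c 1 0 = 0 := by simp [SpecialLinearGroup.transvection_coe]
theorem upT_11 (c : F) : upT c 1 1 = 1 := by simp [SpecialLinearGroup.transvection_coe]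

theorem exists_conj_upT {a : SL(2, F)} (ha : a 0 0 + a 1 1 = 2) (h1 : a ≠ 1) :
    ∃ e : SL(2, F) ≃* SL(2, F), e a = upT 1 := by
  have hd := SL2_det a
  have key : ∀ Q : Matrix (Fin 2) (Fin 2) F, Q.det ≠ 0 → a * Q = Q * upT (1 : F) →
      ∃ e : SL(2, F) ≃* SL(2, F), e a = upT 1 := by
    intro Q hQ h
    refine ⟨(conjSL2 (GeneralLinearGroup.mkOfDetNeZero Q hQ)).symm, ?_⟩
    rw [MulEquiv.symm_apply_eq]
    refine Subtype.ext ?_
    change _ = (GeneralLinearGroup.mkOfDetNeZero Q hQ).val * _ * _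
    rw [show (GeneralLinearGroup.mkOfDetNeZero Q hQ).val = Q from rfl, ← h, Matrix.mul_assoc]
    have : Q * ((GeneralLinearGroup.mkOfDetNeZero Q hQ)⁻¹ : GL (Fin 2) F).val = 1 :=
      (GeneralLinearGroup.mkOfDetNeZero Q hQ).mul_inv
    rw [this, Matrix.mul_one]
  by_cases h01 : a 0 1 = 0
  · rw [h01] at hd
    have h5 : (a 0 0 - 1) ^ 2 = 0 := by linear_combination a 0 0 * ha - hd
    have h6 : a 0 0 = 1 := sub_eq_zero.1 (pow_eq_zero_iff two_ne_zero |>.1 h5)
    have h7 : a 1 1 = 1 := by linear_combination ha - h6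
    have h10 : a 1 0 ≠ 0 := fun h => h1 (SL2_ext h6 h01 h h7)
    refine key !![0, 1; a 1 0, 0] (by simpa [det_fin_two] using h10) ?_
    ext i j
    fin_cases i <;> fin_cases j <;>
      simp [Matrix.mul_apply, Fin.sum_univ_two, upT_00, upT_01, upT_10, upT_11, h01, h6, h7]
  · refine key !![a 0 1, 0; a 1 1 - 1, 1] (by simpa [det_fin_two] using h01) ?_
    ext i j
    fin_cases i <;> fin_cases j <;>
      simp [Matrix.mul_apply, Fin.sum_univ_two, upT_00, upT_01, upT_10, upT_11]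
    · linear_combination a 0 1 * ha
    · linear_combination (-1 : F) * hd + a 1 1 * ha

theorem upT_zmod_three : ∀ c : ZMod 3, upT c = upT 1 ^ c.val := by decide

theorem lowT_zmod_three : ∀ c : ZMod 3,
    (SpecialLinearGroup.transvection one_ne_zero c : SL(2, ZMod 3)) =
      SpecialLinearGroup.transvection one_ne_zero (-1) ^ (-c).val := by decide

theorem sl2_normalized_upT [Finite F] {p : ℕ} [hp : Fact p.Prime] [CharP F p] (hp2 : p ≠ 2)
    (R : Subgroup SL(2, F)) (hR : (Nat.card R).Coprime p)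
    (haR : upT 1 ∈ normalizer (R : Set SL(2, F))) (hnt : ⁅R, zpowers (upT (1 : F))⁆ ≠ ⊥) :
    p = 3 ∧ Nonempty (R ≃* QuaternionGroup 2) ∧
      Nonempty (↥(R ⊔ zpowers (upT (1 : F))) ≃* SL(2, ZMod 3)) := by
  classical
  set u : SL(2, F) := upT 1 with hu
  have u00 : u 0 0 = 1 := upT_00 1
  have u01 : u 0 1 = 1 := upT_01 1
  have u10 : u 1 0 = 0 := upT_10 1
  have u11 : u 1 1 = 1 := upT_11 1
  have h2 : (2 : F) ≠ 0 := by
    rw [← Nat.cast_ofNat, Ne, CharP.cast_eq_zero_iff F p]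
    exact fun h => hp2 ((Nat.prime_dvd_prime_iff_eq hp.out Nat.prime_two).1 h)
  have hut : u 0 0 + u 1 1 = 2 := by rw [u00, u11]; norm_num
  have hup : u ^ p = 1 := SL2_pow_char_eq_one hut
  have huP : IsPGroup p (zpowers u) := isPGroup_zpowers_of_pow (k := 1) (by simpa using hup)
  have huR : zpowers u ≤ normalizer (R : Set SL(2, F)) := zpowers_le_of_mem haR
  have hdis : zpowers u ⊓ R = ⊥ :=
    inf_eq_bot_of_coprime (coprime_card_of_isPGroup hR huP).symm
  have hone : ∀ r ∈ R, r ^ p = 1 → r = 1 := fun r hr h => by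
    exact mem_bot.1 (FrobNPC.mem_of_pow_mem_of_coprime
      (hR.coprime_dvd_left (orderOf_dvd_natCard _ hr)) (mem_bot.2 h))
  have htr : ∀ r ∈ R, ∀ n : ℕ, (n : F) ≠ 0 → (2 - n ^ 2 * r 1 0 ^ 2) ^ 2 = (4 : F) := by
    intro r hr n hn
    obtain ⟨a1, a2, a3, a4⟩ := SL2_pow_of_trace hut n
    have h3 := SL2_trace_sq_of_not_coprime (p := p) (g := u ^ n * (r * u ^ n * r⁻¹)) fun hc => by
      have h4 := FrobNPC.mem_of_mem_sup_of_coprime huP huR (mul_mem
        (mem_sup_left (pow_mem (mem_zpowers u) n)) (mul_mem (mul_mem (mem_sup_right hr)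
          (mem_sup_left (pow_mem (mem_zpowers u) n))) (mem_sup_right (inv_mem hr)))) hc
      have h5 : u ^ n * u ^ n ∈ zpowers u ⊓ R := by
        refine mem_inf.2 ⟨mul_mem (pow_mem (mem_zpowers u) n) (pow_mem (mem_zpowers u) n), ?_⟩
        have h7 := conj_mem_of_mem_normalizer (huR (pow_mem (mem_zpowers u) n)) hr
        have h8 : (u ^ n * r * (u ^ n)⁻¹)⁻¹ * (u ^ n * (r * u ^ n * r⁻¹) * r) = u ^ n * u ^ n := by
          group
        rw [← h8]
        exact mul_mem (inv_mem h7) (mul_mem h4 hr)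
      rw [hdis, mem_bot] at h5
      have h6 : (u ^ n * u ^ n) 0 1 = 0 := by rw [h5]; rfl
      rw [SL2_mul_apply, a1, a2, a4, u00, u01, u11] at h6
      exact mul_ne_zero h2 hn (by linear_combination h6)
    have hd := SL2_det r
    simp only [SL2_mul_apply, SL2_inv_00, SL2_inv_01, SL2_inv_10, SL2_inv_11, a1, a2, a3, a4, u00,
      u01, u10, u11] at h3
    rw [← h3]
    congr 1
    linear_combination (-2 : F) * hd
  have hγ : ∀ r ∈ R, r 1 0 ≠ 0 → (3 : F) = 0 ∧ r 1 0 ^ 2 = 1 := by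
    intro r hr h0
    have h3 := htr r hr 1 (by simp)
    have h4 := htr r hr 2 (by simpa using h2)
    have h5 : r 1 0 ^ 2 = 4 := by
      apply mul_left_cancel₀ (pow_ne_zero 2 h0)
      linear_combination h3
    have h6 : r 1 0 ^ 2 = 1 := by
      apply mul_left_cancel₀ (mul_ne_zero (pow_ne_zero 4 h2) (pow_ne_zero 2 h0))
      push_cast at h4
      linear_combination h4
    exact ⟨by linear_combination h6 - h5, h6⟩
  have hγ0 : ∀ r ∈ R, r 1 0 = 0 → r = 1 ∨ r = -1 := by
    intro r hr h0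
    have hd := SL2_det r
    have h3 : u⁻¹ * r * u * r⁻¹ = 1 := hone _
      (mul_mem (conj_mem_of_mem_normalizer' haR hr) (inv_mem hr)) (SL2_pow_char_eq_one (by
        simp only [SL2_mul_apply, SL2_inv_00, SL2_inv_01, SL2_inv_10, SL2_inv_11, u00, u01, u10,
          u11, h0] at hd ⊢
        linear_combination 2 * hd))
    have h4 := SL2_trace_sq_of_commute hut (fun h => one_ne_zero (u01.symm.trans (by rw [h]; rfl)))
      (g := r) (by
        have : u⁻¹ * r * u = r := mul_inv_eq_one.1 h3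
        calc u * r = u * (u⁻¹ * r * u) := by rw [this]
          _ = r * u := by group)
    have h5 : r ^ 2 = 1 := hone _ (pow_mem hr 2) (SL2_pow_char_eq_one (by
      simp only [pow_two, SL2_mul_apply]
      linear_combination h4 - 2 * hd))
    by_cases h6 : r = 1
    · exact Or.inl h6
    · exact Or.inr (SL2_eq_neg_one_of_sq h2 h5 h6)
  obtain ⟨r₀, hr₀, hr1⟩ : ∃ r ∈ R, r 1 0 = 1 := by
    obtain ⟨r, hr, h0⟩ : ∃ r ∈ R, r 1 0 ≠ 0 := by
      by_contra hn
      push Not at hn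
      refine hnt (commutator_eq_bot_iff_le_centralizer.2 fun r hr y _ => ?_)
      rcases hγ0 r hr (hn r hr) with rfl | rfl <;> simp
    rcases sq_eq_one_iff.1 (hγ r hr h0).2 with h | h
    · exact ⟨r, hr, h⟩
    · exact ⟨r⁻¹, inv_mem hr, by rw [SL2_inv_10, h, neg_neg]⟩
  have h3 := (hγ r₀ hr₀ (by rw [hr1]; exact one_ne_zero)).1
  have hp3 : p = 3 := by
    rw [← Nat.cast_ofNat, CharP.cast_eq_zero_iff F p] at h3
    exact (Nat.prime_dvd_prime_iff_eq hp.out Nat.prime_three).1 h3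
  subst hp3
  have hmem : ∀ r ∈ R, r 1 0 ∈ ({0, 1, -1} : Finset F) := by
    intro r hr
    by_cases h0 : r 1 0 = 0
    · simp [h0]
    · rcases sq_eq_one_iff.1 (hγ r hr h0).2 with h | h <;> simp [h]
  have hcard : Nat.card R ≤ 8 := by
    have h4 := Set.ncard_le_ncard_of_injOn (s := (R : Set SL(2, F)))
      (t := (((({0, 1, -1} : Finset F) ×ˢ ({0, 1, -1} : Finset F)).erase (0, 0) : Finset (F × F)) :
        Set (F × F))) (fun r => (r 1 0, (r * r₀⁻¹) 1 0)) (by
        intro r hr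
        simp only [Finset.coe_erase, Finset.coe_product, Set.mem_diff, Set.mem_prod,
          Finset.mem_coe, Set.mem_singleton_iff, Prod.mk.injEq, not_and]
        refine ⟨⟨hmem r hr, hmem _ (mul_mem hr (inv_mem hr₀))⟩, fun h5 h6 => ?_⟩
        have hd := SL2_det r
        rw [SL2_mul_apply, SL2_inv_00, SL2_inv_10, h5, hr1] at h6
        rw [h5, show r 1 1 = 0 by linear_combination -h6] at hd
        simp at hd) (by
        intro r hr s hs h
        obtain ⟨h5, h6⟩ := Prod.mk.inj h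
        rw [SL2_mul_apply, SL2_mul_apply, SL2_inv_00, SL2_inv_10, h5, hr1] at h6
        have h7 : r 1 1 = s 1 1 := by linear_combination -h6
        have hd := SL2_det s
        rcases hγ0 _ (mul_mem hr (inv_mem hs)) (by
          rw [SL2_mul_apply, SL2_inv_00, SL2_inv_10, h5, h7]; ring) with h8 | h8
        · exact mul_inv_eq_one.1 h8
        · exfalso
          have h9 : (r * s⁻¹) 1 1 = -1 := by rw [h8]; simp
          rw [SL2_mul_apply, SL2_inv_01, SL2_inv_11, h5, h7] at h9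
          exact h2 (by linear_combination h9 - hd))
    rw [Set.ncard_coe_finset, Finset.card_erase_of_mem (by simp), Finset.card_product] at h4
    have h5 : ({0, 1, -1} : Finset F).card ≤ 3 := Finset.card_le_three
    have h6 := Nat.mul_le_mul h5 h5
    have h7 : Nat.card R = (R : Set SL(2, F)).ncard := rfl
    omega
  let φ : SL(2, ZMod 3) →* SL(2, F) := (MulAut.conj (upT (r₀ 0 0))).toMonoidHom.comp
    (SpecialLinearGroup.map (ZMod.castHom (dvd_refl 3) F))
  have hφ : Function.Injective φ := by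
    refine (MulAut.conj _).injective.comp fun g h hgh => ?_
    ext i j
    exact (ZMod.castHom (dvd_refl 3) F).injective (congrFun (congrFun (congrArg Subtype.val hgh) i) j)
  have hφ' : ∀ g : SL(2, ZMod 3), φ g = upT (r₀ 0 0) *
    SpecialLinearGroup.map (ZMod.castHom (dvd_refl 3) F) g * (upT (r₀ 0 0))⁻¹ := fun g => rfl
  have hmap : ∀ (g : SL(2, ZMod 3)) i j, SpecialLinearGroup.map (ZMod.castHom (dvd_refl 3) F) g i j =
    ZMod.castHom (dvd_refl 3) F (g i j) := fun g i j => rfl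
  have hrange : φ.range ≤ R ⊔ zpowers u := by
    have e1 : φ (upT 1) = u := by
      rw [hφ']
      refine SL2_ext ?_ ?_ ?_ ?_ <;>
        simp only [SL2_mul_apply, SL2_inv_00, SL2_inv_01, SL2_inv_10, SL2_inv_11, hmap, upT_00,
          upT_01, upT_10, upT_11, map_one, map_zero, u00, u01, u10, u11] <;> ring
    have e2 : φ (SpecialLinearGroup.transvection one_ne_zero (-1)) = r₀ * u * r₀⁻¹ := by
      have hd := SL2_det r₀
      rw [hφ']
      refine SL2_ext ?_ ?_ ?_ ?_ <;>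
        simp only [SL2_mul_apply, SL2_inv_00, SL2_inv_01, SL2_inv_10, SL2_inv_11, hmap, upT_00,
          upT_01, upT_10, upT_11, u00, u01, u10, u11, hr1] at hd ⊢ <;>
        simp [SpecialLinearGroup.transvection_coe]
      · linear_combination -hd
      · linear_combination r₀ 0 0 * hd - hd * r₀ 0 0
      · linear_combination -hd
    have m1 : φ (upT 1) ∈ R ⊔ zpowers u := by rw [e1]; exact mem_sup_right (mem_zpowers u)
    have m2 : φ (SpecialLinearGroup.transvection one_ne_zero (-1)) ∈ R ⊔ zpowers u :=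
      e2 ▸ mul_mem (mul_mem (mem_sup_left hr₀) (mem_sup_right (mem_zpowers u)))
        (mem_sup_left (inv_mem hr₀))
    rintro _ ⟨g, rfl⟩
    induction g using SL2.transvection_induction with
    | hmul A B hA hB => rw [map_mul]; exact mul_mem hA hB
    | htransvec i j h c =>
      fin_cases i
      · obtain rfl : j = 1 := by fin_cases j <;> tauto
        have : SpecialLinearGroup.transvection h c = upT 1 ^ c.val :=
          upT_zmod_three c
        rw [this, map_pow]
        exact pow_mem m1 _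
      · obtain rfl : j = 0 := by fin_cases j <;> tauto
        have : SpecialLinearGroup.transvection h c =
            SpecialLinearGroup.transvection one_ne_zero (-1) ^ (-c).val :=
          lowT_zmod_three c
        rw [this, map_pow]
        exact pow_mem m2 _
  have h24 : Nat.card φ.range = 24 := by
    rw [← Nat.card_congr (MonoidHom.ofInjective hφ).toEquiv, Nat.card_eq_fintype_card]
    decide +kernel
  have hc3 : Nat.card ↥(R ⊔ zpowers u) = 3 * Nat.card R := by
    rw [sup_comm, card_sup_of_disjoint huR hdis, Nat.card_zpowers, orderOf_eq_prime hup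
      (fun h => one_ne_zero (u01.symm.trans (by rw [h]; rfl)))]
  have h4 := card_le_of_le hrange
  have h8 : Nat.card R = 8 := by omega
  have heq := eq_of_le_of_card_le hrange (by omega)
  refine ⟨rfl, ?_, ⟨((MonoidHom.ofInjective hφ).trans (MulEquiv.subgroupCongr heq)).symm⟩⟩
  rcases PGrp.isCyclic_or_quaternion_of_unique_involution (G := R)
    (IsPGroup.of_card (n := 3) h8) (fun a b ha hb => Subtype.ext (by
      have key : ∀ a : R, orderOf a = 2 → (a : SL(2, F)) = -1 := fun a ha =>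
        SL2_eq_neg_one_of_sq h2 (congrArg Subtype.val (orderOf_dvd_iff_pow_eq_one.1 ha.dvd))
          fun h => by rw [show a = 1 from Subtype.ext h] at ha; simp at ha
      rw [key a ha, key b hb])) with h | ⟨k, -, ⟨e⟩⟩
  · exfalso
    have h5 := congrArg Subtype.val (h.isMulCommutative.is_comm.comm (⟨r₀, hr₀⟩ : R)
      ⟨_, conj_mem_of_mem_normalizer haR hr₀⟩)
    have h6 : (r₀ * (u * r₀ * u⁻¹)) 1 0 = (u * r₀ * u⁻¹ * r₀) 1 0 := congrArg (fun g : SL(2, F) => g 1 0) h5
    simp only [SL2_mul_apply, SL2_inv_00, SL2_inv_01, SL2_inv_10, SL2_inv_11, u00, u01, u10,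
      u11, hr1] at h6
    exact h2 (by linear_combination h6)
  · have h5 := Nat.card_congr e.toEquiv
    rw [h8, Nat.card_eq_fintype_card, QuaternionGroup.card] at h5
    obtain rfl : k = 1 := Nat.pow_right_injective le_rfl (show 2 ^ k = 2 ^ 1 by omega)
    exact ⟨e⟩

end CfsgLib.H1
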