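import Mathlib

/-!
# Orders of `SL₂` and `PSL₂` over a finite field
-/

set_option autoImplicit false

namespace CfsgLib.SL2C

open Matrix Subgroup
open scoped MatrixGroups

variable (F : Type*) [Field F] [Finite F]

omit [Finite F] in
theorem card_SL_mul (n : ℕ) [NeZero n] :
    Nat.card (SpecialLinearGroup (Fin n) F) * (Nat.card F - 1) = Nat.card (GL (Fin n) F) := by
  have h1 : (SpecialLinearGroup.toGL : SpecialLinearGroup (Fin n) F →* GL (Fin n) F).range =
      (GeneralLinearGroup.det : GL (Fin n) F →* Fˣ).ker := by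
    ext g
    constructor
    · rintro ⟨h, rfl⟩
      exact Units.ext (by simp)
    · intro h
      exact ⟨⟨g, by simpa using congrArg Units.val h⟩, Units.ext rfl⟩
  rw [← (GeneralLinearGroup.det : GL (Fin n) F →* Fˣ).ker.card_mul_index, index_ker,
    MonoidHom.range_eq_top.mpr GeneralLinearGroup.det_surjective, card_top, Nat.card_units, ← h1,
    Nat.card_congr (MonoidHom.ofInjective SpecialLinearGroup.toGL_injective).toEquiv]

theorem card_SL2 : Nat.card SL(2, F) = Nat.card F * (Nat.card F ^ 2 - 1) := by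
  have := Fintype.ofFinite F
  have h := card_SL_mul F 2
  rw [card_GL_field, Fin.prod_univ_two, ← Nat.card_eq_fintype_card] at h
  obtain ⟨q, hq⟩ : ∃ q, Nat.card F = q + 2 := ⟨Nat.card F - 2, by have := Finite.one_lt_card (α := F); omega⟩
  rw [hq] at h ⊢
  have e1 : (q + 2) ^ 2 - (q + 2) ^ ((1 : Fin 2) : ℕ) = (q + 2) * (q + 2 - 1) :=
    Nat.sub_eq_of_eq_add (by simp; ring)
  rw [e1] at h
  refine Nat.eq_of_mul_eq_mul_right (m := q + 2 - 1) (by omega) ?_
  rw [h]; simp; ring

variable {F}

omit [Finite F] in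
theorem card_center_SL2 (h2 : (2 : F) ≠ 0) : Nat.card (center SL(2, F)) = 2 := by
  rw [Nat.card_congr (SpecialLinearGroup.center_equiv_rootsOfUnity' (0 : Fin 2)).toEquiv]
  have h : IsPrimitiveRoot (-1 : F) 2 :=
    IsPrimitiveRoot.neg_one (ringChar F) fun h => h2 (by
      have := (ringChar.spec F 2).mpr (h ▸ dvd_rfl)
      exact_mod_cast this)
  exact h.card_rootsOfUnity

theorem card_PSL2 (h2 : (2 : F) ≠ 0) :
    Nat.card (ProjectiveSpecialLinearGroup (Fin 2) F) = Nat.card F * (Nat.card F ^ 2 - 1) / 2 := by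
  rw [← card_SL2, ← (center SL(2, F)).card_mul_index, card_center_SL2 h2,
    Nat.mul_div_cancel_left _ two_pos]
  rfl

end CfsgLib.SL2C
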