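import Mathlib
import Cfsg.Agent.Lib.CoreBasic
import Cfsg.Agent.Lib.CoreElements
import Cfsg.Agent.Lib.H5SL2Even
import Cfsg.Agent.Lib.H1SL2
import Cfsg.Agent.Lib.SL2Card

/-! Tori of `SL₂(q)`: centralizers of regular semisimple elements are cyclic of order `q ± 1`. -/

set_option autoImplicit false

namespace CfsgLib.H5

open Subgroup CfsgLib CfsgLib.H1 Matrix MatrixGroups Polynomial

variable {F : Type*} [Field F]

theorem mem_range_of_pow_card {K : Type*} [Field K] [Algebra F K] [Finite F] {w : K}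
    (h : w ^ Nat.card F = w) : ∃ a : F, algebraMap F K a = w := by
  have h1 := Polynomial.splits_X_pow_nat_card_sub_X (K := F)
  exact h1.mem_range_of_isRoot (i := algebraMap F K)
    (FiniteField.X_pow_card_sub_X_ne_zero F Finite.one_lt_card) (by simp [h])

theorem SL2_mem_center_iff {x : SL(2, F)} :
    x ∈ center SL(2, F) ↔ x 0 1 = 0 ∧ x 1 0 = 0 ∧ x 0 0 = x 1 1 := by
  constructor
  · intro h
    obtain ⟨r, -, hr⟩ := Matrix.SpecialLinearGroup.mem_center_iff.1 h
    have e : ∀ i j, x i j = scalar (Fin 2) r i j := fun i j => by rw [hr]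
    simp [e]
  · rintro ⟨h1, h2, h3⟩
    refine mem_center_iff.2 fun g => SL2_ext ?_ ?_ ?_ ?_ <;>
      simp only [SL2_mul_apply, h1, h2, h3] <;> ring

theorem SL2_mem_center_iff' {x : SL(2, F)} : x ∈ center SL(2, F) ↔ x = 1 ∨ x = -1 := by
  constructor
  · intro h
    obtain ⟨h1, h2, h3⟩ := SL2_mem_center_iff.1 h
    have hd := SL2_det x
    rw [h1, ← h3, zero_mul, sub_zero] at hd
    rcases mul_self_eq_one_iff.1 hd with h4 | h4
    · left; apply SL2_ext <;> simp [h1, h2, ← h3, h4]
    · right; apply SL2_ext <;> simp [h1, h2, ← h3, h4]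
  · rintro (rfl | rfl)
    · exact one_mem _
    · exact mem_center_iff.2 fun g => by simp

theorem SL2_sq_eq_one_of_mem_center {x : SL(2, F)} (h : x ∈ center SL(2, F)) : x ^ 2 = 1 := by
  rcases SL2_mem_center_iff'.1 h with rfl | rfl <;> simp

theorem SL2_mem_center_of_sq {x : SL(2, F)} (h2 : (2 : F) ≠ 0) (h : x ^ 2 = 1) :
    x ∈ center SL(2, F) := by
  by_cases h1 : x = 1
  · exact SL2_mem_center_iff'.2 (Or.inl h1)
  · exact SL2_mem_center_iff'.2 (Or.inr (SL2_eq_neg_one_of_sq h2 h h1))

theorem SL2_not_mem_center_of_trace {x : SL(2, F)} (h : (x 0 0 + x 1 1) ^ 2 ≠ 4) :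
    x ∉ center SL(2, F) := fun hx => h (by
  obtain ⟨h1, h2, h3⟩ := SL2_mem_center_iff.1 hx
  have hd := SL2_det x
  rw [h1, ← h3] at hd
  rw [← h3]; linear_combination 4 * hd)

theorem SL2_pow_of_trace_sq {r : ℕ} [CharP F r] {x : SL(2, F)} (h : (x 0 0 + x 1 1) ^ 2 = 4) :
    (x ^ 2) ^ r = 1 := by
  refine SL2_pow_char_eq_one ?_
  rw [sq, SL2_mul_apply, SL2_mul_apply]
  linear_combination h - 2 * SL2_det x

theorem SL2_exists_lin {x y : SL(2, F)} (hx : x ∉ center SL(2, F)) (h : x * y = y * x) :
    ∃ a b : F, y 0 0 = a + b * x 0 0 ∧ y 0 1 = b * x 0 1 ∧ y 1 0 = b * x 1 0 ∧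
      y 1 1 = a + b * x 1 1 := by
  rw [SL2_mem_center_iff] at hx
  obtain ⟨h1, h2, h3⟩ := (matrix_two_commute_iff x.1 y.1).1 (congrArg Subtype.val h)
  have key : ∃ t : F, y 0 0 - y 1 1 = t * (x 0 0 - x 1 1) ∧ y 0 1 = t * x 0 1 ∧
      y 1 0 = t * x 1 0 := by
    by_cases hb : x 0 1 = 0
    · by_cases hc : x 1 0 = 0
      · have ha : x 0 0 - x 1 1 ≠ 0 := fun h => hx ⟨hb, hc, sub_eq_zero.mp h⟩
        refine ⟨(y 0 0 - y 1 1) / (x 0 0 - x 1 1), by field_simp, ?_, ?_⟩
        · field_simp; linear_combination h2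
        · field_simp; linear_combination h3
      · refine ⟨y 1 0 / x 1 0, ?_, ?_, by field_simp⟩
        · field_simp; linear_combination -h3
        · field_simp; linear_combination -h1
    · refine ⟨y 0 1 / x 0 1, ?_, by field_simp, ?_⟩
      · field_simp; linear_combination -h2
      · field_simp; linear_combination h1
  obtain ⟨t, h4, h5, h6⟩ := key
  exact ⟨y 0 0 - t * x 0 0, t, by ring, h5, h6, by linear_combination -h4⟩

/-- A commuting element with the same trace is `x` or `x⁻¹`. -/
theorem SL2_eq_or_eq_inv {x y : SL(2, F)} (hx : (x 0 0 + x 1 1) ^ 2 ≠ 4) (h : x * y = y * x)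
    (ht : y 0 0 + y 1 1 = x 0 0 + x 1 1) : y = x ∨ y = x⁻¹ := by
  obtain ⟨a, b, h1, h2, h3, h4⟩ := SL2_exists_lin (SL2_not_mem_center_of_trace hx) h
  have hd := SL2_det y
  have hd' := SL2_det x
  rw [h1, h2, h3, h4] at hd
  rw [h1, h4] at ht
  set t := x 0 0 + x 1 1 with htdef
  have e1 : 2 * a + b * t = t := by rw [htdef]; linear_combination ht
  have e2 : a ^ 2 + a * b * t + b ^ 2 = 1 := by rw [htdef]; linear_combination hd - b ^ 2 * hd'
  have e3 : (t ^ 2 - 4) * ((b - 1) * (b + 1)) = 0 := by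
    linear_combination (-4) * e2 + (2 * a + b * t + t) * e1
  have e4 := (mul_eq_zero.1 e3).resolve_left (sub_ne_zero.2 hx)
  have ht0 : (2 : F) = 0 → t ≠ 0 := fun h2 h0 => hx (by
    rw [h0]; linear_combination (-2) * h2)
  rcases mul_eq_zero.1 e4 with hb | hb
  · obtain rfl : b = 1 := by linear_combination hb
    have ha : a = 0 ∨ a = -t := by
      have : a * (a + t) = 0 := by linear_combination e2
      rcases mul_eq_zero.1 this with h | h
      · exact Or.inl h
      · exact Or.inr (by linear_combination h)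
    by_cases h2' : (2 : F) = 0
    · rcases ha with rfl | rfl
      · left; apply SL2_ext <;> simp [h1, h2, h3, h4]
      · right
        apply SL2_ext
        · rw [SL2_inv_00, h1, htdef]; linear_combination (-x 1 1) * h2'
        · rw [SL2_inv_01, h2]; linear_combination (x 0 1) * h2'
        · rw [SL2_inv_10, h3]; linear_combination (x 1 0) * h2'
        · rw [SL2_inv_11, h4, htdef]; linear_combination (-x 0 0) * h2'
    · obtain rfl : a = 0 := by
        have : 2 * a = 0 := by linear_combination e1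
        exact (mul_eq_zero.1 this).resolve_left h2'
      left; apply SL2_ext <;> simp [h1, h2, h3, h4]
  · obtain rfl : b = -1 := by linear_combination hb
    by_cases h2' : (2 : F) = 0
    · have ha : a = 0 ∨ a = t := by
        have : a * (a - t) = 0 := by linear_combination e2
        rcases mul_eq_zero.1 this with h | h
        · exact Or.inl h
        · exact Or.inr (by linear_combination h)
      rcases ha with rfl | rfl
      · left
        apply SL2_ext
        · rw [h1]; linear_combination (-x 0 0) * h2'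
        · rw [h2]; linear_combination (-x 0 1) * h2'
        · rw [h3]; linear_combination (-x 1 0) * h2'
        · rw [h4]; linear_combination (-x 1 1) * h2'
      · right
        apply SL2_ext
        · rw [SL2_inv_00, h1, htdef]; ring
        · rw [SL2_inv_01, h2]; ring
        · rw [SL2_inv_10, h3]; ring
        · rw [SL2_inv_11, h4, htdef]; ring
    · obtain rfl : a = t := by
        have : 2 * (a - t) = 0 := by linear_combination e1
        exact sub_eq_zero.1 ((mul_eq_zero.1 this).resolve_left h2')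
      right
      apply SL2_ext
      · rw [SL2_inv_00, h1, htdef]; ring
      · rw [SL2_inv_01, h2]; ring
      · rw [SL2_inv_10, h3]; ring
      · rw [SL2_inv_11, h4, htdef]; ring

theorem SL2_trace_conj (g x : SL(2, F)) :
    (g * x * g⁻¹) 0 0 + (g * x * g⁻¹) 1 1 = x 0 0 + x 1 1 := by
  simp only [SL2_mul_apply, SL2_inv_00, SL2_inv_01, SL2_inv_10, SL2_inv_11]
  linear_combination (x 0 0 + x 1 1) * SL2_det g

/-- The centralizer of a regular semisimple element is cyclic of order `q ± 1`. -/
theorem SL2_centralizer [Finite F] {x : SL(2, F)} (hx : (x 0 0 + x 1 1) ^ 2 ≠ 4) :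
    IsCyclic (centralizer ({x} : Set SL(2, F))) ∧
      (Nat.card (centralizer ({x} : Set SL(2, F))) = Nat.card F - 1 ∨
        Nat.card (centralizer ({x} : Set SL(2, F))) = Nat.card F + 1) := by
  classical
  letI := Fintype.ofFinite F
  set K := AlgebraicClosure F
  set ι := algebraMap F K with hι
  have hxc := SL2_not_mem_center_of_trace hx
  have hd := SL2_det x
  obtain ⟨l, hl⟩ : ∃ l : K, l ^ 2 - ι (x 0 0 + x 1 1) * l + 1 = 0 := by
    obtain ⟨l, hl⟩ := IsAlgClosed.exists_root (C 1 * X ^ 2 + C (-ι (x 0 0 + x 1 1)) * X + C 1 : K[X])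
      (by rw [degree_quadratic one_ne_zero]; decide)
    refine ⟨l, ?_⟩
    simp only [IsRoot.def, eval_add, eval_mul, eval_C, eval_pow, eval_X] at hl
    linear_combination hl
  have hl0 : l ≠ 0 := by rintro rfl; simp at hl
  set m := l⁻¹ with hm
  have hlm : l * m = 1 := mul_inv_cancel₀ hl0
  have hsum : ι (x 0 0) + ι (x 1 1) = l + m := by
    rw [← map_add]; linear_combination (-m) * hl + (l - ι (x 0 0 + x 1 1)) * hlm
  have hne : l - m ≠ 0 := fun h => hx (ι.injective (by
    rw [map_pow, map_add, hsum, map_ofNat]; linear_combination (l - m) * h + 4 * hlm))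
  have hdK : ι (x 0 0) * ι (x 1 1) - ι (x 0 1) * ι (x 1 0) = 1 := by
    rw [← map_mul, ← map_mul, ← map_sub, hd, map_one]
  let φ : SL(2, F) → K := fun y => (ι (y 0 0 * x 0 0 + y 0 1 * x 1 0 + y 1 0 * x 0 1 +
    y 1 1 * x 1 1) - m * ι (y 0 0 + y 1 1)) / (l - m)
  have hφ : ∀ (y : SL(2, F)) (a b : F), y 0 0 = a + b * x 0 0 → y 0 1 = b * x 0 1 →
      y 1 0 = b * x 1 0 → y 1 1 = a + b * x 1 1 →
      φ y = ι a + ι b * l ∧ (ι a + ι b * l) * (ι a + ι b * m) = 1 := by
    intro y a b h1 h2 h3 h4
    have hy := congrArg ι (SL2_det y)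
    rw [h1, h2, h3, h4] at hy
    simp only [φ, h1, h2, h3, h4, map_add, map_mul, map_sub, map_one] at hy ⊢
    constructor
    · rw [div_eq_iff hne]
      linear_combination (ι a + ι b * (ι (x 0 0) + ι (x 1 1) + l)) * hsum - 2 * ι b * hdK +
        2 * ι b * hlm
    · linear_combination hy - ι b ^ 2 * hdK - ι a * ι b * hsum + ι b ^ 2 * hlm
  let f : centralizer ({x} : Set SL(2, F)) →* K :=
    { toFun := fun y => φ y
      map_one' := by simpa using (hφ 1 1 0 (by simp) (by simp) (by simp) (by simp)).1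
      map_mul' := fun y z => by
        obtain ⟨a, b, h1, h2, h3, h4⟩ :=
          SL2_exists_lin hxc (mem_centralizer_singleton_iff.1 y.2).symm
        obtain ⟨c, d, k1, k2, k3, k4⟩ :=
          SL2_exists_lin hxc (mem_centralizer_singleton_iff.1 z.2).symm
        rw [(hφ _ a b h1 h2 h3 h4).1, (hφ _ c d k1 k2 k3 k4).1,
          (hφ _ (a * c - b * d) (a * d + b * c + b * d * (x 0 0 + x 1 1)) ?_ ?_ ?_ ?_).1]
        · simp only [map_add, map_mul, map_sub, hsum]
          linear_combination (ι b * ι d) * hlm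
        all_goals rw [Subgroup.coe_mul, SL2_mul_apply]; simp only [h1, h2, h3, h4, k1, k2, k3, k4]
        · linear_combination (-b * d) * hd
        · ring
        · ring
        · linear_combination (-b * d) * hd }
  have hf : ∀ y, ∃ a b : F, f y = ι a + ι b * l ∧ (ι a + ι b * l) * (ι a + ι b * m) = 1 ∧
      (b = 0 → a = 1 → y = 1) := fun y => by
    obtain ⟨a, b, h1, h2, h3, h4⟩ := SL2_exists_lin hxc (mem_centralizer_singleton_iff.1 y.2).symm
    refine ⟨a, b, (hφ _ a b h1 h2 h3 h4).1, (hφ _ a b h1 h2 h3 h4).2, ?_⟩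
    rintro rfl rfl
    exact Subtype.ext (by apply SL2_ext <;> simp [h1, h2, h3, h4])
  have hinj : Function.Injective f := (injective_iff_map_eq_one f).2 fun y hy => by
    obtain ⟨a, b, h1, h2, h3⟩ := hf y
    rw [hy] at h1
    rw [← h1, one_mul] at h2
    have hb : ι b = 0 := (mul_eq_zero.1 (show ι b * (l - m) = 0 by
      linear_combination -h1 - h2)).resolve_right hne
    have hb' : b = 0 := ι.injective (by rw [hb, map_zero])
    exact h3 hb' (ι.injective (by rw [map_one]; linear_combination -h1 - l * hb))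
  have hcyc := isCyclic_of_injective_ringHom f hinj
  refine ⟨hcyc, ?_⟩
  let Fr := FiniteField.frobeniusAlgHom F K
  have hFr : ∀ w, Fr w = w ^ Nat.card F := fun w => by rw [Nat.card_eq_fintype_card]; rfl
  have hq : 1 < Nat.card F := Finite.one_lt_card
  have key : ∀ n : ℕ, (n : F) ≠ 0 → (∀ y, f y ^ n = 1) →
      (∀ z : K, z ^ n = 1 → Fr ((z - z⁻¹) / (l - m)) = (z - z⁻¹) / (l - m) ∧
        Fr ((z⁻¹ * l - z * m) / (l - m)) = (z⁻¹ * l - z * m) / (l - m)) →
      Nat.card (centralizer ({x} : Set SL(2, F))) = n := by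
    intro n hn h1 h2
    haveI : NeZero (n : F) := ⟨hn⟩
    have hn0 : n ≠ 0 := by rintro rfl; simp at hn
    refine Nat.dvd_antisymm ?_ ?_
    · rw [← IsCyclic.exponent_eq_card]
      exact Monoid.exponent_dvd_of_forall_pow_eq_one fun y => hinj (by rw [map_pow, h1, map_one])
    · obtain ⟨z, hz⟩ := HasEnoughRootsOfUnity.exists_primitiveRoot K n
      have hz0 : z ≠ 0 := hz.ne_zero hn0
      obtain ⟨h3, h4⟩ := h2 z hz.pow_eq_one
      rw [hFr] at h3 h4
      obtain ⟨b, hb⟩ := mem_range_of_pow_card h3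
      obtain ⟨a, ha⟩ := mem_range_of_pow_card h4
      have e1 : ι a + ι b * l = z := by
        rw [ha, hb, div_mul_eq_mul_div, ← add_div, div_eq_iff hne]; ring
      have e2 : ι a + ι b * m = z⁻¹ := by
        rw [ha, hb, div_mul_eq_mul_div, ← add_div, div_eq_iff hne]; ring
      let y : SL(2, F) := ⟨!![a + b * x 0 0, b * x 0 1; b * x 1 0, a + b * x 1 1], by
        rw [det_fin_two_of]
        apply ι.injective
        have e3 : (ι a + ι b * l) * (ι a + ι b * m) = 1 := by rw [e1, e2, mul_inv_cancel₀ hz0]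
        simp only [map_add, map_mul, map_sub, map_one]
        linear_combination e3 + ι b ^ 2 * hdK + ι a * ι b * hsum - ι b ^ 2 * hlm⟩
      have hy : y ∈ centralizer ({x} : Set SL(2, F)) := mem_centralizer_singleton_iff.2 (by
        apply SL2_ext <;> simp only [SL2_mul_apply] <;> simp [y] <;> ring)
      have : f ⟨y, hy⟩ = z := (hφ y a b rfl rfl rfl rfl).1.trans e1
      rw [hz.eq_orderOf, ← this, orderOf_injective f hinj]
      exact orderOf_dvd_natCard _
  have hcast : (Nat.card F : F) = 0 := by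
    rw [Nat.card_eq_fintype_card]; exact FiniteField.cast_card_eq_zero F
  have hroot : (Fr l - l) * (Fr l - m) = 0 := by
    have := congrArg Fr hl
    simp only [map_add, map_sub, map_mul, map_pow, map_one, map_zero, hι, AlgHom.commutes] at this
    rw [← hι, hsum] at this
    linear_combination this + hlm
  have hFm : Fr m = (Fr l)⁻¹ := map_inv₀ _ _
  rcases mul_eq_zero.1 hroot with h | h
  · left
    rw [sub_eq_zero] at h
    rw [h] at hFm
    refine key _ (by rw [Nat.cast_sub hq.le, hcast]; simp) (fun y => ?_) fun z hz => ?_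
    · obtain ⟨a, b, h1, h2, -⟩ := hf y
      have h0 : f y ≠ 0 := fun h0 => by rw [← h1, h0] at h2; simp at h2
      have : Fr (f y) = f y := by
        rw [h1]; simp only [map_add, map_mul, hι, AlgHom.commutes, h]
      rw [hFr] at this
      refine mul_right_cancel₀ h0 ?_
      rw [← pow_succ, Nat.sub_add_cancel hq.le, this, one_mul]
    · have : Fr z = z := by
        rw [hFr, ← Nat.sub_add_cancel hq.le, pow_succ, hz, one_mul]
      simp only [map_div₀, map_sub, map_mul, map_inv₀, this, h, hFm, ← hm, and_self]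
  · right
    rw [sub_eq_zero] at h
    rw [h, hm, inv_inv, ← hm] at hFm
    refine key _ (by rw [Nat.cast_add, hcast]; simp) (fun y => ?_) fun z hz => ?_
    · obtain ⟨a, b, h1, h2, -⟩ := hf y
      have : Fr (f y) = ι a + ι b * m := by
        rw [h1]; simp only [map_add, map_mul, hι, AlgHom.commutes, h]
      rw [pow_succ', ← hFr, this, h1, h2]
    · have : Fr z = z⁻¹ := by
        rw [hFr]; exact eq_inv_of_mul_eq_one_left (by rw [← pow_succ, hz])
      have hne' : m - l ≠ 0 := fun h => hne (by linear_combination -h)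
      simp only [map_div₀, map_sub, map_mul, map_inv₀, this, h, hFm, inv_inv]
      constructor <;> rw [div_eq_div_iff hne' hne] <;> ring

end CfsgLib.H5
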