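import Cfsg.Agent.Lib.CoreSolvable
import Cfsg.Agent.Lib.FT.Main
import Cfsg.Agent.Lib.PComplement

/-! Reduction of solvability criteria to simple groups, and consequences of the odd order theorem. -/

set_option autoImplicit false

namespace CfsgLib
open Subgroup Cfsg

universe u

/-- a property inherited by normal subgroups and quotients that forces simple groups to be solvable
forces solvability -/
theorem isSolvable_of_simple_induction {P : ∀ (X : Type u) [Group X] [Finite X], Prop}
    (hsub : ∀ (X : Type u) [Group X] [Finite X] (N : Subgroup X) [N.Normal], P X → P N)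
    (hquo : ∀ (X : Type u) [Group X] [Finite X] (N : Subgroup X) [N.Normal], P X → P (X ⧸ N))
    (hsimple : ∀ (X : Type u) [Group X] [Finite X] [IsSimpleGroup X], P X → Group.IsSolvable X)
    (G : Type u) [Group G] [Finite G] : P G → Group.IsSolvable G := by
  refine card_induction (P := fun X _ _ => P X → Group.IsSolvable X) (fun X _ _ ih hX => ?_) G
  rcases subsingleton_or_nontrivial X with h0 | h0
  · infer_instance
  by_cases hs : IsSimpleGroup X
  · exact hsimple X hX
  · obtain ⟨N, hN, h1, h2⟩ : ∃ N : Subgroup X, N.Normal ∧ N ≠ ⊥ ∧ N ≠ ⊤ := by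
      by_contra hc
      push Not at hc
      exact hs ⟨fun N hN => by by_cases h : N = ⊥; exacts [Or.inl h, Or.inr (hc N hN h)]⟩
    exact isSolvable_of_normal_of_quotient N (ih N (card_lt_of_ne_top h2) (hsub X N hX))
      (ih _ (card_quotient_lt h1) (hquo X N hX))

/-- a group with a normal `2`-complement is solvable (odd order theorem) -/
theorem isSolvable_of_hnpc_two {G : Type u} [Group G] [Finite G] (h : HasNormalPComplement 2 G) :
    Group.IsSolvable G := by
  obtain ⟨P, N, hN, hc⟩ := h
  refine isSolvable_of_normal_of_quotient N (FT.feit_thompson ?_) ?_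
  · rw [← hc.index_eq_card, ← Nat.not_even_iff_odd, even_iff_two_dvd]
    exact P.not_dvd_index
  · refine isSolvable_of_isPGroup (p := 2) ?_
    obtain ⟨k, hk⟩ := IsPGroup.iff_card.1 P.2
    exact IsPGroup.of_card (n := k) (by rw [← hk, ← hc.symm.index_eq_card]; rfl)

/-- a group with a cyclic Sylow `2`-subgroup is solvable -/
theorem isSolvable_of_isCyclic_sylow_two {G : Type u} [Group G] [Finite G] (P : Sylow 2 G)
    (h : IsCyclic (P : Subgroup G)) : Group.IsSolvable G :=
  isSolvable_of_hnpc_two (PCompl.hnpc_two_of_isCyclic P h)

/-- a group with a normal Sylow `2`-subgroup is solvable -/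
theorem isSolvable_of_normal_sylow_two {G : Type u} [Group G] [Finite G] (P : Sylow 2 G)
    [(P : Subgroup G).Normal] : Group.IsSolvable G := by
  refine isSolvable_of_normal_of_quotient (P : Subgroup G) (isSolvable_of_isPGroup P.2)
    (FT.feit_thompson ?_)
  rw [← Nat.not_even_iff_odd, even_iff_two_dvd]
  exact P.not_dvd_index

/-- a non-solvable group has even order -/
theorem even_card_of_not_isSolvable {G : Type u} [Group G] [Finite G] (h : ¬ Group.IsSolvable G) :
    Even (Nat.card G) := by
  by_contra h2
  exact h (FT.feit_thompson (Nat.not_even_iff_odd.1 h2))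

end CfsgLib
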