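import Cfsg.Agent.Lib.FpfPQ
import Cfsg.Agent.Lib.FrobFPF
import Mathlib.NumberTheory.Multiplicity

/-! # Components of class two groups under a cyclic `p`-group; counting lemmas -/

set_option autoImplicit false

namespace CfsgLib.H9

open Module Subgroup Polynomial CfsgLib.Fpf
open scoped commutatorElement

universe u v w

section num

theorem two_mul_dvd_of_dvd_pow_sub_one {q d M s : ℕ} (hq : 2 ≤ q) (hd : 1 ≤ d) (h : q ^ d + 1 = M)
    (hs : M ∣ q ^ s - 1) : 2 * d ∣ s := by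
  have h1 : 1 < q ^ d := Nat.one_lt_pow (by omega) hq
  have key : ∀ t, (q : ZMod M) ^ t = 1 ↔ M ∣ q ^ t - 1 := fun t => by
    rw [← ZMod.natCast_eq_zero_iff, Nat.cast_sub (Nat.one_le_pow _ _ (by omega)), sub_eq_zero]
    push_cast
    rfl
  have h2 : (q : ZMod M) ^ d = -1 := by
    rw [eq_neg_iff_add_eq_zero]
    have : ((q ^ d + 1 : ℕ) : ZMod M) = 0 := by rw [h, ZMod.natCast_self]
    exact_mod_cast this
  have h3 : orderOf (q : ZMod M) ∣ 2 * d :=
    orderOf_dvd_of_pow_eq_one (by rw [mul_comm, pow_mul, h2, neg_one_sq])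
  have h4 := (key _).1 (pow_orderOf_eq_one (q : ZMod M))
  have h5 := orderOf_dvd_of_pow_eq_one ((key s).2 hs)
  generalize orderOf (q : ZMod M) = e at *
  obtain ⟨c, hc⟩ := h3
  have he : e ≠ 0 := by rintro rfl; omega
  have h6 : d < e := by
    by_contra hlt
    have h7 : q ^ e ≤ q ^ d := Nat.pow_le_pow_right (by omega) (by omega)
    have h8 : 1 < q ^ e := Nat.one_lt_pow he hq
    have := Nat.le_of_dvd (by omega) h4
    omega
  obtain rfl : c = 1 := by
    rcases c with _ | _ | c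
    · omega
    · rfl
    · nlinarith
  rwa [hc, mul_one]

theorem le_of_pow_dvd_pow_sub_one {p q d m j s : ℕ} (hp : p.Prime) (hp2 : p ≠ 2) (hq : 2 ≤ q)
    (hd : 1 ≤ d) (hm : 1 ≤ m) (h : q ^ d + 1 = p ^ m) (hs0 : s ≠ 0)
    (hs : p ^ (j + m) ∣ q ^ s - 1) : 2 * d * p ^ j ≤ s := by
  obtain ⟨c, rfl⟩ := two_mul_dvd_of_dvd_pow_sub_one hq hd h
    ((pow_dvd_pow p (Nat.le_add_left m j)).trans hs)
  have hc : c ≠ 0 := by rintro rfl; simp at hs0
  refine Nat.mul_le_mul_left _ (Nat.le_of_dvd (Nat.pos_of_ne_zero hc) ?_)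
  have := Fact.mk hp
  have h1 : 1 < q ^ d := Nat.one_lt_pow (by omega) hq
  have hpm : p ∣ p ^ m := dvd_pow_self p (by omega)
  have h2 : q ^ (2 * d) - 1 = (q ^ d - 1) * p ^ m := by
    rw [← h, mul_comm 2, pow_mul, mul_comm, ← Nat.sq_sub_sq, one_pow]
  have h3 : ¬ p ∣ q ^ d - 1 := fun h3 => by
    have h4 : p ∣ p ^ m - (q ^ d - 1) := Nat.dvd_sub hpm h3
    rw [show p ^ m - (q ^ d - 1) = 2 by omega] at h4
    exact hp2 ((Nat.prime_dvd_prime_iff_eq hp Nat.prime_two).1 h4)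
  have h4 : ¬ p ∣ q ^ (2 * d) := fun h4 => by
    have h5 : p ∣ q ^ d := (hp.dvd_of_dvd_pow h4).trans (dvd_pow_self q (by omega))
    rw [← h] at hpm
    exact hp.one_lt.ne' (Nat.dvd_one.1 ((Nat.dvd_add_right h5).1 hpm))
  have h5 : 1 < q ^ (2 * d) := Nat.one_lt_pow (by omega) hq
  have h6 := padicValNat.pow_sub_pow (hp.odd_of_ne_two hp2) h5 (by rw [h2]; exact hpm.mul_left _)
    h4 hc
  rw [one_pow, ← pow_mul, h2, padicValNat.mul (by omega) (pow_pos hp.pos m).ne',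
    padicValNat.eq_zero_of_not_dvd h3, padicValNat.prime_pow, zero_add] at h6
  have h7 : 1 < q ^ (2 * d * c) := Nat.one_lt_pow hs0 hq
  rw [padicValNat_dvd_iff_le (by omega), h6] at hs
  exact (padicValNat_dvd_iff_le hc).2 (by omega)

theorem eq_one_of_pow_add_one_eq_two_pow {q d m : ℕ} (hq : 2 ≤ q) (hd : 1 ≤ d)
    (h : q ^ d + 1 = 2 ^ m) : d = 1 ∧ 2 ≤ m := by
  have h1 : q ≤ q ^ d := Nat.le_self_pow (by omega) q
  have hm : 2 ≤ m := by
    rcases m with _ | _ | m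
    · simp at h; omega
    · simp at h; omega
    · omega
  refine ⟨?_, hm⟩
  have h4 : 4 ∣ q ^ d + 1 := h ▸ pow_dvd_pow 2 hm
  have hodd : Odd q := by
    by_contra hq'
    have := (Nat.not_odd_iff_even.1 hq').pow_of_ne_zero (show d ≠ 0 by omega)
    obtain ⟨c, hc⟩ := this
    omega
  rcases Nat.even_or_odd d with ⟨c, rfl⟩ | hdo
  · obtain ⟨t, ht⟩ : Odd (q ^ c) := hodd.pow
    rw [pow_add, ht] at h4
    have : (2 * t + 1) * (2 * t + 1) + 1 = 4 * (t * t + t) + 2 := by ring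
    omega
  · have h2 : q + 1 ∣ 2 ^ m := by
      have := hdo.nat_add_dvd_pow_add_pow q 1
      rwa [one_pow, h] at this
    obtain ⟨a, ha, hqa⟩ := (Nat.dvd_prime_pow Nat.prime_two).1 h2
    rcases ha.eq_or_lt with rfl | hlt
    · exact Nat.pow_right_injective hq (show q ^ d = q ^ 1 by rw [pow_one]; omega)
    · exfalso
      obtain ⟨c, rfl⟩ := hdo
      obtain ⟨t, rfl⟩ := hodd
      have h3 : (2 * t + 1) ^ 2 ≡ 1 [MOD 2 ^ (a + 1)] := by
        rw [pow_succ 2 a, ← hqa]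
        refine ((Nat.modEq_iff_dvd' (Nat.one_le_pow _ _ (by omega))).2 ⟨t, ?_⟩).symm
        rw [Nat.sub_eq_iff_eq_add (Nat.one_le_pow _ _ (by omega))]; ring
      have h5 := ((h3.pow c).mul_right (2 * t + 1)).add_right 1
      rw [← pow_mul, ← pow_succ, h, one_pow, one_mul, hqa] at h5
      have h6 := (Nat.modEq_zero_iff_dvd.2 (pow_dvd_pow 2 (Nat.succ_le_of_lt hlt))).symm.trans h5
      have h7 := Nat.le_of_dvd (by positivity) (Nat.modEq_zero_iff_dvd.1 h6.symm)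
      rw [pow_succ] at h7
      have : 0 < 2 ^ a := by positivity
      omega

end num

section grp
variable {X : Type*} [Group X] [Finite X]

theorem card_dvd_relIndex_sub_one {A M N : Subgroup X} (hM : A ≤ normalizer (M : Set X))
    (hN : A ≤ normalizer (N : Set X)) (hle : N ≤ M) (hn : M ≤ normalizer (N : Set X))
    (h : ∀ a ∈ A, a ≠ 1 → ∀ g ∈ M, ⁅g, a⁆ ∈ N → g ∈ N) : Nat.card A ∣ N.relIndex M - 1 := by
  have hn' : (N.subgroupOf M).Normal := (normal_subgroupOf_iff_le_normalizer hle).2 hn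
  refine Frob.IsFPF.card_dvd_card_sub_one (φ := Cop.sectionAction A M N hM hN) fun a ha v hv => ?_
  obtain ⟨g, rfl⟩ := QuotientGroup.mk_surjective v
  rw [Cop.sectionAction_mk, eq_comm, QuotientGroup.eq_iff_div_mem, mem_subgroupOf] at hv
  refine (QuotientGroup.eq_one_iff g).2 (h a a.2 (fun h => ha (Subtype.ext h)) g g.2 ?_)
  simpa [commutatorElement_def, div_eq_mul_inv, mul_assoc] using hv

theorem prime_dvd_relIndex_sub_one {p : ℕ} [Fact p.Prime] {A M N : Subgroup X} (hA : IsPGroup p A)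
    (hM : A ≤ normalizer (M : Set X)) (hN : A ≤ normalizer (N : Set X)) (hle : N ≤ M)
    (hn : M ≤ normalizer (N : Set X)) (h : ∀ g ∈ M, (∀ a ∈ A, ⁅g, a⁆ ∈ N) → g ∈ N) :
    p ∣ N.relIndex M - 1 := by
  have hn' : (N.subgroupOf M).Normal := (normal_subgroupOf_iff_le_normalizer hle).2 hn
  let _ := MulDistribMulAction.compHom (M ⧸ N.subgroupOf M) (Cop.sectionAction A M N hM hN)
  have h1 := hA.card_modEq_card_fixedPoints (M ⧸ N.subgroupOf M)
  have h2 : MulAction.fixedPoints A (M ⧸ N.subgroupOf M) = {1} := by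
    refine Set.eq_singleton_iff_unique_mem.2 ⟨fun a => smul_one a, fun v hv => ?_⟩
    obtain ⟨g, rfl⟩ := QuotientGroup.mk_surjective v
    refine (QuotientGroup.eq_one_iff g).2 (h g g.2 fun a ha => ?_)
    have h3 : Cop.sectionAction A M N hM hN ⟨a, ha⟩ g = g := hv ⟨a, ha⟩
    rw [Cop.sectionAction_mk, eq_comm, QuotientGroup.eq_iff_div_mem, mem_subgroupOf] at h3
    simpa [commutatorElement_def, div_eq_mul_inv, mul_assoc] using h3
  rw [h2, Nat.card_unique (α := ({1} : Set (M ⧸ N.subgroupOf M)))] at h1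
  exact (Nat.modEq_iff_dvd' Nat.card_pos).1 h1.symm

/-- the intersection of the conjugates of `R` under the elements of `A` outside `B` -/
def conjInf (R A B : Subgroup X) : Subgroup X :=
  ⨅ a ∈ {a : X | a ∈ A ∧ a ∉ B}, R.map (MulAut.conj a).toMonoidHom

omit [Finite X] in
theorem mem_conjInf {R A B : Subgroup X} {g : X} :
    g ∈ conjInf R A B ↔ ∀ a ∈ A, a ∉ B → a⁻¹ * g * a ∈ R := by
  simp only [conjInf, mem_iInf, mem_map_conj_iff, Set.mem_ofPred_eq, and_imp]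

theorem relIndex_conjInf_le {R A B E : Subgroup X} (hB : B ≤ normalizer (R : Set X))
    (hE : A ≤ normalizer (E : Set X)) :
    (conjInf R A B).relIndex E ≤ R.relIndex E ^ (B.relIndex A - 1) := by
  classical
  let I := {c : A ⧸ B.subgroupOf A // ¬ c = (1 : A)}
  have := Fintype.ofFinite (A ⧸ B.subgroupOf A)
  have h1 : ⨅ c : I, R.map (MulAut.conj (c.1.out : X)).toMonoidHom ≤ conjInf R A B := by
    intro g hg
    refine mem_conjInf.2 fun a ha haB => ?_
    have h2 := mem_iInf.1 hg ⟨(⟨a, ha⟩ : A), fun h => haB (by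
      simpa [mem_subgroupOf] using QuotientGroup.eq.1 h.symm)⟩
    obtain ⟨b, hb⟩ := QuotientGroup.mk_out_eq_mul (B.subgroupOf A) ⟨a, ha⟩
    rw [mem_map_conj_iff] at h2
    dsimp only at h2
    rw [hb] at h2
    have h3 := conj_mem_of_mem_normalizer (hB b.2) h2
    simpa [mul_assoc] using h3
  refine (relIndex_le_of_le_left h1 index_ne_zero_of_finite).trans
    ((relIndex_iInf_le _).trans (le_of_eq ?_))
  rw [Finset.prod_eq_pow_card (b := R.relIndex E), Finset.card_univ, Fintype.card_subtype_compl,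
    Fintype.card_subtype_eq, Fintype.card_eq_nat_card]
  · rfl
  · intro c _
    conv_lhs => rw [← map_conj_eq_of_mem_normalizer (hE c.1.out.2)]
    exact relIndex_map_map_of_injective _ _ (MulAut.conj _).injective

theorem relIndex_inf_conjInf_le {R A B E : Subgroup X} (hB : B ≤ normalizer (R : Set X))
    (hE : A ≤ normalizer (E : Set X)) :
    (R ⊓ conjInf R A B).relIndex E ≤ R.relIndex E ^ B.relIndex A := by
  refine relIndex_inf_le.trans ((Nat.mul_le_mul_left _ (relIndex_conjInf_le hB hE)).trans ?_)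
  rw [← pow_succ', Nat.sub_add_cancel (Nat.one_le_iff_ne_zero.2
    (show B.relIndex A ≠ 0 from index_ne_zero_of_finite))]

omit [Finite X] in
theorem le_normalizer_inf_conjInf [Finite X] {R A B : Subgroup X}
    (hB : B ≤ normalizer (R : Set X)) :
    A ≤ normalizer ((R ⊓ conjInf R A B : Subgroup X) : Set X) := by
  have key : ∀ g ∈ R ⊓ conjInf R A B, ∀ a ∈ A, a⁻¹ * g * a ∈ R := fun g hg a ha => by
    by_cases h : a ∈ B
    · exact conj_mem_of_mem_normalizer' (hB h) hg.1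
    · exact mem_conjInf.1 hg.2 a ha h
  refine fun x hx => mem_normalizer_of_conj_mem fun g hg => ⟨?_, mem_conjInf.2 fun a ha _ => ?_⟩
  · simpa using key g hg x⁻¹ (inv_mem hx)
  · simpa [mul_assoc] using key g hg (x⁻¹ * a) (mul_mem (inv_mem hx) ha)

theorem sup_conjInf_eq {R A B Q : Subgroup X} (hB : B ≤ normalizer (R : Set X))
    (hQ : A ≤ normalizer (Q : Set X)) (hR : R ≤ Q)
    (h : R.relIndex Q ^ B.relIndex A ≤ (R ⊓ conjInf R A B).relIndex Q) :
    R ⊔ (Q ⊓ conjInf R A B) = Q := by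
  have h1 := relIndex_conjInf_le hB hQ
  set C := conjInf R A B
  have hle : R ⊔ (Q ⊓ C) ≤ Q := sup_le hR inf_le_left
  have h2 := relIndex_mul_relIndex (R ⊓ C) (Q ⊓ C) Q (inf_le_inf_right C hR) inf_le_left
  have h3 : (R ⊓ C).relIndex (Q ⊓ C) = R.relIndex (Q ⊓ C) := by
    rw [← inf_relIndex_right, ← inf_relIndex_right R, inf_assoc, inf_left_comm C, inf_idem]
  have h4 := relIndex_mul_relIndex R (R ⊔ (Q ⊓ C)) Q le_sup_left hle
  have h5 : R.relIndex (Q ⊓ C) ≤ R.relIndex (R ⊔ (Q ⊓ C)) :=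
    relIndex_le_of_le_right le_sup_right index_ne_zero_of_finite
  rw [h3, inf_relIndex_left] at h2
  refine le_antisymm hle (relIndex_eq_one.1 ?_)
  have h6 : B.relIndex A ≠ 0 := index_ne_zero_of_finite
  have h7 : (R ⊔ (Q ⊓ C)).relIndex Q ≠ 0 := index_ne_zero_of_finite
  have h8 : R.relIndex Q ≠ 0 := index_ne_zero_of_finite
  rw [← Nat.sub_add_cancel (Nat.one_le_iff_ne_zero.2 h6), pow_succ', ← h2] at h
  have h9 := Nat.le_of_mul_le_mul_right (h.trans (Nat.mul_le_mul h5 h1)) (by positivity)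
  by_contra hne
  have : 2 ≤ (R ⊔ (Q ⊓ C)).relIndex Q := by omega
  have h10 : R.relIndex (R ⊔ (Q ⊓ C)) ≠ 0 := index_ne_zero_of_finite
  nlinarith [Nat.pos_of_ne_zero h10]

theorem relIndex_zpowers_pow {p : ℕ} (hp : p.Prime) {x : X} {j m : ℕ}
    (hx : orderOf x = p ^ (j + m)) : (zpowers (x ^ p ^ j)).relIndex (zpowers x) = p ^ j := by
  have h1 := card_mul_relIndex (zpowers_le.2 (pow_mem (mem_zpowers x) (p ^ j)))
  rw [Nat.card_zpowers, Nat.card_zpowers, orderOf_pow, hx, Nat.gcd_eq_right (pow_dvd_pow p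
    (Nat.le_add_right j m)), pow_add, Nat.mul_div_cancel_left _ (pow_pos hp.pos j), mul_comm] at h1
  exact Nat.eq_of_mul_eq_mul_right (pow_pos hp.pos m) h1

omit [Finite X] in
theorem pow_mem_zpowers_of_ne_one [Finite X] {p : ℕ} (hp : p.Prime) {x : X} {n : ℕ}
    (hx : x ^ p ^ (n + 1) = 1) {a : X} (ha : a ∈ zpowers x) (h1 : a ≠ 1) :
    x ^ p ^ n ∈ zpowers a := by
  obtain ⟨i, rfl⟩ := mem_powers_iff_mem_zpowers.2 ha
  refine pow_pow_mem_zpowers hp hx fun ⟨c, hc⟩ => h1 ?_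
  change x ^ i = 1
  rw [hc, pow_mul, hx, one_pow]

omit [Finite X] in
theorem zpowers_le_normalizer_zpowers_pow (x : X) (i : ℕ) :
    zpowers x ≤ normalizer ((zpowers (x ^ i) : Subgroup X) : Set X) :=
  zpowers_le.2 (centralizer_le_normalizer _ (by
    rintro _ ⟨j, rfl⟩
    exact ((Commute.refl x).pow_left _).zpow_left j))

/-- The exceptional case of the Hall–Higman theorem does not occur for an odd prime `p` if the
operator has no fixed points. -/
theorem not_exceptional {Q R D : Subgroup X} {q : ℕ} [hq : Fact q.Prime] (hQ : IsPGroup q Q)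
    {p : ℕ} (hp : p.Prime) (hp2 : p ≠ 2) (hQp : (Nat.card Q).Coprime p) {x : X} {n j m N : ℕ}
    (hx : orderOf x = p ^ (n + 1)) (hxQ : x ∈ normalizer (Q : Set X))
    (hτ : ⁅Q, zpowers (x ^ p ^ n)⁆ = Q) (hcl : ⁅Q, Q⁆ ≤ centralizer (Q : Set X))
    (hf : Q ⊓ centralizer ((zpowers x : Subgroup X) : Set X) = ⊥) (hjm : j + m = n + 1)
    (hm : 1 ≤ m) (hDR : D ≤ R) (hRQ : R < Q) (h1 : ⁅Q, Q⁆ ≤ R) (h2 : ⁅R, Q⁆ ≤ D)
    (h3 : ∀ g ∈ Q, (∀ h ∈ Q, ⁅g, h⁆ ∈ D) → g ∈ R) (h4 : ⁅R, zpowers (x ^ p ^ j)⁆ ≤ D)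
    (hN : N + 1 = p ^ m) (hN2 : N ^ 2 = R.relIndex Q) : False := by
  set A := zpowers x
  set B := zpowers (x ^ p ^ j)
  have hx1 : x ^ p ^ (n + 1) = 1 := by rw [← hx, pow_orderOf_eq_one]
  have hA : A ≤ normalizer (Q : Set X) := zpowers_le.2 hxQ
  have hBA : B ≤ A := zpowers_le.2 (pow_mem (mem_zpowers x) _)
  have hB : B ≤ normalizer (R : Set X) := Cop.le_normalizer_of_commutator_le (h4.trans hDR) le_rfl
  have hcop : (Nat.card A).Coprime (Nat.card Q) := card_zpowers_coprime hx1 hQp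
  have hs : Group.IsSolvable Q := isSolvable_of_isPGroup hQ
  have hQ' : ⁅Q, Q⁆ ≤ Q := h1.trans hRQ.le
  have hAQ' := Cop.le_normalizer_commutator hA hA
  have hM := le_normalizer_inf_conjInf (A := A) hB
  have hQM : ⁅Q, Q⁆ ≤ R ⊓ conjInf R A B := le_inf h1 fun g hg => mem_conjInf.2 fun a ha _ =>
    h1 (conj_mem_of_mem_normalizer' (hAQ' ha) hg)
  have hMQ : R ⊓ conjInf R A B ≤ Q := inf_le_left.trans hRQ.le
  have hdvd := card_dvd_relIndex_sub_one hA hM hMQ (Cop.le_normalizer_of_commutator_le hQM hMQ)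
    fun a ha ha1 g hg hc => by
      have hτa := zpowers_le.2 (pow_mem_zpowers_of_ne_one hp hx1 ha ha1)
      have hτA := hτa.trans (zpowers_le.2 ha)
      exact Cop.mem_of_mem_commutator_sup_of_commutator_mem (hτA.trans hA) (hτA.trans hM) hMQ hQM
        (hcop.coprime_dvd_left (card_dvd_of_le hτA)) (mem_sup_left (hτ.ge hg)) fun b hb =>
          commutator_mem_of_mem_zpowers (hM ha) hc (hτa hb)
  obtain ⟨d, rfl⟩ := exists_pow_of_sq_eq_relIndex hQ hN2
  obtain ⟨s, hs⟩ : ∃ s, (R ⊓ conjInf R A B).relIndex Q = q ^ s := by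
    obtain ⟨a, ha⟩ := IsPGroup.iff_card.1 hQ
    obtain ⟨s, -, hs⟩ := (Nat.dvd_prime_pow hq.out).1 (ha ▸ relIndex_dvd_card _ Q)
    exact ⟨s, hs⟩
  have hd : 1 ≤ d := by
    by_contra h
    obtain rfl : d = 0 := by omega
    exact hRQ.not_ge (relIndex_eq_one.1 (by simpa using hN2.symm))
  have hs0 : s ≠ 0 := by
    rintro rfl
    exact hRQ.not_ge ((relIndex_eq_one.1 hs).trans inf_le_left)
  rw [hs, Nat.card_zpowers, hx, ← hjm] at hdvd
  have hle := le_of_pow_dvd_pow_sub_one hp hp2 hq.out.two_le hd hm hN hs0 hdvd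
  have hsup := sup_conjInf_eq hB hA hRQ.le (by
    rw [hs, ← hN2, relIndex_zpowers_pow hp (hjm ▸ hx), ← pow_mul, ← pow_mul, ← mul_assoc,
      mul_comm d 2]
    exact Nat.pow_le_pow_right hq.out.pos hle)
  set Q₀ := Q ⊓ conjInf R A B
  have hBQ₀ : B ≤ normalizer (Q₀ : Set X) := fun b hb => mem_normalizer_of_conj_mem fun g hg =>
    ⟨conj_mem_of_mem_normalizer (hA (hBA hb)) hg.1, mem_conjInf.2 fun a ha haB => by
      simpa [mul_assoc] using mem_conjInf.1 hg.2 (b⁻¹ * a) (mul_mem (inv_mem (hBA hb)) ha)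
        fun h => haB ((B.mul_mem_cancel_left (inv_mem hb)).1 h)⟩
  have hE : ⁅Q₀, Q₀⁆ ≤ ⁅Q, Q⁆ := commutator_mono inf_le_left inf_le_left
  have h5 : ⁅Q₀, Q₀⁆ ≤ D := by
    refine le_of_conj_le (N := ⊥) hBA hAQ' le_normalizer_of_normal bot_le bot_le
      ((commutator_mono le_rfl hQ').trans (commutator_eq_bot_iff_le_centralizer.2 hcl).le)
      (hcop.coprime_dvd_right (card_dvd_of_le hQ')) (isSolvable_of_le ‹_› hQ')
      (le_bot_iff.1 ((inf_le_inf_right _ hQ').trans hf.le)) hE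
      (Cop.le_normalizer_commutator hBQ₀ hBQ₀) ((commutator_mono (hE.trans h1) le_rfl).trans h4)
      fun b hb hbB => ?_
    rw [Subgroup.map_commutator]
    refine (commutator_mono ?_ ?_).trans h2
    · rintro _ ⟨g, hg, rfl⟩
      simpa using mem_conjInf.1 hg.2 b⁻¹ (inv_mem hb) fun h => hbB (inv_mem_iff.1 h)
    · rintro _ ⟨g, hg, rfl⟩
      exact conj_mem_of_mem_normalizer (hA hb) hg.1
  have hQD : Q ≤ normalizer (D : Set X) := Cop.le_normalizer_of_commutator_le h2 hDR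
  have h6 : ⁅Q, Q⁆ ≤ D := by
    rw [← hsup]
    refine CommCalc.commutator_sup_left_le (hRQ.le.trans hQD) (inf_le_left.trans hQD)
      ((commutator_mono le_rfl hsup.le).trans h2) (CommCalc.commutator_sup_right_le
        (hRQ.le.trans hQD) (inf_le_left.trans hQD) ?_ h5)
    rw [commutator_comm]
    exact (commutator_mono le_rfl inf_le_left).trans h2
  exact hRQ.not_ge fun g hg => h3 g hg fun h hh => h6 (commutator_mem_commutator hg hh)

end grp

section rep
variable {k : Type u} [Field k] {V : Type v} [AddCommGroup V] [Module k V]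
variable {G : Type w} [Group G] [Finite G]

/-- Hall–Higman for a component of a class two group -/
theorem hh_comp [IsAlgClosed k] [FiniteDimensional k V] (ρ : G →* Module.End k V)
    (Q : Subgroup G) (hq : (Nat.card Q : k) ≠ 0) (hs : Group.IsSolvable Q) {p : ℕ} (hp : p.Prime)
    (hQp : (Nat.card Q).Coprime p) {x : G} {n : ℕ} (hx : x ^ p ^ (n + 1) = 1)
    (hxQ : x ∈ normalizer (Q : Set G)) (hcl : ⁅Q, Q⁆ ≤ centralizer (Q : Set G))
    (U₀ : Submodule k V) (hU₀ : U₀ ≠ ⊥) (hinv : ∀ g ∈ Q, ∀ v ∈ U₀, ρ g v ∈ U₀)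
    (hxU : ∀ v ∈ U₀, ρ x v ∈ U₀)
    (f : k[X]) (hf : f.Monic) (hfx : ∀ v ∈ U₀, aeval (ρ x) f v = 0)
    (hdeg : f.natDegree < p ^ (n + 1)) :
    ∃ (j m : ℕ) (R : Subgroup G) (ψ : G → k) (U : Submodule k V),
      j + m = n + 1 ∧ 1 ≤ m ∧ Pack ρ Q R ψ U ∧ U = U₀ ⊓ weightSpace ρ R ψ ∧
      x ^ p ^ j ∈ stabSub ρ U ∧ (⁅Q, zpowers (x ^ p ^ n)⁆ ≤ R ∨ ∃ N, N + 1 = p ^ m ∧
        N ^ 2 = R.relIndex (⁅Q, zpowers (x ^ p ^ n)⁆ ⊔ R) ∧ p ^ j * N ≤ f.natDegree) := by
  obtain ⟨R, ψ, U, e, P, hU, he1, he0, -⟩ := exists_component ρ Q hq U₀ hU₀ hinv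
    (fun g hg h hh a ha v _ => by
      rw [← rho_mul_apply, ← rho_mul_apply, hcl (commutator_mem_commutator hg hh) a ha])
  obtain ⟨t, ht⟩ := exists_zpow_mem_iff (stabSub ρ U) x
  have htd : t ∣ p ^ (n + 1) := by
    have := (ht (p ^ (n + 1) : ℕ)).1 (by rw [zpow_natCast, hx]; exact one_mem _)
    exact_mod_cast this
  obtain ⟨j, hj, rfl⟩ := (Nat.dvd_prime_pow hp).1 htd
  obtain ⟨m, hm⟩ := Nat.exists_eq_add_of_le hj
  have hyU : x ^ p ^ j ∈ stabSub ρ U := by
    rw [← zpow_natCast]; exact (ht _).2 dvd_rfl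
  obtain ⟨g, hg, hgd, hgx⟩ := exists_contract ρ U e he1 x (pow_pos hp.pos j) hyU
    (fun i hi v hv => he0 _ (zpow_mem hxQ i) (zpow_mem (show x ∈ stabSub ρ U₀ from hxU) i)
      (fun h => hi ((ht i).1 h)) v hv) f hf (fun v hv => hfx v (hU.le hv).1)
  have hglt : g.natDegree < p ^ m := by
    rw [hgd, Nat.div_lt_iff_lt_mul (pow_pos hp.pos j), ← pow_add, add_comm, ← hm]
    exact hdeg
  have hm1 : 1 ≤ m := by
    by_contra h
    obtain rfl : m = 0 := by omega
    have : g = 1 := hg.natDegree_eq_zero.1 (by simpa using hglt)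
    apply P.ne
    rw [eq_bot_iff]
    intro v hv
    simpa [this] using hgx v hv
  refine ⟨j, m, R, ψ, U, hm.symm, hm1, P, hU, hyU, or_iff_not_imp_left.2 fun hne => ?_⟩
  have hyQ : x ^ p ^ j ∈ normalizer (Q : Set G) := pow_mem hxQ _
  have hτy : x ^ p ^ n ∈ zpowers (x ^ p ^ j) :=
    pow_pow_mem_zpowers hp hx (fun h => by
      have := (Nat.pow_dvd_pow_iff_le_right hp.one_lt).1 h
      omega)
  have hA : zpowers (x ^ p ^ n) ≤ stabSub ρ U := zpowers_le.2 (zpowers_le.2 hyU hτy)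
  have hAQ : zpowers (x ^ p ^ n) ≤ normalizer (Q : Set G) := zpowers_le.2 (pow_mem hxQ _)
  have hcop : (Nat.card (zpowers (x ^ p ^ n))).Coprime (Nat.card Q) :=
    card_zpowers_coprime (n := 1) (by rw [pow_one, ← pow_mul, ← pow_succ, hx]) hQp
  have P' := sub_pack P hAQ hA hcop hs
  have hle : ⁅Q, zpowers (x ^ p ^ n)⁆ ⊔ R ≤ Q :=
    sup_le (Cop.commutator_le_left_of_le_normalizer hAQ) P.le
  have hne' : R ≠ ⁅Q, zpowers (x ^ p ^ n)⁆ ⊔ R := fun h => hne (le_sup_left.trans h.ge)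
  have hyR := P.mem_normalizer hyQ hyU
  obtain ⟨N, hN, -, hnum⟩ := P'.numerics (fun h => hq (by
      obtain ⟨c, hc⟩ := card_dvd_of_le hle
      rw [hc, Nat.cast_mul, h, zero_mul]))
    (zpowers_le.1 (le_normalizer_sup (Cop.le_normalizer_commutator (zpowers_le.2 hyQ)
      ((zpowers_le.2 (pow_mem (mem_zpowers x) _)).trans (zpowers_le_normalizer_zpowers_pow x _)))
      (zpowers_le.2 hyR))) hyU (h := p ^ m) (Nat.one_lt_pow (by omega) hp.one_lt)
    (fun i hi0 hi a ha hc => by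
      have hz : x ^ p ^ n ∈ zpowers ((x ^ p ^ j) ^ i) := by
        rw [← pow_mul]
        refine pow_pow_mem_zpowers hp hx fun h => ?_
        rw [hm, pow_add, Nat.mul_dvd_mul_iff_left (pow_pos hp.pos j)] at h
        exact absurd (Nat.le_of_dvd hi0 h) (by omega)
      exact sub_fpf P hAQ hA hcop ha fun b hb =>
        commutator_mem_of_mem_zpowers (pow_mem hyR _) hc (zpowers_le.2 hz hb))
  obtain ⟨h1, h2⟩ := (hnum g hg hgx).1 hne' hglt
  refine ⟨N, h1, hN, ?_⟩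
  have : N = f.natDegree / p ^ j := by omega
  rw [this]
  exact Nat.mul_div_le _ _

end rep

end CfsgLib.H9
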