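import Cfsg.Agent.Lib.CoreSolvable
import Cfsg.Agent.Lib.IrrOperator
import Cfsg.Prelude.Def_LocalStructure

/-! `p`-closed groups; the order of an irreducible module for a group of prime order. -/

set_option autoImplicit false

namespace CfsgLib

open Subgroup Cfsg

variable {G : Type*} [Group G] {p : ℕ}

theorem isPClosed_iff_le_pCore :
    IsPClosed p G ↔ ∀ R : Subgroup G, IsPGroup p R → R ≤ pCore p G := by
  constructor
  · intro h R hR
    obtain ⟨P, hP⟩ := hR.exists_le_sylow
    have := h P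
    exact hP.trans (le_pCore P.2)
  · intro h P
    rw [le_antisymm (h P P.2) (pCore_le_sylow P)]
    infer_instance

theorem isPClosed_of_normal_sylow [Finite G] [Fact p.Prime] (P : Sylow p G)
    (h : (P : Subgroup G).Normal) : IsPClosed p G := fun Q => by
  haveI := Sylow.unique_of_normal P h
  rwa [Subsingleton.elim Q P]

theorem isPClosed_of_isPGroup (h : IsPGroup p G) : IsPClosed p G :=
  isPClosed_iff_le_pCore.mpr fun R _ => by rw [pCore_eq_top_iff.mpr h]; exact le_top

theorem isPClosed_of_not_dvd [Finite G] [Fact p.Prime] (h : ¬ p ∣ Nat.card G) : IsPClosed p G :=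
  isPClosed_iff_le_pCore.mpr fun R hR => by
    rcases hR.card_eq_or_dvd with h1 | h1
    · rw [card_eq_one.mp h1]; exact bot_le
    · exact absurd (h1.trans (card_subgroup_dvd_card R)) h

theorem isPClosed_of_quotient {N : Subgroup G} [N.Normal] (hN : IsPGroup p N)
    (h : IsPClosed p (G ⧸ N)) : IsPClosed p G :=
  isPClosed_iff_le_pCore.mpr fun R hR => by
    rw [← comap_pCore_quotient hN, ← map_le_iff_le_comap]
    exact isPClosed_iff_le_pCore.mp h _ (hR.map _)

/-- in a `p`-closed subgroup, a `p`-subgroup normalizing a `p'`-subgroup centralizes it. -/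
theorem le_centralizer_of_isPClosed [Finite G] [hp : Fact p.Prime] {H R M : Subgroup G}
    (h : IsPClosed p H) (hR : IsPGroup p R) (hRH : R ≤ H) (hMH : M ≤ H) (hM : ¬ p ∣ Nat.card M)
    (hRM : R ≤ normalizer (M : Set G)) : R ≤ centralizer (M : Set G) := by
  intro x hx y hy
  have h1 : (⟨x, hRH hx⟩ : H) ∈ pCore p H :=
    isPClosed_iff_le_pCore.mp h (R.subgroupOf H) hR.comap_subtype hx
  have h2 : y * x * y⁻¹ * x⁻¹ ∈ (pCore p H).map H.subtype ⊓ M := by
    refine ⟨⟨_, mul_mem ((inferInstance : (pCore p H).Normal).conj_mem _ h1 ⟨y, hMH hy⟩)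
      (inv_mem h1), rfl⟩, ?_⟩
    have := M.mul_mem hy ((mem_normalizer_iff.mp (hRM hx) _).mp (M.inv_mem hy))
    simpa [mul_assoc] using this
  obtain ⟨k, hk⟩ := ((pCore_isPGroup p (G := H)).map H.subtype).exists_card_eq
  rw [inf_eq_bot_of_coprime (hk ▸ (hp.out.coprime_iff_not_dvd.mpr hM).pow_left k), mem_bot,
    mul_inv_eq_one, mul_inv_eq_iff_eq_mul] at h2
  exact h2

/-- an irreducible faithful `𝔽_q C_p`-module has order `q ^ ord_p(q)`. -/
theorem card_eq_pow_orderOf_of_irr {V : Type*} [CommGroup V] [Finite V] {q : ℕ} [hp : Fact p.Prime]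
    (hq : q.Prime) (hV : ∀ v : V, v ^ q = 1) (α : MulAut V) (h1 : orderOf α = p)
    (hirr : ∀ B : Subgroup V, (∀ b ∈ B, α b ∈ B) → B = ⊥ ∨ B = ⊤) :
    Nat.card V = q ^ orderOf (q : ZMod p) := by
  haveI := Fact.mk hq
  obtain ⟨_⟩ : Nonempty (Module (ZMod q) (Additive V)) :=
    ⟨AddCommGroup.zmodModule fun x => by rw [← ofMul_toMul x, ← ofMul_pow, hV, ofMul_one]⟩
  have h0 : α ≠ 1 := fun h => hp.out.one_lt.ne (by rw [← h1, h, orderOf_one])
  haveI : Nontrivial V := by
    by_contra h
    rw [not_nontrivial_iff_subsingleton] at h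
    exact h0 (MulEquiv.ext fun _ => Subsingleton.elim _ _)
  let T : Module.End (ZMod q) (Additive V) :=
    (MonoidHom.toAdditive α.toMonoidHom).toZModLinearMap q
  have hT : ∀ (n : ℕ) (v : Additive V), (T ^ n) v = Additive.ofMul ((α ^ n) v.toMul) := by
    intro n
    induction n with
    | zero => intro v; rfl
    | succ n ih => intro v; rw [pow_succ, pow_succ, Module.End.mul_apply, ih]; rfl
  have h2 := (Chr.irr_pow_card_pow (T := T) (fun W hW => by
    rcases hirr W.toAddSubgroup.toSubgroup' (fun b hb => hW _ hb) with h | h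
    · exact Or.inl (eq_bot_iff.mpr fun w hw => h.le hw)
    · exact Or.inr (eq_top_iff.mpr fun w _ => h.ge (mem_top w.toMul)))).1
  have h3 : ∀ m, T ^ (Nat.card (ZMod q) ^ m) = T ↔ orderOf (q : ZMod p) ∣ m := by
    intro m
    rw [Nat.card_zmod, orderOf_dvd_iff_pow_eq_one, ← Nat.cast_pow, ← Nat.cast_one,
      ZMod.natCast_eq_natCast_iff, ← h1, ← pow_eq_pow_iff_modEq]
    constructor
    · intro h
      ext v
      have := hT (q ^ m) (Additive.ofMul v)
      rw [h] at this
      exact (congrArg Additive.toMul this).symm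
    · intro h
      ext v
      rw [hT, h]; rfl
  have h4 : Module.finrank (ZMod q) (Additive V) = orderOf (q : ZMod p) :=
    Nat.dvd_antisymm ((h2 _).mp ((h3 _).mpr dvd_rfl)) ((h3 _).mp ((h2 _).mpr dvd_rfl))
  have h5 := Module.natCard_eq_pow_finrank (K := ZMod q) (V := Additive V)
  rwa [Nat.card_zmod, h4] at h5

end CfsgLib
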