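import Mathlib

/-! The binary icosahedral group as a group of icosians, and its identification with `SL₂(5)`. -/

set_option autoImplicit false

namespace CfsgLib.Frob

/-- coordinates with respect to `1, x, y, x y, s, s x, s y, s x y` -/
structure Ico where
  a0 : ℤ
  a1 : ℤ
  a2 : ℤ
  a3 : ℤ
  b0 : ℤ
  b1 : ℤ
  b2 : ℤ
  b3 : ℤ
deriving DecidableEq

def Ico.lx (v : Ico) : Ico :=
  ⟨-v.a1, v.a0 - v.a1, -v.a3, v.a2 - v.a3, -v.b1, v.b0 - v.b1, -v.b3, v.b2 - v.b3⟩

def Ico.ly (v : Ico) : Ico :=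
  ⟨v.b1 - v.a1 - v.a2 + v.a3, -v.a1 + v.a3, v.a0 - v.a1 - v.a2 + v.b3, -v.a1,
    v.a1 - v.b2 + v.b3, -v.b1 + v.b3, v.b0 - v.b1 - v.b2 + v.a3 + v.b3, -v.b1⟩

def Ico.ev {R : Type*} [Ring R] (x y s : R) (v : Ico) : R :=
  v.a0 • 1 + v.a1 • x + v.a2 • y + v.a3 • (x * y) + v.b0 • s + v.b1 • (s * x) + v.b2 • (s * y) +
    v.b3 • (s * (x * y))

/-- the defining relations -/
structure IcoRel {R : Type*} [Ring R] (x y s : R) : Prop where
  xx : x * x = -1 - x
  yy : y * y = -1 - y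
  yx : y * x = s - 1 - x - y - x * y
  ss : s * s = s + 1
  xs : x * s = s * x
  ys : y * s = s * y

theorem IcoRel.ev_lx {R : Type*} [Ring R] {x y s : R} (h : IcoRel x y s) (v : Ico) :
    v.lx.ev x y s = x * v.ev x y s := by
  have h1 : ∀ r, x * (x * r) = -r - x * r := fun r => by
    rw [← mul_assoc, h.xx, sub_mul, neg_one_mul]
  have h2 : ∀ r, x * (s * r) = s * (x * r) := fun r => by rw [← mul_assoc, h.xs, mul_assoc]
  simp only [Ico.ev, Ico.lx, mul_add, mul_smul_comm, mul_one, h.xx, h.xs, h1, h2, mul_sub, mul_neg]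
  module

theorem IcoRel.ev_ly {R : Type*} [Ring R] {x y s : R} (h : IcoRel x y s) (v : Ico) :
    v.ly.ev x y s = y * v.ev x y s := by
  have h0 : ∀ r, x * (x * r) = -r - x * r := fun r => by
    rw [← mul_assoc, h.xx, sub_mul, neg_one_mul]
  have h1 : y * (x * y) = 1 + x + s * y := by
    rw [← mul_assoc, h.yx]
    simp only [sub_mul, mul_assoc, h.yy, mul_sub, mul_neg, mul_one, one_mul]
    abel
  have h2 : ∀ r, y * (s * r) = s * (y * r) := fun r => by rw [← mul_assoc, h.ys, mul_assoc]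
  have h3 : ∀ r, s * (s * r) = s * r + r := fun r => by rw [← mul_assoc, h.ss, add_mul, one_mul]
  simp only [Ico.ev, Ico.ly, mul_add, mul_smul_comm, mul_one, h.yy, h.ys, h.yx, h.ss, h1, h2, h3,
    mul_sub, mul_neg]
  module

def icoWord : List Bool → Ico
  | [] => ⟨1, 0, 0, 0, 0, 0, 0, 0⟩
  | true :: w => (icoWord w).lx
  | false :: w => (icoWord w).ly

def gword {M : Type*} [Monoid M] (x y : M) : List Bool → M
  | [] => 1
  | true :: w => x * gword x y w
  | false :: w => y * gword x y w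

theorem gword_append {M : Type*} [Monoid M] (x y : M) :
    ∀ w w' : List Bool, gword x y (w ++ w') = gword x y w * gword x y w'
  | [], w' => by simp [gword]
  | true :: w, w' => by simp [gword, gword_append x y w w', mul_assoc]
  | false :: w, w' => by simp [gword, gword_append x y w w', mul_assoc]

theorem map_gword {M N : Type*} [Monoid M] [Monoid N] (f : M →* N) (x y : M) :
    ∀ w : List Bool, f (gword x y w) = gword (f x) (f y) w
  | [] => by simp [gword]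
  | true :: w => by simp [gword, map_gword f x y w]
  | false :: w => by simp [gword, map_gword f x y w]

theorem gword_mem {M : Type*} [Group M] {K : Subgroup M} {x y : M} (hx : x ∈ K) (hy : y ∈ K) :
    ∀ w : List Bool, gword x y w ∈ K
  | [] => K.one_mem
  | true :: w => K.mul_mem hx (gword_mem hx hy w)
  | false :: w => K.mul_mem hy (gword_mem hx hy w)

theorem IcoRel.gword_eq {R : Type*} [Ring R] {x y s : R} (h : IcoRel x y s) :
    ∀ w : List Bool, gword x y w = (icoWord w).ev x y s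
  | [] => by simp [gword, icoWord, Ico.ev]
  | true :: w => by rw [gword, icoWord, h.ev_lx, h.gword_eq w]
  | false :: w => by rw [gword, icoWord, h.ev_ly, h.gword_eq w]

def icoList : List Ico :=
  [⟨1, 0, 0, 0, 0, 0, 0, 0⟩, ⟨0, 1, 0, 0, 0, 0, 0, 0⟩, ⟨0, 0, 1, 0, 0, 0, 0, 0⟩,
   ⟨-1, -1, 0, 0, 0, 0, 0, 0⟩, ⟨-1, -1, -1, -1, 1, 0, 0, 0⟩, ⟨0, 0, 0, 1, 0, 0, 0, 0⟩,
   ⟨-1, 0, -1, 0, 0, 0, 0, 0⟩, ⟨1, 1, 0, 1, -1, 0, 0, 0⟩, ⟨1, 0, 1, 0, 0, 1, 0, 0⟩,
   ⟨1, 0, 1, 1, -1, 0, 0, 0⟩, ⟨0, 0, -1, -1, 0, 0, 0, 0⟩, ⟨1, 1, 0, 0, 0, 0, 1, 0⟩,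
   ⟨0, -1, 0, -1, 0, 0, 0, 0⟩, ⟨-1, 0, -1, -1, 0, -1, 0, 0⟩, ⟨0, 0, 0, -1, 1, 0, 0, 0⟩,
   ⟨0, 1, 0, 1, -1, -1, 0, 0⟩, ⟨0, 0, 0, 0, 0, -1, -1, -1⟩, ⟨0, 1, -1, 0, 0, -1, 0, 0⟩,
   ⟨0, -1, 1, 0, 0, 0, -1, 0⟩, ⟨-1, 0, 0, 0, 0, 0, 0, 1⟩, ⟨-1, -1, 0, -1, 0, 0, -1, 0⟩,
   ⟨1, 1, 1, 1, 0, 0, 0, 0⟩, ⟨0, 0, 1, 1, -1, 0, -1, 0⟩, ⟨0, -1, 1, 0, 1, 1, 0, 0⟩,
   ⟨-1, -1, 0, 0, 0, 1, 0, 1⟩, ⟨0, 0, 1, 1, 0, 1, 0, 0⟩, ⟨-1, 0, -1, -1, 1, 1, 1, 1⟩,
   ⟨0, 0, 0, 0, 1, 1, 1, 0⟩, ⟨-1, 0, -1, 0, 0, 0, 1, 1⟩, ⟨-1, -1, 0, -1, 1, 1, 0, 0⟩,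
   ⟨-1, -1, 0, -1, 1, 1, 1, 1⟩, ⟨1, 1, 0, 1, 0, 0, 0, -1⟩, ⟨0, 1, 0, 1, 0, 0, 1, 0⟩,
   ⟨0, -1, 0, 0, 0, 0, -1, -1⟩, ⟨1, 0, 1, 1, 0, 0, 0, -1⟩, ⟨-1, 0, -1, -1, 1, 0, 1, 0⟩,
   ⟨0, 0, -1, 0, 0, -1, 0, -1⟩, ⟨0, 1, -1, 0, 1, 0, 1, 0⟩, ⟨1, 1, 0, 1, -1, -1, 0, -1⟩,
   ⟨1, 0, 0, 0, -1, -1, -1, -1⟩, ⟨2, 1, 1, 1, 0, 0, 0, -1⟩, ⟨0, 0, -1, 0, -1, -1, 0, 0⟩,
   ⟨1, 1, -1, 0, 0, -1, 0, -1⟩, ⟨0, -1, 1, 0, -1, 0, -1, 0⟩, ⟨1, -1, 1, 0, 0, 0, -1, -1⟩,
   ⟨0, 0, 0, 0, -1, 0, 0, 1⟩, ⟨0, -1, 0, -1, 0, 0, -1, 0⟩, ⟨1, 0, 0, 1, -1, -1, -1, -1⟩,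
   ⟨1, 0, 1, 1, -1, 0, -1, 0⟩, ⟨1, 0, 1, 1, -1, 0, -1, -1⟩, ⟨-1, 0, -1, -1, 0, 0, 1, 1⟩,
   ⟨0, 0, -1, -1, 0, -1, 0, 0⟩, ⟨-1, -1, -1, -1, 0, 0, 0, 1⟩, ⟨1, 1, 0, 1, -1, -1, 0, 0⟩,
   ⟨0, 1, -1, 0, 0, 0, 1, 1⟩, ⟨0, 1, -1, 0, -1, -1, 0, 0⟩, ⟨0, -1, 1, 0, 0, 1, 0, 1⟩,
   ⟨0, -1, 0, 0, -1, 0, -1, 0⟩, ⟨0, 0, 0, -1, 1, 1, 1, 1⟩, ⟨-1, -1, 0, -1, 0, 1, 0, 1⟩,
   ⟨-1, 0, -1, -1, 1, 0, 1, 1⟩, ⟨-1, 0, -1, -1, 0, 0, 0, 1⟩, ⟨0, 1, 0, 0, 1, 0, 1, 0⟩,
   ⟨-1, 1, -1, 0, 0, 0, 1, 1⟩, ⟨0, 0, 1, 0, 0, 1, 0, 1⟩, ⟨-1, 0, 0, -1, 1, 1, 1, 1⟩,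
   ⟨-1, -1, 0, -1, 0, 0, 0, 1⟩, ⟨1, 1, 0, 1, 0, -1, 0, -1⟩, ⟨0, 1, 0, 1, 0, 0, 0, 0⟩,
   ⟨1, 2, 0, 1, 0, 0, 1, 0⟩, ⟨0, 0, 1, 0, 1, 1, 0, 0⟩, ⟨1, 1, 1, 1, 0, 0, 0, -1⟩,
   ⟨0, 0, 1, 1, 0, 0, 0, 0⟩, ⟨0, 1, -1, -1, 1, 0, 1, 0⟩, ⟨0, 1, 0, 0, 0, 0, 1, 1⟩,
   ⟨0, 1, -1, 0, 0, -1, 0, -1⟩, ⟨0, 1, -1, 0, 0, -1, 1, 0⟩, ⟨0, -1, 1, 0, 0, 1, -1, 0⟩,
   ⟨-1, -1, 1, 0, 0, 1, 0, 1⟩, ⟨1, 0, 1, 0, 0, 0, -1, -1⟩, ⟨1, 0, 2, 1, 0, 1, 0, 0⟩,
   ⟨-1, 0, -1, -1, 1, 0, 0, 0⟩, ⟨0, -1, 1, -1, 1, 1, 0, 0⟩, ⟨-1, -1, 0, -1, 1, 0, 0, 0⟩,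
   ⟨-1, -1, 0, -1, 1, 1, 0, 1⟩, ⟨1, 1, 0, 1, -1, -1, -1, -1⟩, ⟨1, 1, 0, 0, 0, -1, 0, -1⟩,
   ⟨0, -1, 1, 0, 0, 0, -1, -1⟩, ⟨1, 0, 1, 1, -1, -1, -1, -1⟩, ⟨1, 0, 1, 1, 0, 0, -1, -1⟩,
   ⟨0, -1, 1, 0, 0, 1, 0, 0⟩, ⟨-1, -1, -1, -1, 0, 0, 0, 0⟩, ⟨-1, -2, 0, -1, 0, 0, -1, 0⟩,
   ⟨0, -1, 0, -1, 1, 1, 0, 0⟩, ⟨0, 0, 0, 1, -1, -1, -1, -1⟩, ⟨0, 0, 0, 0, 1, 0, 0, -1⟩,
   ⟨0, -1, 1, 1, -1, 0, -1, 0⟩, ⟨0, 0, -1, -1, 1, 0, 1, 0⟩, ⟨-2, -1, -1, -1, 0, 0, 0, 1⟩,
   ⟨-1, -1, -1, -2, 1, 0, 0, 0⟩, ⟨0, 0, 0, 1, -1, 0, 0, 0⟩, ⟨-1, 0, -2, -1, 0, -1, 0, 0⟩,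
   ⟨0, 0, -1, 0, 0, 0, 0, 0⟩, ⟨0, 1, -1, 0, 0, 0, 1, 0⟩, ⟨-1, -1, 0, 0, 0, 0, -1, 0⟩,
   ⟨-1, 0, -1, 0, 0, -1, 0, 0⟩, ⟨0, 1, -1, 1, -1, -1, 0, 0⟩, ⟨0, -1, 0, 0, 0, 0, 0, 0⟩,
   ⟨1, 1, 1, 2, -1, 0, 0, 0⟩, ⟨1, 0, 1, 1, 0, 1, 0, 0⟩, ⟨-1, 0, 0, 0, 1, 1, 1, 1⟩,
   ⟨1, 1, 0, 1, 0, 0, 1, 0⟩, ⟨1, 0, 1, 0, 0, 0, 0, 0⟩, ⟨1, 1, 1, 1, -1, 0, 0, 0⟩,
   ⟨0, 0, 0, 0, 0, 1, 1, 1⟩, ⟨1, 1, 0, 0, 0, 0, 0, 0⟩, ⟨0, 0, 0, -1, 0, 0, 0, 0⟩,
   ⟨1, 0, 0, 0, 0, 0, 0, -1⟩, ⟨-1, 0, 0, 0, 0, 0, 0, 0⟩, ⟨0, 0, 0, 0, -1, -1, -1, 0⟩]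

def icoWords : List (List Bool) :=
  [[], [true],
   [false], [true, true],
   [false, true], [true, false],
   [false, false], [false, true, true],
   [true, false, true], [false, false, true],
   [true, true, false], [false, true, false],
   [true, false, false], [true, false, true, true],
   [false, false, true, true], [true, true, false, true],
   [false, true, false, true], [true, false, false, true],
   [false, true, true, false], [true, false, true, false],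
   [false, false, true, false], [true, true, false, false],
   [false, true, false, false], [true, true, false, true, true],
   [false, true, false, true, true], [true, false, false, true, true],
   [false, true, true, false, true], [true, false, true, false, true],
   [false, false, true, false, true], [true, true, false, false, true],
   [false, true, false, false, true], [true, false, true, true, false],
   [false, false, true, true, false], [true, true, false, true, false],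
   [true, false, false, true, false], [false, true, true, false, false],
   [true, false, true, false, false], [false, false, true, false, false],
   [false, true, true, false, true, true], [true, false, true, false, true, true],
   [false, false, true, false, true, true], [true, true, false, false, true, true],
   [false, true, false, false, true, true], [true, false, true, true, false, true],
   [false, false, true, true, false, true], [true, true, false, true, false, true],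
   [true, false, false, true, false, true], [false, true, true, false, false, true],
   [true, false, true, false, false, true], [false, false, true, false, false, true],
   [true, true, false, true, true, false], [false, true, false, true, true, false],
   [true, false, false, true, true, false], [false, true, true, false, true, false],
   [true, true, false, false, true, false], [false, true, false, false, true, false],
   [true, false, true, true, false, false], [false, false, true, true, false, false],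
   [true, true, false, true, false, false], [true, false, false, true, false, false],
   [true, false, true, true, false, true, true], [false, false, true, true, false, true, true],
   [true, true, false, true, false, true, true], [true, false, false, true, false, true, true],
   [false, true, true, false, false, true, true], [true, false, true, false, false, true, true],
   [false, false, true, false, false, true, true], [true, true, false, true, true, false, true],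
   [false, true, false, true, true, false, true], [true, false, false, true, true, false, true],
   [false, true, true, false, true, false, true], [true, true, false, false, true, false, true],
   [false, true, false, false, true, false, true], [true, false, true, true, false, false, true],
   [false, false, true, true, false, false, true], [true, true, false, true, false, false, true],
   [true, false, false, true, false, false, true], [false, true, true, false, true, true, false],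
   [false, false, true, false, true, true, false], [true, true, false, false, true, true, false],
   [false, true, false, false, true, true, false], [true, false, true, true, false, true, false],
   [false, true, true, false, false, true, false], [true, false, true, false, false, true, false],
   [false, false, true, false, false, true, false], [true, true, false, true, true, false, false],
   [true, false, false, true, true, false, false], [false, true, true, false, true, false, false],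
   [true, true, false, false, true, false, false], [false, true, false, false, true, false, false],
   [false, true, false, true, true, false, true, true], [false, true, true, false, true, false, true, true],
   [true, true, false, false, true, false, true, true], [false, true, false, false, true, false, true, true],
   [true, false, true, true, false, false, true, true], [false, false, true, true, false, false, true, true],
   [true, true, false, true, false, false, true, true], [false, false, true, false, true, true, false, true],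
   [true, true, false, false, true, true, false, true], [false, true, false, false, true, true, false, true],
   [true, false, true, true, false, true, false, true], [false, true, true, false, false, true, false, true],
   [true, false, true, false, false, true, false, true], [false, false, true, false, false, true, false, true],
   [true, false, false, true, true, false, false, true], [false, true, true, false, false, true, true, false],
   [true, false, true, false, false, true, true, false], [false, true, false, true, true, false, true, false],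
   [true, false, true, true, false, false, true, false], [true, true, false, true, false, false, true, false],
   [true, true, false, false, true, true, false, false], [true, false, true, true, false, true, false, false],
   [true, false, true, true, false, true, false, true, true], [true, false, true, false, false, true, false, true, true],
   [true, false, false, true, true, false, false, true, true], [false, true, false, true, true, false, true, false, true],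
   [true, true, false, true, false, false, true, false, true], [true, true, false, false, true, true, false, false, true],
   [false, true, false, true, true, false, true, false, true, true], [true, true, false, false, true, true, false, false, true, true]]

def icoKeys : List (ZMod 5 × ZMod 5 × ZMod 5 × ZMod 5) :=
  [(1, 0, 0, 1), (0, 4, 1, 4), (0, 1, 4, 4), (4, 1, 4, 0), (1, 4, 4, 2), (1, 1, 1, 2),
   (4, 4, 1, 0), (4, 0, 2, 4), (1, 3, 2, 2), (4, 2, 0, 4), (4, 3, 0, 4), (1, 2, 3, 2),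
   (4, 0, 3, 4), (3, 1, 2, 1), (2, 4, 4, 1), (3, 3, 4, 1), (2, 2, 2, 0), (0, 1, 4, 3),
   (0, 4, 1, 3), (2, 3, 3, 0), (3, 2, 1, 1), (2, 1, 1, 1), (3, 4, 3, 1), (3, 4, 1, 0),
   (2, 1, 0, 3), (1, 4, 3, 3), (4, 1, 3, 1), (3, 0, 0, 2), (2, 0, 1, 3), (1, 2, 1, 3),
   (4, 3, 1, 1), (4, 2, 4, 1), (1, 3, 4, 3), (2, 0, 4, 3), (4, 4, 2, 1), (1, 1, 2, 3),
   (2, 4, 0, 3), (3, 1, 4, 0), (1, 0, 1, 1), (0, 2, 2, 3), (0, 3, 3, 1), (2, 2, 3, 1),
   (3, 3, 1, 3), (2, 4, 1, 0), (3, 1, 3, 3), (0, 3, 3, 3), (4, 2, 1, 2), (1, 3, 3, 0),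
   (4, 4, 3, 2), (1, 1, 0, 1), (1, 4, 0, 1), (4, 1, 2, 2), (1, 2, 2, 0), (4, 3, 4, 2),
   (3, 4, 2, 3), (2, 1, 4, 0), (3, 2, 4, 3), (2, 3, 2, 1), (0, 2, 2, 1), (1, 0, 4, 1),
   (4, 4, 0, 4), (1, 1, 3, 4), (3, 2, 3, 4), (2, 4, 2, 2), (3, 1, 0, 2), (4, 2, 2, 0),
   (1, 3, 1, 4), (4, 0, 1, 4), (1, 0, 2, 1), (2, 2, 0, 3), (3, 3, 2, 4), (4, 3, 3, 0),
   (1, 2, 0, 1), (2, 0, 3, 3), (3, 0, 1, 2), (2, 3, 1, 2), (0, 4, 1, 0), (0, 1, 4, 0),
   (2, 2, 4, 2), (3, 0, 4, 2), (2, 0, 2, 3), (1, 3, 0, 1), (2, 3, 0, 3), (1, 0, 3, 1),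
   (4, 0, 4, 4), (1, 2, 4, 4), (3, 4, 0, 2), (2, 1, 3, 2), (1, 4, 2, 4), (4, 1, 0, 4),
   (0, 4, 1, 2), (3, 4, 4, 4), (3, 3, 0, 2), (2, 2, 1, 4), (0, 3, 3, 4), (0, 2, 2, 2),
   (3, 0, 2, 2), (2, 1, 2, 4), (0, 2, 2, 4), (0, 3, 3, 0), (3, 1, 1, 4), (3, 0, 3, 2),
   (0, 4, 1, 1), (0, 1, 4, 2), (4, 3, 2, 3), (4, 2, 3, 3), (3, 2, 0, 2), (0, 1, 4, 1),
   (0, 2, 2, 0), (2, 4, 3, 4), (0, 3, 3, 2), (2, 3, 4, 4), (1, 1, 4, 0), (4, 1, 1, 3),
   (3, 3, 3, 0), (1, 4, 1, 0), (4, 4, 4, 3), (3, 2, 2, 0), (4, 0, 0, 4), (2, 0, 0, 3)]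

/-- the group `SL₂(5)` -/
abbrev SL25 : Type := Matrix.SpecialLinearGroup (Fin 2) (ZMod 5)

def sl25X : SL25 := ⟨!![0, 4; 1, 4], by decide⟩

def sl25Y : SL25 := ⟨!![0, 1; 4, 4], by decide⟩

def icoKey (v : Ico) : ZMod 5 × ZMod 5 × ZMod 5 × ZMod 5 :=
  (v.a0 + v.a3 + 3 * v.b0 + 3 * v.b3,
   4 * v.a1 + v.a2 + v.a3 + 2 * v.b1 + 3 * v.b2 + 3 * v.b3,
   v.a1 + 4 * v.a2 + v.a3 + 3 * v.b1 + 2 * v.b2 + 3 * v.b3,
   v.a0 + 4 * v.a1 + 4 * v.a2 + 2 * v.a3 + 3 * v.b0 + 2 * v.b1 + 2 * v.b2 + v.b3)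

theorem icoList_closed : ∀ v ∈ icoList, v.lx ∈ icoList ∧ v.ly ∈ icoList := by decide +kernel

theorem icoWords_map : icoWords.map icoWord = icoList := by decide +kernel

theorem icoList_map : icoList.map icoKey = icoKeys := by decide +kernel

theorem icoKeys_nodup : icoKeys.Nodup := by decide +kernel

theorem icoKeys_surj : ∀ a b c d : ZMod 5, a * d - b * c = 1 → (a, b, c, d) ∈ icoKeys := by
  decide +kernel

theorem icoWord_mem : ∀ w : List Bool, icoWord w ∈ icoList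
  | [] => by decide +kernel
  | true :: w => (icoList_closed _ (icoWord_mem w)).1
  | false :: w => (icoList_closed _ (icoWord_mem w)).2

theorem icoRel_sl25 : IcoRel (sl25X : Matrix (Fin 2) (Fin 2) (ZMod 5)) sl25Y !![3, 0; 0, 3] := by
  constructor <;> decide +kernel

theorem icoKey_eq (v : Ico) {M : Matrix (Fin 2) (Fin 2) (ZMod 5)}
    (h : M = v.ev (sl25X : Matrix (Fin 2) (Fin 2) (ZMod 5)) sl25Y !![3, 0; 0, 3]) :
    icoKey v = (M 0 0, M 0 1, M 1 0, M 1 1) := by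
  have e1 : (sl25X : Matrix (Fin 2) (Fin 2) (ZMod 5)) * (sl25Y : Matrix (Fin 2) (Fin 2) (ZMod 5)) =
      !![1, 1; 1, 2] := by
    decide +kernel
  have e2 : !![3, 0; 0, 3] * (sl25X : Matrix (Fin 2) (Fin 2) (ZMod 5)) = !![0, 2; 3, 2] := by
    decide +kernel
  have e3 : !![3, 0; 0, 3] * (sl25Y : Matrix (Fin 2) (Fin 2) (ZMod 5)) = !![0, 3; 2, 2] := by
    decide +kernel
  have e4 : (!![3, 0; 0, 3] * !![1, 1; 1, 2] : Matrix (Fin 2) (Fin 2) (ZMod 5)) =
      !![3, 3; 3, 1] := by decide +kernel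
  rw [h, Ico.ev, e1, e2, e3, e4, Matrix.one_fin_two]
  simp only [icoKey, sl25X, sl25Y, Prod.mk.injEq]
  refine ⟨?_, ?_, ?_, ?_⟩ <;> simp [-zsmul_eq_mul] <;> simp <;> ring

theorem icoKey_icoWord (w : List Bool) : icoKey (icoWord w) =
    (gword sl25X sl25Y w 0 0, gword sl25X sl25Y w 0 1, gword sl25X sl25Y w 1 0,
      gword sl25X sl25Y w 1 1) :=
  icoKey_eq _ (by
    rw [← icoRel_sl25.gword_eq]
    exact map_gword Matrix.SpecialLinearGroup.coeMonoidHom sl25X sl25Y w)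

theorem icoWord_eq_of_gword_eq {w w' : List Bool}
    (h : gword sl25X sl25Y w = gword sl25X sl25Y w') : icoWord w = icoWord w' := by
  have h1 := icoKeys_nodup
  rw [← icoList_map] at h1
  exact List.inj_on_of_nodup_map h1 (icoWord_mem w) (icoWord_mem w')
    (by rw [icoKey_icoWord, icoKey_icoWord, h])

theorem exists_gword_eq (M : SL25) : ∃ w ∈ icoWords, gword sl25X sl25Y w = M := by
  have h1 := icoKeys_surj (M 0 0) (M 0 1) (M 1 0) (M 1 1) (by
    have := M.det_coe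
    rwa [Matrix.det_fin_two] at this)
  rw [← icoList_map, ← icoWords_map, List.map_map, List.mem_map] at h1
  obtain ⟨w, hw, e⟩ := h1
  refine ⟨w, hw, ?_⟩
  rw [Function.comp, icoKey_icoWord] at e
  simp only [Prod.mk.injEq] at e
  ext i j
  fin_cases i <;> fin_cases j
  exacts [e.1, e.2.1, e.2.2.1, e.2.2.2]

/-- the homomorphism `SL₂(5) → G` defined by two elements satisfying the icosian relations in a
faithful representation -/
theorem exists_hom_sl25 {G R : Type*} [Group G] [Ring R] {ρ : G →* R} (hρ : Function.Injective ρ)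
    {x y : G} {s : R} (h : IcoRel (ρ x) (ρ y) s) :
    ∃ F : SL25 →* G, ∀ w, F (gword sl25X sl25Y w) = gword x y w := by
  choose wd hwd using fun M => (exists_gword_eq M).imp fun _ h => h.2
  have key : ∀ w, gword x y (wd (gword sl25X sl25Y w)) = gword x y w := fun w => hρ (by
    rw [map_gword, map_gword, h.gword_eq, h.gword_eq, icoWord_eq_of_gword_eq (hwd _)])
  refine ⟨MonoidHom.mk' (fun M => gword x y (wd M)) fun M N => ?_, key⟩
  rw [← gword_append, ← key (wd M ++ wd N), gword_append, hwd, hwd]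

theorem card_sl25 : Nat.card SL25 = 120 := by
  let f : SL25 → {k // k ∈ icoKeys.toFinset} := fun M => ⟨(M 0 0, M 0 1, M 1 0, M 1 1), by
    rw [List.mem_toFinset]
    refine icoKeys_surj _ _ _ _ ?_
    have := M.det_coe
    rwa [Matrix.det_fin_two] at this⟩
  have hf : Function.Bijective f := by
    constructor
    · intro M N e
      simp only [f, Subtype.mk.injEq, Prod.mk.injEq] at e
      ext i j
      fin_cases i <;> fin_cases j
      exacts [e.1, e.2.1, e.2.2.1, e.2.2.2]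
    · rintro ⟨k, hk⟩
      rw [List.mem_toFinset, ← icoList_map, ← icoWords_map, List.map_map, List.mem_map] at hk
      obtain ⟨w, -, rfl⟩ := hk
      exact ⟨gword sl25X sl25Y w, Subtype.ext (icoKey_icoWord w).symm⟩
  rw [Nat.card_congr (Equiv.ofBijective f hf), Nat.card_eq_fintype_card, Fintype.card_coe,
    List.toFinset_card_of_nodup icoKeys_nodup]
  rfl

theorem sl25_eq_top {K : Subgroup SL25} (hx : sl25X ∈ K) (hy : sl25Y ∈ K) : K = ⊤ := by
  rw [eq_top_iff]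
  intro M _
  obtain ⟨w, -, rfl⟩ := exists_gword_eq M
  exact gword_mem hx hy w

/-- a decidable property holds for all elements once it holds on the list of words -/
theorem sl25_forall {P : SL25 → Prop} (h : ∀ w ∈ icoWords, P (gword sl25X sl25Y w)) (M : SL25) :
    P M := by
  obtain ⟨w, hw, rfl⟩ := exists_gword_eq M
  exact h w hw

end CfsgLib.Frob
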