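import Mathlib
import Cfsg.Agent.Lib.FrobIco
import Cfsg.Agent.Lib.CoreBasic

/-! Explicit facts about `SL₂(5)`. -/

set_option autoImplicit false

namespace CfsgLib.Frob

open Subgroup
open scoped commutatorElement Pointwise

theorem sl25X_pow : sl25X ^ 3 = 1 := by decide +kernel

theorem sl25Y_pow : sl25Y ^ 3 = 1 := by decide +kernel

theorem sl25X_inv : sl25X⁻¹ = sl25X * sl25X :=
  inv_eq_of_mul_eq_one_right (by decide +kernel)

theorem sl25Y_inv : sl25Y⁻¹ = sl25Y * sl25Y :=
  inv_eq_of_mul_eq_one_right (by decide +kernel)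

def sl25P (M : SL25) : Prop :=
  M = 1 ∨ M ^ 15 = -1 ∨ M ^ 2 = -1 ∨ (M * (sl25X * M * (sl25X * sl25X))) ^ 15 = -1 ∨
    (M * (sl25X * M * (sl25X * sl25X))) ^ 2 = -1 ∨
    (M * (sl25Y * M * (sl25Y * sl25Y))) ^ 2 = -1

instance sl25P_decidable : DecidablePred sl25P := fun M => by unfold sl25P; infer_instance

/-- every nontrivial normal subgroup of `SL₂(5)` contains `-1` -/
theorem sl25_neg_one_mem (K : Subgroup SL25) [hK : K.Normal] (h : K ≠ ⊥) : -1 ∈ K := by
  obtain ⟨⟨M, hM⟩, h1⟩ := ne_bot_iff_exists_ne_one.mp h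
  have h2 : sl25P M := sl25_forall (by decide +kernel) M
  have hX : M * (sl25X * M * (sl25X * sl25X)) ∈ K := by
    rw [← sl25X_inv]; exact K.mul_mem hM (hK.conj_mem _ hM _)
  have hY : M * (sl25Y * M * (sl25Y * sl25Y)) ∈ K := by
    rw [← sl25Y_inv]; exact K.mul_mem hM (hK.conj_mem _ hM _)
  rcases h2 with e | e | e | e | e | e
  · exact absurd (Subtype.ext e) h1
  all_goals rw [← e]
  exacts [K.pow_mem hM _, K.pow_mem hM _, K.pow_mem hX _, K.pow_mem hX _, K.pow_mem hY _]

theorem sl25_commutator_eq_top : commutator SL25 = ⊤ := by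
  have key : ∀ u v w : SL25, u * v = w * v * u → w ∈ commutator SL25 := fun u v w e => by
    have : w = ⁅u, v⁆ := by rw [commutatorElement_def, e]; group
    rw [this]
    exact commutator_mem_commutator (mem_top u) (mem_top v)
  exact sl25_eq_top
    (key ⟨!![0, 2; 2, 0], by decide⟩ ⟨!![0, 1; 4, 1], by decide⟩ _ (by decide +kernel))
    (key ⟨!![0, 2; 2, 0], by decide⟩ sl25Y _ (by decide +kernel))

theorem sl25_not_isSolvable : ¬ Group.IsSolvable SL25 := fun _ => by
  have : Nontrivial SL25 := ⟨⟨sl25X, 1, by decide +kernel⟩⟩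
  exact (Group.IsSolvable.commutator_lt_top_of_nontrivial SL25).ne sl25_commutator_eq_top

def sl25I : SL25 := ⟨!![1, 1; 3, 4], by decide⟩

def sl25J : SL25 := ⟨!![3, 0; 4, 2], by decide⟩

def sl25EList : List SL25 :=
  [1, -1, sl25I, -sl25I, sl25J, -sl25J, sl25I * sl25J, -(sl25I * sl25J)]

/-- a quaternion subgroup of order `8` -/
def sl25E : Subgroup SL25 where
  carrier := {M | M ∈ sl25EList}
  mul_mem' := fun {a b} ha hb =>
    (by decide +kernel : ∀ a ∈ sl25EList, ∀ b ∈ sl25EList, a * b ∈ sl25EList) a ha b hb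
  one_mem' := List.mem_cons_self
  inv_mem' := fun {a} ha => by
    have h : ∀ a ∈ sl25EList, a ^ 3 ∈ sl25EList ∧ a * a ^ 3 = 1 := by decide +kernel
    rw [inv_eq_of_mul_eq_one_right (h a ha).2]
    exact (h a ha).1

theorem card_sl25E : Nat.card sl25E = 8 := by
  have h : (sl25E : Set SL25) = sl25EList.toFinset := by
    ext M; exact List.mem_toFinset.symm
  change Nat.card (sl25E : Set SL25) = 8
  rw [h, Nat.card_coe_set_eq, Set.ncard_coe_finset,
    List.toFinset_card_of_nodup (by decide +kernel)]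
  rfl

def sl25Q (M : SL25) : Prop := ∃ e ∈ sl25EList, M * sl25I = e * M

instance sl25Q_decidable : DecidablePred sl25Q := fun M => by unfold sl25Q; infer_instance

theorem sl25Q_of_mem_normalizer {M : SL25} (h : M ∈ normalizer (sl25E : Set SL25)) : sl25Q M :=
  ⟨_, conj_mem_of_mem_normalizer h (show sl25I ∈ sl25EList by decide +kernel), by simp⟩

theorem index_normalizer_sl25E : (normalizer (sl25E : Set SL25)).index = 5 := by
  have hX : sl25X ∈ normalizer (sl25E : Set SL25) := mem_normalizer_of_conj_mem fun e he => by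
    rw [sl25X_inv]
    exact (by decide +kernel : ∀ e ∈ sl25EList, sl25X * e * (sl25X * sl25X) ∈ sl25EList) e he
  have h3 : 3 ∣ Nat.card (normalizer (sl25E : Set SL25)) := by
    have := (normalizer (sl25E : Set SL25)).orderOf_dvd_natCard hX
    rwa [orderOf_eq_prime sl25X_pow (by decide +kernel)] at this
  have h8 : 8 ∣ Nat.card (normalizer (sl25E : Set SL25)) :=
    card_sl25E ▸ card_dvd_of_le (le_normalizer (H := sl25E))
  have h24 : 24 ∣ Nat.card (normalizer (sl25E : Set SL25)) :=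
    Nat.Coprime.mul_dvd_of_dvd_of_dvd (by norm_num : Nat.Coprime 3 8) h3 h8
  have h1 : (normalizer (sl25E : Set SL25)).index ≠ 1 := fun e => by
    have : sl25Y ∈ normalizer (sl25E : Set SL25) := by rw [index_eq_one.mp e]; trivial
    exact absurd (sl25Q_of_mem_normalizer this) (by decide +kernel)
  have h2 := (normalizer (sl25E : Set SL25)).card_mul_index
  rw [card_sl25] at h2
  obtain ⟨k, hk⟩ := h24
  rw [hk] at h2
  have h5 : (normalizer (sl25E : Set SL25)).index ∣ 5 := Dvd.intro_left k (by linarith)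
  exact ((Nat.dvd_prime Nat.prime_five).mp h5).resolve_left h1

/-- the action of the automorphism group of `SL₂(5)` on the five Sylow `2`-subgroups -/
theorem exists_hom_perm_five : ∃ β : MulAut SL25 →* Equiv.Perm (Fin 5),
    ∀ M : SL25, β (MulAut.conj M) = 1 → M = 1 ∨ M = -1 := by
  let T : Sylow 2 SL25 := Sylow.ofCard sl25E (by
    rw [card_sl25E, card_sl25]
    have : (120 : ℕ) = 2 ^ 3 * 15 := by norm_num
    rw [this, Nat.factorization_mul (by norm_num) (by norm_num), Nat.factorization_pow]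
    simp [Nat.factorization_eq_zero_of_not_dvd, Nat.Prime.factorization_self Nat.prime_two])
  have hc : Nat.card (Sylow 2 SL25) = 5 := by
    rw [T.card_eq_index_normalizer]; exact index_normalizer_sl25E
  let e : Sylow 2 SL25 ≃ Fin 5 := Finite.equivFinOfCardEq hc
  let β0 := MulAction.toPermHom (MulAut SL25) (Sylow 2 SL25)
  refine ⟨e.permCongrHom.toMonoidHom.comp β0, fun M hM => ?_⟩
  have h1 : M ∈ (β0.comp MulAut.conj).ker := by
    rw [MonoidHom.mem_ker]
    exact e.permCongrHom.injective (hM.trans (map_one _).symm)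
  have h2 : ∀ N ∈ (β0.comp MulAut.conj).ker, sl25Q N := fun N hN => by
    refine sl25Q_of_mem_normalizer ?_
    have h3 : MulAut.conj N • T = T := congrArg (fun σ : Equiv.Perm _ => σ T) hN
    exact mem_normalizer_of_map_conj_eq (congrArg (fun P : Sylow 2 SL25 => (P : Subgroup SL25)) h3)
  have h3 := h2 _ (MonoidHom.normal_ker _ |>.conj_mem _ h1 sl25Y)
  have h4 := h2 _ (MonoidHom.normal_ker _ |>.conj_mem _ h1 sl25Y⁻¹)
  rw [inv_inv] at h4
  rw [sl25Y_inv] at h3 h4
  exact sl25_forall (P := fun M => sl25Q M → sl25Q (sl25Y * M * (sl25Y * sl25Y)) →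
    sl25Q (sl25Y * sl25Y * M * sl25Y) → M = 1 ∨ M = -1) (by decide +kernel) M (h2 M h1) h3 h4

def sl25Y1 : SL25 := ⟨!![3, 2; 1, 1], by decide⟩

def sl25W : SL25 := ⟨!![3, 4; 3, 1], by decide⟩

theorem sl25_I_eq : (sl25X * sl25Y1)⁻¹ = sl25I := inv_eq_of_mul_eq_one_right (by decide +kernel)

theorem sl25_J_eq : (sl25Y1 * sl25X)⁻¹ = sl25J := inv_eq_of_mul_eq_one_right (by decide +kernel)

theorem sl25_neg_one_ne : (-1 : SL25) ≠ 1 := by decide +kernel

theorem sl25W_ne {e : SL25} (he : e = sl25I ∨ e = sl25J ∨ e = sl25I * sl25J) :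
    sl25W ≠ e * sl25X * e⁻¹ ∧ sl25W ≠ (e * sl25X * e⁻¹)⁻¹ := by
  have h1 : sl25W * e ≠ e * sl25X ∧ sl25W * e * sl25X ≠ e := by
    rcases he with rfl | rfl | rfl <;> decide +kernel
  exact ⟨fun h => h1.1 (by rw [h]; group), fun h => h1.2 (by rw [h]; group)⟩

end CfsgLib.Frob
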