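import Mathlib
import Cfsg.Agent.Lib.FT.U4b
import Cfsg.Agent.Lib.PGroupDihQuat
import Cfsg.Agent.Lib.PComplement
import Cfsg.Agent.Lib.CoreElements

/-! Subgroups with a normal Sylow subgroup and cyclic quotient; recognition of dihedral
subgroups and of the alternating group of degree four. -/

set_option autoImplicit false

namespace CfsgLib.H5

open Subgroup Cfsg CfsgLib.FT.BGN CfsgLib.FT.U4

variable {G : Type*} [Group G]

theorem pByCyc_of_sup [Finite G] {p : ℕ} [Fact p.Prime] {T : Subgroup G} (hT : IsPGroup p T) {x : G}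
    (hx : x ∈ 𝐍(T)) : (∀ S : Sylow p ↥(T ⊔ zpowers x), (S : Subgroup ↥(T ⊔ zpowers x)).Normal) ∧
      ∀ (S : Sylow p ↥(T ⊔ zpowers x)) [(S : Subgroup ↥(T ⊔ zpowers x)).Normal],
        IsCyclic (↥(T ⊔ zpowers x) ⧸ (S : Subgroup ↥(T ⊔ zpowers x))) := by
  have hn : T ⊔ zpowers x ≤ 𝐍(T) := sup_le le_normalizer (zpowers_le.2 hx)
  have hN : (T.subgroupOf (T ⊔ zpowers x)).Normal :=
    (normal_subgroupOf_iff_le_normalizer le_sup_left).2 hn
  have hle : ∀ S : Sylow p ↥(T ⊔ zpowers x), T.subgroupOf (T ⊔ zpowers x) ≤ S := fun S =>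
    IsPGroup.le_sylow_of_normal (N := T.subgroupOf (T ⊔ zpowers x)) (hT.comap_subtype) S
  have hx' : x ∈ T ⊔ zpowers x := mem_sup_right (mem_zpowers x)
  have key : ∀ g : ↥(T ⊔ zpowers x), ∃ t ∈ T.subgroupOf (T ⊔ zpowers x), ∃ k : ℤ,
      g = t * (⟨x, hx'⟩ : ↥(T ⊔ zpowers x)) ^ k := by
    intro g
    obtain ⟨t, ht, _, ⟨k, rfl⟩, e⟩ := (mem_sup_iff_of_le_normalizer' (zpowers_le.2 hx)).1 g.2
    exact ⟨⟨t, mem_sup_left ht⟩, ht, k, Subtype.ext (by simpa using e.symm)⟩
  refine ⟨fun S => ⟨fun s hs g => ?_⟩, fun S _ => ⟨⟨QuotientGroup.mk ⟨x, hx'⟩, fun q => ?_⟩⟩⟩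
  · have h1 : g * s * g⁻¹ * s⁻¹ ∈ T.subgroupOf (T ⊔ zpowers x) := by
      rw [← QuotientGroup.eq_one_iff]
      obtain ⟨t, ht, k, rfl⟩ := key g
      obtain ⟨t', ht', k', rfl⟩ := key s
      simp only [QuotientGroup.mk_mul, QuotientGroup.mk_inv, QuotientGroup.mk_zpow,
        (QuotientGroup.eq_one_iff _).2 ht, (QuotientGroup.eq_one_iff _).2 ht', one_mul]
      group
    simpa using mul_mem (hle S h1) hs
  · induction q using QuotientGroup.induction_on with
    | H g =>
      obtain ⟨t, ht, k, rfl⟩ := key g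
      refine ⟨k, ?_⟩
      simp only [QuotientGroup.mk_mul, QuotientGroup.mk_zpow,
        (QuotientGroup.eq_one_iff _).2 (hle S ht), one_mul]

theorem exists_sup_of_pByCyc [Finite G] {p : ℕ} [hp : Fact p.Prime] {H : Subgroup G}
    (h1 : ∀ S : Sylow p H, (S : Subgroup H).Normal)
    (h2 : ∀ (S : Sylow p H) [(S : Subgroup H).Normal], IsCyclic (H ⧸ (S : Subgroup H))) :
    ∃ (T : Subgroup G) (x : G), IsPGroup p T ∧ x ∈ 𝐍(T) ∧ (orderOf x).Coprime p ∧
      H = T ⊔ zpowers x := by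
  obtain ⟨S⟩ : Nonempty (Sylow p H) := inferInstance
  have := h1 S
  obtain ⟨q, hq⟩ := (h2 S).exists_generator
  obtain ⟨g, rfl⟩ := QuotientGroup.mk_surjective q
  obtain ⟨u, -, v, -, e, -, ⟨k, hk⟩, hv⟩ := exists_p_part hp.out g
  have hu : u ∈ (S : Subgroup H) := by
    obtain ⟨S', hS'⟩ := exists_sylow_mem_of_orderOf hk
    have := Sylow.unique_of_normal S inferInstance
    rwa [Subsingleton.elim S' S] at hS'
  have hn : H ≤ 𝐍((S : Subgroup H).map H.subtype) := fun a ha =>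
    mem_normalizer_of_conj_mem (by
      rintro _ ⟨s, hs, rfl⟩
      exact ⟨_, this.conj_mem s hs ⟨a, ha⟩, rfl⟩)
  refine ⟨(S : Subgroup H).map H.subtype, v, S.isPGroup'.map _, hn v.2, by rwa [orderOf_coe],
    le_antisymm (fun a ha => ?_) (sup_le (map_subtype_le _) (zpowers_le.2 v.2))⟩
  obtain ⟨m, hm⟩ := hq (QuotientGroup.mk ⟨a, ha⟩)
  simp only [e, QuotientGroup.mk_mul, (QuotientGroup.eq_one_iff _).2 hu, one_mul] at hm
  rw [← QuotientGroup.mk_zpow, QuotientGroup.eq] at hm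
  have h3 : a = (v : G) ^ m * (((v ^ m)⁻¹ * ⟨a, ha⟩ : H) : G) := by simp
  rw [h3]
  exact mul_mem (mem_sup_right (zpow_mem (mem_zpowers _) m)) (mem_sup_left ⟨_, hm, rfl⟩)

theorem nonempty_dihedral_sup [Finite G] {a x : G} (hx : x ∉ zpowers a) (hx2 : x * x = 1)
    (hr : x * a * x⁻¹ = a⁻¹) : Nonempty (↥(zpowers a ⊔ zpowers x) ≃* DihedralGroup (orderOf a)) := by
  have ha' : a ∈ zpowers a ⊔ zpowers x := mem_sup_left (mem_zpowers a)
  have hx' : x ∈ zpowers a ⊔ zpowers x := mem_sup_right (mem_zpowers x)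
  have hx1 : x ≠ 1 := fun e => hx (e ▸ one_mem _)
  have hox : orderOf x = 2 := orderOf_eq_prime (by rw [pow_two, hx2]) hx1
  refine PGrp.nonempty_mulEquiv_dihedralGroup (x := ⟨a, ha'⟩) (y := ⟨x, hx'⟩)
    (by rw [← orderOf_coe]) (fun ⟨k, hk⟩ => hx ⟨k, by simpa using congrArg Subtype.val hk⟩)
    (Subtype.ext (by simpa [pow_two] using hx2)) (Subtype.ext (by simpa using hr)) ?_
  rw [sup_comm, card_sup_of_disjoint, Nat.card_zpowers, Nat.card_zpowers, hox]
  · refine zpowers_le.2 (mem_normalizer_of_conj_mem ?_)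
    rintro _ ⟨k, rfl⟩
    simp only
    rw [← conj_zpow, hr]
    exact zpow_mem (inv_mem (mem_zpowers a)) k
  · rcases inf_eq_bot_or_le_of_card_prime (X := zpowers x)
      (by rw [Nat.card_zpowers, hox]; exact Nat.prime_two) (zpowers a) with h | h
    · exact h
    · exact absurd (h (mem_zpowers x)) hx

/-- A group of order `12` with a non-normal subgroup of order `3` is `A₄`. -/
theorem nonempty_alt4 {H : Type*} [Group H] (hc : Nat.card H = 12) (C : Subgroup H)
    (h3 : Nat.card C = 3) (hn : ¬ C.Normal) : Nonempty (H ≃* alternatingGroup (Fin 4)) := by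
  classical
  have : Finite H := Nat.finite_of_card_ne_zero (by omega)
  have hi : Nat.card (H ⧸ C) = 4 := by
    have := C.card_mul_index
    rw [h3, hc] at this
    show C.index = 4
    omega
  have e : H ⧸ C ≃ Fin 4 := Finite.equivFinOfCardEq hi
  let f : H →* Equiv.Perm (Fin 4) :=
    (e.permCongrHom).toMonoidHom.comp (MulAction.toPermHom H (H ⧸ C))
  have hf : Function.Injective f := by
    refine (e.permCongrHom).injective.comp ?_
    rw [← MonoidHom.ker_eq_bot_iff, ← normalCore_eq_ker]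
    by_contra h1
    have := eq_of_le_of_card_prime (X := C) (by rw [h3]; exact Nat.prime_three)
      (normalCore_le C) h1
    exact hn (this ▸ inferInstance)
  have hr : f.range = alternatingGroup (Fin 4) := by
    refine Equiv.Perm.eq_alternatingGroup_of_index_eq_two ?_
    have h1 := f.range.card_mul_index
    rw [← Nat.card_congr (MonoidHom.ofInjective hf).toEquiv, hc, Nat.card_perm] at h1
    simp [Nat.factorial] at h1
    omega
  exact ⟨(MonoidHom.ofInjective hf).trans (MulEquiv.subgroupCongr hr)⟩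

end CfsgLib.H5
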