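import Mathlib

/-!
# Partial transfers

For a subgroup `H` and a normal subgroup `K` with `G = KH` and an `H`-invariant homomorphism
`φ : H ∩ K → A`, we study sums `∑_{ω ∈ X} φ(t(xω)⁻¹ x t(ω))` over invariant sets `X` of cosets.
-/

set_option autoImplicit false

namespace CfsgLib.PreTransfer

open Subgroup MulAction

section Sums

variable {G Ω A : Type*} [Group G] [MulAction G Ω] [AddCommMonoid A]

theorem sum_smul_eq (X : Finset Ω) (y : G) (hX : ∀ ω ∈ X, y • ω ∈ X) (f : Ω → A) :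
    ∑ ω ∈ X, f (y • ω) = ∑ ω ∈ X, f ω := by
  classical
  have hinj : Set.InjOn (fun ω : Ω => y • ω) X := fun _ _ _ _ h => smul_left_cancel y h
  have : X.image (fun ω => y • ω) = X :=
    Finset.eq_of_subset_of_card_le (Finset.image_subset_iff.mpr hX)
      (Finset.card_image_of_injOn hinj).ge
  conv_rhs => rw [← this]
  rw [Finset.sum_image hinj]

open Classical in
/-- The orbit of a point under a subgroup, as a finite set. -/
noncomputable def orb [Fintype Ω] (L : Subgroup G) (ω : Ω) : Finset Ω :=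
  Finset.univ.filter fun ω' => ∃ l ∈ L, l • ω = ω'

theorem mem_orb [Fintype Ω] {L : Subgroup G} {ω ω' : Ω} : ω' ∈ orb L ω ↔ ∃ l ∈ L, l • ω = ω' := by
  simp [orb]

theorem self_mem_orb [Fintype Ω] (L : Subgroup G) (ω : Ω) : ω ∈ orb L ω :=
  mem_orb.mpr ⟨1, one_mem _, one_smul _ _⟩

theorem smul_mem_orb [Fintype Ω] {L : Subgroup G} {ω : Ω} {g : G} (hg : g ∈ L) :
    ∀ ω' ∈ orb L ω, g • ω' ∈ orb L ω := by
  intro ω' h
  obtain ⟨l, hl, rfl⟩ := mem_orb.mp h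
  exact mem_orb.mpr ⟨g * l, mul_mem hg hl, mul_smul _ _ _⟩

theorem orb_eq_of_mem [Fintype Ω] {L : Subgroup G} {ω ω' : Ω} (h : ω' ∈ orb L ω) :
    orb L ω' = orb L ω := by
  obtain ⟨l, hl, rfl⟩ := mem_orb.mp h
  ext x
  simp only [mem_orb]
  constructor
  · rintro ⟨m, hm, rfl⟩; exact ⟨m * l, mul_mem hm hl, mul_smul _ _ _⟩
  · rintro ⟨m, hm, rfl⟩; exact ⟨m * l⁻¹, mul_mem hm (inv_mem hl), by rw [mul_smul, inv_smul_smul]⟩

theorem card_orb [Fintype Ω] (L : Subgroup G) (ω : Ω) :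
    (orb L ω).card = Nat.card (orbit L ω) := by
  rw [← Nat.card_eq_finsetCard]
  refine Nat.card_congr (Equiv.subtypeEquivRight fun x => ?_)
  rw [mem_orb]
  exact ⟨fun ⟨l, hl, e⟩ => ⟨⟨l, hl⟩, e⟩, fun ⟨l, e⟩ => ⟨l, l.2, e⟩⟩

theorem sum_eq_zero_of_orbits [Fintype Ω] (L : Subgroup G) (f : Ω → A) (X : Finset Ω)
    (hX : ∀ g ∈ L, ∀ ω ∈ X, g • ω ∈ X) (h : ∀ ω ∈ X, ∑ ω' ∈ orb L ω, f ω' = 0) :
    ∑ ω ∈ X, f ω = 0 := by
  classical
  induction X using Finset.strongInduction with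
  | H X ih =>
  rcases X.eq_empty_or_nonempty with rfl | ⟨ω, hω⟩
  · simp
  have hsub : orb L ω ⊆ X := fun x hx => by
    obtain ⟨l, hl, rfl⟩ := mem_orb.mp hx
    exact hX l hl ω hω
  rw [← Finset.sum_sdiff hsub, h ω hω, add_zero]
  refine ih _ (Finset.sdiff_ssubset hsub ⟨ω, self_mem_orb L ω⟩) (fun g hg x hx => ?_)
    fun x hx => h x (Finset.mem_sdiff.mp hx).1
  rw [Finset.mem_sdiff] at hx ⊢
  refine ⟨hX g hg x hx.1, fun h' => hx.2 ?_⟩
  have := smul_mem_orb (inv_mem hg) _ h'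
  rwa [inv_smul_smul] at this

theorem sum_orb_eq_sum_range [Fintype Ω] {L R : Subgroup G} (hRL : R ≤ L) {z : G} (hz : z ∈ L)
    (n : ℕ) (hsurj : ∀ l ∈ L, ∃ i < n, ∃ r ∈ R, l = z ^ i * r)
    (hinj : ∀ i < n, ∀ j < n, (z ^ i)⁻¹ * z ^ j ∈ R → i = j) (ω : Ω)
    (hS : ∀ l ∈ L, l • ω = ω → l ∈ R) (f : Ω → A) :
    ∑ ω' ∈ orb L ω, f ω' = ∑ i ∈ Finset.range n, ∑ ω' ∈ orb R ω, f (z ^ i • ω') := by
  rw [← Finset.sum_product']
  symm
  refine Finset.sum_bij (fun x _ => z ^ x.1 • x.2) ?_ ?_ ?_ (fun _ _ => rfl)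
  · rintro ⟨i, x⟩ hx
    obtain ⟨r, hr, rfl⟩ := mem_orb.mp (Finset.mem_product.mp hx).2
    exact mem_orb.mpr ⟨z ^ i * r, mul_mem (pow_mem hz i) (hRL hr), mul_smul _ _ _⟩
  · rintro ⟨i, x⟩ hx ⟨j, y⟩ hy h
    simp only [Finset.mem_product, Finset.mem_range, mem_orb] at hx hy
    obtain ⟨hi, r, hr, rfl⟩ := hx
    obtain ⟨hj, s, hs, rfl⟩ := hy
    simp only at h
    have h1 : r⁻¹ * ((z ^ i)⁻¹ * z ^ j) * s ∈ R := hS _ (mul_mem (mul_mem (inv_mem (hRL hr))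
      (mul_mem (inv_mem (pow_mem hz i)) (pow_mem hz j))) (hRL hs)) (by
        rw [mul_smul, mul_smul, mul_smul, ← h, inv_smul_smul, inv_smul_smul])
    have h2 : (z ^ i)⁻¹ * z ^ j ∈ R := by
      simpa [mul_assoc] using mul_mem (mul_mem hr h1) (inv_mem hs)
    obtain rfl := hinj i hi j hj h2
    rw [smul_left_cancel _ h]
  · intro x hx
    obtain ⟨l, hl, rfl⟩ := mem_orb.mp hx
    obtain ⟨i, hi, r, hr, rfl⟩ := hsurj l hl
    exact ⟨(i, r • ω), Finset.mem_product.mpr ⟨Finset.mem_range.mpr hi,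
      mem_orb.mpr ⟨r, hr, rfl⟩⟩, (mul_smul _ _ _).symm⟩

theorem sum_orb_zpowers [Finite G] [Fintype Ω] (x : G) (ω : Ω) (f : Ω → A) :
    ∑ ω' ∈ orb (zpowers x) ω, f ω' = ∑ i ∈ Finset.range (period x ω), f (x ^ i • ω) := by
  have hpos : 0 < period x ω := period_pos_of_orderOf_pos (orderOf_pos x) ω
  symm
  refine Finset.sum_bij (fun i _ => x ^ i • ω) ?_ ?_ ?_ (fun _ _ => rfl)
  · exact fun i _ => mem_orb.mpr ⟨x ^ i, npow_mem_zpowers x i, rfl⟩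
  · intro i hi j hj h
    refine Function.iterate_injOn_Iio_minimalPeriod (f := fun y => x • y) (x := ω)
      (Finset.mem_range.mp hi) (Finset.mem_range.mp hj) ?_
    simpa only [smul_iterate_apply] using h
  · intro y hy
    obtain ⟨l, hl, rfl⟩ := mem_orb.mp hy
    obtain ⟨k, rfl⟩ := (mem_powers_iff_mem_zpowers.mpr hl : l ∈ Submonoid.powers x)
    exact ⟨k % period x ω, Finset.mem_range.mpr (Nat.mod_lt _ hpos), pow_mod_period_smul k⟩

/-- For a `p`-element `x` not fixing `ω`, the period is divisible by `p`. -/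
theorem dvd_period {p k : ℕ} (hp : p.Prime) {x : G} (hx : orderOf x = p ^ k) {ω : Ω}
    (h : x • ω ≠ ω) : p ∣ period x ω := by
  have h1 := period_dvd_orderOf x ω
  rw [hx] at h1
  obtain ⟨j, _, hj⟩ := (Nat.dvd_prime_pow hp).mp h1
  rcases j with _ | j
  · exact absurd (period_eq_one_iff.mp (by simpa using hj)) h
  · rw [hj]; exact dvd_pow_self p (by omega)

theorem orderOf_pow_lt {p k n : ℕ} (hp : p.Prime) {x : G} (hx : orderOf x = p ^ k) (hx1 : x ≠ 1)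
    (hn : p ∣ n) : orderOf (x ^ n) < orderOf x := by
  obtain ⟨m, rfl⟩ := hn
  rcases k with _ | k
  · exact absurd (orderOf_eq_one_iff.mp (by simpa using hx)) hx1
  · have : orderOf (x ^ (p * m)) ∣ p ^ k := by
      rw [orderOf_dvd_iff_pow_eq_one, ← pow_mul, mul_right_comm, ← pow_succ', pow_mul, ← hx,
        pow_orderOf_eq_one, one_pow]
    rw [hx]
    exact (Nat.le_of_dvd (pow_pos hp.pos k) this).trans_lt
      (Nat.pow_lt_pow_right hp.one_lt (Nat.lt_succ_self k))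

end Sums

variable {G : Type*} [Group G]

/-- Data for partial transfers. -/
structure Setup (H K : Subgroup G) (A : Type*) [AddCommGroup A] where
  /-- the homomorphism on `H ∩ K` -/
  φ : G → A
  /-- coset representatives in `K` -/
  t : G ⧸ H → G
  t_mem : ∀ ω, t ω ∈ K
  t_eq : ∀ ω, (t ω : G ⧸ H) = ω
  add : ∀ x ∈ H, x ∈ K → ∀ y ∈ H, y ∈ K → φ (x * y) = φ x + φ y
  conj : ∀ h ∈ H, ∀ x ∈ H, x ∈ K → φ (h * x * h⁻¹) = φ x

theorem exists_transversal {H K : Subgroup G} [K.Normal] (h : K ⊔ H = ⊤) :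
    ∃ t : G ⧸ H → G, (∀ ω, t ω ∈ K) ∧ ∀ ω, (t ω : G ⧸ H) = ω := by
  have : ∀ ω : G ⧸ H, ∃ t ∈ K, (t : G ⧸ H) = ω := by
    intro ω
    obtain ⟨g, rfl⟩ := QuotientGroup.mk_surjective ω
    have hg : g ∈ ((K ⊔ H : Subgroup G) : Set G) := h ▸ mem_top g
    rw [normal_mul] at hg
    obtain ⟨k, hk, y, hy, rfl⟩ := hg
    exact ⟨k, hk, by rw [QuotientGroup.eq]; simpa using hy⟩
  choose t ht using this
  exact ⟨t, fun ω => (ht ω).1, fun ω => (ht ω).2⟩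

namespace Setup

variable {H K : Subgroup G} {A : Type*} [AddCommGroup A] (s : Setup H K A)

/-- the cocycle -/
def c (g : G) (ω : G ⧸ H) : G := (s.t (g • ω))⁻¹ * g * s.t ω

theorem c_mem_H (g : G) (ω : G ⧸ H) : s.c g ω ∈ H := by
  rw [c, mul_assoc, ← QuotientGroup.eq, s.t_eq]
  conv_lhs => rw [← s.t_eq ω]
  rfl

theorem c_mem_K {g : G} (hg : g ∈ K) (ω : G ⧸ H) : s.c g ω ∈ K :=
  mul_mem (mul_mem (inv_mem (s.t_mem _)) hg) (s.t_mem _)

theorem c_mul (g g' : G) (ω : G ⧸ H) : s.c (g * g') ω = s.c g (g' • ω) * s.c g' ω := by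
  simp only [c, mul_smul]; group

theorem c_of_fixed {g : G} {ω : G ⧸ H} (h : g • ω = ω) : s.c g ω = (s.t ω)⁻¹ * g * s.t ω := by
  rw [c, h]

theorem φ_one : s.φ 1 = 0 := by
  simpa using s.add 1 (one_mem _) (one_mem _) 1 (one_mem _) (one_mem _)

theorem φ_inv {x : G} (hH : x ∈ H) (hK : x ∈ K) : s.φ x⁻¹ = - s.φ x := by
  have := s.add x⁻¹ (inv_mem hH) (inv_mem hK) x hH hK
  rw [inv_mul_cancel, φ_one] at this
  exact eq_neg_of_add_eq_zero_left this.symm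

theorem φ_pow {x : G} (hH : x ∈ H) (hK : x ∈ K) (n : ℕ) : s.φ (x ^ n) = n • s.φ x := by
  induction n with
  | zero => simpa using s.φ_one
  | succ n ih => rw [pow_succ, s.add _ (pow_mem hH n) (pow_mem hK n) x hH hK, ih, succ_nsmul]

theorem φ_c_mul {x y : G} (hx : x ∈ K) (hy : y ∈ K) (ω : G ⧸ H) :
    s.φ (s.c (x * y) ω) = s.φ (s.c x (y • ω)) + s.φ (s.c y ω) := by
  rw [c_mul, s.add _ (s.c_mem_H _ _) (s.c_mem_K hx _) _ (s.c_mem_H _ _) (s.c_mem_K hy _)]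

theorem φ_c_pow {x : G} (hx : x ∈ K) (ω : G ⧸ H) (n : ℕ) :
    s.φ (s.c (x ^ n) ω) = ∑ i ∈ Finset.range n, s.φ (s.c x (x ^ i • ω)) := by
  induction n with
  | zero => simp [c, s.φ_one]
  | succ n ih => rw [pow_succ', s.φ_c_mul hx (pow_mem hx n), ih, Finset.sum_range_succ, add_comm]

/-- The partial transfer over a set `X` of cosets. -/
def V (X : Finset (G ⧸ H)) (x : G) : A := ∑ ω ∈ X, s.φ (s.c x ω)

theorem V_mul (X : Finset (G ⧸ H)) {x y : G} (hx : x ∈ K) (hy : y ∈ K)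
    (hX : ∀ ω ∈ X, y • ω ∈ X) : s.V X (x * y) = s.V X x + s.V X y := by
  simp only [V, s.φ_c_mul hx hy, Finset.sum_add_distrib]
  rw [sum_smul_eq X y hX fun ω => s.φ (s.c x ω)]

theorem V_one (X : Finset (G ⧸ H)) : s.V X 1 = 0 := by
  simp [V, c, s.φ_one]

theorem sum_conj [hK : K.Normal] (X : Finset (G ⧸ H)) (g : G) {x : G} (hx : x ∈ K)
    (hX : ∀ ω ∈ X, x • ω ∈ X) :
    ∑ ω ∈ X, s.φ (s.c (g * x * g⁻¹) (g • ω)) = s.V X x := by
  let h0 := s.c g ((1 : G) : G ⧸ H)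
  have hH : ∀ ω, s.c g ω * h0⁻¹ ∈ H := fun ω => mul_mem (s.c_mem_H _ _) (inv_mem (s.c_mem_H _ _))
  have hK' : ∀ ω, s.c g ω * h0⁻¹ ∈ K := fun ω => by
    have : s.c g ω * h0⁻¹ = (s.t (g • ω))⁻¹ * (g * (s.t ω * (s.t ((1 : G) : G ⧸ H))⁻¹) * g⁻¹) *
        s.t (g • ((1 : G) : G ⧸ H)) := by simp only [h0, c]; group
    rw [this]
    exact mul_mem (mul_mem (inv_mem (s.t_mem _))
      (hK.conj_mem _ (mul_mem (s.t_mem _) (inv_mem (s.t_mem _))) g)) (s.t_mem _)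
  have key : ∀ ω, s.φ (s.c (g * x * g⁻¹) (g • ω)) =
      s.φ (s.c g (x • ω) * h0⁻¹) - s.φ (s.c g ω * h0⁻¹) + s.φ (s.c x ω) := by
    intro ω
    have : s.c (g * x * g⁻¹) (g • ω) = (s.c g (x • ω) * h0⁻¹) * (s.c g ω * h0⁻¹)⁻¹ *
        (s.c g ω * s.c x ω * (s.c g ω)⁻¹) := by
      simp only [c, mul_smul, inv_smul_smul]; group
    rw [this, s.add _ (mul_mem (hH _) (inv_mem (hH _))) (mul_mem (hK' _) (inv_mem (hK' _))) _
      (mul_mem (mul_mem (s.c_mem_H _ _) (s.c_mem_H _ _)) (inv_mem (s.c_mem_H _ _)))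
      (hK.conj_mem _ (s.c_mem_K hx _) _), s.add _ (hH _) (hK' _) _ (inv_mem (hH _))
      (inv_mem (hK' _)), s.φ_inv (hH _) (hK' _), s.conj _ (s.c_mem_H _ _) _ (s.c_mem_H _ _)
      (s.c_mem_K hx _), sub_eq_add_neg]
  simp only [key, Finset.sum_add_distrib, Finset.sum_sub_distrib]
  rw [sum_smul_eq X x hX fun ω => s.φ (s.c g ω * h0⁻¹), sub_self, zero_add, V]

theorem V_orb_zpowers [Finite G] [Fintype (G ⧸ H)] {x : G} (hx : x ∈ K) (ω : G ⧸ H) :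
    s.V (orb (zpowers x) ω) x = s.φ ((s.t ω)⁻¹ * x ^ period x ω * s.t ω) := by
  rw [V, sum_orb_zpowers, ← s.φ_c_pow hx, s.c_of_fixed (pow_period_smul x ω)]

/-- If `φ` vanishes on elements of `H ∩ K` of the form `t⁻¹ x^n t` with `p ∣ n` then the partial
transfer of the `p`-element `x` over an invariant set without fixed points vanishes. -/
theorem V_eq_zero_of_no_fixed [Finite G] [Fintype (G ⧸ H)] {p k : ℕ} (hp : p.Prime) {x : G}
    (hx : x ∈ K) (hxo : orderOf x = p ^ k) (X : Finset (G ⧸ H)) (hX : ∀ ω ∈ X, x • ω ∈ X)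
    (hfix : ∀ ω ∈ X, x • ω ≠ ω)
    (h0 : ∀ n, p ∣ n → ∀ t ∈ K, t⁻¹ * x ^ n * t ∈ H → s.φ (t⁻¹ * x ^ n * t) = 0) :
    s.V X x = 0 := by
  refine sum_eq_zero_of_orbits (zpowers x) _ X ?_ fun ω hω => ?_
  · intro g hg
    obtain ⟨n, rfl⟩ := (mem_powers_iff_mem_zpowers.mpr hg : g ∈ Submonoid.powers x)
    clear hg
    induction n with
    | zero => simp
    | succ n ih => intro ω hω; simp only at ih ⊢; rw [pow_succ, mul_smul]; exact ih _ (hX ω hω)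
  · have := s.V_orb_zpowers hx ω
    rw [V] at this
    rw [this]
    refine h0 _ (dvd_period hp hxo (hfix ω hω)) _ (s.t_mem _) ?_
    rw [← s.c_of_fixed (pow_period_smul x ω)]
    exact s.c_mem_H _ _

/-- The full transfer as a homomorphism on `K`. -/
def hom [Fintype (G ⧸ H)] : K →* Multiplicative A :=
  MonoidHom.mk' (fun x => Multiplicative.ofAdd (s.V Finset.univ x)) fun x y => by
    rw [coe_mul, s.V_mul _ x.2 y.2 fun _ _ => Finset.mem_univ _, ofAdd_add]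

theorem hom_apply [Fintype (G ⧸ H)] (x : K) :
    s.hom x = Multiplicative.ofAdd (s.V Finset.univ x) := rfl

end Setup

end CfsgLib.PreTransfer
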