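import Mathlib
import Cfsg.Prelude.Def_Transfer
import Cfsg.Prelude.Def_BaumannBlocks
import Cfsg.Agent.Lib.PreTransfer
import Cfsg.Agent.Lib.PResidual
import Cfsg.Agent.Lib.CoreBasic
import Cfsg.Agent.Lib.BurnsideBasis

/-!
# Grün's first theorem and the Hall–Wielandt theorem
-/

set_option autoImplicit false

namespace CfsgLib.HallWielandt

open Subgroup MulAction Cfsg CfsgLib.PreTransfer
open scoped commutatorElement

variable {G : Type*} [Group G] {p : ℕ}

theorem dvd_card_orb {Ω : Type*} [MulAction G Ω] [Fintype Ω] [Fact p.Prime] {L : Subgroup G}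
    (hL : IsPGroup p L) {ω : Ω} (h : ∃ l ∈ L, l • ω ≠ ω) : p ∣ (orb L ω).card := by
  obtain ⟨n, hn⟩ := hL.card_orbit ω
  rw [← card_orb] at hn
  rcases n with _ | n
  · obtain ⟨l, hl, hne⟩ := h
    exact absurd (Finset.card_le_one.mp (by simpa using hn.le) _
      (smul_mem_orb hl _ (self_mem_orb L ω)) _ (self_mem_orb L ω)) hne
  · rw [hn]; exact dvd_pow_self p (by omega)

theorem dvd_card_of_no_fixed {Ω : Type*} [MulAction G Ω] [Fintype Ω] [Fact p.Prime]
    {L : Subgroup G} (hL : IsPGroup p L) (X : Finset Ω) (hX : ∀ g ∈ L, ∀ ω ∈ X, g • ω ∈ X)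
    (h : ∀ ω ∈ X, ∃ l ∈ L, l • ω ≠ ω) : p ∣ X.card := by
  have := sum_eq_zero_of_orbits L (fun _ => (1 : ZMod p)) X hX fun ω hω => by
    simpa [ZMod.natCast_eq_zero_iff] using dvd_card_orb hL (h ω hω)
  simpa [ZMod.natCast_eq_zero_iff] using this

theorem zpowers_invariant [Finite G] {Ω : Type*} [MulAction G Ω] {x : G} {X : Finset Ω}
    (hX : ∀ ω ∈ X, x • ω ∈ X) : ∀ g ∈ zpowers x, ∀ ω ∈ X, g • ω ∈ X := by
  intro g hg
  obtain ⟨n, rfl⟩ := (mem_powers_iff_mem_zpowers.mpr hg : g ∈ Submonoid.powers x)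
  clear hg
  induction n with
  | zero => simp
  | succ n ih => intro ω hω; simp only at ih ⊢; rw [pow_succ, mul_smul]; exact ih _ (hX ω hω)

theorem orderOf_conj' (t x : G) : orderOf (t⁻¹ * x * t) = orderOf x := by
  have := (MulAut.conj t⁻¹).orderOf_eq x
  simpa using this

theorem exists_phi_of_commutator_le.{u} {G : Type u} [Group G] (P D : Subgroup G)
    (hD : ⁅P, P⁆ ≤ D) : ∃ (A : Type u) (_ : AddCommGroup A) (φ : G → A),
      (∀ x ∈ P, ∀ y ∈ P, φ (x * y) = φ x + φ y) ∧ ∀ x ∈ P, φ x = 0 ↔ x ∈ D := by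
  classical
  have h1 : commutator P ≤ D.subgroupOf P := by
    rw [← map_le_map_iff_of_injective P.subtype_injective, map_subtype_commutator,
      subgroupOf_map_subtype]
    exact le_inf hD (commutator_le_self P)
  have := Subgroup.Normal.of_commutator_le P h1
  have := Subgroup.Normal.quotient_commutative_iff_commutator_le.mpr h1
  open scoped IsMulCommutative in
  refine ⟨Additive (P ⧸ D.subgroupOf P), inferInstance,
    fun x => if h : x ∈ P then Additive.ofMul ((⟨x, h⟩ : P) : P ⧸ D.subgroupOf P) else 0,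
    fun x hx y hy => ?_, fun x hx => ?_⟩
  · simp only [dif_pos hx, dif_pos hy, dif_pos (mul_mem hx hy)]
    rfl
  · simp only [dif_pos hx, ofMul_eq_zero, QuotientGroup.eq_one_iff, mem_subgroupOf]

theorem smul_mk_eq_iff {H : Subgroup G} {g t : G} :
    g • (t : G ⧸ H) = t ↔ t⁻¹ * g * t ∈ H := by
  rw [MulAction.Quotient.smul_coe, smul_eq_mul, eq_comm, QuotientGroup.eq, mul_assoc]

/-- **Grün's first theorem**. -/
theorem gruen_first [Finite G] [hp : Fact p.Prime] (P : Sylow p G) :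
    (P : Subgroup G) ⊓ commutator G = ((P : Subgroup G) ⊓
      ⁅normalizer ((P : Subgroup G) : Set G), normalizer ((P : Subgroup G) : Set G)⁆) ⊔
      ⨆ z : G, (P : Subgroup G) ⊓
        (⁅(P : Subgroup G), (P : Subgroup G)⁆).map (MulAut.conj z).toMonoidHom := by
  classical
  refine le_antisymm ?_ (sup_le (inf_le_inf_left _ (commutator_mono le_top le_top))
    (iSup_le fun z => inf_le_inf_left _ ?_))
  swap
  · rw [map_commutator]; exact commutator_mono le_top le_top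
  set D := ((P : Subgroup G) ⊓
      ⁅normalizer ((P : Subgroup G) : Set G), normalizer ((P : Subgroup G) : Set G)⁆) ⊔
      ⨆ z : G, (P : Subgroup G) ⊓
        (⁅(P : Subgroup G), (P : Subgroup G)⁆).map (MulAut.conj z).toMonoidHom with hD
  have hD2 : ∀ z : G, ∀ x ∈ ⁅(P : Subgroup G), (P : Subgroup G)⁆, z * x * z⁻¹ ∈ (P : Subgroup G) →
      z * x * z⁻¹ ∈ D := fun z x hx h =>
    mem_sup_right (mem_iSup_of_mem z ⟨h, x, hx, rfl⟩)
  obtain ⟨A, _, φ, hadd, hker⟩ := exists_phi_of_commutator_le (P : Subgroup G) D fun x hx => by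
    simpa using hD2 1 x hx (by simpa using commutator_le_self _ hx)
  have := Fintype.ofFinite (G ⧸ (P : Subgroup G))
  obtain ⟨t, ht, ht'⟩ := exists_transversal (H := (P : Subgroup G)) (K := ⊤) (top_sup_eq _)
  let s : Setup (P : Subgroup G) ⊤ A :=
    { φ := φ, t := t, t_mem := ht, t_eq := ht'
      add := fun x hx _ y hy _ => hadd x hx y hy
      conj := fun h hh x hx _ => by
        have h1 := hadd (h * x * h⁻¹) (mul_mem (mul_mem hh hx) (inv_mem hh)) h hh
        rw [inv_mul_cancel_right, hadd h hh x hx, add_comm] at h1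
        exact (add_right_cancel h1).symm }
  by_contra hcon
  have hex : ∃ n, ∃ u ∈ (P : Subgroup G) ⊓ commutator G, u ∉ D ∧ orderOf u = n := by
    obtain ⟨u, hu, hu'⟩ := SetLike.not_le_iff_exists.mp hcon
    exact ⟨_, u, hu, hu', rfl⟩
  obtain ⟨u, ⟨huP, huG⟩, huD, hun⟩ := Nat.find_spec hex
  have hmin : ∀ y ∈ (P : Subgroup G), y ∈ commutator G → orderOf y < orderOf u → φ y = 0 := by
    intro y hy hy' hlt
    rw [hker y hy]
    by_contra h
    exact Nat.find_min hex (hun ▸ hlt) ⟨y, ⟨hy, hy'⟩, h, rfl⟩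
  obtain ⟨k, hk⟩ := IsPGroup.iff_orderOf.mp P.isPGroup' ⟨u, huP⟩
  rw [Subgroup.orderOf_mk] at hk
  have hu1 : u ≠ 1 := fun h => huD (h ▸ one_mem D)
  have h0 : ∀ n, p ∣ n → ∀ t : G, t⁻¹ * u ^ n * t ∈ (P : Subgroup G) →
      φ (t⁻¹ * u ^ n * t) = 0 := fun n hn t h =>
    hmin _ h (Subgroup.Normal.conj_mem' inferInstance _ (pow_mem huG n) t)
      (by rw [orderOf_conj']; exact orderOf_pow_lt hp.out hk hu1 hn)
  have hV : s.V Finset.univ u = 0 := by
    have := Abelianization.commutator_subset_ker (s.hom.comp topEquiv.symm.toMonoidHom) huG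
    exact this
  let F := Finset.univ.filter fun ω : G ⧸ (P : Subgroup G) => ∀ g ∈ (P : Subgroup G), g • ω = ω
  have hFc : ∀ g ∈ (P : Subgroup G), ∀ ω ∈ Fᶜ, g • ω ∈ Fᶜ := by
    intro g hg ω hω
    simp only [F, Finset.mem_compl, Finset.mem_filter, Finset.mem_univ, true_and] at hω ⊢
    refine fun h => hω fun y hy => ?_
    have := h _ (mul_mem (mul_mem hg hy) (inv_mem hg))
    rwa [mul_smul, inv_smul_smul, mul_smul, smul_left_cancel_iff] at this
  have hFc' : ∀ ω ∈ Fᶜ, ∃ l ∈ (P : Subgroup G), l • ω ≠ ω := by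
    intro ω hω
    simpa [F] using hω
  have h1 : s.V Fᶜ u = 0 := by
    refine sum_eq_zero_of_orbits (P : Subgroup G) _ _ hFc fun ω hω => ?_
    have hinv : ∀ x ∈ (orb (P : Subgroup G) ω).filter (fun x => ¬ u • x = x),
        u • x ∈ (orb (P : Subgroup G) ω).filter (fun x => ¬ u • x = x) := by
      intro x hx
      rw [Finset.mem_filter] at hx ⊢
      exact ⟨smul_mem_orb huP _ hx.1, fun h => hx.2 (smul_left_cancel _ h)⟩
    have h2 := s.V_eq_zero_of_no_fixed hp.out (mem_top u) hk _ hinv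
      (fun x hx => (Finset.mem_filter.mp hx).2) fun n hn t _ h => h0 n hn t h
    rw [← Finset.sum_filter_add_sum_filter_not _ (fun x => u • x = x)]
    rw [Setup.V] at h2
    rw [h2, add_zero]
    have h3 : p ∣ ((orb (P : Subgroup G) ω).filter (fun x => u • x = x)).card := by
      have h4 := dvd_card_of_no_fixed (p := p) (L := zpowers u)
        (IsPGroup.of_card (by rw [Nat.card_zpowers, hk])) _ (zpowers_invariant hinv)
        fun x hx => ⟨u, mem_zpowers u, (Finset.mem_filter.mp hx).2⟩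
      have h5 := dvd_card_orb P.isPGroup' (hFc' ω hω)
      rw [← Finset.card_filter_add_card_filter_not (fun x => u • x = x)] at h5
      exact (Nat.dvd_add_left h4).mp h5
    rcases ((orb (P : Subgroup G) ω).filter (fun x => u • x = x)).eq_empty_or_nonempty with
      h | ⟨ω₁, hω₁⟩
    · rw [h]; simp
    rw [Finset.mem_filter] at hω₁
    have hc1 : (t ω₁)⁻¹ * u * t ω₁ ∈ (P : Subgroup G) := by
      have := s.c_mem_H u ω₁
      rwa [s.c_of_fixed hω₁.2] at this
    rw [Finset.sum_congr rfl (g := fun _ => φ ((t ω₁)⁻¹ * u * t ω₁)), Finset.sum_const]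
    · obtain ⟨m, hm⟩ := h3
      rw [hm, mul_nsmul, ← s.φ_pow hc1 (mem_top _)]
      have : ((t ω₁)⁻¹ * u * t ω₁) ^ p = (t ω₁)⁻¹ * u ^ p * t ω₁ := by
        simpa using conj_pow (a := (t ω₁)⁻¹) (b := u) (i := p)
      change m • φ _ = 0
      rw [this, h0 p dvd_rfl _ (this ▸ pow_mem hc1 p), smul_zero]
    · intro ω₂ hω₂
      rw [Finset.mem_filter, ← orb_eq_of_mem hω₁.1] at hω₂
      obtain ⟨y, hy, rfl⟩ := mem_orb.mp hω₂.1
      have hc2 := s.c_mem_H u (y • ω₁)
      have hh := s.c_mem_H y ω₁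
      have e1 : s.c u (y • ω₁) = s.c y ω₁ * ((t ω₁)⁻¹ * u * t ω₁ *
          ((t ω₁)⁻¹ * ⁅u⁻¹, y⁻¹⁆ * (t ω₁)⁻¹⁻¹)) * (s.c y ω₁)⁻¹ := by
        rw [s.c_of_fixed hω₂.2]
        simp only [Setup.c, commutatorElement_def, s]; group
      have hc3 : (t ω₁)⁻¹ * ⁅u⁻¹, y⁻¹⁆ * (t ω₁)⁻¹⁻¹ ∈ (P : Subgroup G) := by
        rw [e1, mul_mem_cancel_right (inv_mem hh), mul_mem_cancel_left hh,
          mul_mem_cancel_left hc1] at hc2
        exact hc2
      rw [e1, s.conj _ hh _ (mul_mem hc1 hc3) (mem_top _)]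
      change φ _ = _
      rw [hadd _ hc1 _ hc3, (hker _ hc3).mpr
        (hD2 _ _ (commutator_mem_commutator (inv_mem huP) (inv_mem hy)) hc3), add_zero]
  have h2 : s.V F u = F.card • φ u := by
    rw [Setup.V, ← Finset.sum_const]
    refine Finset.sum_congr rfl fun ω hω => ?_
    simp only [F, Finset.mem_filter, Finset.mem_univ, true_and] at hω
    have hmem : ∀ g ∈ (P : Subgroup G), (t ω)⁻¹ * g * (t ω)⁻¹⁻¹ ∈ (P : Subgroup G) := fun g hg => by
      have := s.c_mem_H g ω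
      rwa [s.c_of_fixed (hω g hg), ← inv_inv (s.t ω), inv_inv (s.t ω)⁻¹] at this
    have hN : (t ω)⁻¹ ∈ normalizer ((P : Subgroup G) : Set G) := mem_normalizer_fintype hmem
    have e : s.c u ω = u * ⁅u⁻¹, (t ω)⁻¹⁆ := by
      rw [s.c_of_fixed (hω u huP)]
      simp only [commutatorElement_def, s]; group
    have hc : ⁅u⁻¹, (t ω)⁻¹⁆ ∈ (P : Subgroup G) := by
      have := s.c_mem_H u ω
      rw [e] at this
      exact ((P : Subgroup G).mul_mem_cancel_left huP).mp this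
    rw [e]
    change φ _ = _
    rw [hadd _ huP _ hc, (hker _ hc).mpr (mem_sup_left ⟨hc,
      commutator_mem_commutator (le_normalizer (inv_mem huP)) hN⟩), add_zero]
  have h3 : F.card • φ u = 0 := by
    rw [← h2, ← hV, Setup.V, Setup.V, ← Finset.sum_add_sum_compl F]
    rw [Setup.V] at h1
    rw [h1, add_zero]
  have h4 : p • φ u = 0 := by
    have := h0 p dvd_rfl 1 (by simpa using pow_mem huP p)
    rw [← s.φ_pow huP (mem_top _)]
    simpa using this
  have h5 : ¬ p ∣ F.card := fun h => by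
    have h6 := dvd_card_of_no_fixed P.isPGroup' Fᶜ hFc hFc'
    have h7 := dvd_add h h6
    rw [Finset.card_add_card_compl, ← Nat.card_eq_fintype_card] at h7
    exact P.not_dvd_index h7
  have h6 : addOrderOf (φ u) ∣ 1 := by
    rw [← (Nat.Prime.coprime_iff_not_dvd hp.out).mpr h5]
    exact Nat.dvd_gcd (addOrderOf_dvd_of_nsmul_eq_zero h4) (addOrderOf_dvd_of_nsmul_eq_zero h3)
  exact huD ((hker u huP).mp (AddMonoid.addOrderOf_eq_one_iff.mp (Nat.dvd_one.mp h6)))

/-! ### Hall–Wielandt -/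

theorem exists_conj_le_of_le [Finite G] [Fact p.Prime] (P : Sylow p G) {H R : Subgroup G}
    (hPH : (P : Subgroup G) ≤ H) (hR : R ≤ H) (hRp : IsPGroup p R) :
    ∃ h ∈ H, ∀ x ∈ R, h * x * h⁻¹ ∈ (P : Subgroup G) := by
  obtain ⟨S, hS⟩ := (hRp.comap_subtype (K := H)).exists_le_sylow
  obtain ⟨h, hh⟩ := MulAction.exists_smul_eq H S (P.subtype hPH)
  refine ⟨h, h.2, fun x hx => ?_⟩
  have h1 : (⟨x, hR hx⟩ : H) ∈ (S : Subgroup H) := hS hx
  have h2 := Subgroup.smul_mem_pointwise_smul _ (MulAut.conj h) _ h1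
  rw [← Sylow.coe_subgroup_smul, hh] at h2
  exact h2

theorem commutator_top_lt {B : Type*} [Group B] [Group.IsNilpotent B] (D : Subgroup B) [D.Normal]
    (hD : D ≠ ⊥) : ⁅D, ⊤⁆ < D := by
  refine lt_of_le_of_ne (commutator_le_left _ _) fun h => hD ?_
  obtain ⟨n, hn⟩ := Subgroup.nilpotent_iff_lowerCentralSeries.mp ‹Group.IsNilpotent B›
  have : ∀ m, D ≤ (⊤ : Subgroup B).lowerCentralSeries m := by
    intro m
    induction m with
    | zero => exact le_top
    | succ m ih => rw [← h]; exact commutator_mono ih le_rfl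
  exact eq_bot_iff.mpr (hn ▸ this n)

theorem exists_invariant_phi {B : Type*} [Group B] [Finite B] [Fact p.Prime] (hB : IsPGroup p B)
    (D : Subgroup B) [hn : D.Normal] (hD : D ≠ ⊥) : ∃ φ : B → ZMod p,
      (∀ x ∈ D, ∀ y ∈ D, φ (x * y) = φ x + φ y) ∧ (∀ b, ∀ x ∈ D, φ (b * x * b⁻¹) = φ x) ∧
      ∃ x ∈ D, φ x ≠ 0 := by
  classical
  have := hB.isNilpotent
  have hlt := commutator_top_lt D hD
  obtain ⟨M, hM, hle⟩ := (eq_top_or_exists_le_coatom ((⁅D, ⊤⁆ : Subgroup B).subgroupOf D)).resolve_left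
    fun h => hlt.not_ge (subgroupOf_eq_top.mp h)
  have := BurnsideBasis.coatom_normal (hB.to_subgroup D) hM
  have e : (D ⧸ M) ≃* Multiplicative (ZMod p) := mulEquivOfPrimeCardEq (p := p)
    (BurnsideBasis.coatom_index (hB.to_subgroup D) hM) (by simp)
  let φ : B → ZMod p := fun x => if h : x ∈ D then (e ((⟨x, h⟩ : D) : D ⧸ M)).toAdd else 0
  have hadd : ∀ x ∈ D, ∀ y ∈ D, φ (x * y) = φ x + φ y := fun x hx y hy => by
    simp only [φ, dif_pos hx, dif_pos hy, dif_pos (mul_mem hx hy)]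
    rw [← toAdd_mul, ← map_mul]
    rfl
  have hker : ∀ x (hx : x ∈ D), φ x = 0 ↔ (⟨x, hx⟩ : D) ∈ M := fun x hx => by
    simp only [φ, dif_pos hx, toAdd_eq_zero, EmbeddingLike.map_eq_one_iff, QuotientGroup.eq_one_iff]
  refine ⟨φ, hadd, fun b x hx => ?_, ?_⟩
  · have h1 : ⁅x⁻¹, b⁆ ∈ (⁅D, ⊤⁆ : Subgroup B) := commutator_mem_commutator (inv_mem hx) (mem_top b)
    have e1 : b * x * b⁻¹ = x * ⁅x⁻¹, b⁆ := by simp only [commutatorElement_def]; group
    rw [e1, hadd x hx _ (hlt.le h1), (hker _ (hlt.le h1)).mpr (hle h1), add_zero]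
  · by_contra h
    push Not at h
    exact hM.1 (eq_top_iff.mpr fun x _ => (hker x x.2).mp (h x x.2))

theorem neg_one_pow_mul_choose [hp : Fact p.Prime] (k : ℕ) (hk : k < p) :
    (-1 : ZMod p) ^ k * ((p - 1).choose k : ℕ) = 1 := by
  induction k with
  | zero => simp
  | succ k ih =>
    have h1 : (((p - 1).choose k : ℕ) : ZMod p) + ((p - 1).choose (k + 1) : ℕ) = 0 := by
      rw [← Nat.cast_add, ← Nat.choose_succ_succ', Nat.sub_add_cancel hp.out.one_le,
        ZMod.natCast_eq_zero_iff]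
      exact hp.out.dvd_choose_self (by omega) hk
    rw [eq_neg_of_add_eq_zero_right h1, pow_succ]
    linear_combination ih (by omega)

theorem sum_conj_eq_zero_of_engel [hp : Fact p.Prime] {D : Subgroup G} {z u : G}
    (hz : ∀ x ∈ D, z⁻¹ * x * z ∈ D) (χ : G → ZMod p)
    (hχ : ∀ x ∈ D, ∀ y ∈ D, χ (x * y) = χ x + χ y) (hu : u ∈ D)
    (h : (fun y : G => y⁻¹ * z⁻¹ * y * z)^[p - 1] u = 1) :
    ∑ i ∈ Finset.range p, χ ((z ^ i)⁻¹ * u * z ^ i) = 0 := by
  have hzi : ∀ i : ℕ, ∀ x ∈ D, (z ^ i)⁻¹ * x * z ^ i ∈ D := by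
    intro i x hx
    induction i with
    | zero => simpa using hx
    | succ i ih =>
      have := hz _ ih
      rwa [show z⁻¹ * ((z ^ i)⁻¹ * x * z ^ i) * z = (z ^ (i + 1))⁻¹ * x * z ^ (i + 1) by group]
        at this
  have h1 : χ 1 = 0 := by simpa using hχ 1 (one_mem _) 1 (one_mem _)
  have key : ∀ m, ∀ x ∈ D, ∀ j : ℕ,
      χ ((z ^ j)⁻¹ * (fun y : G => y⁻¹ * z⁻¹ * y * z)^[m] x * z ^ j) =
        (fwdDiff 1)^[m] (fun i : ℕ => χ ((z ^ i)⁻¹ * x * z ^ i)) j := by
    intro m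
    induction m with
    | zero => intro x _ j; rfl
    | succ m ih =>
      intro x hx j
      have hx' : x⁻¹ * z⁻¹ * x * z ∈ D := by
        rw [mul_assoc, mul_assoc, ← mul_assoc z⁻¹]; exact mul_mem (inv_mem hx) (hz x hx)
      rw [Function.iterate_succ_apply, Function.iterate_succ_apply, ih _ hx']
      refine congrFun (congrArg _ ?_) j
      funext i
      rw [fwdDiff, eq_sub_iff_add_eq', ← hχ _ (hzi i x hx) _ (hzi i _ hx')]
      congr 1
      group
  have h2 := key (p - 1) u hu 0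
  rw [h, fwdDiff_iter_eq_sum_shift, Nat.sub_add_cancel hp.out.one_le] at h2
  simp only [pow_zero, inv_one, mul_one, h1] at h2
  rw [h2]
  refine Finset.sum_congr rfl fun k hk => ?_
  rw [Finset.mem_range] at hk
  have h3 := neg_one_pow_mul_choose (p := p) (p - 1 - k) (by omega)
  rw [Nat.choose_symm (by omega)] at h3
  simp only [smul_eq_mul, mul_one, zero_add, zsmul_eq_mul, Int.cast_mul, Int.cast_pow,
    Int.cast_neg, Int.cast_one, Int.cast_natCast]
  rw [h3, one_mul]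

theorem exists_phi_of_ne [Finite G] [Fact p.Prime] (H : Subgroup G)
    (hne : pResidualOf p H ≠ pResidual p G ⊓ H) : ∃ φ : G → ZMod p,
      (∀ x ∈ H, x ∈ pResidual p G → ∀ y ∈ H, y ∈ pResidual p G → φ (x * y) = φ x + φ y) ∧
      (∀ h ∈ H, ∀ x ∈ H, x ∈ pResidual p G → φ (h * x * h⁻¹) = φ x) ∧
      ∃ x ∈ H, x ∈ pResidual p G ∧ φ x ≠ 0 := by
  classical
  have := PRes.pResidual_normal (p := p) (G := G)
  have := PRes.pResidual_normal (p := p) (G := H)
  let π := QuotientGroup.mk' (pResidual p H)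
  have := Subgroup.Normal.map (inferInstance : ((pResidual p G).subgroupOf H).Normal) π
    (QuotientGroup.mk'_surjective _)
  obtain ⟨φ, h1, h2, x, ⟨y, hy, rfl⟩, h3⟩ := exists_invariant_phi
    (PRes.isPGroup_quotient_of_pResidual_le (p := p) (le_refl (pResidual p H)))
    (((pResidual p G).subgroupOf H).map π) fun h => hne (by
      rw [Subgroup.map_eq_bot_iff, QuotientGroup.ker_mk'] at h
      refine le_antisymm (le_inf (PRes.map_pResidual_le _) (map_subtype_le _)) ?_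
      rw [← subgroupOf_map_subtype]
      exact map_mono h)
  refine ⟨fun x => if h : x ∈ H then φ (π ⟨x, h⟩) else 0, fun a ha ha' b hb hb' => ?_,
    fun h hh a ha ha' => ?_, y, y.2, hy, by simpa using h3⟩
  · simp only [dif_pos ha, dif_pos hb, dif_pos (mul_mem ha hb)]
    rw [← h1 _ (mem_map_of_mem π (x := ⟨a, ha⟩) ha') _ (mem_map_of_mem π (x := ⟨b, hb⟩) hb')]
    rfl
  · simp only [dif_pos ha, dif_pos (mul_mem (mul_mem hh ha) (inv_mem hh))]
    rw [← h2 (π ⟨h, hh⟩) _ (mem_map_of_mem π (x := ⟨a, ha⟩) ha')]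
    rfl

/-- **The Hall–Wielandt theorem**. -/
theorem hall_wielandt [Finite G] [hp : Fact p.Prime] (P : Sylow p G) (Q : Subgroup G)
    (hQ : IsWeaklyClosed Q (P : Subgroup G))
    (h : ∀ u ∈ (P : Subgroup G), ∀ z ∈ Q, (fun y : G => y⁻¹ * z⁻¹ * y * z)^[p - 1] u = 1) :
    pResidualOf p (normalizer (Q : Set G)) = pResidual p G ⊓ normalizer (Q : Set G) := by
  classical
  by_contra hne
  set H := normalizer (Q : Set G) with hH
  set K := pResidual p G with hK
  have hKn : K.Normal := PRes.pResidual_normal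
  obtain ⟨φ, hadd, hconj, x, hxH, hxK, hx⟩ := exists_phi_of_ne H hne
  have hPH : (P : Subgroup G) ≤ H := fun g hg => mem_normalizer_of_map_conj_eq (hQ.2 g (by
    rintro _ ⟨y, hy, rfl⟩
    exact mul_mem (mul_mem hg (hQ.1 hy)) (inv_mem hg)))
  have := Fintype.ofFinite (G ⧸ H)
  obtain ⟨t, ht, ht'⟩ := exists_transversal (H := H) (K := K)
    (eq_top_iff.mpr ((PRes.pResidual_sup_sylow P).ge.trans (sup_le_sup_left hPH _)))
  let s : Setup H K (ZMod p) :=
    { φ := φ, t := t, t_mem := ht, t_eq := ht', add := hadd, conj := hconj }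
  have hex : ∃ n, ∃ u ∈ H, u ∈ K ∧ φ u ≠ 0 ∧ (∃ k, orderOf u = p ^ k) ∧ orderOf u = n := by
    obtain ⟨k, m, hm, hkm⟩ := Nat.exists_eq_pow_mul_and_not_dvd (orderOf_pos x).ne' p hp.out.ne_one
    refine ⟨_, x ^ m, pow_mem hxH m, pow_mem hxK m, ?_, ?_, rfl⟩
    · have := s.φ_pow hxH hxK m
      change φ _ = m • φ x at this
      rw [this, nsmul_eq_mul]
      exact mul_ne_zero (by rwa [Ne, ZMod.natCast_eq_zero_iff]) hx
    · have : orderOf (x ^ m) ∣ p ^ k := by
        rw [orderOf_dvd_iff_pow_eq_one, ← pow_mul, mul_comm, ← hkm, pow_orderOf_eq_one]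
      obtain ⟨j, _, hj⟩ := (Nat.dvd_prime_pow hp.out).mp this
      exact ⟨j, hj⟩
  obtain ⟨v, hvH, hvK, hv, ⟨k, hk⟩, hvn⟩ := Nat.find_spec hex
  obtain ⟨g, hg, hgv⟩ := exists_conj_le_of_le P hPH (zpowers_le.mpr hvH)
    (IsPGroup.of_card (by rw [Nat.card_zpowers, hk]))
  set u := g * v * g⁻¹ with hu
  have huP : u ∈ (P : Subgroup G) := hgv v (mem_zpowers v)
  have huK : u ∈ K := hKn.conj_mem v hvK g
  have huφ : φ u ≠ 0 := by rwa [hu, hconj g hg v hvH hvK]
  have huo : orderOf u = orderOf v := by simpa using orderOf_conj' g⁻¹ v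
  have hu1 : u ≠ 1 := fun h => huφ (h ▸ s.φ_one)
  rw [← huo] at hk hvn
  have h0 : ∀ n, p ∣ n → ∀ t ∈ K, t⁻¹ * u ^ n * t ∈ H → φ (t⁻¹ * u ^ n * t) = 0 := by
    intro n hn t _ ht
    by_contra hcon
    refine Nat.find_min hex (m := orderOf (u ^ n)) (hvn ▸ orderOf_pow_lt hp.out hk hu1 hn)
      ⟨_, ht, hKn.conj_mem' _ (pow_mem huK n) t, hcon, ?_, orderOf_conj' _ _⟩
    obtain ⟨j, _, hj⟩ := (Nat.dvd_prime_pow hp.out).mp (hk ▸ orderOf_pow_dvd (x := u) n)
    exact ⟨j, by rw [orderOf_conj', hj]⟩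
  have hV : s.V Finset.univ u = 0 := by
    have h1 : (⊤ : Subgroup K) ≤ s.hom.ker := by
      rw [← PRes.pResidual_pResidual]
      exact PRes.pResidual_le_ker (IsPGroup.of_card (n := 1) (by simp)) _
    exact h1 (mem_top (⟨u, huK⟩ : K))
  let ω₀ : G ⧸ H := (1 : G)
  have hfix : ∀ g ∈ H, g • ω₀ = ω₀ := fun g hg => smul_mk_eq_iff.mpr (by simpa using hg)
  have hQfix : ∀ ω : G ⧸ H, (∀ z ∈ Q, z • ω = ω) → ω = ω₀ := by
    intro ω hω
    obtain ⟨a, rfl⟩ := QuotientGroup.mk_surjective ω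
    obtain ⟨b, hb, hb'⟩ := exists_conj_le_of_le P hPH (R := Q.map (MulAut.conj a⁻¹).toMonoidHom)
      (by rintro _ ⟨z, hz, rfl⟩; simpa using smul_mk_eq_iff.mp (hω z hz))
      ((P.isPGroup'.to_le hQ.1).map _)
    have h1 : b * a⁻¹ ∈ H := mem_normalizer_of_map_conj_eq (hQ.2 _ (by
      rintro _ ⟨z, hz, rfl⟩
      simpa [mul_assoc] using hb' _ ⟨z, hz, rfl⟩))
    rw [QuotientGroup.eq, mul_one]
    exact (H.mul_mem_cancel_left hb).mp h1
  set L := zpowers u ⊔ Q with hL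
  have hLP : L ≤ P := sup_le (zpowers_le.mpr huP) hQ.1
  have huL : u ∈ L := mem_sup_left (mem_zpowers u)
  have hinv : ∀ g ∈ L, ∀ ω ∈ Finset.univ.erase ω₀, g • ω ∈ Finset.univ.erase ω₀ := by
    intro g hg ω hω
    simp only [Finset.mem_erase, Finset.mem_univ, and_true] at hω ⊢
    intro h'
    rw [← hfix g (hPH (hLP hg)), smul_left_cancel_iff] at h'
    exact hω h'
  have h1 : s.V (Finset.univ.erase ω₀) u = 0 := by
    refine sum_eq_zero_of_orbits L _ _ hinv fun ω hω => ?_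
    by_cases hf : ∀ ω' ∈ orb L ω, u • ω' ≠ ω'
    · exact s.V_eq_zero_of_no_fixed hp.out huK hk _ (smul_mem_orb huL) hf h0
    push Not at hf
    obtain ⟨ω₁, hω₁, hf⟩ := hf
    rw [← orb_eq_of_mem hω₁]
    have hne₁ : ω₁ ≠ ω₀ := by
      obtain ⟨l, hl, rfl⟩ := mem_orb.mp hω₁
      exact (Finset.mem_erase.mp (hinv l hl ω hω)).1
    have hLp : IsPGroup p L := P.isPGroup'.to_le hLP
    obtain ⟨R, hR, hle⟩ := (eq_top_or_exists_le_coatom ((stabilizer G ω₁).subgroupOf L)).resolve_left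
      fun h => hne₁ (hQfix _ fun z hz => subgroupOf_eq_top.mp h (mem_sup_right hz))
    have hRn := BurnsideBasis.coatom_normal hLp hR
    have hRi := BurnsideBasis.coatom_index hLp hR
    have huR : (⟨u, huL⟩ : L) ∈ R := hle hf
    obtain ⟨z, hzQ, hzR⟩ : ∃ z, ∃ hz : z ∈ Q, (⟨z, mem_sup_right hz⟩ : L) ∉ R := by
      by_contra hcon
      push Not at hcon
      have : L ≤ R.map L.subtype := sup_le (zpowers_le.mpr ⟨_, huR, rfl⟩)
        fun z hz => ⟨_, hcon z hz, rfl⟩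
      refine hR.1 (eq_top_iff.mpr fun y _ => ?_)
      obtain ⟨y', hy', e⟩ := this y.2
      rwa [← (Subtype.ext e : y' = y)]
    set z' : L := ⟨z, mem_sup_right hzQ⟩ with hz'
    have hzo : orderOf (z' : L ⧸ R) = p := by
      refine orderOf_eq_prime ?_ fun h => hzR ((QuotientGroup.eq_one_iff _).mp h)
      rw [← hRi]; exact pow_card_eq_one'
    rw [sum_orb_eq_sum_range (map_subtype_le R) z'.2 p ?_ ?_ ω₁ fun l hl hl' => ⟨⟨l, hl⟩, hle hl', rfl⟩]
    · have hRz : ∀ i : ℕ, (z ^ i)⁻¹ * u * z ^ i ∈ R.map L.subtype := fun i =>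
        ⟨_, hRn.conj_mem' _ huR (z' ^ i), rfl⟩
      rw [← sum_conj_eq_zero_of_engel (D := R.map L.subtype ⊓ K) (z := z) (u := u) ?_
        (s.V (orb (R.map L.subtype) ω₁)) ?_ ⟨⟨_, huR, rfl⟩, huK⟩ (h u huP z hzQ)]
      · refine Finset.sum_congr rfl fun i _ => ?_
        rw [← s.sum_conj _ (z ^ i) (hKn.conj_mem' _ huK _) (smul_mem_orb (hRz i))]
        refine Finset.sum_congr rfl fun ω' _ => ?_
        congr 2
        group
      · rintro _ ⟨⟨y, hy, rfl⟩, hyK⟩
        exact ⟨⟨_, hRn.conj_mem' _ hy z', rfl⟩, hKn.conj_mem' _ hyK _⟩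
      · exact fun a ha b hb => s.V_mul _ ha.2 hb.2 (smul_mem_orb hb.1)
    · intro l hl
      have h2 : zpowers (z' : L ⧸ R) = ⊤ := by
        apply eq_top_of_card_eq
        rw [Nat.card_zpowers, hzo, ← hRi]; rfl
      have h3 : ((⟨l, hl⟩ : L) : L ⧸ R) ∈ zpowers (z' : L ⧸ R) := h2 ▸ mem_top _
      rw [mem_zpowers_iff_mem_range_orderOf, hzo, Finset.mem_image] at h3
      obtain ⟨i, hi, e⟩ := h3
      rw [← QuotientGroup.mk_pow, QuotientGroup.eq] at e
      exact ⟨i, Finset.mem_range.mp hi, _, ⟨_, e, rfl⟩, by simp⟩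
    · rintro i hi j hj ⟨y, hy, e⟩
      refine pow_injOn_Iio_orderOf (x := (z' : L ⧸ R)) (by rwa [hzo]) (by rwa [hzo]) ?_
      simp only
      rw [← QuotientGroup.mk_pow, ← QuotientGroup.mk_pow, QuotientGroup.eq]
      rwa [show (z' ^ i)⁻¹ * z' ^ j = y from Subtype.ext e.symm]
  rw [Setup.V, ← Finset.add_sum_erase _ _ (Finset.mem_univ ω₀)] at hV
  rw [Setup.V] at h1
  rw [h1, add_zero, s.c_of_fixed (hfix u (hPH huP))] at hV
  have ht0 : t ω₀ ∈ H := by
    have := ht' ω₀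
    rw [eq_comm, QuotientGroup.eq] at this
    simpa using this
  have := hconj _ (inv_mem ht0) u (hPH huP) huK
  rw [inv_inv] at this
  exact huφ (this ▸ hV)

theorem engel_mem_lcs {P : Subgroup G} {u z : G} (hu : u ∈ P) (hz : z ∈ P) (n : ℕ) :
    (fun y : G => y⁻¹ * z⁻¹ * y * z)^[n] u ∈ P.lowerCentralSeries n := by
  induction n with
  | zero => exact hu
  | succ n ih =>
    rw [Function.iterate_succ_apply']
    have := commutator_mem_commutator (inv_mem ih) (inv_mem hz)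
    rwa [commutatorElement_def, inv_inv, inv_inv] at this

/-- If the Sylow `p`-subgroup has class less than `p`, its normalizer controls `O^p`. -/
theorem pResidualOf_normalizer_of_class_lt [Finite G] [hp : Fact p.Prime] (P : Sylow p G)
    (hcl : (P : Subgroup G).lowerCentralSeries (p - 1) = ⊥) :
    pResidualOf p (normalizer ((P : Subgroup G) : Set G)) =
      pResidual p G ⊓ normalizer ((P : Subgroup G) : Set G) := by
  refine hall_wielandt P P ⟨le_rfl, fun g hg => ?_⟩ fun u hu z hz => ?_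
  · exact eq_of_le_of_card_le hg (card_map_conj g _).ge
  · have := engel_mem_lcs hu hz (p - 1)
    rwa [hcl, mem_bot] at this

end CfsgLib.HallWielandt
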