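import Mathlib
import Cfsg.Agent.Lib.H5Real
import Cfsg.Agent.Lib.SylowIn

/-! Elementary facts on pairs of involutions. -/

set_option autoImplicit false

namespace CfsgLib.Invol

open Subgroup Cfsg

variable {G : Type*} [Group G]

theorem inv_eq {a : G} (ha : a * a = 1) : a⁻¹ = a := inv_eq_of_mul_eq_one_right ha

theorem conj_mul_self {a : G} (ha : a * a = 1) (g : G) : g * a * g⁻¹ * (g * a * g⁻¹) = 1 := by
  rw [conj_mul, ha, mul_one, mul_inv_cancel]

theorem inverts_of_mem_zpowers {a c y : G} (h : a * c * a⁻¹ = c⁻¹) (hy : y ∈ zpowers c) :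
    a * y * a⁻¹ = y⁻¹ := by
  obtain ⟨m, rfl⟩ := hy
  rw [← conj_zpow, h, inv_zpow]

theorem inverts_mul {a b : G} (ha : a * a = 1) (hb : b * b = 1) :
    a * (a * b) * a⁻¹ = (a * b)⁻¹ := by
  rw [← mul_assoc, ha, one_mul, mul_inv_rev, inv_eq hb]

theorem mul_mul_self {a y : G} (ha : a * a = 1) (h : a * y * a⁻¹ = y⁻¹) : a * y * (a * y) = 1 := by
  rw [inv_eq ha] at h
  rw [← mul_assoc, h, inv_mul_cancel]

theorem eq_one_of_odd {x : G} (h : Odd (orderOf x)) (h2 : x * x = 1) : x = 1 := by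
  have := orderOf_dvd_of_pow_eq_one (show x ^ 2 = 1 by rw [pow_two, h2])
  rw [← orderOf_eq_one_iff]
  exact (Nat.coprime_two_right.2 h).eq_one_of_dvd this

theorem eq_one_of_odd_of_mem [Finite G] {P : Subgroup G} (hP : IsPGroup 2 P) {x : G} (hx : x ∈ P)
    (h : Odd (orderOf x)) : x = 1 := by
  obtain ⟨k, hk⟩ := orderOf_eq_pow_of_mem_isPGroup hP hx
  rw [← orderOf_eq_one_iff]
  exact (hk ▸ (Nat.coprime_two_right.2 h).pow_right k : (orderOf x).Coprime (orderOf x)).eq_one_of_dvd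
    dvd_rfl

theorem isPGroup_zpowers {a : G} (ha : a * a = 1) : IsPGroup 2 (zpowers a) := by
  refine IsPGroup.of_card_dvd_pow (n := 1) ?_
  rw [Nat.card_zpowers, pow_one]
  exact orderOf_dvd_of_pow_eq_one (by rw [pow_two, ha])

theorem mem_smul {p : ℕ} {P : Sylow p G} {g x : G} : x ∈ g • P ↔ g⁻¹ * x * g ∈ P := by
  change x ∈ ((g • P : Sylow p G) : Subgroup G) ↔ _
  rw [sylow_coe_smul_eq_map, mem_map_conj_iff]
  rfl

theorem conj_mem_smul {p : ℕ} {P : Sylow p G} {x : G} (hx : x ∈ P) (g : G) :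
    g * x * g⁻¹ ∈ g • P := by
  rw [mem_smul]; simpa [mul_assoc] using hx

theorem mem_sylow_of_smul_eq {p : ℕ} {P : Sylow p G} {x : G} (hx : IsPGroup p (zpowers x))
    (h : x • P = P) : x ∈ P :=
  ((hx.inf_normalizer_sylow P).le ⟨mem_zpowers x, Sylow.smul_eq_iff_mem_normalizer.1 h⟩).2

theorem exists_sylow_mem {a : G} (ha : a * a = 1) : ∃ Q : Sylow 2 G, a ∈ Q := by
  obtain ⟨Q, hQ⟩ := (isPGroup_zpowers ha).exists_le_sylow
  exact ⟨Q, hQ (mem_zpowers a)⟩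

theorem exists_sylow_of_isPGroup [Finite G] {a b : G} (ha : a * a = 1) (hb : b * b = 1)
    (h : IsPGroup 2 (zpowers (a * b))) : ∃ Q : Sylow 2 G, a ∈ Q ∧ b ∈ Q := by
  have h1 := (isPGroup_zpowers ha).to_sup_of_normal_right' h (zpowers_le.2
    (mem_normalizer_of_conj_mem fun y hy =>
      inverts_of_mem_zpowers (inverts_mul ha hb) hy ▸ inv_mem hy))
  obtain ⟨Q, hQ⟩ := h1.exists_le_sylow
  refine ⟨Q, hQ (mem_sup_left (mem_zpowers _)), hQ ?_⟩
  have hm : a * (a * b) ∈ zpowers a ⊔ zpowers (a * b) := mul_mem_sup (mem_zpowers _) (mem_zpowers _)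
  rwa [← mul_assoc, ha, one_mul] at hm

/-- an involution inverting an element `y` of odd order is conjugate to `a * y` -/
theorem exists_conj_eq_mul {a y : G} (h : a * y * a⁻¹ = y⁻¹) (hy : Odd (orderOf y)) :
    ∃ c ∈ zpowers y, c * a * c⁻¹ = a * y := by
  obtain ⟨m, hm⟩ := hy
  refine ⟨y ^ m, npow_mem_zpowers _ _, ?_⟩
  have h1 := inverts_of_mem_zpowers h (npow_mem_zpowers y m)
  have h2 : y ^ m * y ^ m * y = 1 := by
    rw [← pow_add, ← pow_succ, ← two_mul, ← hm, pow_orderOf_eq_one]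
  have h3 : y ^ m * a = a * (y ^ m)⁻¹ := by
    have : a * (y ^ m)⁻¹ * a⁻¹ = y ^ m := by rw [← conj_inv, h1, inv_inv]
    exact mul_inv_eq_iff_eq_mul.1 this ▸ rfl
  rw [h3, mul_assoc, ← mul_inv_rev, inv_eq_of_mul_eq_one_right h2]

theorem exists_conj_of_odd {a b : G} (ha : a * a = 1) (hb : b * b = 1)
    (h : Odd (orderOf (a * b))) : ∃ s : G, s * s = 1 ∧ s * a * s⁻¹ = b := by
  obtain ⟨c, hc, h1⟩ := exists_conj_eq_mul (inverts_mul ha hb) h
  have h2 := inverts_of_mem_zpowers (inverts_mul ha hb) hc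
  rw [← mul_assoc, ha, one_mul] at h1
  refine ⟨c * a, ?_, ?_⟩
  · rw [inv_eq ha] at h2
    rw [mul_assoc, ← mul_assoc a, h2, mul_inv_cancel]
  · rw [← h1]; group

theorem exists_involution_mem_zpowers [Finite G] {u : G} (h : Even (orderOf u)) :
    ∃ z ∈ zpowers u, z ≠ 1 ∧ z * z = 1 := by
  obtain ⟨⟨z, hz⟩, hzo⟩ := exists_prime_orderOf_dvd_card' (G := zpowers u) 2
    (by rw [Nat.card_zpowers]; exact h.two_dvd)
  rw [orderOf_mk] at hzo
  exact ⟨z, hz, by rintro rfl; simp at hzo, by rw [← pow_two, ← hzo, pow_orderOf_eq_one]⟩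

end CfsgLib.Invol
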