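import Mathlib
import Cfsg.Agent.Lib.FT.Main
import Cfsg.Agent.Lib.H5Real
import Cfsg.Agent.Lib.H5Involutions
import Cfsg.Agent.Lib.Hall
import Cfsg.Agent.Lib.PComplement

/-! First consequences of the odd order theorem. -/

set_option autoImplicit false

namespace CfsgLib.H8FT

open Subgroup Cfsg

variable {G : Type*} [Group G] [Finite G]

theorem solvable_of_not_two_dvd (h : ¬ 2 ∣ Nat.card G) : Group.IsSolvable G :=
  FT.feit_thompson (Nat.odd_iff.2 (Nat.two_dvd_ne_zero.1 h))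

theorem solvable_or_of_coprime {A : Type*} [Group A] [Finite A]
    (h : (Nat.card A).Coprime (Nat.card G)) : Group.IsSolvable A ∨ Group.IsSolvable G := by
  by_cases h2 : 2 ∣ Nat.card A
  · exact Or.inr (solvable_of_not_two_dvd fun h' => by simpa using Nat.eq_one_of_dvd_coprimes h h2 h')
  · exact Or.inl (solvable_of_not_two_dvd h2)

theorem two_dvd_of_not_solvable (h : ¬ Group.IsSolvable G) : 2 ∣ Nat.card G :=
  by_contra fun h' => h (solvable_of_not_two_dvd h')

theorem solvable_of_hnpc_two (h : HasNormalPComplement 2 G) : Group.IsSolvable G := by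
  obtain ⟨N, _, h1, k, h2⟩ := PCompl.hnpc_exists_normal h
  exact isSolvable_of_normal_of_quotient N
    (solvable_of_not_two_dvd ((Nat.Prime.coprime_iff_not_dvd Nat.prime_two).1 h1.symm))
    (isSolvable_of_isPGroup (IsPGroup.of_card (p := 2) h2))

/-- For Hall's theorems in `π`-separable groups. -/
theorem solvable_or_forall {π : Set ℕ} {H : Subgroup G} (hH : IsPiSubgroup π H) (M : Subgroup G) :
    Group.IsSolvable H ∨ ∀ L : Subgroup G, L ≤ M → IsPiSubgroup πᶜ L → Group.IsSolvable L := by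
  by_cases h2 : 2 ∈ π
  · exact Or.inr fun L _ hL => solvable_of_not_two_dvd fun h => hL 2 Nat.prime_two h h2
  · exact Or.inl (solvable_of_not_two_dvd fun h => h2 (hH 2 Nat.prime_two h))

/-- A group in which no nontrivial element of odd prime power order is real is `2`-closed. -/
theorem exists_real_of_two_dvd_index (h : 2 ∣ (pCore 2 G).index) :
    ∃ (y u : G) (q k : ℕ), q.Prime ∧ q ≠ 2 ∧ y ≠ 1 ∧ orderOf y = q ^ k ∧ (∃ j, orderOf u = 2 ^ j) ∧
      u * y * u⁻¹ = y⁻¹ := by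
  obtain ⟨t, ht⟩ := exists_prime_orderOf_dvd_card' (G := G ⧸ pCore 2 G) 2 h
  obtain ⟨d, hq, hq2, hd⟩ := H5.exists_inverted_of_notMem_pCore (t := t)
    (orderOf_dvd_iff_pow_eq_one.1 ht.dvd) (by
      rw [pCore_quotient_pCore, mem_bot]; rintro rfl; simp at ht)
  have := Fact.mk hq
  obtain ⟨t₀, rfl⟩ := QuotientGroup.mk'_surjective _ t
  set f := QuotientGroup.mk' (pCore 2 G)
  obtain ⟨P, hP⟩ := IsSylowIn.exists_in (p := orderOf d) ((zpowers d).comap f)
  have hPf : P.map f = zpowers d := by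
    have h2 := hP.map f
    rw [map_comap_eq_self_of_surjective (QuotientGroup.mk'_surjective _)] at h2
    exact (h2.eq_of_le (isPGroup_zpowers_iff.2 ⟨1, (pow_one _).symm⟩) h2.le le_rfl).symm
  obtain ⟨c, hc, hct⟩ := hP.frattini_elem (g := t₀) (le_normalizer_comap f
    (mem_normalizer_of_conj_mem fun x hx => by
      rw [H5.inverts_of_mem_zpowers hd hx]; exact inv_mem hx))
  obtain ⟨y, hy, rfl⟩ : d ∈ P.map f := hPf ▸ mem_zpowers d
  have h4 : c * t₀ * y * (c * t₀)⁻¹ = y⁻¹ := by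
    rw [← mul_inv_eq_one, inv_inv, ← mem_bot, ← FT.inf_eq_bot_of_cop (FT.coprime_of_isPGroup_ne
      hP.isPGroup (pCore_isPGroup 2) hq2)]
    refine ⟨mul_mem (conj_mem_of_mem_normalizer hct hy) hy, ?_⟩
    have h5 : Commute (f c) (f y) := commute_of_mem_zpowers hc (mem_zpowers _)
    refine (QuotientGroup.eq_one_iff _).1 ?_
    calc f (c * t₀ * y * (c * t₀)⁻¹ * y) = f c * (f t₀ * f y * (f t₀)⁻¹) * (f c)⁻¹ * f y := by
          simp only [map_mul, map_inv]; group
      _ = 1 := by rw [hd, h5.inv_right.eq]; group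
  obtain ⟨u, hu, h5⟩ := H5.exists_two_element_inverts (isConj_iff.2 ⟨_, h4⟩)
  obtain ⟨k, hk⟩ := orderOf_eq_pow_of_mem_isPGroup hP.isPGroup hy
  refine ⟨y, u, _, k, hq, hq2, ?_, hk, hu, h5⟩
  rintro rfl
  simp [Nat.not_prime_one] at hq

theorem exists_real_of_not_solvable (h : ¬ Group.IsSolvable G) :
    ∃ (y u : G) (q k : ℕ), q.Prime ∧ q ≠ 2 ∧ y ≠ 1 ∧ orderOf y = q ^ k ∧ (∃ j, orderOf u = 2 ^ j) ∧
      u * y * u⁻¹ = y⁻¹ :=
  exists_real_of_two_dvd_index <| by_contra fun h' => h (isSolvable_of_normal_of_quotient _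
    (isSolvable_of_isPGroup (pCore_isPGroup 2)) (solvable_of_not_two_dvd h'))

end CfsgLib.H8FT
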