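import Cfsg.Agent.Lib.BSW.OddB
import Cfsg.Agent.Lib.Blk.BSa

/-! Exceptional characters for an abelian section inverted by an element of the normalizer. -/

set_option autoImplicit false

namespace CfsgLib.SigX

open Subgroup Cfsg CfsgLib.FT CfsgLib.BSW
open scoped commutatorElement ComplexConjugate

variable {G : Type*} [Group G] [Fintype G]

/-- `K \ U` is a TI-set with normalizer `K ∪ s K`, and `s` inverts `K / U`. -/
structure XS (K U : Subgroup G) (s : G) : Prop where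
  le : U ≤ K
  comm : ⁅K, K⁆ ≤ U
  s_not : s ∉ K
  s_conj : ∀ x ∈ K, s * x * s⁻¹ ∈ K
  inv : ∀ x ∈ K, s * x * s⁻¹ * x ∈ U
  ti : ∀ g : G, ∀ x ∈ K, x ∉ U → g * x * g⁻¹ ∈ K → g * x * g⁻¹ ∉ U → g ∈ K ∨ s⁻¹ * g ∈ K
  odd : ∀ x ∈ K, ∃ m : ℕ, Odd m ∧ x ^ m ∈ U

/-- The irreducible characters of `K / U`. -/
noncomputable def XI (K U : Subgroup G) : Finset (Irr K) := by
  classical exact Finset.univ.filter fun χ : Irr K => U ≤ cfker K χ

theorem mem_XI {K U : Subgroup G} {l : Irr K} : l ∈ XI K U ↔ U ≤ cfker K l := by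
  simp [XI]

namespace XS

variable {K U : Subgroup G} {s : G} (h : XS K U s)
include h

theorem lin {l : Irr K} (hl : l ∈ XI K U) : IsLin K l :=
  l.irr.isLin_of_commutator_le (h.comm.trans (mem_XI.mp hl))

theorem apply_U {l : Irr K} (hl : l ∈ XI K U) {u : G} (hu : u ∈ U) : l u = 1 := by
  rw [cfker_apply (mem_XI.mp hl hu), (h.lin hl).one]

theorem one_mem : (1 : Irr K) ∈ XI K U := by
  rw [mem_XI]
  show U ≤ cfker K (cf1 K)
  rw [cfker_cf1]; exact h.le

omit h in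
theorem conj_mem {l : Irr K} (hl : l ∈ XI K U) : l.conj ∈ XI K U := by
  rw [mem_XI] at hl ⊢
  show U ≤ cfker K (cfAut _ (l : G → ℂ))
  rwa [cfker_cfAut]

theorem apply_s {l : Irr K} (hl : l ∈ XI K U) {x : G} (hx : x ∈ K) :
    l (s * x * s⁻¹) = l.conj x := by
  have h1 := (h.lin hl).map_mul (h.s_conj x hx) hx
  rw [h.apply_U hl (h.inv x hx)] at h1
  have h2 := (h.lin hl).mul_conj hx
  have h3 := (h.lin hl).apply_ne_zero hx
  show _ = conj (l x)
  apply mul_right_cancel₀ h3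
  rw [← h1, mul_comm, h2]

theorem eq_one_of_conj {l : Irr K} (hl : l ∈ XI K U) (e : l = l.conj) : l = 1 := by
  rw [Irr.eq_one_iff]
  intro x hx
  rw [l.isChar.mem_cfker, (h.lin hl).one]
  refine ⟨hx, ?_⟩
  obtain ⟨m, ⟨k, rfl⟩, hm⟩ := h.odd x hx
  have h1 := h.apply_U hl hm
  rw [(h.lin hl).map_pow hx] at h1
  have h2 := (h.lin hl).mul_conj hx
  have h3 : conj (l x) = l x := by
    have := congrFun (congrArg (fun χ : Irr K => (χ : G → ℂ)) e) x
    exact this.symm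
  rw [h3] at h2
  rw [pow_succ, pow_mul, pow_two, h2, one_pow, one_mul] at h1
  exact h1

theorem cfInd_apply_mem {φ : G → ℂ} (hφ : φ ∈ CF K) (hU : ∀ u ∈ U, φ u = 0) {x : G}
    (hx : x ∈ K) (hx1 : x ∉ U) : cfInd K ⊤ φ x = φ x + φ (s * x * s⁻¹) := by
  classical
  rw [cfInd_apply' hφ.1 (mem_top x), elems_top]
  have hd : Disjoint (elems (K : Set G)) ((elems (K : Set G)).image (s * ·)) := by
    rw [Finset.disjoint_left]
    intro a ha hb
    obtain ⟨b, hb, rfl⟩ := Finset.mem_image.mp hb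
    have h1 : s * b ∈ K := by simpa [elems] using ha
    have h2 : b ∈ K := by simpa [elems] using hb
    exact h.s_not (by simpa using K.mul_mem h1 (K.inv_mem h2))
  have h1 : ∑ g : G, φ (g * x * g⁻¹) =
      ∑ g ∈ elems (K : Set G) ∪ (elems (K : Set G)).image (s * ·), φ (g * x * g⁻¹) := by
    symm
    refine Finset.sum_subset (Finset.subset_univ _) fun g _ hg => ?_
    by_cases hc : g * x * g⁻¹ ∈ K
    · by_cases hc' : g * x * g⁻¹ ∈ U
      · exact hU _ hc'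
      · refine absurd ?_ hg
        rcases h.ti g x hx hx1 hc hc' with hgK | hgK
        · exact Finset.mem_union_left _ (by simpa [elems] using hgK)
        · refine Finset.mem_union_right _ (Finset.mem_image.mpr ⟨s⁻¹ * g, ?_, ?_⟩)
          · simpa [elems] using hgK
          · simp
    · exact hφ.1 _ hc
  rw [h1, Finset.sum_union hd, Finset.sum_image (fun a _ b _ e => by simpa using e),
    Finset.sum_congr rfl (g := fun _ => φ x) (fun g hg => CF_conj hφ (by simpa [elems] using hg) x),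
    Finset.sum_congr rfl (f := fun g => φ (s * g * x * (s * g)⁻¹))
      (g := fun _ => φ (s * x * s⁻¹)) (fun g hg => ?_), sum_elems_const, sum_elems_const]
  · have := card_ne_zero K
    simp only [nsmul_eq_mul]
    field_simp
  · have hg' : g ∈ K := by simpa [elems] using hg
    rw [← CF_conj hφ (h.s_conj g hg') (s * x * s⁻¹)]
    congr 1
    group

theorem sub_U {l : Irr K} (hl : l ∈ XI K U) {u : G} (hu : u ∈ U) :
    (cf1 K - (l : G → ℂ)) u = 0 := by
  rw [Pi.sub_apply, cf1_apply (h.le hu), h.apply_U hl hu, sub_self]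

theorem al_apply {l : Irr K} (hl : l ∈ XI K U) {x : G} (hx : x ∈ K) (hx1 : x ∉ U) :
    al K l x = 2 - l x - l.conj x := by
  rw [al, h.cfInd_apply_mem ((CF K).sub_mem cf1_mem_CF l.mem_CF) (fun u hu => h.sub_U hl hu) hx hx1]
  simp only [Pi.sub_apply, cf1_apply hx, cf1_apply (h.s_conj x hx), h.apply_s hl hx]
  ring

theorem aA_one {l : Irr K} (hl : l ∈ XI K U) : aA K l 1 = -1 := by
  rw [aA, Pi.sub_apply, al, cfInd_one le_top, h.sub_U hl U.one_mem, cf1_apply (mem_top 1)]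
  ring

theorem dot_al {l m : Irr K} (hlI : l ∈ XI K U) (hmI : m ∈ XI K U) (hl : l ≠ 1) (hm : m ≠ 1) :
    cfdot ⊤ (al K l) (al K m) = 2 + (if l = m then 1 else 0) + (if l = m.conj then 1 else 0) := by
  have hm' : m.conj ≠ 1 := fun e => hm ((Irr.aut_eq_one _).mp e)
  conv_lhs => rw [al]
  rw [cfdot_cfInd_left le_top (ZIrr_mem_CF (al_mem K m)),
    cfdot_congr_of_supp (A := (K : Set G) \ U)
      (ψ' := cf1 K + cf1 K - (m : G → ℂ) - (m.conj : G → ℂ))]
  · simp only [cfdot_sub_left, cfdot_sub_right, cfdot_add_right, cfdot_cf1, one_dot_irr,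
      dot_irr_one, Irr.cfdot_eq, if_neg hl, if_neg hm, if_neg hm']
    ring
  · intro x hx
    by_cases hxK : x ∈ K
    · exact h.sub_U hlI (by by_contra h1; exact hx ⟨hxK, h1⟩)
    · rw [Pi.sub_apply, cf1_apply_of_notMem hxK, CF_zero l.mem_CF hxK, sub_self]
  · intro x hx
    rw [h.al_apply hmI hx.1 hx.2]
    simp only [Pi.sub_apply, Pi.add_apply, cf1_apply hx.1]
    ring

theorem dot_aA {l m : Irr K} (hlI : l ∈ XI K U) (hmI : m ∈ XI K U) (hl : l ≠ 1) (hm : m ≠ 1) :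
    cfdot ⊤ (aA K l) (aA K m) = 1 + (if l = m then 1 else 0) + (if l = m.conj then 1 else 0) := by
  have h1 := dot_al_one hl
  have h2 : cfdot ⊤ (cf1 ⊤) (al K m) = 1 := by
    rw [ZIrr_cfdot_comm cf1_mem_ZIrr (al_mem K m), dot_al_one hm]
  simp only [aA, cfdot_sub_left, cfdot_sub_right, h.dot_al hlI hmI hl hm, h1, h2, cfdot_cf1]
  ring

theorem dot_aA_self {l : Irr K} (hlI : l ∈ XI K U) (hl : l ≠ 1) :
    cfdot ⊤ (aA K l) (aA K l) = 2 := by
  rw [h.dot_aA hlI hlI hl hl, if_pos rfl, if_neg fun e => hl (h.eq_one_of_conj hlI e)]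
  norm_num

theorem norm_aA {l : Irr K} (hlI : l ∈ XI K U) (hl : l ≠ 1) : cfnorm ⊤ (aA K l) = 2 :=
  cfnorm_eq_of_cfdot_eq (by rw [h.dot_aA_self hlI hl]; norm_num)

theorem card_XI : (XI K U).card = U.relIndex K := by
  classical
  rw [← card_irr_ker_of_commutator_le h.le h.comm]
  congr 1

theorem sum_sub : ∑ l ∈ XI K U, (cf1 K - (l : G → ℂ)) =
    (U.relIndex K : ℂ) • cfInd1 ((K : Set G) \ U) := by
  classical
  ext x
  have h1 := sum_irr_ker_mul h.le (le_normalizer_of_commutator_le h.comm h.le) x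
  have h2 : ∑ l ∈ XI K U, l x = if x ∈ U then (U.relIndex K : ℂ) else 0 := by
    rw [← h1]
    refine Finset.sum_congr (by ext; simp [XI]) fun l hl => ?_
    rw [(h.lin (by simpa [XI] using hl)).one, one_mul]
  rw [Finset.sum_apply]
  simp only [Pi.sub_apply, Finset.sum_sub_distrib, h2, Finset.sum_const, h.card_XI, Pi.smul_apply,
    smul_eq_mul, nsmul_eq_mul]
  by_cases hxU : x ∈ U
  · rw [if_pos hxU, cf1_apply (h.le hxU), cfInd1_apply_of_notMem (fun e => e.2 hxU)]; ring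
  · rw [if_neg hxU]
    by_cases hxK : x ∈ K
    · rw [cf1_apply hxK, cfInd1_apply (show x ∈ (K : Set G) \ U from ⟨hxK, hxU⟩)]; ring
    · rw [cf1_apply_of_notMem hxK, cfInd1_apply_of_notMem (fun e => hxK e.1)]; ring

theorem ind_mem : cfInd1 ((K : Set G) \ U) ∈ CF K := by
  refine CFon_CF (cfInd1_mem_CFon (A := (K : Set G) \ U) (fun x hx => hx.1) fun x hx a ha =>
    ⟨K.mul_mem (K.mul_mem hx ha.1) (K.inv_mem hx), fun e => ha.2 ?_⟩)
  exact (norm_conj_mem (le_normalizer_of_commutator_le h.comm h.le hx)).mp e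

theorem ind_nat (x : G) : ∃ n : ℕ, cfInd K ⊤ (cfInd1 ((K : Set G) \ U)) x = n := by
  by_cases hx : ∃ g : G, g * x * g⁻¹ ∈ (K : Set G) \ U
  · obtain ⟨g, hg⟩ := hx
    rw [← CF_conj (cfInd_mem_CF (H := K) (L := ⊤)) (mem_top g) x,
      h.cfInd_apply_mem h.ind_mem (fun u hu => cfInd1_apply_of_notMem fun e => e.2 hu) hg.1 hg.2,
      cfInd1_apply hg]
    by_cases h2 : s * (g * x * g⁻¹) * s⁻¹ ∈ (K : Set G) \ U
    · exact ⟨2, by rw [cfInd1_apply h2]; norm_num⟩
    · exact ⟨1, by rw [cfInd1_apply_of_notMem h2]; norm_num⟩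
  · exact ⟨0, by
      rw [cfInd_eq_zero fun g _ _ => cfInd1_apply_of_notMem fun e => hx ⟨g, e⟩]; norm_num⟩

/-- The degree of `θ` divides `|G| / |K : U|` times the sum of the multiplicities. -/
theorem degree_dvd {θ : G → ℂ} (hθ : IsIrr ⊤ θ) {n r : ℕ} (hn : θ 1 = n)
    (hG : Nat.card G = U.relIndex K * r) {D : ℤ}
    (hD : ∑ l ∈ XI K U, cfdot ⊤ θ (al K l) = D) : (n : ℤ) ∣ r * D := by
  have h1 := hθ.isIntegral_central (cfInd_mem_CF (H := K) (φ := cfInd1 ((K : Set G) \ U)))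
    (fun x => by obtain ⟨k, hk⟩ := h.ind_nat x; rw [hk]; exact isIntegral_natCast k)
  have hn0 : (n : ℂ) ≠ 0 := hn ▸ hθ.one_ne_zero
  have h2 : ∑ l ∈ XI K U, cfdot ⊤ θ (al K l) =
      (U.relIndex K : ℂ) * cfdot ⊤ θ (cfInd K ⊤ (cfInd1 ((K : Set G) \ U))) := by
    rw [← cfdot_sum_right, ← cfdot_natCast_smul_right, ← map_smul, ← h.sum_sub, map_sum]
    rfl
  have h3 : ∑ x ∈ elems ((⊤ : Subgroup G) : Set G),
      cfInd K ⊤ (cfInd1 ((K : Set G) \ U)) x * θ x = r * D := by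
    rw [← hD, h2, cfdot, ← mul_assoc, ← mul_assoc, card_top, hG]
    have := relIndex_cast_ne_zero U K
    have hr : (r : ℂ) ≠ 0 := by
      intro e
      have : r = 0 := by exact_mod_cast e
      rw [this, mul_zero] at hG
      exact Nat.card_pos.ne' hG
    push_cast
    rw [show (r : ℂ) * (U.relIndex K : ℂ) * ((U.relIndex K : ℂ) * r)⁻¹ = 1 by field_simp, one_mul]
    refine Finset.sum_congr rfl fun x _ => ?_
    obtain ⟨k, hk⟩ := h.ind_nat x
    rw [hk, map_natCast, mul_comm]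
  rw [h3, hn] at h1
  obtain ⟨k, hk⟩ := int_of_isIntegral_of_rat h1 ((r * D : ℤ) / (n : ℚ)) (by push_cast; ring)
  refine ⟨k, ?_⟩
  have : (r : ℂ) * D = n * k := by rw [← hk]; field_simp
  exact_mod_cast this

/-- The sum of the multiplicities of a constituent of `aA K μ`. -/
theorem sum_mult {μ : Irr K} (hμ : μ ∈ XI K U) (hμ1 : μ ≠ 1) {a b : G → ℂ} (ha : IsDirr ⊤ a)
    (hb : IsDirr ⊤ b) (e : aA K μ = a + b) (ha1 : cfdot ⊤ a (cf1 ⊤) = 0) :
    ∑ l ∈ XI K U, cfdot ⊤ a (al K l) = 2 ∨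
      ∑ l ∈ XI K U, cfdot ⊤ a (al K l) = (U.relIndex K : ℂ) - 1 := by
  classical
  have hab : cfdot ⊤ a b = 0 := by
    have h1 := h.dot_aA_self hμ hμ1
    rw [e, cfdot_add_left, cfdot_add_right, cfdot_add_right, ha.cfdot_self, hb.cfdot_self,
      ZIrr_cfdot_comm hb.mem_ZIrr ha.mem_ZIrr] at h1
    linear_combination h1 / 2
  have hba := cfdot_symm_zero hab
  have key : ∀ l ∈ XI K U, l ≠ 1 → ∃ x y : ℤ, cfdot ⊤ a (aA K l) = x ∧ cfdot ⊤ b (aA K l) = y ∧
      x ^ 2 + y ^ 2 ≤ 2 ∧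
      x + y = 1 + (if μ = l then 1 else 0) + (if μ = l.conj then 1 else 0) := by
    intro l hl hl1
    obtain ⟨x, hx⟩ := ZIrr_cfdot_int ha.mem_ZIrr (aA_mem K l)
    obtain ⟨y, hy⟩ := ZIrr_cfdot_int hb.mem_ZIrr (aA_mem K l)
    refine ⟨x, y, hx, hy, ?_, ?_⟩
    · have := IsDirr.dot_int_sq_le ha hb hab hx hy
      rw [h.norm_aA hl hl1] at this
      exact_mod_cast this
    · have := h.dot_aA hμ hl hμ1 hl1
      rw [e, cfdot_add_left, hx, hy] at this
      have h2 : ((x + y : ℤ) : ℂ) = ((1 + (if μ = l then 1 else 0) +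
          (if μ = l.conj then 1 else 0) : ℤ) : ℂ) := by
        push_cast; exact this
      exact_mod_cast h2
  have hal : ∀ l, cfdot ⊤ a (al K l) = cfdot ⊤ a (aA K l) := fun l => by
    rw [aA, cfdot_sub_right, ha1, sub_zero]
  have hμc : μ ≠ μ.conj := fun e => hμ1 (h.eq_one_of_conj hμ e)
  have hμc1 : μ.conj ≠ 1 := fun e => hμ1 ((Irr.aut_eq_one _).mp e)
  have v1 : cfdot ⊤ a (al K μ) = 1 := by
    obtain ⟨x, y, hx, hy, h1, h2⟩ := key μ hμ hμ1
    rw [if_pos rfl, if_neg hμc] at h2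
    have : x = 1 := by nlinarith
    rw [hal, hx, this]; norm_num
  have v2 : cfdot ⊤ a (al K μ.conj) = 1 := by
    obtain ⟨x, y, hx, hy, h1, h2⟩ := key μ.conj (conj_mem hμ) hμc1
    rw [if_neg hμc, if_pos (Irr.conj_conj μ).symm] at h2
    have : x = 1 := by nlinarith
    rw [hal, hx, this]; norm_num
  have v0 : cfdot ⊤ a (al K 1) = 0 := by rw [al_one]; simp [cfdot]
  set J := XI K U \ {1, μ, μ.conj} with hJ
  have hsub : ({1, μ, μ.conj} : Finset (Irr K)) ⊆ XI K U := by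
    intro l hl
    simp only [Finset.mem_insert, Finset.mem_singleton] at hl
    rcases hl with rfl | rfl | rfl
    exacts [h.one_mem, hμ, conj_mem hμ]
  have hn1 : (1 : Irr K) ∉ ({μ, μ.conj} : Finset (Irr K)) := by
    simp only [Finset.mem_insert, Finset.mem_singleton, not_or]
    exact ⟨hμ1.symm, hμc1.symm⟩
  have hcard : (U.relIndex K : ℂ) = J.card + 3 := by
    have := Finset.card_sdiff_add_card_eq_card hsub
    rw [Finset.card_insert_of_notMem hn1, Finset.card_pair hμc, h.card_XI] at this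
    rw [← this]; push_cast; ring
  rw [← Finset.sum_sdiff hsub, Finset.sum_insert hn1, Finset.sum_pair hμc, v0, v1, v2, hcard]
  have keyJ : ∀ l ∈ J, (cfdot ⊤ a (aA K l) = 1 ∧ cfdot ⊤ b (aA K l) = 0) ∨
      (cfdot ⊤ a (aA K l) = 0 ∧ cfdot ⊤ b (aA K l) = 1) := by
    intro l hl
    rw [hJ, Finset.mem_sdiff] at hl
    simp only [Finset.mem_insert, Finset.mem_singleton, not_or] at hl
    obtain ⟨x, y, hx, hy, h1, h2⟩ := key l hl.1 hl.2.1
    rw [if_neg (Ne.symm hl.2.2.1), if_neg (fun e => hl.2.2.2 (by rw [e, Irr.conj_conj]))] at h2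
    have : (x = 1 ∧ y = 0) ∨ (x = 0 ∧ y = 1) := by
      have h3 : x ≤ 1 := by nlinarith
      have h4 : 0 ≤ x := by nlinarith
      omega
    rcases this with ⟨rfl, rfl⟩ | ⟨rfl, rfl⟩
    · left; rw [hx, hy]; norm_num
    · right; rw [hx, hy]; norm_num
  by_cases hall : ∀ l ∈ J, cfdot ⊤ a (aA K l) = 0
  · left
    rw [Finset.sum_eq_zero fun l hl => (hal l).trans (hall l hl)]; ring
  · right
    push Not at hall
    obtain ⟨l, hl, hl0⟩ := hall
    obtain ⟨x1, y1⟩ := (keyJ l hl).resolve_right fun e => hl0 e.1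
    have : ∀ ν ∈ J, cfdot ⊤ a (al K ν) = 1 := by
      intro ν hν
      rw [hal]
      refine ((keyJ ν hν).resolve_right ?_).1
      rintro ⟨x2, y2⟩
      have hlI := Finset.mem_sdiff.mp hl
      have hνI := Finset.mem_sdiff.mp hν
      have hl1 : l ≠ 1 := fun e => hlI.2 (by simp [e])
      have hν1 : ν ≠ 1 := fun e => hνI.2 (by simp [e])
      have c1 := h.dot_aA hlI.1 hνI.1 hl1 hν1
      have c2 := h.dot_aA hνI.1 hlI.1 hν1 hl1
      have c3 := h.dot_aA_self hlI.1 hl1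
      have c4 := h.dot_aA_self hνI.1 hν1
      have x1' := (ZIrr_cfdot_comm (aA_mem K l) ha.mem_ZIrr).trans x1
      have y1' := (ZIrr_cfdot_comm (aA_mem K l) hb.mem_ZIrr).trans y1
      have x2' := (ZIrr_cfdot_comm (aA_mem K ν) ha.mem_ZIrr).trans x2
      have y2' := (ZIrr_cfdot_comm (aA_mem K ν) hb.mem_ZIrr).trans y2
      have hZ : aA K l - a - (aA K ν - b) ∈ ZIrr (⊤ : Subgroup G) :=
        sub_mem (sub_mem (aA_mem K l) ha.mem_ZIrr) (sub_mem (aA_mem K ν) hb.mem_ZIrr)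
      have hnorm : cfdot ⊤ (aA K l - a - (aA K ν - b)) (aA K l - a - (aA K ν - b)) =
          ((-(((if l = ν then 1 else 0) + (if l = ν.conj then 1 else 0)) +
            ((if ν = l then 1 else 0) + (if ν = l.conj then 1 else 0))) : ℝ) : ℂ) := by
        simp only [cfdot_sub_left, cfdot_sub_right, c1, c2, c3, c4, x1, y1, x2, y2, x1', y1', x2',
          y2', hab, hba, ha.cfdot_self, hb.cfdot_self]
        push_cast
        split_ifs <;> norm_num
      have h0 : cfnorm ⊤ (aA K l - a - (aA K ν - b)) = 0 := by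
        refine le_antisymm ?_ cfnorm_nonneg
        rw [cfnorm_eq_of_cfdot_eq hnorm]
        split_ifs <;> norm_num
      have h5 := congrFun (eq_zero_of_cfnorm_top h0) 1
      have h6 := congrFun e 1
      simp only [Pi.sub_apply, Pi.add_apply, h.aA_one hlI.1, h.aA_one hνI.1, h.aA_one hμ,
        Pi.zero_apply] at h5 h6
      obtain ⟨k, hk⟩ := ZIrr_one_int ha.mem_ZIrr
      have h7 : ((2 * k : ℤ) : ℂ) = ((-1 : ℤ) : ℂ) := by
        push_cast
        rw [← hk]; linear_combination -h5 - h6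
      have h8 : 2 * k = -1 := by exact_mod_cast h7
      omega
    rw [Finset.sum_congr rfl this, Finset.sum_const, nsmul_eq_mul]; ring

theorem exists_of_dirr {q r : ℕ} (hq : q.Prime) (hq2 : q ≠ 2) (hqm : q ∣ U.relIndex K)
    (hG : Nat.card G = U.relIndex K * r) (hqr : ¬ q ∣ r) {μ : Irr K} (hμ : μ ∈ XI K U)
    (hμ1 : μ ≠ 1) {a b : G → ℂ} (ha : IsDirr ⊤ a) (hb : IsDirr ⊤ b) (e : aA K μ = a + b)
    (ha1 : cfdot ⊤ a (cf1 ⊤) = 0) {k : ℤ} (hk : a 1 = k) (hodd : Odd k) :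
    ∃ (θ : G → ℂ) (n : ℕ), IsIrrCharacter G θ ∧ θ ≠ 1 ∧ θ 1 = n ∧ Odd n ∧ ¬ q ∣ n := by
  obtain ⟨ε, θ, hε, hθ, rfl⟩ := ha.exists_sign
  obtain ⟨n, -, hn⟩ := hθ.exists_nat_one
  have hεε : (ε : ℂ) * ε = 1 := by rcases hε with rfl | rfl <;> norm_num
  refine ⟨θ, n, isIrr_top.mp hθ, ?_, hn, ?_, ?_⟩
  · rintro rfl
    rw [cfdot_smul_left, ← cf1_top, cfdot_cf1, mul_one] at ha1
    rw [ha1, mul_zero] at hεε
    exact zero_ne_one hεε
  · rw [Pi.smul_apply, hn, smul_eq_mul] at hk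
    have : ε * n = k := by exact_mod_cast hk
    rw [← this] at hodd
    exact_mod_cast (Int.odd_mul.mp hodd).2
  · intro hqn
    have hs := h.sum_mult hμ hμ1 ha hb e ha1
    simp only [cfdot_smul_left, ← Finset.mul_sum] at hs
    have hq' : Prime (q : ℤ) := Nat.prime_iff_prime_int.mp hq
    have hε' : IsUnit ε := by rcases hε with rfl | rfl <;> simp
    have fin : ∀ D : ℤ, (ε : ℂ) * ∑ l ∈ XI K U, cfdot ⊤ θ (al K l) = D → (q : ℤ) ∣ D := by
      intro D hD
      have h1 := h.degree_dvd hθ hn hG (D := ε * D) (by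
        push_cast; rw [← hD, ← mul_assoc, hεε, one_mul])
      have h2 : (q : ℤ) ∣ r * (ε * D) := (Int.natCast_dvd_natCast.mpr hqn).trans h1
      rcases hq'.dvd_or_dvd h2 with h3 | h3
      · exact absurd (Int.natCast_dvd_natCast.mp h3) hqr
      · exact (hε'.dvd_mul_left).mp h3
    rcases hs with hs | hs
    · have := fin 2 (by rw [hs]; norm_num)
      exact hq2 ((Nat.prime_dvd_prime_iff_eq hq Nat.prime_two).mp (by exact_mod_cast this))
    · have h1 := fin (U.relIndex K - 1) (by rw [hs]; push_cast; ring)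
      have h2 : (q : ℤ) ∣ U.relIndex K := Int.natCast_dvd_natCast.mpr hqm
      have h3 : (q : ℤ) ∣ 1 := by simpa using dvd_sub h2 h1
      exact hq'.not_dvd_one h3

theorem exists_irr {q r : ℕ} (hq : q.Prime) (hq2 : q ≠ 2) (hqm : q ∣ U.relIndex K)
    (hG : Nat.card G = U.relIndex K * r) (hqr : ¬ q ∣ r) :
    ∃ (θ : G → ℂ) (n : ℕ), IsIrrCharacter G θ ∧ θ ≠ 1 ∧ θ 1 = n ∧ Odd n ∧ ¬ q ∣ n := by
  have h1 : 1 < (XI K U).card := by
    rw [h.card_XI]
    exact hq.one_lt.trans_le (Nat.le_of_dvd (Nat.pos_of_ne_zero (relIndex_ne_zero' U K)) hqm)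
  obtain ⟨μ, hμ, hμ1⟩ := Finset.exists_mem_ne h1 1
  obtain ⟨a, b, ha, hb, e, ha1, hb1⟩ := Blk.exists_dirr_of_norm_two (aA_mem K μ)
    (h.norm_aA hμ hμ1) (isIrr_cf1 ⊤).isDirr (dot_aA_one hμ1)
  obtain ⟨k, hk⟩ := ZIrr_one_int ha.mem_ZIrr
  obtain ⟨j, hj⟩ := ZIrr_one_int hb.mem_ZIrr
  have h6 := congrFun e 1
  rw [h.aA_one hμ, Pi.add_apply, hk, hj] at h6
  have h7 : -1 = k + j := by exact_mod_cast h6
  rcases Int.even_or_odd k with hk' | hk'
  · have hj' : Odd j := by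
      obtain ⟨c, rfl⟩ := hk'
      exact ⟨-c - 1, by omega⟩
    exact h.exists_of_dirr hq hq2 hqm hG hqr hμ hμ1 hb ha (e.trans (add_comm _ _)) hb1 hj hj'
  · exact h.exists_of_dirr hq hq2 hqm hG hqr hμ hμ1 ha hb e ha1 hk hk'

end XS

end CfsgLib.SigX
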