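import Mathlib
import Cfsg.Agent.Lib.SylowIn

/-! Jordan's theorem on primitive groups containing a cycle of prime length. -/

set_option autoImplicit false

namespace CfsgLib.H4

open Equiv Equiv.Perm MulAction Subgroup
open scoped commutatorElement

variable {α : Type*}

/-- pointwise stabilizer of a set in a permutation group -/
def fixSub (G : Subgroup (Perm α)) (F : Set α) : Subgroup (Perm α) where
  carrier := {g | g ∈ G ∧ ∀ x ∈ F, g x = x}
  one_mem' := ⟨one_mem G, fun _ _ => rfl⟩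
  mul_mem' ha hb := ⟨mul_mem ha.1 hb.1, fun x hx => by simp [ha.2 x hx, hb.2 x hx]⟩
  inv_mem' ha := ⟨inv_mem ha.1, fun x hx => by rw [Perm.inv_eq_iff_eq, ha.2 x hx]⟩

theorem mem_fixSub {G : Subgroup (Perm α)} {F : Set α} {g : Perm α} :
    g ∈ fixSub G F ↔ g ∈ G ∧ ∀ x ∈ F, g x = x := Iff.rfl

theorem fixSub_le (G : Subgroup (Perm α)) (F : Set α) : fixSub G F ≤ G := fun _ h => h.1

theorem fixSub_subgroupOf (G : Subgroup (Perm α)) (F : Set α) :
    (fixSub G F).subgroupOf G = fixingSubgroup G F := by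
  ext g
  rw [mem_subgroupOf, mem_fixSub, mem_fixingSubgroup_iff]
  exact and_iff_right g.2

theorem mem_normalizer_fixSub [Finite α] {G : Subgroup (Perm α)} {F : Set α} {u : Perm α}
    (hu : u ∈ G) (huF : ∀ x, u x ∈ F → x ∈ F) : u⁻¹ ∈ normalizer (fixSub G F : Set (Perm α)) := by
  refine inv_mem (inv_inv u ▸ inv_mem (mem_normalizer_of_conj_mem (g := u⁻¹) fun g hg => ?_))
  refine ⟨mul_mem (mul_mem (inv_mem hu) hg.1) (inv_mem (inv_mem hu)), fun x hx => ?_⟩
  have h1 : Function.Surjective fun y : {x // x ∈ F} =>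
      (⟨u⁻¹ y, huF _ (by simpa using y.2)⟩ : {x // x ∈ F}) :=
    Finite.surjective_of_injective fun a b h => Subtype.ext (u⁻¹.injective (congrArg Subtype.val h))
  obtain ⟨y, hy⟩ := h1 ⟨x, hx⟩
  have h2 : u x = y := by rw [← show u⁻¹ y = x from congrArg Subtype.val hy]; simp
  simp only [inv_inv, Perm.mul_apply]
  rw [hg.2 _ (h2 ▸ y.2)]
  simp

/-- Witt's lemma -/
theorem witt [Finite α] {G : Subgroup (Perm α)} {F : Set α} {p : ℕ} [Fact p.Prime]
    {P : Subgroup (Perm α)} (hP : IsSylowIn p P (fixSub G F)) {u : Perm α} (hu : u ∈ G)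
    (huF : ∀ x, u x ∈ F → x ∈ F) :
    ∃ v ∈ G, v ∈ normalizer (P : Set (Perm α)) ∧ ∀ x ∈ F, v x = u x := by
  obtain ⟨k, hk, h⟩ := hP.frattini_elem (mem_normalizer_fixSub hu huF)
  refine ⟨u * k⁻¹, mul_mem hu (inv_mem hk.1), by simpa using inv_mem h, fun x hx => ?_⟩
  rw [Perm.mul_apply, (inv_mem hk).2 x hx]

theorem maps_of_eq_on [Finite α] {F : Set α} {u : Perm α} {τ : α → α} (h : ∀ x ∈ F, u x = τ x)
    (hτ : ∀ x ∈ F, τ x ∈ F) (x : α) (hx : u x ∈ F) : x ∈ F := by
  have h1 : Function.Surjective fun y : {x // x ∈ F} =>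
      (⟨u y, h y y.2 ▸ hτ y y.2⟩ : {x // x ∈ F}) :=
    Finite.surjective_of_injective fun a b h => Subtype.ext (u.injective (congrArg Subtype.val h))
  obtain ⟨y, hy⟩ := h1 ⟨_, hx⟩
  rw [← u.injective (show u y = u x from congrArg Subtype.val hy)]
  exact y.2

variable [Fintype α] [DecidableEq α]

theorem card_dvd_factorial_of_support (H : Subgroup (Perm α)) (T : Finset α)
    (h : ∀ g ∈ H, g.support ⊆ T) : Nat.card H ∣ T.card.factorial := by
  have h1 : H ≤ (ofSubtype : Perm {x // x ∈ T} →* Perm α).range := fun g hg =>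
    mem_range_ofSubtype_iff.mpr fun x hx => h g hg hx
  refine (card_dvd_of_le h1).trans ((card_range_dvd _).trans ?_)
  rw [Nat.card_perm, Nat.card_eq_fintype_card, Fintype.card_coe]

theorem card_fixSub_dvd_factorial (G : Subgroup (Perm α)) (T : Finset α) :
    Nat.card (fixSub G (T : Set α)ᶜ) ∣ T.card.factorial :=
  card_dvd_factorial_of_support _ _ fun g hg x hx => by
    by_contra h
    exact mem_support.mp hx (hg.2 x h)

omit [DecidableEq α] in
theorem exists_eq_on_of_multiply {G : Subgroup (Perm α)} {n : ℕ}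
    (hG : IsMultiplyPretransitive G α n) (hn : n ≤ Nat.card α) (F : Finset α) (hF : F.card ≤ n)
    (τ : α → α) (hτ : Set.InjOn τ F) : ∃ u ∈ G, ∀ x ∈ F, u x = τ x := by
  have := isMultiplyPretransitive_of_le (G := G) hF hn
  let e : Fin F.card ↪ α := F.equivFin.symm.toEmbedding.trans (Function.Embedding.subtype _)
  let e' : Fin F.card ↪ α := ⟨fun i => τ (e i), fun i j h => e.injective
    (hτ (F.equivFin.symm i).2 (F.equivFin.symm j).2 h)⟩
  obtain ⟨u, hu⟩ := exists_smul_eq G e e'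
  refine ⟨u, u.2, fun x hx => ?_⟩
  have := congrArg (fun f : Fin F.card ↪ α => f (F.equivFin ⟨x, hx⟩)) hu
  simpa [e, e', Subgroup.smul_def] using this

theorem apply_mem_support_of_commute {c h : Perm α} (hc : Commute h c) {x : α}
    (hx : x ∈ c.support) : h x ∈ c.support := by
  rw [mem_support] at hx ⊢
  rw [← Perm.mul_apply, ← hc.eq, Perm.mul_apply]
  exact h.injective.ne hx

theorem exists_zpow_eq_on_support {c h : Perm α} (hc : c.IsCycle) (hh : Commute h c) :
    ∃ i : ℤ, ∀ x ∈ c.support, h x = (c ^ i) x := by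
  obtain ⟨a, ha, hc⟩ := hc
  obtain ⟨i, hi⟩ := hc (mem_support.mp (apply_mem_support_of_commute hh (mem_support.mpr ha)))
  refine ⟨i, fun x hx => ?_⟩
  obtain ⟨j, rfl⟩ := hc (mem_support.mp hx)
  rw [← Perm.mul_apply, (hh.zpow_right j).eq, Perm.mul_apply, ← hi, ← Perm.mul_apply,
    ← Perm.mul_apply, zpow_mul_comm]

theorem commute_commutator_of_mem_normalizer {G : Type*} [Group G] {a b c : G}
    (ha : a ∈ normalizer (zpowers c : Set G)) (hb : b ∈ normalizer (zpowers c : Set G)) :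
    Commute ⁅a, b⁆ c := by
  obtain ⟨i, hi⟩ := (mem_normalizer_iff''.mp ha c).mp (mem_zpowers c)
  obtain ⟨j, hj⟩ := (mem_normalizer_iff''.mp hb c).mp (mem_zpowers c)
  simp only at hi hj
  have h1 : b⁻¹ * (a⁻¹ * c * a) * b = a⁻¹ * (b⁻¹ * c * b) * a := by
    have e1 : b⁻¹ * c ^ i * b = (b⁻¹ * c * b) ^ i := by
      have := conj_zpow (i := i) (a := b⁻¹) (b := c)
      rw [inv_inv] at this
      exact this.symm
    have e2 : a⁻¹ * c ^ j * a = (a⁻¹ * c * a) ^ j := by
      have := conj_zpow (i := j) (a := a⁻¹) (b := c)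
      rw [inv_inv] at this
      exact this.symm
    calc b⁻¹ * (a⁻¹ * c * a) * b = b⁻¹ * c ^ i * b := by rw [hi]
      _ = (c ^ j) ^ i := by rw [e1, hj]
      _ = (c ^ i) ^ j := by rw [← zpow_mul, ← zpow_mul, mul_comm]
      _ = a⁻¹ * c ^ j * a := by rw [e2, hi]
      _ = a⁻¹ * (b⁻¹ * c * b) * a := by rw [hj]
  have h2 : Commute ⁅b, a⁆ c := by
    change ⁅b, a⁆ * c = c * ⁅b, a⁆
    calc ⁅b, a⁆ * c = b * a * (b⁻¹ * (a⁻¹ * c * a) * b) * (b⁻¹ * a⁻¹) := by
          rw [commutatorElement_def]; group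
      _ = c * ⁅b, a⁆ := by rw [h1, commutatorElement_def]; group
  rw [← commutatorElement_inv]
  exact h2.inv_left

theorem isSylowIn_zpowers_of_isCycle {G : Subgroup (Perm α)} {p : ℕ} [hp : Fact p.Prime]
    {g : Perm α} (hgc : g.IsCycle) (hgp : g.support.card = p) (hg : g ∈ G) :
    IsSylowIn p (zpowers g) (fixSub G (g.support : Set α)ᶜ) := by
  have h1 : Nat.card (zpowers g) = p := by rw [Nat.card_zpowers, hgc.orderOf, hgp]
  have hle : zpowers g ≤ fixSub G (g.support : Set α)ᶜ :=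
    zpowers_le.mpr ⟨hg, fun x hx => notMem_support.mp hx⟩
  refine ⟨hle, IsPGroup.of_card (h1.trans (pow_one p).symm), fun h => ?_⟩
  have h2 := card_fixSub_dvd_factorial G g.support
  rw [← card_mul_relIndex hle, h1, hgp] at h2
  obtain ⟨q, rfl⟩ : ∃ q, p = q + 1 := ⟨p - 1, by have := hp.out.pos; omega⟩
  rw [Nat.factorial_succ] at h2
  have := (hp.out.dvd_factorial).mp (h.trans (Nat.dvd_of_mul_dvd_mul_left hp.out.pos h2))
  omega

theorem isMultiplyPretransitive_of_isCycle {G : Subgroup (Perm α)} (hG : IsPreprimitive G α)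
    {p k : ℕ} (hp : p.Prime) (hk : Nat.card α = p + (k + 1))
    {g : Perm α} (hgc : g.IsCycle) (hgp : g.support.card = p) (hg : g ∈ G) :
    IsMultiplyPretransitive G α (k + 2) := by
  classical
  suffices IsMultiplyPreprimitive G α (k + 2) from
    IsMultiplyPreprimitive.isMultiplyPretransitive ..
  apply hG.isMultiplyPreprimitive (s := (g.supportᶜ : Set α))
  · apply Nat.add_left_cancel
    rw [Set.ncard_add_ncard_compl, Set.ncard_coe_finset, hgp, hk]
  · have := hp.two_le
    omega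
  have := isPretransitive_of_isCycle_mem hgc hg
  apply IsPreprimitive.of_prime_card
  convert! hp
  rw [Nat.card_eq_fintype_card, Fintype.card_subtype, ← hgp]
  apply congr_arg
  ext x
  simp [SubMulAction.mem_ofFixingSubgroup_iff]

theorem isThreeCycle_of_eq_on {h : Perm α} {a b c : α} (hab : a ≠ b) (hac : a ≠ c) (hbc : b ≠ c)
    (h1 : ∀ x, x ≠ a → x ≠ b → x ≠ c → h x = x) (h2 : h a = b) (h3 : h b = c) :
    h.IsThreeCycle := by
  rw [← card_support_eq_three_iff]
  have : h.support = {a, b, c} := by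
    ext x
    simp only [mem_support, Finset.mem_insert, Finset.mem_singleton]
    refine ⟨fun hx => by by_contra hh; push Not at hh; exact hx (h1 x hh.1 hh.2.1 hh.2.2), ?_⟩
    rintro (rfl | rfl | rfl)
    · rw [h2]; exact hab.symm
    · rw [h3]; exact hbc.symm
    · exact fun hh => hbc (h.injective (h3.trans hh.symm))
  rw [this, Finset.card_eq_three]
  exact ⟨a, b, c, hab, hac, hbc, rfl⟩

/-- **Jordan's theorem**: a primitive group containing a cycle of prime length with at least three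
fixed points contains the alternating group. -/
theorem alternatingGroup_le_of_isCycle {G : Subgroup (Perm α)} (hG : IsPreprimitive G α)
    {p : ℕ} (hp : p.Prime) (hp' : p + 3 ≤ Nat.card α)
    {g : Perm α} (hgc : g.IsCycle) (hgp : g.support.card = p) (hg : g ∈ G) :
    alternatingGroup α ≤ G := by
  have := Fact.mk hp
  obtain ⟨k, hk⟩ := Nat.exists_eq_add_of_le hp'
  have hM := isMultiplyPretransitive_of_isCycle hG hp (k := k + 2) (by omega) hgc hgp hg
  have hF : g.supportᶜ.card = k + 3 := by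
    rw [Finset.card_compl, hgp, ← Nat.card_eq_fintype_card]; omega
  obtain ⟨a, ha, b, hb, c, hc, hab, hac, hbc⟩ := Finset.two_lt_card.mp
    (show 2 < g.supportᶜ.card by omega)
  have hS := isSylowIn_zpowers_of_isCycle hgc hgp hg
  have hsw : ∀ {x y z : α}, x ∈ g.supportᶜ → y ∈ g.supportᶜ → z ∈ g.supportᶜ →
      swap x y z ∈ g.supportᶜ := by
    intro x y z hx hy hz
    rw [swap_apply_def]
    split_ifs <;> assumption
  have key : ∀ {x y : α}, x ∈ g.supportᶜ → y ∈ g.supportᶜ → ∃ v ∈ G,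
      v ∈ normalizer (zpowers g : Set (Perm α)) ∧ (∀ z ∈ g.supportᶜ, v z = swap x y z) ∧
        ∀ z ∈ g.supportᶜ, v⁻¹ z = swap x y z := by
    intro x y hx hy
    obtain ⟨u, hu, hu'⟩ := exists_eq_on_of_multiply hM (by have := hp.two_le; omega) g.supportᶜ
      (by omega) (swap x y) (swap x y).injective.injOn
    obtain ⟨v, hv, hv1, hv2⟩ := witt hS hu (maps_of_eq_on (τ := swap x y)
      (fun z hz => hu' z (by simpa using hz)) fun z hz => by
        simpa using hsw hx hy (show z ∈ g.supportᶜ by simpa using hz))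
    have h3 : ∀ z ∈ g.supportᶜ, v z = swap x y z := fun z hz =>
      (hv2 z (by simpa using hz)).trans (hu' z hz)
    refine ⟨v, hv, hv1, h3, fun z hz => ?_⟩
    rw [Perm.inv_eq_iff_eq, h3 _ (hsw hx hy hz), swap_apply_self]
  obtain ⟨v, hv, hv1, hv2, hv3⟩ := key ha hb
  obtain ⟨w, hw, hw1, hw2, hw3⟩ := key ha hc
  obtain ⟨i, hi⟩ := exists_zpow_eq_on_support hgc (commute_commutator_of_mem_normalizer hv1 hw1)
  have h1 : ∀ z ∈ g.supportᶜ, ((g ^ i)⁻¹ * ⁅v, w⁆) z =
      swap a b (swap a c (swap a b (swap a c z))) := by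
    intro z hz
    simp only [commutatorElement_def, Perm.mul_apply]
    rw [hw3 z hz, hv3 _ (hsw ha hc hz), hw2 _ (hsw ha hb (hsw ha hc hz)),
      hv2 _ (hsw ha hc (hsw ha hb (hsw ha hc hz))), Perm.inv_eq_iff_eq]
    exact (zpow_apply_eq_self_of_apply_eq_self (notMem_support.mp (Finset.mem_compl.mp
      (hsw ha hb (hsw ha hc (hsw ha hb (hsw ha hc hz)))))) i).symm
  refine alternatingGroup_le_of_isPreprimitive_of_isThreeCycle_mem hG
    (g := (g ^ i)⁻¹ * ⁅v, w⁆) (isThreeCycle_of_eq_on hab hac hbc (fun x h2 h3 h4 => ?_) ?_ ?_)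
    (mul_mem (inv_mem (zpow_mem hg i))
      (mul_mem (mul_mem (mul_mem hv hw) (inv_mem hv)) (inv_mem hw)))
  · by_cases hx : x ∈ g.support
    · rw [Perm.mul_apply, hi x hx]
      simp
    · rw [h1 x (Finset.mem_compl.mpr hx)]
      simp only [swap_apply_of_ne_of_ne h2 h3, swap_apply_of_ne_of_ne h2 h4]
  · rw [h1 a ha, swap_apply_left, swap_apply_of_ne_of_ne hac.symm hbc.symm, swap_apply_right,
      swap_apply_left]
  · rw [h1 b hb, swap_apply_of_ne_of_ne hab.symm hbc, swap_apply_right, swap_apply_left,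
      swap_apply_of_ne_of_ne hac.symm hbc.symm]

end CfsgLib.H4
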