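import Mathlib
import Cfsg.Agent.Lib.ClassSize
import Cfsg.Agent.Lib.SylowIn
import Cfsg.Agent.Lib.PComplementMore
import Cfsg.Agent.Lib.CoreElements
import Cfsg.Agent.S4303

/-! Simple groups acting on finite sets; fixed point counts and signs. -/

set_option autoImplicit false

namespace CfsgLib.H4

open MulAction Subgroup Cfsg

variable {G : Type*} [Group G] {Ω : Type*} [MulAction G Ω]

theorem ncard_modEq_ncard_fixed [Finite Ω] {p : ℕ} [hp : Fact p.Prime] {P : Subgroup G}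
    (hP : IsPGroup p P) (S : Set Ω) (hS : ∀ g ∈ P, ∀ x ∈ S, g • x ∈ S) :
    S.ncard ≡ {x | x ∈ S ∧ ∀ g ∈ P, g • x = x}.ncard [MOD p] := by
  have h1 : S.ncard = {x | x ∈ S ∧ ∀ g ∈ P, g • x = x}.ncard +
      {x | x ∈ S ∧ ¬ ∀ g ∈ P, g • x = x}.ncard := by
    rw [← Set.ncard_union_eq (Set.disjoint_left.mpr fun x h h' => h'.2 h.2)]
    congr 1
    ext x
    simp only [Set.mem_ofPred_eq, Set.mem_union]
    tauto
  obtain ⟨t, ht⟩ : p ∣ {x | x ∈ S ∧ ¬ ∀ g ∈ P, g • x = x}.ncard := by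
    refine Frob.dvd_ncard_of_dvd_index_stabilizer (A := P) _ ?_ ?_
    · rintro a x ⟨h1, h2⟩
      refine ⟨hS a a.2 x h1, fun h => h2 ?_⟩
      have h3 : (a : G)⁻¹ • (a : G) • x = (a : G) • x := h _ (inv_mem a.2)
      rw [inv_smul_smul] at h3
      rw [h3]
      exact h
    · rintro x ⟨-, h2⟩
      have : (stabilizer P x).FiniteIndex := ⟨by
        rw [index_stabilizer]
        exact ((Set.ncard_pos (Set.toFinite _)).mpr ⟨x, mem_orbit_self x⟩).ne'⟩
      obtain ⟨k, hk⟩ := hP.index (stabilizer P x)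
      rw [hk]
      refine dvd_pow_self p ?_
      rintro rfl
      refine h2 fun g hg => ?_
      have : (⟨g, hg⟩ : P) ∈ stabilizer P x := by
        rw [Subgroup.index_eq_one.mp hk]; trivial
      exact this
  rw [h1, ht]
  simp [Nat.ModEq]

theorem ncard_modEq_ncard_fixedBy [Finite Ω] {p k : ℕ} [hp : Fact p.Prime] {y : G}
    (hy : orderOf y = p ^ k) (S : Set Ω) (hS : ∀ x ∈ S, y • x ∈ S) :
    S.ncard ≡ (S ∩ fixedBy Ω y).ncard [MOD p] := by
  have hfin : IsOfFinOrder y := orderOf_pos_iff.mp (hy ▸ pow_pos hp.out.pos k)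
  refine (ncard_modEq_ncard_fixed (P := zpowers y)
    (IsPGroup.of_card ((Nat.card_zpowers y).trans hy)) S ?_).trans ?_
  · intro g hg x hx
    obtain ⟨n, rfl⟩ := hfin.mem_powers_iff_mem_zpowers.mpr hg
    induction n with
    | zero => simpa using hx
    | succ n ih =>
      simp only [pow_succ', mul_smul]
      exact hS _ (ih (pow_mem (mem_zpowers y) n))
  · congr! 2
    ext x
    refine and_congr_right fun _ => ⟨fun h => h y (mem_zpowers y), fun h g hg => ?_⟩
    exact (zpowers_le.mpr h : zpowers y ≤ stabilizer G x) hg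

theorem card_modEq_ncard_fixedBy [Finite Ω] {p k : ℕ} [hp : Fact p.Prime] {y : G}
    (hy : orderOf y = p ^ k) : Nat.card Ω ≡ (fixedBy Ω y).ncard [MOD p] := by
  have := ncard_modEq_ncard_fixedBy (Ω := Ω) hy Set.univ (fun _ _ => trivial)
  rwa [Set.ncard_univ, Set.univ_inter] at this

theorem smul_mem_fixedBy_of_commute {c y : G} (h : Commute c y) {x : Ω} (hx : x ∈ fixedBy Ω y) :
    c • x ∈ fixedBy Ω y := by
  rw [mem_fixedBy] at hx ⊢
  rw [← mul_smul, ← h.eq, mul_smul, hx]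

theorem sign_toPerm_of_sq [Fintype Ω] [DecidableEq Ω] {t : G} (ht : t ^ 2 = 1) :
    Equiv.Perm.sign (toPerm t : Equiv.Perm Ω) =
      (-1) ^ ((Nat.card Ω - (fixedBy Ω t).ncard) / 2) := by
  rw [Equiv.Perm.sign_of_pow_two_eq_one (by
    change (toPermHom G Ω t) ^ 2 = 1
    rw [← map_pow, ht, map_one]), Nat.card_eq_fintype_card, ← Nat.card_coe_set_eq,
    ← Nat.card_eq_fintype_card (α := Function.fixedPoints _)]
  rfl

theorem ncard_fixedBy_lt [Finite Ω] [FaithfulSMul G Ω] {c : G} (hc : c ≠ 1) :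
    (fixedBy Ω c).ncard < Nat.card Ω := by
  rw [← Set.ncard_univ]
  refine Set.ncard_lt_ncard (Set.ssubset_univ_iff.mpr fun h => hc ?_)
  exact (fixedBy_eq_univ_iff_eq_one).mp h

theorem faithfulSMul_of_simple [IsSimpleGroup G] {g : G} {x : Ω} (h : g • x ≠ x) :
    FaithfulSMul G Ω := by
  rcases (inferInstance : (toPermHom G Ω).ker.Normal).eq_bot_or_eq_top with h1 | h1
  · exact ⟨fun {a b} hab => (MonoidHom.ker_eq_bot_iff _).mp h1 (Equiv.ext hab)⟩
  · have : g ∈ (toPermHom G Ω).ker := by rw [h1]; trivial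
    exact absurd (congrFun (congrArg DFunLike.coe this) x) h

theorem sign_eq_one_of_simple [IsSimpleGroup G] [Finite G] [Fintype Ω] [DecidableEq Ω]
    (h : ¬ Nat.card G ∣ 2) (c : G) : Equiv.Perm.sign (toPerm c : Equiv.Perm Ω) = 1 := by
  rcases (inferInstance : (Equiv.Perm.sign.comp (toPermHom G Ω)).ker.Normal).eq_bot_or_eq_top
    with h1 | h1
  · have h2 := card_dvd_of_injective _ ((MonoidHom.ker_eq_bot_iff _).1 h1)
    rw [Nat.card_eq_fintype_card (α := ℤˣ), Fintype.card_units_int] at h2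
    exact absurd h2 h
  · have : c ∈ (Equiv.Perm.sign.comp (toPermHom G Ω)).ker := by rw [h1]; trivial
    exact this

theorem isPGroup_centralizer_of_two_cycles [Finite G] [Fintype Ω] [DecidableEq Ω]
    [FaithfulSMul G Ω] (hsign : ∀ c : G, Equiv.Perm.sign (toPerm c : Equiv.Perm Ω) = 1)
    {p : ℕ} [hp : Fact p.Prime] (hodd : p ≠ 2) {y : G} (hy : orderOf y = p)
    (hk : (fixedBy Ω y).ncard ≤ 1) (hΩ : Nat.card Ω = 2 * p + (fixedBy Ω y).ncard) :
    IsPGroup p (centralizer ({y} : Set G)) := by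
  refine isPGroup_iff_isPiSubgroup.2 fun r hr hrd => ?_
  by_contra hrp
  have := Fact.mk hr
  obtain ⟨c, hc⟩ := exists_prime_orderOf_dvd_card' r hrd
  have hco : orderOf (c : G) = r := by rw [← hc, Subgroup.orderOf_coe]
  have hcy : Commute (c : G) y := mem_centralizer_singleton_iff.mp c.2
  have h1 := ncard_modEq_ncard_fixedBy (Ω := Ω) (hy.trans (pow_one p).symm) (fixedBy Ω (c : G))
    fun x hx => smul_mem_fixedBy_of_commute hcy.symm hx
  have h0 : fixedBy Ω y ⊆ fixedBy Ω (c : G) := fun x hx =>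
    (Set.ncard_le_one_iff_subsingleton.mp hk) (smul_mem_fixedBy_of_commute hcy hx) hx
  rw [Set.inter_eq_right.mpr h0] at h1
  have h2 := card_modEq_ncard_fixedBy (Ω := Ω) (hco.trans (pow_one r).symm)
  have h3 := ncard_fixedBy_lt (Ω := Ω) (c := (c : G)) fun h => hr.one_lt.ne' (by
    rw [← hco, h, orderOf_one])
  have h4 : (fixedBy Ω y).ncard ≤ (fixedBy Ω (c : G)).ncard :=
    Set.ncard_le_ncard h0
  obtain ⟨t, ht⟩ := (Nat.modEq_iff_dvd' h4).mp h1.symm
  have h5 := (Nat.modEq_iff_dvd' h3.le).mp h2.symm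
  have ht2 : t < 2 := Nat.lt_of_mul_lt_mul_left (a := p) (by omega)
  have hrp' : ¬ r ∣ p := fun h => hrp ((Nat.prime_dvd_prime_iff_eq hr hp.out).1 h)
  interval_cases t
  · rw [show Nat.card Ω - (fixedBy Ω (c : G)).ncard = 2 * p by omega] at h5
    obtain rfl : r = 2 :=
      (Nat.prime_dvd_prime_iff_eq hr Nat.prime_two).1 ((hr.dvd_mul.1 h5).resolve_right hrp')
    have h6 := sign_toPerm_of_sq (Ω := Ω) (t := (c : G)) (hco ▸ pow_orderOf_eq_one _)
    rw [hsign, show (Nat.card Ω - (fixedBy Ω (c : G)).ncard) / 2 = p by omega,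
      (hp.out.odd_of_ne_two hodd).neg_one_pow] at h6
    exact absurd h6 (by decide)
  · rw [show Nat.card Ω - (fixedBy Ω (c : G)).ncard = p by omega] at h5
    exact hrp' h5

theorem sylow_smul_eq_iff_mem [Finite G] {p k : ℕ} [Fact p.Prime] {x : G} (hx : orderOf x = p ^ k)
    (Q : Sylow p G) : x • Q = Q ↔ x ∈ (Q : Subgroup G) := by
  rw [Sylow.smul_eq_iff_mem_normalizer]
  refine ⟨fun h => ?_, fun h => le_normalizer h⟩
  have h1 : IsPGroup p (zpowers x) := IsPGroup.of_card ((Nat.card_zpowers x).trans hx)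
  have h2 := h1.inf_normalizer_sylow Q
  rw [inf_eq_left.2 (zpowers_le.mpr h)] at h2
  exact (h2.le (mem_zpowers x)).2

theorem not_hnpc_of_simple [Finite G] [IsSimpleGroup G] {q r : ℕ} [hq : Fact q.Prime]
    (hr : r.Prime) (hqr : r ≠ q) (h1 : q ∣ Nat.card G) (h2 : r ∣ Nat.card G) :
    ¬ HasNormalPComplement q G := by
  intro h
  obtain ⟨N, hN, hc, k, hk⟩ := PCompl.hnpc_exists_normal h
  rcases hN.eq_bot_or_eq_top with rfl | rfl
  · rw [index_bot] at hk
    rw [hk] at h2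
    exact hqr ((Nat.prime_dvd_prime_iff_eq hr hq.out).1 (hr.dvd_of_dvd_pow h2))
  · rw [card_top] at hc
    exact (hq.out.coprime_iff_not_dvd.1 hc.symm) h1

theorem relIndex_centralizer_dvd_totient [Finite G] (P : Subgroup G) [IsCyclic P] :
    (centralizer (P : Set G)).relIndex (normalizer (P : Set G)) ∣ (Nat.card P).totient := by
  have key := card_dvd_of_injective _ (QuotientGroup.kerLift_injective P.normalizerMonoidHom)
  rwa [normalizerMonoidHom_ker, ← index, ← relIndex, IsCyclic.card_mulAut] at key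

universe u in
theorem exists_simple_of_card_sylow {G : Type u} [Group G] [Finite G] {p n : ℕ} [Fact p.Prime]
    (hn : Nat.card (Sylow p G) = n) (h1 : n ≠ 1) (h2 : ¬ IsPrimePow n)
    (h3 : ∀ m, m ∣ n → m % p = 1 → m = 1 ∨ m = n) :
    ∃ (S : Type u) (_ : Group S) (_ : Finite S), IsSimpleGroup S ∧ Nat.card (Sylow p S) = n := by
  obtain ⟨l, hl, hm⟩ := Cfsg.Agent.S4303.result (G := G) p
  rw [hn] at hl
  by_contra hcon
  refine h1 (hl ▸ List.prod_eq_one fun m hml => ?_)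
  have hd : m ∣ n := hl ▸ List.dvd_prod hml
  rcases hm m hml with ⟨h4, h5⟩ | ⟨S, _, _, hS, h4⟩
  · exact (h3 m hd h5).resolve_right fun h => h2 (h ▸ h4)
  · have h5 := card_sylow_modEq_one p S
    rw [← h4, Nat.ModEq, Nat.mod_eq_of_lt (Fact.out : p.Prime).one_lt] at h5
    exact (h3 m hd h5).resolve_right fun h => hcon ⟨S, _, inferInstance, hS, h4.symm.trans h⟩

theorem not_isPrimePow_mul {a b : ℕ} (ha : a.Prime) (hb : b.Prime) (hab : a ≠ b) :
    ¬ IsPrimePow (a * b) := by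
  intro h
  obtain ⟨p, k, hp, -, h⟩ := (isPrimePow_nat_iff _).1 h
  exact hab (((Nat.prime_dvd_prime_iff_eq ha hp).1
    (ha.dvd_of_dvd_pow (h ▸ Dvd.intro _ rfl))).trans ((Nat.prime_dvd_prime_iff_eq hb hp).1
    (hb.dvd_of_dvd_pow (h ▸ Dvd.intro_left _ rfl))).symm)

theorem exists_sylow_smul_ne [Finite G] {p : ℕ} [Fact p.Prime] (h : Nat.card (Sylow p G) ≠ 1) :
    ∃ (g : G) (P : Sylow p G), g • P ≠ P := by
  have : Nontrivial (Sylow p G) := Finite.one_lt_card_iff_nontrivial.mp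
    (by have := Nat.card_pos (α := Sylow p G); omega)
  obtain ⟨P, Q, hPQ⟩ := exists_pair_ne (Sylow p G)
  obtain ⟨g, rfl⟩ := exists_smul_eq G P Q
  exact ⟨g, P, hPQ.symm⟩

theorem prime_dvd_card_of_card_sylow_ne_one [Finite G] {p : ℕ} [Fact p.Prime]
    (h : Nat.card (Sylow p G) ≠ 1) : p ∣ Nat.card G := by
  obtain ⟨g, P, hg⟩ := exists_sylow_smul_ne h
  refine (P.isPGroup'.card_eq_or_dvd.resolve_left fun h1 => hg ?_).trans (card_subgroup_dvd_card _)
  rw [Sylow.smul_eq_iff_mem_normalizer]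
  change g ∈ normalizer ((P : Subgroup G) : Set G)
  rw [card_eq_one.1 h1, normalizer_eq_top]
  trivial

theorem not_isMulCommutative_of_card_sylow_ne_one [Finite G] {p : ℕ} [Fact p.Prime]
    (h : Nat.card (Sylow p G) ≠ 1) : ¬ IsMulCommutative G := by
  obtain ⟨g, P, hg⟩ := exists_sylow_smul_ne h
  intro _
  apply hg
  rw [Sylow.smul_eq_iff_mem_normalizer]
  change g ∈ normalizer ((P : Subgroup G) : Set G)
  rw [normalizer_eq_top]
  trivial

theorem exists_zpowers_eq_of_card_prime [Finite G] {p : ℕ} [Fact p.Prime] {P : Subgroup G}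
    (h : Nat.card P = p) : ∃ x, orderOf x = p ∧ zpowers x = P := by
  obtain ⟨x, hx⟩ := exists_prime_orderOf_dvd_card' (G := P) p h.symm.dvd
  have hx' := (Subgroup.orderOf_coe x).trans hx
  exact ⟨x, hx', eq_of_le_of_card_ge (zpowers_le.2 x.2) (by rw [Nat.card_zpowers, hx', h])⟩

theorem centralizer_coe_zpowers (x : G) :
    centralizer (zpowers x : Set G) = centralizer ({x} : Set G) := by
  rw [zpowers_eq_closure, centralizer_closure]

end CfsgLib.H4
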