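import Mathlib
import Cfsg.Agent.Lib.PermJordan
import Cfsg.Agent.Lib.SylowAction
import Cfsg.Agent.Lib.PComplement

/-! Small-degree complements to Jordan's theorem (degrees 6, 7, 13). -/

set_option autoImplicit false

namespace CfsgLib.H4

open Equiv Equiv.Perm MulAction Subgroup

theorem commute_pow_totient_of_mem_normalizer {G : Type*} [Group G] [Finite G] {g w : G}
    (hw : w ∈ normalizer (zpowers g : Set G)) : Commute (w ^ (orderOf g).totient) g := by
  have h1 := relIndex_centralizer_dvd_totient (zpowers g)
  rw [Nat.card_zpowers] at h1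
  obtain ⟨k, hk⟩ := h1
  have h2 : (⟨w, hw⟩ : normalizer (zpowers g : Set G)) ^
      ((centralizer (zpowers g : Set G)).subgroupOf (normalizer (zpowers g : Set G))).index ∈
      (centralizer (zpowers g : Set G)).subgroupOf (normalizer (zpowers g : Set G)) :=
    Subgroup.pow_index_mem _ _
  rw [mem_subgroupOf] at h2
  have h3 : w ^ (centralizer (zpowers g : Set G)).relIndex (normalizer (zpowers g : Set G)) ∈
      centralizer (zpowers g : Set G) := h2
  rw [hk, pow_mul]
  exact (mem_centralizer_iff.mp (pow_mem h3 k) g (mem_zpowers g)).symm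

theorem commute_of_coprime_totient {G : Type*} [Group G] [Finite G] {g w : G}
    (hw : w ∈ normalizer (zpowers g : Set G)) (hc : (orderOf w).Coprime (orderOf g).totient) :
    Commute w g := by
  have h1 := commute_pow_totient_of_mem_normalizer hw
  obtain ⟨k, hk⟩ := exists_pow_eq_self_of_coprime hc.symm
  rw [← hk]
  exact h1.pow_left k

variable {α : Type*} [Fintype α] [DecidableEq α]

theorem four_dvd_card_support {t : Perm α} (ht : t ^ 2 = 1) (hs : sign t = 1) :
    4 ∣ t.support.card := by
  have h1 := sign_of_pow_two_eq_one ht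
  have h2 := two_dvd_card_support ht
  have h3 : Fintype.card α - Fintype.card (Function.fixedPoints t) = t.support.card := by
    rw [card_fixedPoints, sum_cycleType, Nat.sub_sub_self (Finset.card_le_univ _)]
  rw [h3, hs] at h1
  have h4 : Even (t.support.card / 2) := (neg_one_pow_eq_one_iff_even (by decide)).mp h1.symm
  obtain ⟨k, hk⟩ := h4
  omega

theorem card_mul_factorial_of_multiply {H : Subgroup (Perm α)} {k : ℕ}
    (hH : IsMultiplyPretransitive H α k) (F : Finset α) (hF : F.card = k) :
    Nat.card H * (Nat.card α - k).factorial =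
      Nat.card (fixSub H (F : Set α)) * (Nat.card α).factorial := by
  have h1 := hH.index_of_fixingSubgroup_mul (s := (F : Set α)) (by simpa using hF)
  rw [← h1, ← fixSub_subgroupOf, ← mul_assoc,
    ← Nat.card_congr (subgroupOfEquivOfLe (fixSub_le H (F : Set α))).toEquiv,
    card_mul_index]

theorem alt_le_of_relIndex_lt {H : Subgroup (Perm α)} (h5 : 5 ≤ Nat.card α)
    (hi : H.relIndex (alternatingGroup α) < Nat.card α) : alternatingGroup α ≤ H := by
  have := alternatingGroup.isSimpleGroup h5
  set K := H.subgroupOf (alternatingGroup α)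
  rcases K.normalCore_normal.eq_bot_or_eq_top with h | h
  · exfalso
    have h1 : K.normalCore.index ∣ K.index.factorial := by
      rw [normalCore_eq_ker, index_ker, index_eq_card, ← Nat.card_perm]
      exact card_subgroup_dvd_card _
    rw [h, index_bot] at h1
    have h2 := Nat.le_of_dvd (Nat.factorial_pos _) h1
    have : Nontrivial α := Finite.one_lt_card_iff_nontrivial.mp (by omega)
    have h3 := two_mul_nat_card_alternatingGroup (α := α)
    rw [Nat.card_perm] at h3
    obtain ⟨n, hn⟩ : ∃ n, Nat.card α = n + 1 := ⟨Nat.card α - 1, by omega⟩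
    have h4 : K.index.factorial ≤ n.factorial := Nat.factorial_le (by
      change K.index < _ at hi
      omega)
    rw [hn, Nat.factorial_succ] at h3
    have h6 := Nat.factorial_pos n
    nlinarith
  · exact subgroupOf_eq_top.mp (top_le_iff.mp (h ▸ K.normalCore_le))

theorem nonempty_equiv_alt_of_support {K : Subgroup (Perm α)} (s : Finset α)
    (h : ∀ g, g ∈ K ↔ sign g = 1 ∧ g.support ⊆ s) :
    Nonempty (K ≃* alternatingGroup (Fin s.card)) := by
  have h1 : K = (alternatingGroup s).map (Perm.ofSubtype : Perm s →* Perm α) := by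
    rw [alternatingGroup.map_ofSubtype]
    ext g
    rw [h, mem_inf, mem_range_ofSubtype_iff, mem_alternatingGroup, and_comm]
    simp
  subst h1
  exact ⟨((alternatingGroup s).equivMapOfInjective _ Perm.ofSubtype_injective).symm.trans
    (s.equivFin.altCongrHom)⟩

theorem nonempty_equiv_alt_of_relIndex_eq {H : Subgroup (Perm α)} (h5 : 5 ≤ Nat.card α)
    (hle : H ≤ alternatingGroup α) (hi : H.relIndex (alternatingGroup α) = Nat.card α) :
    Nonempty (H ≃* alternatingGroup (Fin (Nat.card α - 1))) := by
  classical
  have := alternatingGroup.isSimpleGroup h5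
  set K := H.subgroupOf (alternatingGroup α)
  let β := alternatingGroup α ⧸ K
  let _ : Fintype β := Fintype.ofFinite β
  have hβ : Nat.card β = Nat.card α := hi
  let φ := toPermHom (alternatingGroup α) β
  have hK : K ≠ ⊤ := fun h => by
    change K.index = _ at hi
    rw [h, index_top] at hi
    omega
  have hφ : Function.Injective φ := by
    rw [← MonoidHom.ker_eq_bot_iff, ← normalCore_eq_ker]
    exact K.normalCore_normal.eq_bot_or_eq_top.resolve_right fun h =>
      hK (top_le_iff.mp (h ▸ K.normalCore_le))
  have : Nontrivial α := Finite.one_lt_card_iff_nontrivial.mp (by omega)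
  have hr : φ.range = alternatingGroup β := by
    apply eq_alternatingGroup_of_index_eq_two
    have h1 := φ.range.card_mul_index
    rw [← Nat.card_congr (MonoidHom.ofInjective hφ).toEquiv, Nat.card_perm, hβ, ← Nat.card_perm,
      ← two_mul_nat_card_alternatingGroup, mul_comm 2] at h1
    exact Nat.eq_of_mul_eq_mul_left Nat.card_pos h1
  let b : β := ((1 : alternatingGroup α) : β)
  have h2 := nonempty_equiv_alt_of_support (K := K.map φ) ({b}ᶜ : Finset β) fun g => by
    rw [← mem_alternatingGroup, ← hr]
    constructor
    · rintro ⟨k, hk, rfl⟩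
      refine ⟨⟨k, rfl⟩, fun x hx => ?_⟩
      rw [Finset.mem_compl, Finset.mem_singleton]
      rintro rfl
      refine mem_support.mp hx ?_
      have : k ∈ stabilizer (alternatingGroup α) b := by
        rw [stabilizer_quotient]; exact hk
      exact this
    · rintro ⟨⟨k, rfl⟩, h⟩
      refine ⟨k, ?_, rfl⟩
      have h3 : b ∉ (φ k).support := fun hb => by simpa using h hb
      have : k ∈ stabilizer (alternatingGroup α) b := notMem_support.mp h3
      rwa [stabilizer_quotient] at this
  rw [Finset.card_compl, Finset.card_singleton, ← Nat.card_eq_fintype_card, hβ] at h2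
  obtain ⟨e⟩ := h2
  exact ⟨((subgroupOfEquivOfLe hle).symm.trans (K.equivMapOfInjective φ hφ)).trans e⟩

theorem exists_fix_two_dvd {H : Subgroup (Perm α)} (hle : H ≤ alternatingGroup α)
    (h2 : 2 ∣ Nat.card H) (h8 : Nat.card α < 8) :
    ∃ F : Finset α, F.card + 4 = Nat.card α ∧ 2 ∣ Nat.card (fixSub H (F : Set α)) := by
  have := Fact.mk Nat.prime_two
  obtain ⟨t, ht⟩ := exists_prime_orderOf_dvd_card' 2 h2
  have ht' : orderOf (t : Perm α) = 2 := by rw [Subgroup.orderOf_coe, ht]
  have h1 : (t : Perm α) ^ 2 = 1 := ht' ▸ pow_orderOf_eq_one _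
  have h3 := four_dvd_card_support h1 (hle t.2)
  have h4 : (t : Perm α).support.card ≠ 0 := by
    rw [Ne, Finset.card_eq_zero, support_eq_empty_iff]
    intro h
    rw [h, orderOf_one] at ht'
    omega
  have h5 := Finset.card_le_univ (t : Perm α).support
  rw [← Nat.card_eq_fintype_card] at h5
  refine ⟨(t : Perm α).supportᶜ, ?_, ?_⟩
  · rw [Finset.card_compl, ← Nat.card_eq_fintype_card]
    omega
  · rw [← ht']
    exact orderOf_dvd_natCard _ ⟨t.2, fun x hx => notMem_support.mp (by simpa using hx)⟩

theorem relIndex_alt_mul_card {H : Subgroup (Perm α)} (hle : H ≤ alternatingGroup α)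
    (h : 2 ≤ Nat.card α) :
    2 * (H.relIndex (alternatingGroup α) * Nat.card H) = (Nat.card α).factorial := by
  have : Nontrivial α := Finite.one_lt_card_iff_nontrivial.mp (by omega)
  rw [← Nat.card_perm, ← two_mul_nat_card_alternatingGroup, ← card_mul_relIndex hle, mul_comm
    (Nat.card H)]

theorem alt_le_of_three_transitive_seven {H : Subgroup (Perm α)} (h7 : Nat.card α = 7)
    (hle : H ≤ alternatingGroup α) (hH : IsMultiplyPretransitive H α 3) :
    alternatingGroup α ≤ H := by
  have h0 : 2 ∣ Nat.card H := by
    obtain ⟨F, hF⟩ := Finset.exists_subset_card_eq (s := (Finset.univ : Finset α)) (n := 3)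
      (by rw [Finset.card_univ, ← Nat.card_eq_fintype_card]; omega)
    have := card_mul_factorial_of_multiply hH F hF.2
    rw [h7] at this
    norm_num [Nat.factorial] at this
    omega
  obtain ⟨F, hF, k, hk⟩ := exists_fix_two_dvd hle h0 (by omega)
  have h1 := card_mul_factorial_of_multiply hH F (by omega)
  have h2 := relIndex_alt_mul_card hle (by omega)
  rw [h7, hk] at h1
  rw [h7] at h2
  norm_num [Nat.factorial] at h1 h2
  have h3 : Nat.card H = 420 * k := by omega
  have h4 : 0 < Nat.card H := Nat.card_pos
  refine alt_le_of_relIndex_lt (by omega) ?_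
  rw [h3] at h2
  rw [h7]
  have : 0 < k := by omega
  nlinarith

theorem equiv_alt_of_two_transitive_six {H : Subgroup (Perm α)} (h6 : Nat.card α = 6)
    (hle : H ≤ alternatingGroup α) (hH : IsMultiplyPretransitive H α 2) :
    alternatingGroup α ≤ H ∨ Nonempty (H ≃* alternatingGroup (Fin 5)) := by
  have h0 : 2 ∣ Nat.card H := by
    obtain ⟨F, hF⟩ := Finset.exists_subset_card_eq (s := (Finset.univ : Finset α)) (n := 2)
      (by rw [Finset.card_univ, ← Nat.card_eq_fintype_card]; omega)
    have := card_mul_factorial_of_multiply hH F hF.2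
    rw [h6] at this
    norm_num [Nat.factorial] at this
    omega
  obtain ⟨F, hF, k, hk⟩ := exists_fix_two_dvd hle h0 (by omega)
  have h1 := card_mul_factorial_of_multiply hH F (by omega)
  have h2 := relIndex_alt_mul_card hle (by omega)
  rw [h6, hk] at h1
  rw [h6] at h2
  norm_num [Nat.factorial] at h1 h2
  have h3 : Nat.card H = 60 * k := by omega
  have h4 : 0 < Nat.card H := Nat.card_pos
  rw [h3] at h2
  have : 0 < k := by omega
  have h5 : H.relIndex (alternatingGroup α) ≤ 6 := by nlinarith
  rcases h5.lt_or_eq with h | h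
  · exact Or.inl (alt_le_of_relIndex_lt (by omega) (by omega))
  · have := nonempty_equiv_alt_of_relIndex_eq (by omega) hle (by omega)
    rw [h6] at this
    exact Or.inr this

end CfsgLib.H4
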