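import Mathlib
import Cfsg.Agent.Lib.BurnsideBasis

/-! Orbits of the automorphism group; building automorphisms of split extensions; homogeneous
operators of prime order on elementary abelian groups. -/

set_option autoImplicit false

namespace CfsgLib.H5

open Subgroup Polynomial

section Orbits

variable {A X : Type*} [Group A] [MulAction A X]

theorem orbit_mk_eq_iff {a b : X} : (Quotient.mk'' a : MulAction.orbitRel.Quotient A X) =
    Quotient.mk'' b ↔ ∃ α : A, α • b = a := by
  rw [Quotient.eq'', MulAction.orbitRel_apply]; rfl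

theorem card_le_card_orbits [Finite X] (s : Finset X)
    (hs : ∀ a ∈ s, ∀ b ∈ s, ∀ α : A, α • a = b → a = b) :
    s.card ≤ Nat.card (MulAction.orbitRel.Quotient A X) := by
  rw [← Fintype.card_coe s, ← Nat.card_eq_fintype_card]
  refine Nat.card_le_card_of_injective (fun a : s => Quotient.mk'' a.1) fun a b h => ?_
  obtain ⟨α, h⟩ := orbit_mk_eq_iff.mp h
  exact Subtype.ext (hs _ b.2 _ a.2 α h).symm

theorem card_orbits_le_card (s : Finset X) (hs : ∀ x : X, ∃ a ∈ s, ∃ α : A, α • a = x) :
    Nat.card (MulAction.orbitRel.Quotient A X) ≤ s.card := by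
  rw [← Fintype.card_coe s, ← Nat.card_eq_fintype_card]
  refine Nat.card_le_card_of_surjective (fun a : s => Quotient.mk'' a.1) fun c => ?_
  induction c using Quotient.inductionOn' with | h x => ?_
  obtain ⟨a, ha, h⟩ := hs x
  exact ⟨⟨a, ha⟩, (orbit_mk_eq_iff.mpr h).symm⟩

theorem exists_smul_eq_of_card_orbits_le [Finite X] (s : Finset X)
    (hs : ∀ a ∈ s, ∀ b ∈ s, ∀ α : A, α • a = b → a = b)
    (h : Nat.card (MulAction.orbitRel.Quotient A X) ≤ s.card) (x : X) :
    ∃ a ∈ s, ∃ α : A, α • a = x := by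
  classical
  by_contra hx
  push Not at hx
  have hxs : x ∉ s := fun h => hx x h 1 (one_smul _ _)
  have := card_le_card_orbits (A := A) (insert x s) (by
    simp only [Finset.mem_insert]
    rintro a (rfl | ha) b (rfl | hb) α h
    · rfl
    · exact absurd (by rw [← h, inv_smul_smul]) (hx b hb α⁻¹)
    · exact absurd h (hx a ha α)
    · exact hs a ha b hb α h)
  rw [Finset.card_insert_of_notMem hxs] at this
  omega

end Orbits

section Split

variable {G : Type*} [Group G]

theorem exists_hom_of_isComplement' {L : Type*} [Group L] {V H : Subgroup G} [hV : V.Normal]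
    (hc : V.IsComplement' H) (B : V →* L) (ψ : H →* L)
    (h : ∀ (y : H) (v : V), B (MulAut.conjNormal (y : G) v) = ψ y * B v * (ψ y)⁻¹) :
    ∃ f : G →* L, (∀ v : V, f v = B v) ∧ ∀ y : H, f y = ψ y := by
  let e := SemidirectProduct.mulEquivSubgroup hc
  refine ⟨(SemidirectProduct.lift (φ := (V.normalizerMonoidHom).comp
    (inclusion (V.normalizer_eq_top ▸ le_top))) B ψ fun y => MonoidHom.ext fun v => h y v).comp
    e.symm.toMonoidHom, fun v => ?_, fun y => ?_⟩
  · have : (v : G) = e (SemidirectProduct.inl v) := by simp [e]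
    rw [this]; simp
  · have : (y : G) = e (SemidirectProduct.inr y) := by simp [e]
    rw [this]; simp

/-- An automorphism of a normal subgroup with a cyclic complement extends when it twists the
action of the generator by a power prime to the order. -/
theorem exists_mulAut_of_isComplement'_zpowers [Finite G] {V : Subgroup G} [hV : V.Normal] {x : G}
    (hc : V.IsComplement' (zpowers x)) (B : MulAut V) {k : ℕ} (hk : (orderOf x).Coprime k)
    (h : ∀ v : V, B (MulAut.conjNormal x v) = MulAut.conjNormal (x ^ k) (B v)) :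
    ∃ α : MulAut G, (∀ v : V, α v = B v) ∧ α x = x ^ k := by
  letI : CommGroup (zpowers x) := IsCyclic.commGroup
  obtain ⟨f, hf1, hf2⟩ := exists_hom_of_isComplement' hc (V.subtype.comp B.toMonoidHom)
    ((zpowers x).subtype.comp (powMonoidHom k)) (by
      rintro ⟨y, hy⟩
      obtain ⟨i, rfl⟩ := mem_powers_iff_mem_zpowers.mpr hy
      intro v
      show (B (MulAut.conjNormal (x ^ i) v) : G) = (x ^ i) ^ k * B v * ((x ^ i) ^ k)⁻¹
      clear hy
      induction i with
      | zero => simp
      | succ i ih =>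
        rw [pow_succ' x i, map_mul, MulAut.mul_apply, h, MulAut.conjNormal_apply, ih,
          (Commute.self_pow x i).mul_pow]
        group)
  have hx : f x = x ^ k := hf2 ⟨x, mem_zpowers x⟩
  have hs : Function.Surjective f := by
    rw [← MonoidHom.range_eq_top, eq_top_iff, ← hc.sup_eq_top]
    refine sup_le (fun v hv => ⟨B.symm ⟨v, hv⟩, by rw [hf1]; simp⟩) (zpowers_le.mpr ?_)
    obtain ⟨m, hm⟩ := exists_pow_eq_self_of_coprime hk.symm
    exact ⟨x ^ m, by rw [map_pow, hx, hm]⟩
  exact ⟨MulEquiv.ofBijective f hs.bijective_of_finite, hf1, hx⟩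

end Split

section Linear

variable {K V : Type*} [Field K] [AddCommGroup V] [Module K V]

theorem comp_aeval_eq_of_semiconj {g T S : Module.End K V} (h : g * T = S * g) (f : K[X]) :
    g * aeval T f = aeval S f * g := by
  induction f using Polynomial.induction_on with
  | C a => simp [Algebra.commutes]
  | add p q hp hq => simp [mul_add, add_mul, hp, hq]
  | monomial n a ih =>
    rw [pow_succ X, ← mul_assoc, map_mul, map_mul (aeval S), aeval_X, aeval_X,
      ← mul_assoc, ih, mul_assoc, h, ← mul_assoc]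

theorem aeval_eq_zero_or_injective_of_transitive [Finite V] {T : Module.End K V}
    (h : ∀ u v : V, u ≠ 0 → v ≠ 0 → ∃ (g : Module.End K V) (k : ℕ), Function.Injective g ∧
      g u = v ∧ g * T = T ^ k * g) (f : K[X]) :
    aeval T f = 0 ∨ Function.Injective (aeval T f) := by
  let W : V → Submodule K V := fun v =>
    LinearMap.range ((LinearMap.applyₗ v) ∘ₗ (aeval T).toLinearMap)
  have hW : ∀ v w, w ∈ W v ↔ ∃ f : K[X], aeval T f v = w := fun v w => Iff.rfl
  have hself : ∀ v, v ∈ W v := fun v => ⟨1, by simp⟩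
  have hle : ∀ v w, w ∈ W v → W w ≤ W v := by
    rintro v _ ⟨a, rfl⟩ _ ⟨b, rfl⟩
    exact ⟨b * a, by simp⟩
  have hcard : ∀ u v, u ≠ 0 → v ≠ 0 → Nat.card (W u) ≤ Nat.card (W v) := by
    intro u v hu hv
    obtain ⟨g, k, hg, rfl, hgT⟩ := h u v hu hv
    refine Nat.card_le_card_of_injective (fun w => ⟨g w, ?_⟩)
      fun a b hab => Subtype.ext (hg (congrArg Subtype.val hab))
    obtain ⟨_, a, rfl⟩ := w
    refine (hW _ _).mpr ⟨a.comp (X ^ k), ?_⟩
    rw [aeval_comp, map_pow, aeval_X, ← Module.End.mul_apply, ← comp_aeval_eq_of_semiconj hgT]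
    rfl
  have heq : ∀ v w, w ≠ 0 → w ∈ W v → W w = W v := fun v w hw h => by
    have hv : v ≠ 0 := by
      rintro rfl
      obtain ⟨a, rfl⟩ := (hW _ _).mp h
      simp at hw
    exact SetLike.coe_injective (Set.eq_of_subset_of_ncard_le (hle v w h) (hcard v w hv hw))
  by_contra hc
  push Not at hc
  obtain ⟨u, hu⟩ : ∃ u, aeval T f u ≠ 0 := by
    by_contra h0
    push Not at h0
    exact hc.1 (LinearMap.ext h0)
  obtain ⟨v, hv, hv0⟩ : ∃ v, aeval T f v = 0 ∧ v ≠ 0 := by
    simpa [injective_iff_map_eq_zero] using hc.2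
  have h1 := heq u _ hu ⟨f, rfl⟩
  have h2 := heq (u + v) _ hu ((hW _ _).mpr ⟨f, by rw [map_add, hv, add_zero]⟩)
  have h3 : v ∈ W u := by
    have := (W u).sub_mem (h1 ▸ h2 ▸ hself (u + v)) (hself u)
    simpa using this
  obtain ⟨a, ha⟩ := (hW _ _).mp (heq u v hv0 h3 ▸ hself u)
  apply hu
  rw [← ha, ← Module.End.mul_apply, ← map_mul, mul_comm, map_mul, Module.End.mul_apply, hv,
    map_zero]

theorem irreducible_minpoly_of_aeval [FiniteDimensional K V] [Nontrivial V] {T : Module.End K V}
    (hh : ∀ f : K[X], aeval T f = 0 ∨ Function.Injective (aeval T f)) :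
    Irreducible (minpoly K T) := by
  have hint : IsIntegral K T := Algebra.IsIntegral.isIntegral T
  have hne : minpoly K T ≠ 0 := minpoly.ne_zero hint
  refine ⟨minpoly.not_isUnit K T, fun a b hab => ?_⟩
  have h0 : aeval T a * aeval T b = 0 := by rw [← map_mul, ← hab, minpoly.aeval]
  rcases hh a with h | h
  · right
    obtain ⟨c, hc⟩ := minpoly.dvd K T h
    have : minpoly K T * (c * b) = minpoly K T * 1 := by rw [← mul_assoc, ← hc, ← hab, mul_one]
    exact IsUnit.of_mul_eq_one_right c (mul_left_cancel₀ hne this)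
  · left
    have hb : aeval T b = 0 := by
      ext v
      apply h
      rw [← Module.End.mul_apply, h0]; simp
    obtain ⟨c, hc⟩ := minpoly.dvd K T hb
    have : minpoly K T * (a * c) = minpoly K T * 1 := by
      rw [mul_left_comm, ← hc, ← hab, mul_one]
    exact IsUnit.of_mul_eq_one c (mul_left_cancel₀ hne this)

/-- The action of `K[X]/(f)` on `V` for an operator killed by `f`. -/
noncomputable def adjoinRootEnd {T : Module.End K V} {f : K[X]} (h : aeval T f = 0) :
    AdjoinRoot f →ₐ[K] Module.End K V :=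
  Ideal.Quotient.liftₐ (Ideal.span {f}) (aeval T) (by
    intro a ha
    obtain ⟨c, rfl⟩ := Ideal.mem_span_singleton.1 ha
    rw [map_mul, h, zero_mul])

theorem adjoinRootEnd_root {T : Module.End K V} {f : K[X]} (h : aeval T f = 0) :
    adjoinRootEnd h (AdjoinRoot.root f) = T := by
  have hφ : ∀ g : K[X], adjoinRootEnd h (AdjoinRoot.mk _ g) = aeval T g := fun g => rfl
  rw [← AdjoinRoot.mk_X, hφ, aeval_X]

theorem exists_pow_eq_pow_card_pow [Finite K] [Finite V] [Nontrivial V] {T : Module.End K V}
    (hirr : Irreducible (minpoly K T)) {g : Module.End K V} {r : ℕ} (hg : Function.Injective g)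
    (hconj : g * T = T ^ r * g) : ∃ j : ℕ, T ^ r = T ^ (Nat.card K ^ j) := by
  have := Fact.mk hirr
  let E := AdjoinRoot (minpoly K T)
  let φ : E →ₐ[K] Module.End K V := adjoinRootEnd (minpoly.aeval K T)
  let t : E := AdjoinRoot.root _
  have ht : φ t = T := adjoinRootEnd_root _
  have hφ : Function.Injective φ := φ.toRingHom.injective
  have : Finite (Module.End K V) := Finite.of_injective _ DFunLike.coe_injective
  have hE : Finite E := Finite.of_injective _ hφ
  have := Fintype.ofFinite K
  set σ := FiniteField.frobeniusAlgEquivOfAlgebraic K E with hσ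
  have hσm : ∀ (m : ℕ) (x : E), (σ ^ m) x = x ^ (Nat.card K ^ m) := by
    intro m x
    rw [AlgEquiv.coe_pow, hσ, FiniteField.coe_frobeniusAlgEquivOfAlgebraic_iterate,
      Nat.card_eq_fintype_card]
  have h2 : aeval (t ^ r) (minpoly K t) = 0 := by
    apply hφ
    have h3 : aeval T (minpoly K t) = 0 := by
      have := aeval_algHom_apply φ t (minpoly K t)
      rwa [ht, minpoly.aeval, map_zero] at this
    have h4 := comp_aeval_eq_of_semiconj hconj (minpoly K t)
    rw [h3, mul_zero] at h4
    rw [← aeval_algHom_apply, map_pow, ht, map_zero]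
    have hsurj : Function.Surjective g := Finite.injective_iff_surjective.1 hg
    ext w
    obtain ⟨w, rfl⟩ := hsurj w
    rw [← Module.End.mul_apply, ← h4]; rfl
  obtain ⟨τ, hτ⟩ := minpoly.exists_algEquiv_of_root' (Algebra.IsAlgebraic.isAlgebraic t) h2
  obtain ⟨j, hj⟩ := (FiniteField.bijective_frobeniusAlgEquivOfAlgebraic_pow K E).2 τ
  refine ⟨j, ?_⟩
  have h5 : φ (t ^ r) = φ (t ^ Nat.card K ^ (j : ℕ)) := by rw [← hσm, ← hτ, ← hj]
  rwa [map_pow, map_pow, ht] at h5

theorem exists_linearEquiv_apply_eq {u v : V} (hu : u ≠ 0) (hv : v ≠ 0) :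
    ∃ g : V ≃ₗ[K] V, g u = v := by
  obtain ⟨g, hg⟩ := Submodule.exists_linearEquiv_restrict_eq
    ((LinearEquiv.toSpanNonzeroSingleton K V u hu).symm ≪≫ₗ
      LinearEquiv.toSpanNonzeroSingleton K V v hv)
  refine ⟨g, ?_⟩
  have := hg (LinearEquiv.toSpanNonzeroSingleton K V u hu 1)
  rw [LinearEquiv.trans_apply, LinearEquiv.symm_apply_apply] at this
  simpa using this.symm

/-- If an irreducible polynomial kills `T`, the centralizer of `T` is transitive on nonzero
vectors. -/
theorem exists_addEquiv_apply_eq_of_irreducible {T : Module.End K V} {f : K[X]}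
    (hf : Irreducible f) (h : aeval T f = 0) {u v : V} (hu : u ≠ 0) (hv : v ≠ 0) :
    ∃ g : V ≃+ V, g u = v ∧ ∀ w, g (T w) = T (g w) := by
  have := Fact.mk hf
  letI : Module (AdjoinRoot f) V := Module.compHom V (adjoinRootEnd h).toRingHom
  have hs : ∀ w : V, AdjoinRoot.root f • w = T w := fun w =>
    congrArg (fun S : Module.End K V => S w) (adjoinRootEnd_root h)
  obtain ⟨g, hg⟩ := exists_linearEquiv_apply_eq (K := AdjoinRoot f) hu hv
  exact ⟨g.toAddEquiv, hg, fun w => by rw [← hs, ← hs]; exact g.map_smul _ _⟩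

/-- If an irreducible polynomial over a finite field of characteristic `p` kills `T`, then `T` is
additively conjugate to `T ^ p ^ j`. -/
theorem exists_addEquiv_semiconj_of_irreducible [Finite K] {p : ℕ} [Fact p.Prime] [CharP K p]
    {T : Module.End K V} {f : K[X]} (hf : Irreducible f) (h : aeval T f = 0) (j : ℕ) :
    ∃ g : V ≃+ V, ∀ w, g (T w) = (T ^ p ^ j) (g w) := by
  have := Fact.mk hf
  let E := AdjoinRoot f
  letI : Module E V := Module.compHom V (adjoinRootEnd h).toRingHom
  have hs : ∀ (n : ℕ) (w : V), (AdjoinRoot.root f ^ n : E) • w = (T ^ n) w := fun n w => by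
    rw [← adjoinRootEnd_root h, ← map_pow]; rfl
  have : Module.Finite K E := (AdjoinRoot.powerBasis hf.ne_zero).finite
  have : Finite E := Module.finite_of_finite K
  have : CharP E p := charP_of_injective_algebraMap (algebraMap K E).injective p
  let b := Module.Basis.ofVectorSpace E V
  let σ := iterateFrobeniusEquiv E p j
  refine ⟨(b.repr.toAddEquiv.trans (Finsupp.mapRange.addEquiv σ.toAddEquiv)).trans
    b.repr.toAddEquiv.symm, fun w => ?_⟩
  rw [← hs, ← pow_one T, ← hs, pow_one]
  apply b.repr.injective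
  ext i
  simp [σ, iterateFrobenius_def, mul_pow]

end Linear

end CfsgLib.H5
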