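import Cfsg.Agent.Lib.CoreFitting
import Cfsg.Agent.Lib.PComplement
import Cfsg.Agent.Lib.Gaschuetz
import Cfsg.Agent.Lib.CoprimeAction

/-! Tate's `p`-nilpotency criterion: `N ∩ P ≤ Φ(P)` implies that `N` is `p`-nilpotent. -/

set_option autoImplicit false

namespace CfsgLib

open Subgroup Cfsg PRes PCompl

variable {G : Type*} [Group G] {p : ℕ}

theorem exists_lift_of_sylow_lift [Finite G] [Fact p.Prime] (P : Sylow p G) {B C : Type*}
    [Group B] [Finite B] [Group C] (π : G →* C) (ρ : B →* C) (ψ : P →* B)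
    (h1 : ∀ x : P, ρ (ψ x) = π x) (h2 : ∀ g : G, ∃ b, ρ b = π g) (hab : IsMulCommutative ρ.ker)
    (hp : IsPGroup p ρ.ker) : ∃ φ : G →* B, ∀ g, ρ (φ g) = π g := by
  let Γ : Subgroup (G × B) := (π.comp (MonoidHom.fst G B)).eqLocus (ρ.comp (MonoidHom.snd G B))
  let f : Γ →* G := (MonoidHom.fst G B).comp Γ.subtype
  let s : Γ →* B := (MonoidHom.snd G B).comp Γ.subtype
  have hfs : ∀ x : Γ, ρ (s x) = π (f x) := fun x => x.2.symm
  have hext : ∀ x y : Γ, f x = f y → s x = s y → x = y := fun x y h3 h4 =>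
    Subtype.ext (Prod.ext h3 h4)
  have hf : Function.Surjective f := fun g => let ⟨b, hb⟩ := h2 g; ⟨⟨(g, b), hb.symm⟩, rfl⟩
  have hsk : ∀ x : f.ker, s x ∈ ρ.ker := fun x => by
    rw [MonoidHom.mem_ker, hfs, x.2, map_one]
  let j : f.ker →* ρ.ker := (s.comp f.ker.subtype).codRestrict _ hsk
  have hj : Function.Injective j := fun x y hxy =>
    Subtype.ext (hext _ _ (x.2.trans y.2.symm) (congrArg Subtype.val hxy))
  have : IsMulCommutative f.ker := ⟨⟨fun x y => hj (by
    rw [map_mul, map_mul]; exact hab.is_comm.comm _ _)⟩⟩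
  let δ : P →* Γ := (P.1.subtype.prod ψ).codRestrict Γ fun x => (h1 x).symm
  obtain ⟨L, hL⟩ := Gaschuetz.exists_isComplement'_of_coprime (A := f.ker)
    (H := P.1.comap f) (K := δ.range) (by
      rw [eq_bot_iff]
      rintro _ ⟨⟨x, rfl⟩, hx⟩
      have : x = 1 := Subtype.ext hx
      rw [this, map_one]; exact one_mem _) (by
      apply le_antisymm
      · refine sup_le ?_ (ker_le_comap f _)
        rintro _ ⟨x, rfl⟩
        exact x.2
      · intro x hx
        have h3 : x = δ ⟨f x, hx⟩ * ((δ ⟨f x, hx⟩)⁻¹ * x) := by group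
        rw [h3]
        refine mul_mem (mem_sup_left ⟨_, rfl⟩) (mem_sup_right ?_)
        rw [MonoidHom.mem_ker, map_mul, map_inv]
        exact inv_mul_cancel _) (by
      rw [index_comap_of_surjective _ hf]
      obtain ⟨n, hn⟩ := IsPGroup.iff_card.mp (hp.of_injective j hj)
      rw [hn]
      exact Nat.Coprime.pow_right n
        ((Nat.Prime.coprime_iff_not_dvd Fact.out).mpr P.not_dvd_index).symm)
  have hbij : Function.Bijective (f.comp L.subtype) := by
    constructor
    · rw [injective_iff_map_eq_one]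
      intro x hx
      exact Subtype.ext (mem_bot.mp (hL.disjoint.eq_bot.le ⟨x.2, hx⟩))
    · intro g
      obtain ⟨x, rfl⟩ := hf g
      obtain ⟨⟨l, a⟩, rfl⟩ := hL.2 x
      refine ⟨l, ?_⟩
      show f l = f (l * a)
      rw [map_mul, a.2, mul_one]
  let e := MulEquiv.ofBijective _ hbij
  refine ⟨(s.comp L.subtype).comp e.symm.toMonoidHom, fun g => ?_⟩
  show ρ (s (e.symm g)) = π g
  rw [hfs]
  exact congrArg π (e.apply_symm_apply g)

/-- **Tate's theorem** (`p`-nilpotency form). -/
theorem hnpc_of_pResidual_nongenerating [Finite G] [Fact p.Prime] (P : Sylow p G)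
    (h : ∀ L : Subgroup G, L ≤ P → (P : Subgroup G) ≤ L ⊔ (pResidual p G ⊓ P) → L = P) :
    HasNormalPComplement p G := by
  have := pResidual_normal (G := G) (p := p)
  set K := pResidual p G with hK
  set Q := K.subgroupOf P
  set R := ⁅Q, Q⁆
  have hRQ : R ≤ Q := commutator_le_left _ _
  let ρ : P ⧸ R →* G ⧸ K := QuotientGroup.lift R ((QuotientGroup.mk' K).comp P.1.subtype)
    fun x hx => (QuotientGroup.eq_one_iff (x : G)).mpr (hRQ hx)
  have hPR : IsPGroup p (P ⧸ R) := P.isPGroup'.to_quotient R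
  obtain ⟨φ, hφ⟩ := exists_lift_of_sylow_lift P (QuotientGroup.mk' K) ρ (QuotientGroup.mk' R)
    (fun x => rfl) (fun g => by
      have h1 : g ∈ K ⊔ P := by rw [hK, pResidual_sup_sylow]; exact mem_top g
      rw [← SetLike.mem_coe, normal_mul] at h1
      obtain ⟨k, hk, x, hx, rfl⟩ := h1
      refine ⟨QuotientGroup.mk' R ⟨x, hx⟩, ?_⟩
      show QuotientGroup.mk' K x = QuotientGroup.mk' K (k * x)
      rw [map_mul, show QuotientGroup.mk' K k = 1 from (QuotientGroup.eq_one_iff k).mpr hk,
        one_mul]) ⟨⟨by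
      rintro ⟨x, hx⟩ ⟨y, hy⟩
      obtain ⟨x, rfl⟩ := QuotientGroup.mk'_surjective R x
      obtain ⟨y, rfl⟩ := QuotientGroup.mk'_surjective R y
      apply Subtype.ext
      show QuotientGroup.mk' R x * QuotientGroup.mk' R y =
        QuotientGroup.mk' R y * QuotientGroup.mk' R x
      rw [← commutatorElement_eq_one_iff_mul_comm, ← map_commutatorElement]
      exact (QuotientGroup.eq_one_iff _).mpr (commutator_mem_commutator
        ((QuotientGroup.eq_one_iff (x : G)).mp hx) ((QuotientGroup.eq_one_iff (y : G)).mp hy))⟩⟩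
    (hPR.to_subgroup _)
  have hker : K ≤ φ.ker := pResidual_le_ker hPR φ
  have h2 := h (((P.1.map φ).comap (QuotientGroup.mk' R)).map P.1.subtype) (map_subtype_le _) (by
    intro x hx
    obtain ⟨y, hy⟩ := QuotientGroup.mk'_surjective R (φ x)
    have h3 : (y : G)⁻¹ * x ∈ K := by
      rw [← QuotientGroup.eq]
      exact (congrArg ρ hy).trans (hφ x)
    rw [show x = y * ((y : G)⁻¹ * x) by group]
    exact mul_mem (mem_sup_left ⟨y, ⟨x, hx, hy.symm⟩, rfl⟩)
      (mem_sup_right ⟨h3, P.1.mul_mem (P.1.inv_mem y.2) hx⟩))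
  have h4 : Q ≤ R := by
    intro q hq
    obtain ⟨q', ⟨x, -, hx⟩, hq'⟩ := h2.ge q.2
    obtain rfl : q' = q := Subtype.ext hq'
    have h5 : x ∈ K := by
      rw [← QuotientGroup.eq_one_iff]
      exact ((hφ x).symm.trans (congrArg ρ hx)).trans ((QuotientGroup.eq_one_iff _).mpr hq)
    exact (QuotientGroup.eq_one_iff _).mp (hx.symm.trans (hker h5))
  have h6 : Q = ⊥ := eq_bot_of_le_commutator_of_isNilpotent
    (P.isPGroup'.to_subgroup Q).isNilpotent le_rfl h4
  rw [hnpc_iff_pResidual_inf_sylow P, ← disjoint_iff, ← subgroupOf_eq_bot]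
  exact h6

/-- **Tate's theorem**: a subgroup `M` normalized by the Sylow subgroup `P` with
`M ∩ P ≤ Φ(P)` has a normal `p`-complement. -/
theorem hnpc_of_inf_le_frattini [Finite G] [Fact p.Prime] (P : Sylow p G) {M : Subgroup G}
    (hM : (P : Subgroup G) ≤ normalizer (M : Set G))
    (h : M ⊓ P ≤ (frattini P).map (P : Subgroup G).subtype) : HasNormalPComplement p M := by
  set H := M ⊔ P with hH
  have hn : (M.subgroupOf H).Normal := normal_subgroupOf_of_le_normalizer (sup_le le_normalizer hM)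
  have hres : pResidual p H ≤ M.subgroupOf H := by
    apply pResidual_le_of_isPGroup_quotient
    have : Function.Surjective ((QuotientGroup.mk' (M.subgroupOf H)).comp
        (inclusion (le_sup_right : (P : Subgroup G) ≤ H))) := by
      intro x
      obtain ⟨⟨x, hx⟩, rfl⟩ := QuotientGroup.mk'_surjective _ x
      obtain ⟨a, ha, b, hb, rfl⟩ := (mem_sup_iff_of_le_normalizer hM).mp ((sup_comm M P).le hx)
      refine ⟨⟨a, ha⟩, QuotientGroup.eq.mpr ?_⟩
      show a⁻¹ * (a * b) ∈ M
      rwa [inv_mul_cancel_left]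
    exact P.isPGroup'.of_surjective _ this
  refine hnpc_of_le (K := H) (hnpc_of_pResidual_nongenerating (P.subtype le_sup_right) ?_)
    le_sup_left
  intro L h1 h2
  have h3 : L.map H.subtype = P := Cop.eq_of_sup_frattini_eq
    (map_le_iff_le_comap.mpr h1) (by
      have := map_mono (f := H.subtype) h2
      rw [Sylow.coe_subtype, subgroupOf_map_subtype, inf_eq_left.mpr le_sup_right,
        Subgroup.map_sup] at this
      refine this.trans (sup_le_sup_left (le_trans ?_ h) _)
      rintro _ ⟨x, hx, rfl⟩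
      exact ⟨hres hx.1, hx.2⟩)
  rw [Sylow.coe_subtype, ← h3, subgroupOf, comap_map_eq_self_of_injective H.subtype_injective]

end CfsgLib
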