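import Cfsg.Agent.S4354
import Cfsg.Agent.Lib.FrobFPF

/-! The Camina–Herzog theorem: if every 2-element has odd class size, Sylow 2-subgroups are abelian. -/

set_option autoImplicit false

namespace CfsgLib.CaminaHerzog

open Subgroup CfsgLib

/-- Trace argument. -/
theorem exists_fixed_pow {K U : Type*} [Group K] [Finite K] [CommGroup U] [Finite U]
    (φ : K →* MulAut U) (S : Subgroup K) (hS : ¬ 2 ∣ S.index) (z : U) (hz : ∀ s ∈ S, φ s z = z)
    (n : ℕ) (hn : ∀ k, φ k (z ^ n) = z ^ n) (h2 : (z ^ n) ^ 2 = 1) :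
    ∃ u : U, (∀ k, φ k u = u) ∧ u ^ n = z ^ n := by
  classical
  have := Fintype.ofFinite (K ⧸ S)
  let g : K ⧸ S → U := Quotient.lift (fun k => φ k z) fun a b h => by
    have h' : a⁻¹ * b ∈ S := QuotientGroup.leftRel_apply.mp h
    have := hz _ h'
    rw [map_mul, map_inv, MulAut.mul_apply, MulAut.inv_apply, MulEquiv.symm_apply_eq] at this
    exact this.symm
  have hg : ∀ k q, φ k (g q) = g (k • q) := by
    intro k q
    induction q using QuotientGroup.induction_on with
    | H a => change φ k (φ a z) = φ (k * a) z; rw [map_mul, MulAut.mul_apply]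
  refine ⟨∏ q, g q, fun k => ?_, ?_⟩
  · rw [map_prod]
    simp_rw [hg]
    exact Equiv.prod_comp (MulAction.toPerm k) g
  · rw [← Finset.prod_pow, Finset.prod_congr rfl (g := fun _ => z ^ n), Finset.prod_const,
      Finset.card_univ, ← Nat.card_eq_fintype_card]
    · obtain ⟨m, hm⟩ : Odd (Nat.card (K ⧸ S)) :=
        Nat.odd_iff.mpr (by have : Nat.card (K ⧸ S) = S.index := rfl; omega)
      rw [hm, pow_succ, pow_mul, h2, one_pow, one_mul]
    · intro q _
      induction q using QuotientGroup.induction_on with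
      | H a => change φ a z ^ n = _; rw [← map_pow, hn]

variable {G : Type*} [Group G]

theorem conj_mem_centralizer {D : Subgroup G} {g c : G} (hg : g ∈ normalizer (D : Set G))
    (hc : c ∈ centralizer (D : Set G)) : g * c * g⁻¹ ∈ centralizer (D : Set G) := by
  intro d hd
  have := hc _ (conj_mem_of_mem_normalizer' hg hd)
  calc d * (g * c * g⁻¹) = g * ((g⁻¹ * d * g) * c) * g⁻¹ := by group
    _ = g * (c * (g⁻¹ * d * g)) * g⁻¹ := by rw [this]
    _ = _ := by group

theorem normalizer_le_normalizer_centralizer [Finite G] (D : Subgroup G) :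
    normalizer (D : Set G) ≤ normalizer (centralizer (D : Set G) : Set G) := fun _ hg =>
  mem_normalizer_of_conj_mem fun _ hc => conj_mem_centralizer hg hc

/-- `℧^e(Z(P))`. -/
def W (P : Subgroup G) (n : ℕ) : Subgroup G where
  carrier := {w | ∃ z ∈ P, z ∈ centralizer (P : Set G) ∧ z ^ n = w}
  one_mem' := ⟨1, one_mem _, one_mem _, one_pow _⟩
  mul_mem' := by
    rintro _ _ ⟨a, ha, ha', rfl⟩ ⟨b, hb, hb', rfl⟩
    exact ⟨a * b, mul_mem ha hb, mul_mem ha' hb', Commute.mul_pow (hb' a ha) n⟩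
  inv_mem' := by
    rintro _ ⟨a, ha, ha', rfl⟩
    exact ⟨a⁻¹, inv_mem ha, inv_mem ha', inv_pow _ _⟩

theorem W_le (P : Subgroup G) (n : ℕ) : W P n ≤ P := by
  rintro _ ⟨a, ha, -, rfl⟩; exact pow_mem ha n

theorem W_le_centralizer (P : Subgroup G) (n : ℕ) : W P n ≤ centralizer (P : Set G) := by
  rintro _ ⟨a, -, ha, rfl⟩; exact pow_mem ha n

theorem normalizer_le_normalizer_W [Finite G] (P : Subgroup G) (n : ℕ) :
    normalizer (P : Set G) ≤ normalizer (W P n : Set G) := fun g hg =>
  mem_normalizer_of_conj_mem <| by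
    rintro _ ⟨a, ha, ha', rfl⟩
    exact ⟨g * a * g⁻¹, conj_mem_of_mem_normalizer hg ha, conj_mem_centralizer hg ha', conj_pow⟩

open scoped IsMulCommutative in
/-- The local step. -/
theorem local_step [Finite G] {P D : Subgroup G} {e : ℕ} (hP : ∀ x ∈ P, x ^ 2 ^ (e + 1) = 1)
    (hDP : D ≤ P) (hWD : W P (2 ^ e) ≤ D)
    (hT : IsSylowIn 2 (P ⊓ normalizer (D : Set G)) (normalizer (D : Set G)))
    (hN : normalizer ((P ⊓ normalizer (D : Set G) : Subgroup G) : Set G) ≤
      normalizer (W P (2 ^ e) : Set G)) :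
    normalizer (D : Set G) ≤ normalizer (W P (2 ^ e) : Set G) := by
  have := Fact.mk Nat.prime_two
  set L := normalizer (D : Set G) with hL
  set T := P ⊓ L with hTdef
  set C := T ⊓ centralizer (D : Set G) with hC
  have hCS : IsSylowIn 2 C (centralizer (D : Set G)) :=
    hT.inf_of_le_normalizer (centralizer_le_normalizer _)
      (inf_le_right.trans (normalizer_le_normalizer_centralizer D))
  set L1 := L ⊓ normalizer (C : Set G) with hL1
  have hTL1 : T ≤ L1 := le_inf inf_le_right fun t ht => mem_normalizer_of_conj_mem fun c hc =>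
    ⟨T.mul_mem (T.mul_mem ht hc.1) (T.inv_mem ht), conj_mem_centralizer ht.2 hc.2⟩
  let S : Set G := {s | ∃ l ∈ L1, ∃ w ∈ W P (2 ^ e), l * w * l⁻¹ = s}
  set K := L1 ⊓ centralizer S with hK
  have hKn : L1 ≤ normalizer (K : Set G) := fun l hl => mem_normalizer_of_conj_mem fun k hk => by
    refine ⟨L1.mul_mem (L1.mul_mem hl hk.1) (L1.inv_mem hl), ?_⟩
    rintro _ ⟨m, hm, w, hw, rfl⟩
    have := hk.2 _ ⟨l⁻¹ * m, L1.mul_mem (L1.inv_mem hl) hm, w, hw, rfl⟩
    calc m * w * m⁻¹ * (l * k * l⁻¹) = l * ((l⁻¹ * m * w * (l⁻¹ * m)⁻¹) * k) * l⁻¹ := by group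
      _ = l * (k * (l⁻¹ * m * w * (l⁻¹ * m)⁻¹)) * l⁻¹ := by rw [this]
      _ = _ := by group
  have hKW : K ≤ normalizer (W P (2 ^ e) : Set G) := fun k hk =>
    centralizer_le_normalizer _ fun w hw => hk.2 w ⟨1, one_mem _, w, hw, by simp⟩
  set U := C ⊓ centralizer (C : Set G) with hU
  have hUn : L1 ≤ normalizer (U : Set G) := fun l hl => mem_normalizer_of_conj_mem fun u hu =>
    ⟨conj_mem_of_mem_normalizer hl.2 hu.1, conj_mem_centralizer hl.2 hu.2⟩
  have hUP : U ≤ P := inf_le_left.trans (inf_le_left.trans inf_le_left)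
  have hUc : IsMulCommutative U := ⟨⟨fun a b => Subtype.ext (b.2.2 a a.2.1)⟩⟩
  have hTK : IsSylowIn 2 (T ⊓ K) K :=
    (hT.mono hTL1 inf_le_left).inf_of_le_normalizer inf_le_left (hTL1.trans hKn)
  -- every element of `S` is a power of an element of `U` centralized by `K`
  have hS : ∀ s ∈ S, ∃ u ∈ U, u ∈ centralizer (K : Set G) ∧ u ^ 2 ^ e = s := by
    rintro _ ⟨l, hl, _, ⟨z, hz, hz', rfl⟩, rfl⟩
    have hzD : z ∈ centralizer (D : Set G) := centralizer_le hDP hz'
    have hzU : z ∈ U := ⟨⟨⟨hz, centralizer_le_normalizer _ hzD⟩, hzD⟩,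
      centralizer_le (show (C : Set G) ⊆ P from fun x hx => hx.1.1) hz'⟩
    obtain ⟨u, hu, hu'⟩ := exists_fixed_pow (Frob.conjOn ((inf_le_left : K ≤ L1).trans hUn))
      ((T ⊓ K).subgroupOf K) hTK.not_dvd ⟨z, hzU⟩
      (fun s hs => Subtype.ext (by
        rw [Frob.coe_conjOn_apply, mul_inv_eq_iff_eq_mul]
        exact hz' _ hs.1.1)) (2 ^ e)
      (fun k => Subtype.ext (by
        rw [Frob.coe_conjOn_apply, mul_inv_eq_iff_eq_mul]
        exact (k.2.2 _ ⟨1, one_mem _, _, ⟨z, hz, hz', rfl⟩, by simp⟩).symm))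
      (Subtype.ext (by simpa [← pow_mul, ← pow_succ] using hP z hz))
    refine ⟨l * u * l⁻¹, conj_mem_of_mem_normalizer (hUn hl) u.2,
      conj_mem_centralizer (hKn hl) fun k hk => ?_, ?_⟩
    · have := congrArg Subtype.val (hu ⟨k, hk⟩)
      rwa [Frob.coe_conjOn_apply, mul_inv_eq_iff_eq_mul] at this
    · rw [conj_pow, ← show ((u ^ 2 ^ e : U) : G) = (u : G) ^ 2 ^ e from rfl, hu']; rfl
  have hsq : ∀ t ∈ T, t ^ 2 ∈ K → t ∈ K := by
    intro t ht h2
    refine ⟨hTL1 ht, fun s hs => ?_⟩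
    obtain ⟨u, hu, huK, rfl⟩ := hS s hs
    have hu' : t⁻¹ * u * t ∈ U := conj_mem_of_mem_normalizer' (hUn (hTL1 ht)) hu
    have h3 : Commute (t ^ 2) u := huK _ h2
    have h4 : Commute (t ^ 2) (t⁻¹ * u * t) :=
      (((Commute.refl t).pow_left 2).inv_right.mul_right h3).mul_right ((Commute.refl t).pow_left 2)
    have h5 : Commute (t⁻¹ * u * t) u := hu.2 _ hu'.1
    have h6 := hP (t * u) (P.mul_mem ht.1 (hUP hu))
    rw [pow_succ', pow_mul, show (t * u) ^ 2 = t ^ 2 * ((t⁻¹ * u * t) * u) by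
      simp only [pow_two]; group, (h4.mul_right h3).mul_pow, ← pow_mul, ← pow_succ', hP t ht.1,
      one_mul, h5.mul_pow] at h6
    have h7 := hP u (hUP hu)
    rw [pow_succ, pow_mul, pow_two] at h7
    have h8 := mul_right_cancel (h6.trans h7.symm)
    rw [show t⁻¹ * u * t = t⁻¹ * u * t⁻¹⁻¹ by rw [inv_inv], conj_pow, inv_inv, mul_assoc,
      inv_mul_eq_iff_eq_mul] at h8
    exact h8
  have hTK' : T ≤ K := by
    have key : ∀ n : ℕ, ∀ t ∈ T, t ^ 2 ^ n ∈ K → t ∈ K := by
      intro n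
      induction n with
      | zero => intro t _ h; simpa using h
      | succ n ih =>
        intro t ht h
        exact ih t ht (hsq _ (T.pow_mem ht _) (by rwa [← pow_mul, ← pow_succ]))
    exact fun t ht => key (e + 1) t ht (by rw [hP t ht.1]; exact one_mem _)
  intro g hg
  obtain ⟨c, hc, hcg⟩ := hCS.frattini_elem (normalizer_le_normalizer_centralizer D hg)
  have h1 : c * g ∈ L1 := ⟨L.mul_mem (centralizer_le_normalizer _ hc) hg, hcg⟩
  obtain ⟨k, hk, hkg⟩ := (hT.mono hTK' (inf_le_left.trans inf_le_left)).frattini_elem (hKn h1)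
  have h2 := (Subgroup.mul_mem_cancel_left _ (hKW hk)).mp (hN hkg)
  exact (Subgroup.mul_mem_cancel_left _
    (centralizer_le_normalizer _ (centralizer_le hWD hc))).mp h2

theorem weakly_closed_aux [Finite G] (P : Sylow 2 G) {e : ℕ}
    (hP : ∀ x ∈ (P : Subgroup G), x ^ 2 ^ (e + 1) = 1) (n : ℕ) : ∀ D : Subgroup G,
    Nat.card G - Nat.card D = n → D ≤ P → W (P : Subgroup G) (2 ^ e) ≤ D →
      ∀ g : G, D.map (MulAut.conj g).toMonoidHom ≤ P →
      g ∈ normalizer (W (P : Subgroup G) (2 ^ e) : Set G) := by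
  have := Fact.mk Nat.prime_two
  induction n using Nat.strong_induction_on with
  | _ n ih =>
  intro D hn hDP hWD g hg
  rcases hDP.eq_or_lt with rfl | hlt
  · exact normalizer_le_normalizer_W _ _ (mem_normalizer_of_map_conj_eq
      (eq_of_le_of_card_ge hg (by rw [card_map_conj])))
  set Wp := W (P : Subgroup G) (2 ^ e) with hWp
  -- the induction hypothesis for normalizers of conjugates of `D`
  have ih' : ∀ x : G, D.map (MulAut.conj x).toMonoidHom ≤ P → ∀ y : G,
      ((P : Subgroup G) ⊓ normalizer ((D.map (MulAut.conj x).toMonoidHom : Subgroup G) : Set G)).map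
        (MulAut.conj y).toMonoidHom ≤ P → y ∈ normalizer (Wp : Set G) := by
    intro x hx y hy
    have h1 : D.map (MulAut.conj x).toMonoidHom < P := lt_of_le_of_ne hx fun h => by
      have := card_lt_card_of_lt hlt
      rw [← h, card_map_conj] at this
      exact lt_irrefl _ this
    have h2 := card_lt_card_of_lt (lt_inf_normalizer_of_isPGroup P.isPGroup' h1)
    rw [card_map_conj] at h2
    have h3 := card_le_card_group ((P : Subgroup G) ⊓
      normalizer ((D.map (MulAut.conj x).toMonoidHom : Subgroup G) : Set G))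
    exact ih _ (by omega) _ rfl inf_le_left (le_inf (W_le _ _) ((W_le_centralizer _ _).trans
      ((centralizer_le hx).trans (centralizer_le_normalizer _)))) y hy
  obtain ⟨S, hS1, hS⟩ := IsSylowIn.exists_ge (p := 2) (Q := (P : Subgroup G) ⊓ normalizer (D : Set G))
    P.isPGroup'.to_inf_left inf_le_right
  obtain ⟨h, -, hh⟩ := (IsSylowIn.sylow_top P).exists_conj_le hS.isPGroup le_top
  have hhW : h ∈ normalizer (Wp : Set G) :=
    ih' 1 (by rwa [map_conj_one]) h (by rw [map_conj_one]; exact (map_mono hS1).trans hh)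
  obtain ⟨y, hy, hyS⟩ := hS.exists_conj_le (Q := ((P : Subgroup G) ⊓
      normalizer ((D.map (MulAut.conj g).toMonoidHom : Subgroup G) : Set G)).map
        (MulAut.conj g⁻¹).toMonoidHom) (P.isPGroup'.to_inf_left.map _) (by
    refine (map_mono inf_le_right).trans ?_
    rw [normalizer_map_conj, map_conj_inv_map_conj])
  have h1 : h * y * g⁻¹ ∈ normalizer (Wp : Set G) := ih' g hg _ (by
    rw [map_conj_mul, map_conj_mul, ← map_conj_mul y g⁻¹, map_conj_mul y]
    exact (map_mono hyS).trans hh)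
  have hD' : D.map (MulAut.conj h).toMonoidHom ≤ P :=
    (map_mono ((le_inf hDP le_normalizer).trans hS1)).trans hh
  have hT : IsSylowIn 2 ((P : Subgroup G) ⊓
      normalizer ((D.map (MulAut.conj h).toMonoidHom : Subgroup G) : Set G))
      (normalizer ((D.map (MulAut.conj h).toMonoidHom : Subgroup G) : Set G)) := by
    have h2 := hS.map_conj h
    rw [← normalizer_map_conj] at h2
    rwa [h2.eq_of_le P.isPGroup'.to_inf_left (le_inf hh h2.le) inf_le_right]
  have h2 : h * y * h⁻¹ ∈ normalizer (Wp : Set G) :=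
    local_step hP hD' (by rw [← hWp, ← map_conj_eq_of_mem_normalizer hhW]; exact map_mono hWD) hT
      (fun x hx => ih' h hD' x (by rw [map_conj_eq_of_mem_normalizer hx]; exact inf_le_left))
      (by rw [normalizer_map_conj]; exact conj_mem_map_conj hy)
  have h3 := Subgroup.mul_mem _ (Subgroup.mul_mem _ (Subgroup.inv_mem _ h1) h2) hhW
  rwa [show (h * y * g⁻¹)⁻¹ * (h * y * h⁻¹) * h = g by group] at h3

theorem weakly_closed [Finite G] (P : Sylow 2 G) {e : ℕ}
    (hP : ∀ x ∈ (P : Subgroup G), x ^ 2 ^ (e + 1) = 1) {g : G}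
    (hg : (W (P : Subgroup G) (2 ^ e)).map (MulAut.conj g).toMonoidHom ≤ P) :
    g ∈ normalizer (W (P : Subgroup G) (2 ^ e) : Set G) :=
  weakly_closed_aux P hP _ _ rfl (W_le _ _) le_rfl g hg

theorem camina_herzog.{u} (G : Type u) [Group G] [Finite G] :
    (∀ x : G, (∃ k : ℕ, orderOf x = 2 ^ k) → ¬ 2 ∣ (centralizer ({x} : Set G)).index) →
    ∀ P : Sylow 2 G, IsMulCommutative P := by
  have := Fact.mk Nat.prime_two
  revert G
  refine card_induction fun G _ _ ih h P => ?_
  -- exponent of `P`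
  have hex : ∃ e : ℕ, ∀ x ∈ (P : Subgroup G), x ^ 2 ^ e = 1 := by
    obtain ⟨k, hk⟩ := P.isPGroup'.exists_card_eq
    exact ⟨k, fun x hx => by
      have := pow_card_eq_one' (x := (⟨x, hx⟩ : (P : Subgroup G)))
      rw [hk] at this
      exact congrArg Subtype.val this⟩
  classical
  have he := Nat.find_spec hex
  rcases hn : Nat.find hex with _ | e
  · rw [hn] at he
    exact PGrp.isMulCommutative_iff_forall.2 fun a ha b hb => by
      have h1 := he a ha
      rw [pow_zero, pow_one] at h1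
      rw [h1, one_mul, mul_one]
  rw [hn] at he
  have hmin := Nat.find_min hex (show e < Nat.find hex by omega)
  push Not at hmin
  obtain ⟨x, hx, hxe⟩ := hmin
  set Wp := W (P : Subgroup G) (2 ^ e) with hWp
  have hWne : Wp ≠ ⊥ := by
    obtain ⟨Q, hQ⟩ := H5.exists_sylow_le_of_not_dvd_index
      (h x (orderOf_eq_pow_of_mem_isPGroup P.isPGroup' hx))
    obtain ⟨g, -, hg⟩ := (IsSylowIn.sylow_top P).exists_conj_eq (IsSylowIn.sylow_top Q)
    have hxQ : x ∈ (Q : Subgroup G) := by
      have hle : zpowers x ≤ normalizer ((Q : Subgroup G) : Set G) :=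
        zpowers_le.2 (centralizer_le_normalizer _
          fun a ha => mem_centralizer_singleton_iff.1 (hQ ha))
      have := Q.is_maximal' (IsPGroup.to_sup_of_normal_left' Q.isPGroup'
        (P.isPGroup'.to_le (zpowers_le.2 hx)) hle) le_sup_left
      rw [← this]
      exact mem_sup_right (mem_zpowers _)
    have : (g * x * g⁻¹) ^ 2 ^ e ∈ Wp := by
      refine ⟨_, hg ▸ conj_mem_map_conj hxQ, ?_, rfl⟩
      rw [← hg, centralizer_map_conj]
      exact conj_mem_map_conj fun a ha => mem_centralizer_singleton_iff.1 (hQ ha)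
    intro hb
    rw [hb, mem_bot, conj_pow, mul_inv_eq_one, mul_eq_left] at this
    exact hxe this
  set M := centralizer (Wp : Set G) with hM
  have hPM : (P : Subgroup G) ≤ M := le_centralizer_iff.mp (W_le_centralizer _ _)
  have hWM : Wp ≤ M := (W_le _ _).trans hPM
  have hMH : ∀ x : M, (∃ k : ℕ, orderOf x = 2 ^ k) → ¬ 2 ∣ (centralizer ({x} : Set M)).index := by
    intro x hx hd
    have h1 := h x (by simpa using hx)
    have hWx : Wp ≤ centralizer ({(x : G)} : Set G) := fun w hw =>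
      mem_centralizer_singleton_iff.2 (x.2 w hw)
    obtain ⟨Q, hQ⟩ := H5.exists_sylow_le_of_not_dvd_index h1
    obtain ⟨c, hc, hcW⟩ := (IsSylowIn.of_sylow Q hQ).exists_conj_le
      (P.isPGroup'.to_le (W_le _ _)) hWx
    obtain ⟨g, -, hg⟩ := (IsSylowIn.sylow_top P).exists_conj_eq (IsSylowIn.sylow_top Q)
    have h2 : g * c ∈ normalizer (Wp : Set G) := weakly_closed P he (by
      rw [map_conj_mul]; exact (map_mono hcW).trans hg.le)
    have h3 : (Q : Subgroup G).map (MulAut.conj c⁻¹).toMonoidHom ≤ M := by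
      rw [← map_conj_inv_map_conj g (Q : Subgroup G), hg, ← map_conj_mul, ← mul_inv_rev, hM,
        ← map_conj_eq_of_mem_normalizer (inv_mem h2), centralizer_map_conj]
      exact map_mono hPM
    have h4 : (Q : Subgroup G).map (MulAut.conj c⁻¹).toMonoidHom ≤
        centralizer ({(x : G)} : Set G) := by
      rw [← map_conj_eq_of_mem_normalizer (le_normalizer (inv_mem hc))]
      exact map_mono hQ
    refine (IsSylowIn.of_sylow (c⁻¹ • Q) h3).not_dvd (hd.trans (index_dvd_of_le fun y hy => ?_))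
    rw [mem_centralizer_singleton_iff]
    exact Subtype.ext (mem_centralizer_singleton_iff.1 (h4 hy))
  have hN : (Wp.subgroupOf M).Normal :=
    normal_subgroupOf_of_le_normalizer (centralizer_le_normalizer _)
  have hlt : Nat.card (M ⧸ Wp.subgroupOf M) < Nat.card G :=
    (card_quotient_lt fun hb => hWne (by
      rw [subgroupOf_eq_bot, disjoint_iff, inf_eq_left.mpr hWM] at hb; exact hb)).trans_le
      (card_le_card_group M)
  have hq := ih _ hlt (fun x hx hd => by
    obtain ⟨y, rfl⟩ := QuotientGroup.mk'_surjective _ x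
    obtain ⟨u, -, hu, huo⟩ := exists_lift_isPiNum (QuotientGroup.mk' (Wp.subgroupOf M)) (π := {2}) y
      ((isPiNum_singleton_iff Nat.prime_two (orderOf_pos _).ne').2 hx)
    rw [← hu] at hd
    exact hMH u ((isPiNum_singleton_iff Nat.prime_two (orderOf_pos _).ne').1 huo)
      (hd.trans (Frob.index_centralizer_mk_dvd _ u)))
    ((P.subtype hPM).mapSurjective (QuotientGroup.mk'_surjective _))
  have := Cfsg.Agent.S4354.comm_of 2 hMH (Wp.subgroupOf M) (P.subtype hPM)
    (fun a _ b _ ha _ => Subtype.ext (b.2 a ha))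
    (fun a ha b hb => PGrp.isMulCommutative_iff_forall.1 hq a ⟨a, ha, rfl⟩ b ⟨b, hb, rfl⟩)
  exact PGrp.isMulCommutative_iff_forall.2 fun a ha b hb => congrArg Subtype.val
    (PGrp.isMulCommutative_iff_forall.1 this ⟨a, hPM ha⟩ ha ⟨b, hPM hb⟩ hb)

end CfsgLib.CaminaHerzog
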