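import Cfsg.Agent.Lib.CoreBasic
import Cfsg.Agent.Lib.PGroupBasic

/-! Groups with an abelian normal subgroup of prime index. -/

set_option autoImplicit false

namespace CfsgLib

open Subgroup
open scoped commutatorElement

variable {G : Type*} [Group G]

theorem sup_eq_top_of_index_prime [Finite G] {p : ℕ} (hp : p.Prime) {A B : Subgroup G}
    (hA : A.index = p) (h : ¬ B ≤ A) : A ⊔ B = ⊤ := by
  have h1 : A < A ⊔ B := left_lt_sup.mpr h
  have h2 := index_strictAnti h1
  rcases (Nat.dvd_prime hp).mp (hA ▸ index_dvd_of_le h1.le) with h3 | h3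
  · exact index_eq_one.mp h3
  · omega

theorem center_le_of_abelian_index_prime [Finite G] {p : ℕ} (hp : p.Prime)
    (hna : ¬ IsMulCommutative G) {A : Subgroup G} (hA : IsMulCommutative A) (hi : A.index = p) :
    center G ≤ A := by
  by_contra h
  have h1 := PGrp.isMulCommutative_sup hA (inferInstance : IsMulCommutative (center G))
    (center_le_centralizer _)
  rw [sup_eq_top_of_index_prime hp hi h] at h1
  exact hna ⟨⟨fun a b => congrArg Subtype.val (h1.is_comm.comm ⟨a, mem_top a⟩ ⟨b, mem_top b⟩)⟩⟩

theorem index_center_of_abelian_index_prime [Finite G] {p : ℕ} (hp : p.Prime)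
    (hna : ¬ IsMulCommutative G) {A : Subgroup G} [hn : A.Normal] (hA : IsMulCommutative A)
    (hi : A.index = p) : (center G).index = p * Nat.card (_root_.commutator G) := by
  obtain ⟨x, -, hx⟩ := SetLike.exists_of_lt (lt_top_iff_ne_top.mpr fun h : A = ⊤ =>
    hp.ne_one (by rw [← hi, h, index_top]))
  have hc : ∀ a ∈ A, ∀ b ∈ A, a * b = b * a := PGrp.isMulCommutative_iff_forall.mp hA
  have htop := sup_eq_top_of_index_prime hp hi (B := zpowers x) (by rwa [zpowers_le])
  let f : A →* G := MonoidHom.mk' (fun a => a * (x * (a : G)⁻¹ * x⁻¹)) fun a b => by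
    have h1 := hc _ b.2 _ (hn.conj_mem _ (inv_mem a.2) x)
    have h2 := hc _ (hn.conj_mem _ (inv_mem a.2) x) _ (hn.conj_mem _ (inv_mem b.2) x)
    calc (a : G) * b * (x * ((a : G) * b)⁻¹ * x⁻¹)
        = a * (b * ((x * (b : G)⁻¹ * x⁻¹) * (x * (a : G)⁻¹ * x⁻¹))) := by group
      _ = a * ((b * (x * (a : G)⁻¹ * x⁻¹)) * (x * (b : G)⁻¹ * x⁻¹)) := by rw [← h2]; group
      _ = _ := by rw [h1]; group
  have hZA := center_le_of_abelian_index_prime hp hna hA hi
  have hker : f.ker = (center G).subgroupOf A := by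
    ext a
    rw [MonoidHom.mem_ker, mem_subgroupOf]
    show (a : G) * (x * (a : G)⁻¹ * x⁻¹) = 1 ↔ _
    constructor
    · intro h
      have h1 : (⊤ : Subgroup G) ≤ centralizer {(a : G)} := by
        rw [← htop]
        refine sup_le (fun b hb => mem_centralizer_singleton_iff.mpr (hc _ hb _ a.2)) ?_
        rw [zpowers_le, mem_centralizer_singleton_iff]
        calc x * a = (a * (x * (a : G)⁻¹ * x⁻¹)) * x * a := by rw [h, one_mul]
          _ = a * x := by group
      exact mem_center_iff.mpr fun g => mem_centralizer_singleton_iff.mp (h1 (mem_top g))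
    · intro h
      rw [mem_center_iff.mp (inv_mem h) x]; group
  have hfA : f.range ≤ A := by
    rintro _ ⟨a, rfl⟩
    exact mul_mem a.2 (hn.conj_mem _ (inv_mem a.2) x)
  have hRn : f.range.Normal := by
    apply normal_of_le_normalizer_top
    rw [← htop]
    refine sup_le (fun b hb => centralizer_le_normalizer _ fun c hc' => hc _ (hfA hc') _ hb) ?_
    rw [zpowers_le]
    apply mem_normalizer_of_conj_mem
    rintro _ ⟨a, rfl⟩
    refine ⟨⟨_, hn.conj_mem _ a.2 x⟩, ?_⟩
    show x * a * x⁻¹ * (x * (x * a * x⁻¹)⁻¹ * x⁻¹) = x * (a * (x * (a : G)⁻¹ * x⁻¹)) * x⁻¹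
    group
  have hrange : f.range = _root_.commutator G := by
    apply le_antisymm
    · rintro _ ⟨a, rfl⟩
      have : f a = ⁅(a : G), x⁆ := by
        show (a : G) * (x * (a : G)⁻¹ * x⁻¹) = _
        rw [commutatorElement_def]; group
      rw [this]
      exact commutator_mem_commutator (mem_top _) (mem_top _)
    · rw [← Normal.quotient_commutative_iff_commutator_le]
      have h1 := PGrp.isMulCommutative_sup (A := A.map (QuotientGroup.mk' f.range))
        (B := zpowers (QuotientGroup.mk' f.range x)) inferInstance inferInstance (by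
          rw [zpowers_le]
          rintro _ ⟨a, ha, rfl⟩
          rw [← commutatorElement_eq_one_iff_mul_comm, ← map_commutatorElement]
          refine (QuotientGroup.eq_one_iff _).mpr ⟨⟨a, ha⟩, ?_⟩
          show a * (x * a⁻¹ * x⁻¹) = _
          rw [commutatorElement_def]; group)
      rw [← MonoidHom.map_zpowers, ← Subgroup.map_sup, htop,
        map_top_of_surjective _ (QuotientGroup.mk'_surjective _)] at h1
      exact ⟨⟨fun a b => congrArg Subtype.val (h1.is_comm.comm ⟨a, mem_top a⟩ ⟨b, mem_top b⟩)⟩⟩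
  rw [← relIndex_mul_index hZA, hi, mul_comm, ← hrange, ← index_ker, hker, relIndex]

end CfsgLib
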