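import Cfsg.Agent.Lib.CoreSolvable
import Cfsg.Agent.Lib.CoreElements

/-! A criterion for a solvable normal subgroup to lie in the Fitting subgroup. -/

set_option autoImplicit false

namespace CfsgLib

open Subgroup Cfsg

variable {G : Type*} [Group G]

theorem le_fitting_of_forall_commute [Finite G] {C : Subgroup G} [C.Normal]
    (hs : Group.IsSolvable C)
    (h : ∀ (p q : ℕ) [Fact p.Prime] [Fact q.Prime], p ≠ q → ∀ x ∈ C, ∀ y ∈ C, y ∈ pCore q G →
      (∃ k, orderOf x = p ^ k) → Commute x y) : C ≤ fittingSubgroup G := by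
  by_contra hn
  set D := C ⊓ fittingSubgroup G with hD
  have h1 : C.map (QuotientGroup.mk' D) ≠ ⊥ := by
    rw [Ne, Subgroup.map_eq_bot_iff, QuotientGroup.ker_mk']
    exact fun h2 => hn (h2.trans inf_le_right)
  have : (C.map (QuotientGroup.mk' D)).Normal :=
    Normal.map inferInstance _ (QuotientGroup.mk'_surjective D)
  obtain ⟨M, hM, hMC⟩ := exists_isMinNormal_le _ h1
  obtain ⟨r, hr, hMr⟩ := hM.exists_isPGroup (isSolvable_of_le (isSolvable_map hs _) hMC)
  have := hM.1
  set W := M.comap (QuotientGroup.mk' D) with hW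
  have hWC : W ≤ C := by
    refine (comap_mono hMC).trans ?_
    rw [comap_map_eq, QuotientGroup.ker_mk']
    exact sup_le le_rfl inf_le_left
  have hin : ∀ (q : ℕ) [Fact q.Prime], q ≠ r → ∀ y ∈ W, (∃ k, orderOf y = q ^ k) →
      y ∈ pCore q G := by
    intro q hq hqr y hy ⟨k, hk⟩
    have := Fact.mk hr
    obtain ⟨j, hj⟩ := orderOf_eq_pow_of_mem_isPGroup hMr hy
    have h2 : orderOf (QuotientGroup.mk' D y) = 1 := by
      refine Nat.eq_one_of_dvd_coprimes (a := q ^ k) (b := r ^ j) ?_ ?_ (hj ▸ dvd_rfl)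
      · exact Nat.Coprime.pow _ _ ((Nat.coprime_primes hq.out hr).mpr hqr)
      · exact hk ▸ orderOf_map_dvd _ y
    have h3 : y ∈ D := (QuotientGroup.eq_one_iff y).mp (orderOf_eq_one_iff.mp h2)
    exact le_pCore_of_le_fitting (A := zpowers y) (zpowers_le.mpr h3.2)
      (isPGroup_zpowers_iff.mpr ⟨k, hk⟩) (mem_zpowers y)
  have hnil : Group.IsNilpotent W := by
    apply isNilpotent_of_forall_commute
    intro p q x y hp hq hpq hx hy
    have := Fact.mk hp
    have := Fact.mk hq
    rw [← Subgroup.orderOf_coe] at hx hy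
    suffices Commute (x : G) y from Subtype.ext this.eq
    by_cases hqr : q = r
    · exact (h q p (Ne.symm hpq) y (hWC y.2) x (hWC x.2)
        (hin p (hqr ▸ hpq) x x.2 hx) hy).symm
    · exact h p q hpq x (hWC x.2) y (hWC y.2) (hin q hqr y y.2 hy) hx
  have h4 : W ≤ D := le_inf hWC (le_fitting hnil)
  apply hM.2.1
  rw [← map_comap_eq_self_of_surjective (QuotientGroup.mk'_surjective D) M,
    Subgroup.map_eq_bot_iff, QuotientGroup.ker_mk']
  exact h4

end CfsgLib
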