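import Cfsg.Agent.Lib.CoprimePGroup
import Cfsg.Agent.Lib.FrobeniusPComplement
import Cfsg.Agent.Lib.PGroupBasic
import Cfsg.Agent.Lib.CommCalc

/-! If the real elements of order dividing `4` are central then there is a normal `2`-complement. -/

set_option autoImplicit false

namespace CfsgLib
open Subgroup Cfsg
open scoped commutatorElement

variable {G : Type*} [Group G] [Finite G]

/-- an odd order group centralizing all elements of a `2`-group `P` of order dividing `4` that are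
real in `P` centralizes `P` -/
theorem commutator_eq_bot_of_centralizes_real {A P : Subgroup G} (hP : IsPGroup 2 P)
    (hAP : A ≤ normalizer (P : Set G)) (hA : (Nat.card A).Coprime 2)
    (h : ∀ x ∈ P, x ^ 4 = 1 → (∃ u ∈ P, u * x * u⁻¹ = x⁻¹) → x ∈ centralizer (A : Set G)) :
    ⁅P, A⁆ = ⊥ := by
  by_contra hnt
  obtain ⟨R, hRP, hAR, hR, hmin⟩ := Cop.exists_minimal_action hAP hnt
  obtain ⟨-, h2, h3, h4, h5, -, -⟩ := Cop.minimal_action (hP.to_le hRP) hAR le_rfl le_normalizer hA hR hmin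
  obtain ⟨x, hx, hxA⟩ : ∃ x ∈ R, x ∉ centralizer (A : Set G) := by
    by_contra hc
    push Not at hc
    exact hR (commutator_eq_bot_iff_le_centralizer.2 hc)
  have hx2 : x ^ 2 ∈ ⁅R, R⁆ := by
    rw [← h3]
    exact Cop.pow_mem_frattini_map (hP.to_le hRP) hx
  have hcm : ∀ a ∈ R, ∀ b ∈ R, ∀ c ∈ R, Commute c ⁅a, b⁆ := fun a ha b hb c hc =>
    h4 (commutator_mem_commutator ha hb) c hc
  let W : Subgroup G :=
    { carrier := {w | ∃ u ∈ R, w = ⁅x, u⁆}
      one_mem' := ⟨1, R.one_mem, by simp⟩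
      mul_mem' := by
        rintro _ _ ⟨u, hu, rfl⟩ ⟨v, hv, rfl⟩
        exact ⟨u * v, R.mul_mem hu hv, (CommCalc.comm_mul_right_of_commute (hcm x hx v hv u hu)).symm⟩
      inv_mem' := by
        rintro _ ⟨u, hu, rfl⟩
        refine ⟨u, hu, inv_eq_of_mul_eq_one_left ?_⟩
        rw [← pow_two]
        exact h5 _ (commutator_mem_commutator hx hu) }
  have hW : W ≤ ⁅R, R⁆ := by
    rintro _ ⟨u, hu, rfl⟩
    exact commutator_mem_commutator hx hu
  let U : Subgroup G :=
    { carrier := {u | u ∈ R ∧ ∀ v ∈ R, ⁅u, v⁆ ∈ W}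
      one_mem' := ⟨R.one_mem, fun v _ => by simp⟩
      mul_mem' := by
        rintro a b ⟨ha, ha'⟩ ⟨hb, hb'⟩
        refine ⟨R.mul_mem ha hb, fun v hv => ?_⟩
        rw [CommCalc.comm_mul_left_of_commute (hcm b hb v hv a ha)]
        exact W.mul_mem (hb' v hv) (ha' v hv)
      inv_mem' := by
        rintro a ⟨ha, ha'⟩
        refine ⟨R.inv_mem ha, fun v hv => ?_⟩
        have := CommCalc.comm_mul_left_of_commute (hcm a ha v hv a⁻¹ (R.inv_mem ha))
        rw [inv_mul_cancel, commutatorElement_one_left, eq_comm, mul_eq_one_iff_inv_eq] at this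
        rw [← this]
        exact W.inv_mem (ha' v hv) }
  have hUR : U ≤ R := fun u hu => hu.1
  have hAU : A ≤ normalizer (U : Set G) := by
    intro a ha
    refine mem_normalizer_of_conj_mem fun u hu => ⟨conj_mem_of_mem_normalizer (hAR ha) hu.1, fun v hv => ?_⟩
    have hv' : a⁻¹ * v * a⁻¹⁻¹ ∈ R := conj_mem_of_mem_normalizer (hAR (A.inv_mem ha)) hv
    have h6 := hu.2 _ hv'
    have h7 : a * ⁅u, a⁻¹ * v * a⁻¹⁻¹⁆ = ⁅u, a⁻¹ * v * a⁻¹⁻¹⁆ * a := (h2.ge (hW h6)).2 a ha
    have : ⁅a * u * a⁻¹, v⁆ = a * ⁅u, a⁻¹ * v * a⁻¹⁻¹⁆ * a⁻¹ := by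
      simp only [commutatorElement_def]; group
    rw [this, h7, mul_inv_cancel_right]
    exact h6
  have hxU : x ∈ U := ⟨hx, fun v hv => ⟨v, hv, rfl⟩⟩
  rcases hUR.lt_or_eq with hlt | heq
  · exact hxA (commutator_eq_bot_iff_le_centralizer.1 (hmin U hlt hAU) hxU)
  · have h6 : ⁅R, R⁆ ≤ W := commutator_le.2 fun a ha b hb => (heq.ge ha).2 b hb
    obtain ⟨u, hu, he⟩ := h6 hx2
    refine hxA (h x (hRP hx) ?_ ⟨u, hRP hu, ?_⟩)
    · have := h5 _ hx2
      rwa [← pow_mul] at this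
    · rw [commutatorElement_def, pow_two, mul_assoc, mul_assoc, mul_right_inj] at he
      calc u * x * u⁻¹ = (u * (x⁻¹ * u⁻¹))⁻¹ := by group
        _ = x⁻¹ := by rw [← he]

/-- if all real elements of order dividing `4` are central then `G` has a normal `2`-complement -/
theorem hnpc_two_of_real_central
    (h : ∀ x : G, x ^ 4 = 1 → IsConj x x⁻¹ → x ∈ center G) : HasNormalPComplement 2 G := by
  refine FrobNPC.hnpc_of_primePow_centralizes fun H hH _ g hg q k hq hq2 ho => ?_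
  have := commutator_eq_bot_of_centralizes_real (A := zpowers g) hH (zpowers_le.2 hg)
    (by rw [Nat.card_zpowers, ho]; exact Nat.Coprime.pow_left _ ((Nat.coprime_primes hq Nat.prime_two).2 hq2))
    (fun x _ h4 ⟨u, _, hu⟩ => center_le_centralizer _ (h x h4 (isConj_iff.2 ⟨u, hu⟩)))
  rw [commutator_comm, commutator_eq_bot_iff_le_centralizer] at this
  exact this (mem_zpowers g)

end CfsgLib
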