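import Mathlib
import Cfsg.Agent.Lib.H5Count

/-!
# Dickson's counting argument for subgroups of `SL₂` of order prime to the characteristic
-/

set_option autoImplicit false

namespace CfsgLib.H4

open Subgroup Finset

theorem inv_cases {t : ℕ} (h : 2 ≤ t) : (t : ℚ)⁻¹ = 1 / 2 ∨ (t : ℚ)⁻¹ = 1 / 3 ∨
    (t : ℚ)⁻¹ = 1 / 4 ∨ (t : ℚ)⁻¹ = 1 / 5 ∨ (t : ℚ)⁻¹ ≤ 1 / 6 := by
  by_cases h6 : 6 ≤ t
  · have : (6 : ℚ) ≤ t := by exact_mod_cast h6
    exact Or.inr (Or.inr (Or.inr (Or.inr ((inv_anti₀ (by norm_num) this).trans (by norm_num)))))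
  · push Not at h6
    interval_cases t <;> norm_num

theorem three_case {u v w x : ℚ} (hx : 0 < x) (h1 : 3 * x ≤ u) (h2 : 3 * x ≤ v) (h3 : 3 * x ≤ w)
    (hu : u = 1 / 2 ∨ u = 1 / 3 ∨ u = 1 / 4 ∨ u = 1 / 5 ∨ u ≤ 1 / 6)
    (hv : v = 1 / 2 ∨ v = 1 / 3 ∨ v = 1 / 4 ∨ v = 1 / 5 ∨ v ≤ 1 / 6)
    (hw : w = 1 / 2 ∨ w = 1 / 3 ∨ w = 1 / 4 ∨ w = 1 / 5 ∨ w ≤ 1 / 6)
    (h : u + v + w = 1 + 2 * x) : x = 1 / 12 ∨ x = 1 / 24 ∨ x = 1 / 60 := by
  rcases hu with ha | ha | ha | ha | ha <;> rcases hv with hb | hb | hb | hb | hb <;>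
    rcases hw with hc | hc | hc | hc | hc <;>
    first | (exfalso; linarith) | (left; linarith) | (right; left; linarith) |
      (right; right; linarith)

theorem dickson_numeric {ι : Type*} (s : Finset ι) (t e : ι → ℕ) {m : ℕ} (hm : 2 ≤ m)
    (h1 : ∀ i ∈ s, 2 ≤ t i) (h2 : ∀ i ∈ s, e i = 1 ∨ e i = 2) (h3 : ∀ i ∈ s, 3 * t i ≤ m)
    (h : ∑ i ∈ s, (1 - (t i : ℚ)⁻¹) / e i = 1 - (m : ℚ)⁻¹) : m = 12 ∨ m = 24 ∨ m = 60 := by
  classical
  have hw : (0 : ℚ) < (m : ℚ)⁻¹ := by positivity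
  have hw2 : (m : ℚ)⁻¹ ≤ 1 / 2 := by
    have : (2 : ℚ) ≤ m := by exact_mod_cast hm
    exact (inv_anti₀ (by norm_num) this).trans (by norm_num)
  have hu : ∀ i ∈ s, (t i : ℚ)⁻¹ ≤ 1 / 2 := fun i hi => by
    have : (2 : ℚ) ≤ t i := by exact_mod_cast h1 i hi
    exact (inv_anti₀ (by norm_num) this).trans (by norm_num)
  have hw3 : ∀ i ∈ s, 3 * (m : ℚ)⁻¹ ≤ (t i : ℚ)⁻¹ := fun i hi => by
    have h4 : (3 * t i : ℚ) ≤ m := by exact_mod_cast h3 i hi
    have h5 : (0 : ℚ) < t i := by have := h1 i hi; positivity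
    have := inv_anti₀ (by positivity) h4
    rw [mul_inv] at this
    linarith
  have he : ∀ i ∈ s, (1 - (t i : ℚ)⁻¹) / e i = 1 - (t i : ℚ)⁻¹ ∨
      (1 - (t i : ℚ)⁻¹) / e i = (1 - (t i : ℚ)⁻¹) / 2 := fun i hi => by
    rcases h2 i hi with h | h <;> simp [h]
  have hc : s.card ≤ 3 := by
    by_contra hn
    have h4 : (4 : ℚ) ≤ s.card := by exact_mod_cast (by omega : 4 ≤ s.card)
    have := card_nsmul_le_sum s (fun i => (1 - (t i : ℚ)⁻¹) / e i) (1 / 4) fun i hi => by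
      have := hu i hi
      rcases he i hi with h | h <;> rw [h] <;> linarith
    rw [h, nsmul_eq_mul] at this
    linarith
  suffices (m : ℚ)⁻¹ = 1 / 12 ∨ (m : ℚ)⁻¹ = 1 / 24 ∨ (m : ℚ)⁻¹ = 1 / 60 by
    simp only [one_div, inv_inj] at this
    exact_mod_cast this
  have : s.card = 0 ∨ s.card = 1 ∨ s.card = 2 ∨ s.card = 3 := by omega
  rcases this with hs | hs | hs | hs
  · rw [card_eq_zero.1 hs, sum_empty] at h
    exfalso; linarith
  · obtain ⟨a, rfl⟩ := card_eq_one.1 hs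
    rw [sum_singleton] at h
    have := hw3 a (by simp)
    exfalso
    rcases he a (by simp) with h' | h' <;> rw [h'] at h <;> linarith
  · obtain ⟨a, b, hab, rfl⟩ := card_eq_two.1 hs
    rw [sum_pair hab] at h
    have := hw3 a (by simp)
    have := hw3 b (by simp)
    rcases he a (by simp) with ha | ha <;> rcases he b (by simp) with hb | hb <;>
      rw [ha, hb] at h <;>
      rcases inv_cases (h1 a (by simp)) with ha | ha | ha | ha | ha <;>
      rcases inv_cases (h1 b (by simp)) with hb | hb | hb | hb | hb <;>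
      first | (exfalso; linarith) | (left; linarith)
  · obtain ⟨a, b, c, hab, hac, hbc, rfl⟩ := card_eq_three.1 hs
    rw [sum_insert (by simp [hab, hac]), sum_pair hbc] at h
    have := hw3 a (by simp)
    have := hw3 b (by simp)
    have := hw3 c (by simp)
    have := hu a (by simp)
    have := hu b (by simp)
    have := hu c (by simp)
    rcases he a (by simp) with ha | ha <;> rcases he b (by simp) with hb | hb <;>
      rcases he c (by simp) with hc | hc <;> rw [ha, hb, hc] at h <;>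
      try (exfalso; linarith)
    exact three_case hw (hw3 a (by simp)) (hw3 b (by simp)) (hw3 c (by simp))
      (inv_cases (h1 a (by simp))) (inv_cases (h1 b (by simp))) (inv_cases (h1 c (by simp)))
      (by linarith)

/-- Dickson's counting argument. -/
theorem dickson_count {G : Type*} [Group G] [Finite G] (Z : Subgroup G) (hZ : Z ≤ center G)
    (h2 : Nat.card Z = 2)
    (hA : ∀ x ∉ Z, ∀ y z : G, y * x = x * y → z * x = x * z → y * z = z * y)
    (hB : ∀ x ∉ Z, ∀ g : G, g * x * g⁻¹ * x = x * (g * x * g⁻¹) →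
      g * x * g⁻¹ = x ∨ g * x * g⁻¹ = x⁻¹) :
    Nat.card G = 2 ∨ (∃ x ∉ Z, Nat.card G ∣ 2 * Nat.card (centralizer ({x} : Set G))) ∨
      Nat.card G = 24 ∨ Nat.card G = 48 ∨ Nat.card G = 120 := by
  classical
  have := Fintype.ofFinite G
  obtain ⟨m, hm⟩ : 2 ∣ Nat.card G := h2 ▸ card_subgroup_dvd_card Z
  by_cases hm1 : m = 1
  · left; omega
  right
  by_cases hex : ∃ x ∉ Z, Nat.card G ∣ 2 * Nat.card (centralizer ({x} : Set G))
  · exact Or.inl hex
  right
  push Not at hex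
  have hm2 : 2 ≤ m := by
    have := Nat.card_pos (α := G)
    omega
  have hZn : ∀ g x : G, g * x * g⁻¹ ∈ Z → x ∈ Z := fun g x h => by
    have := mem_center_iff.1 (hZ h) g⁻¹
    rw [← mul_inv_eq_iff_eq_mul] at this
    rw [← this] at h
    simpa [mul_assoc] using h
  have hCeq : ∀ x ∉ Z, ∀ y ∉ Z, y * x = x * y →
      centralizer ({y} : Set G) = centralizer {x} := fun x hx y hy h => by
    ext z
    rw [mem_centralizer_singleton_iff, mem_centralizer_singleton_iff]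
    exact ⟨fun h' => hA y hy z x h' h.symm, fun h' => hA x hx z y h' h⟩
  let U : G → Set G := fun x =>
    {y | ∃ n, ∃ s ∈ ((centralizer ({x} : Set G) : Set G) \ (Z : Set G)), n * s * n⁻¹ = y}
  have hU : ∀ x ∉ Z, ∀ y ∉ Z, U y = U x ↔ y ∈ U x := by
    intro x hx y hy
    refine ⟨fun h => h ▸ ⟨1, y, ⟨mem_centralizer_singleton_iff.2 rfl, hy⟩, by simp⟩, ?_⟩
    rintro ⟨n, s, ⟨hs, hsZ⟩, rfl⟩
    have e := hCeq x hx s hsZ (mem_centralizer_singleton_iff.1 hs)
    ext w
    constructor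
    · rintro ⟨k, v, ⟨hv, hvZ⟩, rfl⟩
      refine ⟨k * n, n⁻¹ * v * n, ⟨?_, fun h => hvZ (hZn n⁻¹ v (by simpa using h))⟩, by group⟩
      rw [← e]
      have := mem_centralizer_singleton_iff.1 hv
      refine mem_centralizer_singleton_iff.2 ?_
      calc n⁻¹ * v * n * s = n⁻¹ * (v * (n * s * n⁻¹)) * n := by group
        _ = s * (n⁻¹ * v * n) := by rw [this]; group
    · rintro ⟨k, v, ⟨hv, hvZ⟩, rfl⟩
      refine ⟨k * n⁻¹, n * v * n⁻¹, ⟨?_, fun h => hvZ (hZn n v h)⟩, by group⟩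
      rw [← e] at hv
      refine mem_centralizer_singleton_iff.2 ?_
      rw [conj_mul, conj_mul, mem_centralizer_singleton_iff.1 hv]
  have hcard : ∀ x ∉ Z, ∃ t e : ℕ, 2 ≤ t ∧ (e = 1 ∨ e = 2) ∧ 3 * t ≤ m ∧
      ((U x).ncard : ℚ) = 2 * m * ((1 - (t : ℚ)⁻¹) / e) := by
    intro x hx
    obtain ⟨C, hC⟩ : ∃ C, C = centralizer ({x} : Set G) := ⟨_, rfl⟩
    have hZC : Z ≤ C := hC ▸ hZ.trans (center_le_centralizer _)
    have hxC : x ∈ C := hC ▸ mem_centralizer_singleton_iff.2 rfl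
    obtain ⟨t, ht⟩ : 2 ∣ Nat.card C := h2 ▸ card_dvd_of_le hZC
    have ht2 : 2 ≤ t := by
      have h0 := card_le_of_le hZC
      by_contra hn
      exact hx (eq_of_le_of_card_ge hZC (by omega) ▸ hxC)
    have h1 := H5.ncard_conj_of_TI_top (normalizer (C : Set G)) ((C : Set G) \ (Z : Set G))
      (fun n hn s hs => ⟨(mem_normalizer_iff.1 hn s).1 hs.1, fun h => hs.2 (hZn n s h)⟩)
      (fun n s hs hn => by
        have e1 := hCeq x hx s hs.2 (mem_centralizer_singleton_iff.1 (hC ▸ hs.1))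
        have e2 := hCeq x hx _ hn.2 (mem_centralizer_singleton_iff.1 (hC ▸ hn.1))
        rw [mem_normalizer_iff]
        intro w
        rw [hC]
        nth_rw 1 [← e1]
        rw [← e2, mem_centralizer_singleton_iff, mem_centralizer_singleton_iff, conj_mul, conj_mul]
        exact conj_injective.eq_iff.symm)
    rw [H5.ncard_diff_subgroup hZC, h2, ht] at h1
    have h3 : C.relIndex (normalizer (C : Set G)) ∣ 2 := by
      by_cases h : normalizer (C : Set G) ≤ C
      · rw [relIndex_eq_one.2 h]; exact one_dvd _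
      · obtain ⟨g, hg, hgC⟩ := SetLike.not_le_iff_exists.1 h
        have key : ∀ g ∈ normalizer (C : Set G), g ∉ C → g * x * g⁻¹ = x⁻¹ := fun g hg hgC =>
          (hB x hx g (mem_centralizer_singleton_iff.1
            (hC ▸ (mem_normalizer_iff.1 hg x).1 hxC))).resolve_left fun h =>
            hgC (hC ▸ mem_centralizer_singleton_iff.2 (mul_inv_eq_iff_eq_mul.1 h))
        refine dvd_of_eq (index_eq_two_iff.2 ⟨⟨g, hg⟩, fun b => ?_⟩)
        simp only [mem_subgroupOf, Subgroup.coe_mul]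
        by_cases hb : (b : G) ∈ C
        · exact Or.inr ⟨hb, fun h => hgC ((C.mul_mem_cancel_left hb).1 h)⟩
        · refine Or.inl ⟨hC.ge (mem_centralizer_singleton_iff.2 (mul_inv_eq_iff_eq_mul.1 ?_)), hb⟩
          calc b * g * x * (b * g)⁻¹ = b * (g * x * g⁻¹) * (b : G)⁻¹ := by group
            _ = x := by rw [key g hg hgC, ← conj_inv, key b b.2 hb, inv_inv]
    have h4 := relIndex_mul_index (le_normalizer (H := C))
    have h5 := C.card_mul_index
    have h6 := hex x hx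
    rw [← hC, hm, ht] at h6
    rw [hm, ht, mul_assoc, Nat.mul_right_inj two_ne_zero] at h5
    refine ⟨t, _, ht2, (Nat.dvd_prime Nat.prime_two).1 h3, ?_, ?_⟩
    · rw [← h5, mul_comm]
      refine Nat.mul_le_mul_left _ ?_
      by_contra hn
      have : C.index = 0 ∨ C.index = 1 ∨ C.index = 2 := by omega
      rcases this with h | h | h <;> rw [h] at h5
      · omega
      · exact h6 ⟨2, by omega⟩
      · exact h6 ⟨1, by omega⟩
    · have h7 : (C.relIndex (normalizer (C : Set G)) : ℚ) ≠ 0 := by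
        have := Nat.pos_of_dvd_of_pos h3 two_pos
        positivity
      have h8 : (t : ℚ) ≠ 0 := by positivity
      simp only [U]
      rw [← hC, h1, ← h5, ← h4]
      push_cast [Nat.cast_sub (show 2 ≤ 2 * t by omega)]
      field_simp
  have hsum := card_eq_sum_card_image U (univ.filter (· ∉ Z))
  have hrep : ∀ S ∈ (univ.filter (· ∉ Z)).image U, ∃ t e : ℕ, 2 ≤ t ∧ (e = 1 ∨ e = 2) ∧
      3 * t ≤ m ∧ ((((univ.filter (· ∉ Z)).filter fun a => U a = S).card : ℕ) : ℚ) =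
        2 * m * ((1 - (t : ℚ)⁻¹) / e) := by
    intro S hS
    obtain ⟨x, hx, rfl⟩ := mem_image.1 hS
    have hx' := (mem_filter.1 hx).2
    obtain ⟨t, e, h1, h3, h4, h5⟩ := hcard x hx'
    refine ⟨t, e, h1, h3, h4, ?_⟩
    rw [← h5, ← Set.ncard_coe_finset]
    congr 2
    ext y
    simp only [coe_filter, mem_filter, mem_univ, true_and, Set.mem_ofPred_eq]
    refine ⟨fun h => (hU x hx' y h.1).1 h.2, fun h => ?_⟩
    have : y ∉ Z := by
      obtain ⟨n, s, hs, rfl⟩ := h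
      exact fun h => hs.2 (hZn n s h)
    exact ⟨this, (hU x hx' y this).2 h⟩
  choose! t e ht he h3 h4 using hrep
  have h5 : (univ.filter (· ∉ Z)).card + 2 = 2 * m := by
    rw [← hm, ← h2, Nat.card_eq_fintype_card, Nat.card_eq_fintype_card, Fintype.card_subtype,
      add_comm, card_filter_add_card_filter_not, card_univ]
  have h6 := dickson_numeric _ t e hm2 ht he h3 (by
    have h7 : (((univ.filter (· ∉ Z)).card : ℕ) : ℚ) + 2 = 2 * m := by exact_mod_cast h5
    rw [hsum, Nat.cast_sum, sum_congr rfl h4, ← mul_sum] at h7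
    have h8 : (m : ℚ) ≠ 0 := by positivity
    refine mul_left_cancel₀ (mul_ne_zero two_ne_zero h8) ?_
    rw [mul_sub, mul_assoc 2 _ (m : ℚ)⁻¹, mul_inv_cancel₀ h8]
    linarith)
  omega

end CfsgLib.H4
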