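import Mathlib
import Cfsg.Agent.Lib.Extraspecial

/-! Central products; extraspecial 2-groups are determined by order and rank. -/

set_option autoImplicit false

namespace CfsgLib.PGrp

open Subgroup
open scoped commutatorElement

variable {G : Type*} [Group G] {p : ℕ}

/-- Gluing isomorphisms of the factors of two central products. -/
theorem nonempty_mulEquiv_of_central_product {G' : Type*} [Group G'] {H K : Subgroup G}
    {H' K' : Subgroup G'} (hc : ∀ h ∈ H, ∀ k ∈ K, Commute h k) (htop : H ⊔ K = ⊤)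
    (hc' : ∀ h ∈ H', ∀ k ∈ K', Commute h k) (htop' : H' ⊔ K' = ⊤) (φ : H ≃* H') (ψ : K ≃* K')
    (h : ∀ (a : H) (b : K), (a : G) = b ↔ (φ a : G') = ψ b) : Nonempty (G ≃* G') := by
  let f : H × K →* G := H.subtype.noncommCoprod K.subtype fun a b => hc a a.2 b b.2
  let f' : H × K →* G' := (H'.subtype.comp φ.toMonoidHom).noncommCoprod
    (K'.subtype.comp ψ.toMonoidHom) fun a b => hc' _ (φ a).2 _ (ψ b).2
  have hf : Function.Surjective f := by
    rw [← MonoidHom.range_eq_top]
    refine (MonoidHom.noncommCoprod_range _ _ _).trans ?_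
    rw [range_subtype, range_subtype, htop]
  have hf' : Function.Surjective f' := by
    rw [← MonoidHom.range_eq_top]
    refine (MonoidHom.noncommCoprod_range _ _ _).trans ?_
    rw [MonoidHom.range_comp, MonoidHom.range_comp, MonoidHom.range_eq_top.2 φ.surjective,
      MonoidHom.range_eq_top.2 ψ.surjective, ← MonoidHom.range_eq_map, ← MonoidHom.range_eq_map,
      range_subtype, range_subtype, htop']
  have hker : f.ker = f'.ker := by
    ext ⟨a, b⟩
    simp only [MonoidHom.mem_ker]
    change (a : G) * b = 1 ↔ (φ a : G') * ψ b = 1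
    rw [mul_eq_one_iff_eq_inv, mul_eq_one_iff_eq_inv, ← coe_inv, ← coe_inv, ← map_inv, h]
  exact ⟨((QuotientGroup.quotientKerEquivOfSurjective f hf).symm.trans
    (QuotientGroup.quotientMulEquivOfEq hker)).trans
      (QuotientGroup.quotientKerEquivOfSurjective f' hf')⟩

theorem pRankLE_of_injective {H : Type*} [Group H] [Finite G] {k : ℕ} (h : Cfsg.PRankLE p k G)
    (f : H →* G) (hf : Function.Injective f) : Cfsg.PRankLE p k H := by
  intro A hA hAp
  rw [← card_map_of_injective hf]
  refine h _ (isMulCommutative_iff_forall.2 ?_) ?_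
  · rintro _ ⟨a, ha, rfl⟩ _ ⟨b, hb, rfl⟩
    rw [← map_mul, ← map_mul, isMulCommutative_iff_forall.1 hA a ha b hb]
  · rintro _ ⟨a, ha, rfl⟩
    rw [← map_pow, hAp a ha, map_one]

theorem pRankLE_congr {H : Type*} [Group H] [Finite G] {k : ℕ} (e : G ≃* H) :
    Cfsg.PRankLE p k G ↔ Cfsg.PRankLE p k H :=
  have : Finite H := Finite.of_equiv G e.toEquiv
  ⟨fun h => pRankLE_of_injective h e.symm.toMonoidHom e.symm.injective,
    fun h => pRankLE_of_injective h e.toMonoidHom e.injective⟩

theorem PRankLE.mono {k l : ℕ} (hp : 0 < p) (h : Cfsg.PRankLE p k G) (hkl : k ≤ l) :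
    Cfsg.PRankLE p l G :=
  fun A hA hAp => (h A hA hAp).trans (Nat.pow_le_pow_right hp hkl)

/-- For non-commuting `a`, `b` in an extraspecial group, `C(a, b)` has index `p ^ 2`. -/
theorem IsExtraspecial.index_centralizer_pair [Finite G] [hp : Fact p.Prime]
    (h : Cfsg.IsExtraspecial p G) {a b : G} (hab : ¬ Commute a b) :
    (centralizer ({a} : Set G) ⊓ centralizer {b}).index = p ^ 2 := by
  have hG := IsExtraspecial.isPGroup h
  have h1 : (centralizer ({a} : Set G)).index = p := by
    obtain ⟨k, hk⟩ := hG.index (centralizer ({a} : Set G))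
    refine (eq_one_or_eq_prime_of_le hk
      (h.2 ▸ index_centralizer_le_card (IsExtraspecial.commutator_mem h a))).resolve_left ?_
    rw [index_eq_one]
    intro h2
    exact hab (mem_centralizer_singleton_iff.1 (h2 ▸ mem_top b)).symm
  have h2 : (centralizer ({b} : Set G)).relIndex (centralizer {a}) = p := by
    obtain ⟨k, hk⟩ := (hG.to_subgroup (centralizer ({a} : Set G))).index
      ((centralizer ({b} : Set G)).subgroupOf _)
    refine (eq_one_or_eq_prime_of_le hk (h.2 ▸ relIndex_centralizer_le_card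
      fun g _ => IsExtraspecial.commutator_mem h b g)).resolve_left ?_
    rw [← relIndex, relIndex_eq_one]
    intro h3
    exact hab (mem_centralizer_singleton_iff.1 (h3 (mem_centralizer_singleton_iff.2 rfl)))
  rw [← relIndex_mul_index (inf_le_left : _ ≤ centralizer ({a} : Set G)), inf_relIndex_left,
    h1, h2, sq]

theorem IsExtraspecial.center_centralizer_pair [hp : Fact p.Prime]
    (h : Cfsg.IsExtraspecial p G) {a b : G} (hab : ¬ Commute a b) :
    (centralizer ({a} : Set G) ⊓ centralizer {b}) ⊓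
      centralizer ((centralizer ({a} : Set G) ⊓ centralizer {b} : Subgroup G) : Set G) =
        center G := by
  refine le_antisymm ?_ (le_inf (le_inf (center_le_centralizer _) (center_le_centralizer _))
    (center_le_centralizer _))
  intro x hx
  obtain ⟨hx1, hx2⟩ := mem_inf.1 hx
  obtain ⟨hxa, hxb⟩ := mem_inf.1 hx1
  rw [mem_center_iff]
  intro g
  obtain ⟨i, j, h1, h2⟩ := exists_zpow_mul_zpow_inv_mul_commute h.2 le_rfl
    (IsExtraspecial.commutator_mem h a) (IsExtraspecial.commutator_mem h b) hab g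
  have h3 : Commute ((a ^ i * b ^ j)⁻¹ * g) x := hx2 _
    ⟨mem_centralizer_singleton_iff.2 h1.symm, mem_centralizer_singleton_iff.2 h2.symm⟩
  have h4 : Commute (a ^ i * b ^ j) x :=
    (Commute.zpow_left (mem_centralizer_singleton_iff.1 hxa).symm i).mul_left
      (Commute.zpow_left (mem_centralizer_singleton_iff.1 hxb).symm j)
  simpa [mul_assoc] using (h4.mul_left h3).eq

/-- `C(a, b)` is extraspecial of order `p ^ (2 n + 1)` in an extraspecial group of order
`p ^ (2 (n + 1) + 1)`, `n ≥ 1`. -/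
theorem IsExtraspecial.centralizer_pair [Finite G] [hp : Fact p.Prime]
    (h : Cfsg.IsExtraspecial p G) {a b : G} (hab : ¬ Commute a b) {n : ℕ} (hn : 1 ≤ n)
    (hG : Nat.card G = p ^ (2 * (n + 1) + 1)) :
    Cfsg.IsExtraspecial p ↥(centralizer ({a} : Set G) ⊓ centralizer {b}) ∧
      Nat.card ↥(centralizer ({a} : Set G) ⊓ centralizer {b}) = p ^ (2 * n + 1) := by
  have h1 := (centralizer ({a} : Set G) ⊓ centralizer {b}).index_mul_card
  rw [IsExtraspecial.index_centralizer_pair h hab, hG,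
    show 2 * (n + 1) + 1 = 2 + (2 * n + 1) by ring, pow_add] at h1
  have h2 := Nat.eq_of_mul_eq_mul_left (pow_pos hp.out.pos 2) h1
  refine ⟨isExtraspecial_subgroup ((IsExtraspecial.isPGroup h).to_subgroup _) h.2
    (IsExtraspecial.center_centralizer_pair h hab)
    (fun x _ y _ => IsExtraspecial.commutator_mem h x y) fun h3 => ?_, h2⟩
  rw [h3, h.2] at h2
  have := Nat.pow_right_injective hp.out.two_le ((pow_one p).trans h2)
  omega

theorem eq_of_mem_of_card_two {Z : Subgroup G} (hZ : Nat.card Z = 2) {c d : G} (hc : c ∈ Z)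
    (hc1 : c ≠ 1) (hd : d ∈ Z) (hd1 : d ≠ 1) : c = d := by
  obtain ⟨y, -, hy⟩ := (Nat.card_eq_two_iff' (1 : Z)).1 hZ
  have h1 := hy ⟨c, hc⟩ fun h => hc1 (congrArg Subtype.val h)
  have h2 := hy ⟨d, hd⟩ fun h => hd1 (congrArg Subtype.val h)
  exact congrArg Subtype.val (h1.trans h2.symm)

theorem sq_eq_one_of_mem_of_card_two {Z : Subgroup G} (hZ : Nat.card Z = 2) {c : G} (hc : c ∈ Z) :
    c ^ 2 = 1 := by
  have := pow_card_eq_one' (x := (⟨c, hc⟩ : Z))
  rw [hZ] at this
  exact congrArg Subtype.val this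

/-- An extraspecial 2-group of order at least 32 contains non-commuting involutions. -/
theorem IsExtraspecial.exists_involutions [Finite G] (h : Cfsg.IsExtraspecial 2 G) {n : ℕ}
    (hn : 1 ≤ n) (hG : Nat.card G = 2 ^ (2 * (n + 1) + 1)) :
    ∃ a b : G, a ^ 2 = 1 ∧ b ^ 2 = 1 ∧ ¬ Commute a b := by
  obtain ⟨a, ha, ha2⟩ : ∃ a : G, a ∉ center G ∧ a ^ 2 = 1 := by
    have h1 := IsExtraspecial.not_isMulCommutative h
    rw [isMulCommutative_iff_forall'] at h1
    push Not at h1
    obtain ⟨a, b, hab⟩ := h1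
    have h2 := IsExtraspecial.not_isMulCommutative (IsExtraspecial.centralizer_pair h hab hn hG).1
    rw [isMulCommutative_iff_forall] at h2
    push Not at h2
    obtain ⟨c, hc, d, -, hcd⟩ := h2
    by_cases ha2 : a ^ 2 = 1
    · exact ⟨a, fun h => hab (mem_center_iff.1 h b).symm, ha2⟩
    by_cases hc2 : c ^ 2 = 1
    · exact ⟨c, fun h => hcd (mem_center_iff.1 h d).symm, hc2⟩
    have hca : Commute a c := (mem_centralizer_singleton_iff.1 hc.1).symm
    have hcb : Commute c b := mem_centralizer_singleton_iff.1 hc.2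
    refine ⟨a * c, fun h3 => hab ?_, ?_⟩
    · have h4 : Commute (a * c) b := (mem_center_iff.1 h3 b).symm
      simpa using (h4.mul_left hcb.inv_left).eq
    · rw [hca.mul_pow, eq_of_mem_of_card_two h.2 (IsExtraspecial.pow_mem h a) ha2
        (IsExtraspecial.pow_mem h c) hc2, ← sq]
      exact sq_eq_one_of_mem_of_card_two h.2 (IsExtraspecial.pow_mem h c)
  rw [mem_center_iff] at ha
  push Not at ha
  obtain ⟨b, hb⟩ := ha
  by_cases hb2 : b ^ 2 = 1
  · exact ⟨a, b, ha2, hb2, fun h => hb h.symm⟩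
  refine ⟨a, a * b, ha2, ?_, fun h1 => hb ?_⟩
  · have h1 : (a * b) ^ 2 = ⁅a, b⁆ * b ^ 2 := by
      have : a⁻¹ = a := inv_eq_of_mul_eq_one_right (by rw [← sq, ha2])
      rw [commutatorElement_def, this]; simp only [sq]; group
    rw [h1, eq_of_mem_of_card_two h.2 (IsExtraspecial.commutator_mem h a b)
      (fun h => hb (commutatorElement_eq_one_iff_mul_comm.1 h).symm)
      (IsExtraspecial.pow_mem h b) hb2, ← sq]
    exact sq_eq_one_of_mem_of_card_two h.2 (IsExtraspecial.pow_mem h b)
  · simpa using ((Commute.refl a).inv_right.mul_right h1).symm.eq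

/-- Rank of an extraspecial group in terms of the rank of `C(a, b)`, `a ^ p = 1`. -/
theorem IsExtraspecial.pRankLE_succ_iff [Finite G] [hp : Fact p.Prime]
    (h : Cfsg.IsExtraspecial p G) {a b : G} (ha : a ^ p = 1) (hab : ¬ Commute a b) (k : ℕ) :
    Cfsg.PRankLE p (k + 1) G ↔
      Cfsg.PRankLE p k ↥(centralizer ({a} : Set G) ⊓ centralizer {b}) := by
  set C := centralizer ({a} : Set G) ⊓ centralizer {b} with hC
  have hG := IsExtraspecial.isPGroup h
  have hsup : ∀ A : Subgroup G, Cfsg.IsElementaryAbelian p A → A ≤ centralizer {a} →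
      Cfsg.IsElementaryAbelian p (A ⊔ zpowers a) := by
    intro A hA hAa
    rw [← closure_eq A, zpowers_eq_closure, ← Subgroup.closure_union]
    apply isElementaryAbelian_closure
    · rintro x (hx | rfl)
      exacts [hA.2 x hx, ha]
    · rintro x (hx | rfl) y (hy | rfl)
      exacts [isMulCommutative_iff_forall.1 hA.1 x hx y hy,
        mem_centralizer_singleton_iff.1 (hAa hx), (mem_centralizer_singleton_iff.1 (hAa hy)).symm,
        rfl]
  have hlt : ∀ A : Subgroup G, a ∉ A → p * Nat.card A ≤ Nat.card ↥(A ⊔ zpowers a) := fun A hA =>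
    mul_card_le_card_of_lt (hG.to_subgroup _)
      (lt_of_le_of_ne le_sup_left fun h => hA (h ▸ mem_sup_right (mem_zpowers a)))
  have hrel : ∀ (A : Subgroup G) (c : G), Nat.card A ≤ p * Nat.card ↥(A ⊓ centralizer {c}) := by
    intro A c
    have h1 := ((centralizer ({c} : Set G)).subgroupOf A).index_mul_card
    have h2 : (centralizer ({c} : Set G)).relIndex A ≤ p := h.2 ▸ relIndex_centralizer_le_card
      fun g _ => IsExtraspecial.commutator_mem h c g
    rw [← h1, ← inf_subgroupOf_left,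
      Nat.card_congr (subgroupOfEquivOfLe (inf_le_left : A ⊓ centralizer {c} ≤ A)).toEquiv,
      inf_subgroupOf_left]
    exact Nat.mul_le_mul_right _ h2
  constructor
  · intro hr A hA hAp
    have h1 : Cfsg.IsElementaryAbelian p (A.map C.subtype) := by
      refine ⟨isMulCommutative_iff_forall.2 ?_, ?_⟩
      · rintro _ ⟨x, hx, rfl⟩ _ ⟨y, hy, rfl⟩
        rw [← map_mul, ← map_mul, isMulCommutative_iff_forall.1 hA x hx y hy]
      · rintro _ ⟨x, hx, rfl⟩
        rw [← map_pow, hAp x hx, map_one]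
    have h2 := hsup _ h1 ((map_subtype_le A).trans inf_le_left)
    have h3 := (hlt (A.map C.subtype) fun h =>
      hab (mem_centralizer_singleton_iff.1 (map_subtype_le A h).2)).trans (hr _ h2.1 h2.2)
    rw [card_map_of_injective C.subtype_injective, pow_succ'] at h3
    exact Nat.le_of_mul_le_mul_left h3 hp.out.pos
  · intro hr A hA hAp
    obtain ⟨B, hB, hBa, hAB⟩ : ∃ B : Subgroup G, Cfsg.IsElementaryAbelian p B ∧
        B ≤ centralizer {a} ∧ Nat.card A ≤ Nat.card B := by
      by_cases haA : a ∈ A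
      · exact ⟨A, ⟨hA, hAp⟩, fun x hx => mem_centralizer_singleton_iff.2
          (isMulCommutative_iff_forall.1 hA x hx a haA), le_rfl⟩
      · exact ⟨A ⊓ centralizer {a} ⊔ zpowers a,
          hsup _ (IsElementaryAbelian.of_le ⟨hA, hAp⟩ inf_le_left) inf_le_right,
          sup_le inf_le_right (zpowers_le.2 (mem_centralizer_singleton_iff.2 rfl)),
          (hrel A a).trans (hlt _ fun h => haA h.1)⟩
    have hle : B ⊓ centralizer {b} ≤ C := inf_le_inf_right _ hBa
    have h1 := hr ((B ⊓ centralizer {b}).subgroupOf C)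
      (isMulCommutative_iff_forall.2 fun x hx y hy =>
        Subtype.ext (isMulCommutative_iff_forall.1 hB.1 _ hx.1 _ hy.1))
      fun x hx => Subtype.ext (hB.2 _ hx.1)
    rw [Nat.card_congr (subgroupOfEquivOfLe hle).toEquiv] at h1
    rw [pow_succ']
    exact hAB.trans ((hrel B b).trans (Nat.mul_le_mul_left _ h1))

theorem IsDQSDPair.pRankLE_one_iff {n : ℕ} {x y : G} (h : IsDQSDPair n x y) :
    Cfsg.PRankLE 2 1 G ↔ ∀ g : G, g ∉ zpowers x → g ^ 2 ≠ 1 := by
  have := h.finite
  constructor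
  · intro hr g hg hg2
    have h1 := h.pow_mem_center.1
    have h2 : Commute (x ^ 2 ^ (n - 1)) g :=
      (mem_center_iff.1 (h.center_eq ▸ mem_zpowers _) g).symm
    have h3 := isElementaryAbelian_sup_zpowers (orderOf_dvd_iff_pow_eq_one.1 h1.dvd) hg2 h2
    have h4 := hr _ h3.1 h3.2
    rw [card_sup_zpowers_of_commute h1 hg2
      (fun h => hg (zpowers_le.2 (pow_mem (mem_zpowers x) _) h)) h2] at h4
    norm_num at h4
  · intro hr A _ hAp
    have h1 : A ≤ center G := by
      intro a ha
      have h2 : a ∈ zpowers x := by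
        by_contra h2
        exact hr a h2 (hAp a ha)
      rw [h.center_eq]
      exact mem_zpowers_of_orderOf_dvd h2 (pow_mem (mem_zpowers x) _)
        (by rw [h.pow_mem_center.1]; exact orderOf_dvd_of_pow_eq_one (hAp a ha))
    simpa [h.card_center] using Subgroup.card_le_of_le h1

theorem IsDQSDPair.pRankLE_two {n : ℕ} {x y : G} (h : IsDQSDPair n x y) : Cfsg.PRankLE 2 2 G := by
  have := h.finite
  intro A hA hAp
  by_cases hAx : A ≤ zpowers x
  · have h1 : A ≤ center G := by
      intro a ha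
      rw [h.center_eq]
      exact mem_zpowers_of_orderOf_dvd (hAx ha) (pow_mem (mem_zpowers x) _)
        (by rw [h.pow_mem_center.1]; exact orderOf_dvd_of_pow_eq_one (hAp a ha))
    have := Subgroup.card_le_of_le h1
    rw [h.card_center] at this
    omega
  · obtain ⟨g, hgA, hg⟩ := SetLike.not_le_iff_exists.1 hAx
    rw [show 2 ^ 2 = 4 from rfl, ← h.card_centralizer hg]
    exact Subgroup.card_le_of_le fun a ha =>
      mem_centralizer_singleton_iff.2 (isMulCommutative_iff_forall.1 hA a ha g hgA)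

theorem not_pRankLE_zero [Finite G] [hp : Fact p.Prime] (h : p ∣ Nat.card G) :
    ¬ Cfsg.PRankLE p 0 G := by
  intro hr
  obtain ⟨g, hg⟩ := exists_prime_orderOf_dvd_card' p h
  have := hr (zpowers g) inferInstance fun a ha =>
    orderOf_dvd_iff_pow_eq_one.1 (hg ▸ orderOf_dvd_of_mem_zpowers ha)
  rw [Nat.card_zpowers, hg, pow_zero] at this
  exact absurd hp.out.one_lt (by omega)

/-- A non-abelian group of order 8 is quaternion of rank 1 or dihedral of rank 2. -/
theorem quaternion_or_dihedral_of_card_eq_eight (hG : Nat.card G = 8)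
    (hna : ¬ IsMulCommutative G) :
    (Nonempty (G ≃* QuaternionGroup 2) ∧ Cfsg.PRankLE 2 1 G) ∨
      (Nonempty (G ≃* DihedralGroup 4) ∧ Cfsg.PRankLE 2 2 G ∧ ¬ Cfsg.PRankLE 2 1 G) := by
  obtain ⟨x, y, h⟩ := isDQSD_of_card_eq_eight hG hna
  have := h.finite
  rcases h.2.2.2.2 with ⟨h1, h2⟩ | ⟨h1, h2⟩ | h1
  · exact Or.inr ⟨nonempty_mulEquiv_dihedralGroup h.2.2.1 h.2.2.2.1 h2 h1 hG, h.pRankLE_two,
      fun h3 => h.pRankLE_one_iff.1 h3 y h.2.2.2.1 h2⟩
  · refine Or.inl ⟨nonempty_mulEquiv_quaternionGroup (m := 2) h.2.2.1 h.2.2.2.1 h2 h1 hG,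
      h.pRankLE_one_iff.2 fun g hg hg2 => ?_⟩
    obtain ⟨i, rfl⟩ := (h.mem_or g).resolve_left fun ⟨i, hi⟩ => hg ⟨i, hi.symm⟩
    have h3 : (y * x ^ i) ^ 2 = y ^ 2 := by
      have h4 := conj_zpow_of_conj (x := x) (y := y) (r := -1) (by simpa using h1) i
      have h5 : Commute (y ^ 2) (x ^ i) := by
        rw [h2]; exact ((Commute.refl x).pow_left _).zpow_right i
      calc (y * x ^ i) ^ 2 = y * x ^ i * y⁻¹ * (y ^ 2 * x ^ i) := by simp only [sq]; group
        _ = _ := by rw [h4, h5.eq]; group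
    have h4 := h.pow_mem_center.1
    rw [← h2, ← h3, hg2, orderOf_one] at h4
    omega
  · omega

/-- Two non-commuting involutions of an extraspecial 2-group generate a dihedral group of
order 8. -/
theorem IsExtraspecial.nonempty_mulEquiv_dihedral [Finite G] (h : Cfsg.IsExtraspecial 2 G)
    {a b : G} (ha : a ^ 2 = 1) (hb : b ^ 2 = 1) (hab : ¬ Commute a b) :
    Nonempty (↥(center G ⊔ zpowers a ⊔ zpowers b) ≃* DihedralGroup 4) := by
  have haZ : a ∉ center G := fun h => hab (mem_center_iff.1 h b).symm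
  have hn : (center G ⊔ zpowers a).Normal :=
    normal_sup_zpowers_of_central_mod _ (IsExtraspecial.commutator_mem h a)
  have hCa : center G ⊔ zpowers a ≤ centralizer {a} :=
    sup_le (center_le_centralizer _) (zpowers_le.2 (mem_centralizer_singleton_iff.2 rfl))
  have hbZ : b ∉ center G ⊔ zpowers a := fun h =>
    hab (mem_centralizer_singleton_iff.1 (hCa h)).symm
  have h1 := card_sup_zpowers_of_pow_mem (p := 2) _ haZ (ha ▸ one_mem _)
  have h2 := card_sup_zpowers_of_pow_mem (p := 2) _ hbZ (hb ▸ one_mem _)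
  rw [h.2] at h1
  rw [h1] at h2
  rcases quaternion_or_dihedral_of_card_eq_eight h2 (fun hc => hab
    (isMulCommutative_iff_forall.1 hc a (mem_sup_left (mem_sup_right (mem_zpowers a))) b
      (mem_sup_right (mem_zpowers b)))) with ⟨-, h3⟩ | h3
  · exfalso
    have h4 : Cfsg.IsElementaryAbelian 2 (center G ⊔ zpowers a) := by
      rw [← closure_eq (center G), zpowers_eq_closure, ← Subgroup.closure_union]
      apply isElementaryAbelian_closure
      · rintro x (hx | rfl)
        exacts [sq_eq_one_of_mem_of_card_two h.2 hx, ha]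
      · rintro x (hx | rfl) y (hy | rfl)
        exacts [mem_center_iff.1 hy x, (mem_center_iff.1 hx _).symm, mem_center_iff.1 hy _, rfl]
    have h5 := h3 ((center G ⊔ zpowers a).subgroupOf _)
      (isMulCommutative_iff_forall.2 fun x hx y hy =>
        Subtype.ext (isMulCommutative_iff_forall.1 h4.1 _ hx _ hy))
      fun x hx => Subtype.ext (h4.2 _ hx)
    rw [Nat.card_congr (subgroupOfEquivOfLe le_sup_left).toEquiv, h1] at h5
    omega
  · exact h3.1

universe u v

theorem extraspecial_two_rank_aux (n : ℕ) : ∀ (E : Type u) [Group E] [Finite E],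
    Cfsg.IsExtraspecial 2 E → Nat.card E = 2 ^ (2 * (n + 1) + 1) →
      (Cfsg.PRankLE 2 (n + 1) E ∧ ¬ Cfsg.PRankLE 2 n E) ∨
        (Cfsg.PRankLE 2 (n + 2) E ∧ ¬ Cfsg.PRankLE 2 (n + 1) E) := by
  induction n with
  | zero =>
    intro E _ _ hE hc
    rcases quaternion_or_dihedral_of_card_eq_eight hc (IsExtraspecial.not_isMulCommutative hE) with
      h | h
    · exact Or.inl ⟨h.2, not_pRankLE_zero (by rw [hc]; norm_num)⟩
    · exact Or.inr h.2
  | succ n ih =>
    intro E _ _ hE hc
    obtain ⟨a, b, ha, -, hab⟩ := IsExtraspecial.exists_involutions hE (by omega) hc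
    obtain ⟨h1, h2⟩ := IsExtraspecial.centralizer_pair hE hab (by omega) hc
    simp only [IsExtraspecial.pRankLE_succ_iff hE ha hab]
    exact ih _ h1 h2

theorem IsExtraspecial.glue_condition [Finite G] (h : Cfsg.IsExtraspecial 2 G) {a b : G}
    (hab : ¬ Commute a b) :
    let D := center G ⊔ zpowers a ⊔ zpowers b
    let C := centralizer ({a} : Set G) ⊓ centralizer {b}
    (∀ d ∈ D, ∀ c ∈ C, Commute d c) ∧ D ⊔ C = ⊤ ∧
      ∀ (d : D) (c : C), (d : G) = c ↔ d ∈ center D ∧ c ∈ center C ∧ (d = 1 ↔ c = 1) := by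
  intro D C
  have hc : D ≤ centralizer (C : Set G) := sup_le (sup_le (center_le_centralizer _)
    (zpowers_le.2 fun c hc => mem_centralizer_singleton_iff.1 hc.1))
    (zpowers_le.2 fun c hc => mem_centralizer_singleton_iff.1 hc.2)
  have ha : a ∈ D := mem_sup_left (mem_sup_right (mem_zpowers a))
  have hb : b ∈ D := mem_sup_right (mem_zpowers b)
  have hZ := IsExtraspecial.center_centralizer_pair h hab
  refine ⟨fun d hd c hc' => (hc hd c hc').symm, ?_, fun d c => ⟨fun hdc => ?_, ?_⟩⟩
  · rw [eq_top_iff]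
    intro g _
    obtain ⟨i, j, h1, h2⟩ := exists_zpow_mul_zpow_inv_mul_commute h.2 le_rfl
      (IsExtraspecial.commutator_mem h a) (IsExtraspecial.commutator_mem h b) hab g
    have := mul_mem (mem_sup_left (mul_mem (zpow_mem ha i) (zpow_mem hb j)))
      (mem_sup_right (S := D) (show _ ∈ C from
        ⟨mem_centralizer_singleton_iff.2 h1.symm, mem_centralizer_singleton_iff.2 h2.symm⟩))
    rwa [mul_inv_cancel_left] at this
  · refine ⟨mem_center_iff.2 fun e => Subtype.ext ?_, mem_center_iff.2 fun e => Subtype.ext ?_, ?_⟩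
    · change (e : G) * d = d * e
      rw [hdc]; exact (hc e.2 c c.2).symm
    · change (e : G) * c = c * e
      rw [← hdc]; exact hc d.2 e e.2
    · rw [Subtype.ext_iff, Subtype.ext_iff, hdc]; rfl
  · rintro ⟨h1, h2, h3⟩
    have h4 : (d : G) ∈ center G := by
      rw [← hZ]
      exact ⟨⟨mem_centralizer_singleton_iff.2 (congrArg Subtype.val (mem_center_iff.1 h1 ⟨a, ha⟩)).symm,
        mem_centralizer_singleton_iff.2 (congrArg Subtype.val (mem_center_iff.1 h1 ⟨b, hb⟩)).symm⟩,
        hc d.2⟩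
    have h5 : (c : G) ∈ center G := by
      rw [← hZ]
      exact ⟨c.2, fun e he => congrArg Subtype.val (mem_center_iff.1 h2 ⟨e, he⟩)⟩
    by_cases hd : d = 1
    · rw [hd, h3.1 hd]; rfl
    · exact eq_of_mem_of_card_two h.2 h4 (fun h => hd (Subtype.ext h)) h5
        fun h => hd (h3.2 (Subtype.ext h))

theorem mulEquiv_mem_center_iff {H : Type*} [Group H] (e : G ≃* H) (g : G) :
    e g ∈ center H ↔ g ∈ center G := by
  simp only [mem_center_iff]
  refine ⟨fun h x => e.injective (by simpa using h (e x)), fun h x => ?_⟩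
  obtain ⟨x, rfl⟩ := e.surjective x
  rw [← map_mul, ← map_mul, h]

theorem extraspecial_two_iso_aux (n : ℕ) : ∀ (E : Type u) [Group E] [Finite E] (E' : Type v)
    [Group E'] [Finite E'], Cfsg.IsExtraspecial 2 E → Cfsg.IsExtraspecial 2 E' →
      Nat.card E = 2 ^ (2 * (n + 1) + 1) → Nat.card E' = 2 ^ (2 * (n + 1) + 1) →
      (Cfsg.PRankLE 2 (n + 1) E ↔ Cfsg.PRankLE 2 (n + 1) E') → Nonempty (E ≃* E') := by
  induction n with
  | zero =>
    intro E _ _ E' _ _ hE hE' hc hc' hr
    rcases quaternion_or_dihedral_of_card_eq_eight hc (IsExtraspecial.not_isMulCommutative hE) with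
      ⟨⟨e⟩, h⟩ | ⟨⟨e⟩, -, h⟩ <;>
    rcases quaternion_or_dihedral_of_card_eq_eight hc' (IsExtraspecial.not_isMulCommutative hE')
      with ⟨⟨e'⟩, h'⟩ | ⟨⟨e'⟩, -, h'⟩
    · exact ⟨e.trans e'.symm⟩
    · exact absurd (hr.1 h) h'
    · exact absurd (hr.2 h') h
    · exact ⟨e.trans e'.symm⟩
  | succ n ih =>
    intro E _ _ E' _ _ hE hE' hc hc' hr
    obtain ⟨a, b, ha, hb, hab⟩ := IsExtraspecial.exists_involutions hE (by omega) hc
    obtain ⟨h1, h2⟩ := IsExtraspecial.centralizer_pair hE hab (by omega) hc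
    obtain ⟨a', b', ha', hb', hab'⟩ := IsExtraspecial.exists_involutions hE' (by omega) hc'
    obtain ⟨h1', h2'⟩ := IsExtraspecial.centralizer_pair hE' hab' (by omega) hc'
    rw [IsExtraspecial.pRankLE_succ_iff hE ha hab, IsExtraspecial.pRankLE_succ_iff hE' ha' hab'] at hr
    obtain ⟨ψ⟩ := ih _ _ h1 h1' h2 h2' hr
    obtain ⟨φ⟩ := IsExtraspecial.nonempty_mulEquiv_dihedral hE ha hb hab
    obtain ⟨φ'⟩ := IsExtraspecial.nonempty_mulEquiv_dihedral hE' ha' hb' hab'
    obtain ⟨h3, h4, h5⟩ := IsExtraspecial.glue_condition hE hab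
    obtain ⟨h3', h4', h5'⟩ := IsExtraspecial.glue_condition hE' hab'
    refine nonempty_mulEquiv_of_central_product h3 h4 h3' h4' (φ.trans φ'.symm) ψ fun d c => ?_
    rw [h5, h5', mulEquiv_mem_center_iff, mulEquiv_mem_center_iff, MulEquiv.map_eq_one_iff,
      MulEquiv.map_eq_one_iff]

end CfsgLib.PGrp
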