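import Cfsg.Agent.Lib.FpfPack
import Cfsg.Agent.Lib.H5Kegel

/-!
# Fixed-point-free coprime operator groups of order a product of two primes
-/

set_option autoImplicit false

namespace CfsgLib.Fpf

open Module Subgroup CfsgLib CfsgLib.H9 Cfsg
open scoped commutatorElement IsMulCommutative

section grp
variable {X : Type*} [Group X] [Finite X]

/-- the transfer-like product over `A` in an abelian section without fixed points -/
theorem mem_of_conj_mem {A B M N K : Subgroup X} (hBA : B ≤ A) (hM : A ≤ normalizer (M : Set X))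
    (hN : A ≤ normalizer (N : Set X)) (hNM : N ≤ M) (hNK : N ≤ K) (hab : ⁅M, M⁆ ≤ N)
    (hcop : (Nat.card A).Coprime (Nat.card M)) (hs : Group.IsSolvable M)
    (hf : M ⊓ centralizer (A : Set X) = ⊥) {z : X} (hz : z ∈ M)
    (hzB : z ∈ centralizer (B : Set X)) (h : ∀ b ∈ A, b ∉ B → b * z * b⁻¹ ∈ K) : z ∈ K := by
  classical
  have hn : (N.subgroupOf M).Normal := (normal_subgroupOf_iff_le_normalizer hNM).2
    (Cop.le_normalizer_of_commutator_le hab hNM)
  have hc : IsMulCommutative (M ⧸ N.subgroupOf M) := ⟨⟨fun x y => by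
    obtain ⟨x, rfl⟩ := QuotientGroup.mk_surjective x
    obtain ⟨y, rfl⟩ := QuotientGroup.mk_surjective y
    rw [← commutatorElement_eq_one_iff_mul_comm]
    exact (QuotientGroup.eq_one_iff ⁅x, y⁆).2 (hab (commutator_mem_commutator x.2 y.2))⟩⟩
  have := Fintype.ofFinite A
  let φ := Cop.sectionAction A M N hM hN
  let f := QuotientGroup.mk' (N.subgroupOf M)
  let z₀ : M := ⟨z, hz⟩
  have h1 : ∏ a : A, φ a (f z₀) = 1 := by
    obtain ⟨m, hm⟩ := QuotientGroup.mk_surjective (∏ a : A, φ a (f z₀))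
    have h2 : ∀ a : A, φ a m = m := fun a => by
      rw [hm, map_prod]
      exact Fintype.prod_equiv (Equiv.mulLeft a) _ _ fun b => by simp
    obtain ⟨n, hn, c, hc, e⟩ := Cop.exists_mul_centralizer_of_commutator_mem hN
      (hcop.coprime_dvd_right (card_dvd_of_le hNM)) (Or.inr (isSolvable_of_le hs hNM)) (g := m)
      fun a ha => by
        have := h2 ⟨a, ha⟩
        rw [Cop.sectionAction_mk, QuotientGroup.eq_iff_div_mem, mem_subgroupOf] at this
        rw [← inv_mem_iff, commutatorElement_inv]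
        simpa [commutatorElement_def, div_eq_mul_inv] using this
    have h3 : c ∈ M ⊓ centralizer (A : Set X) :=
      ⟨(M.mul_mem_cancel_left (hNM hn)).1 (e ▸ m.2), hc⟩
    rw [hf, mem_bot] at h3
    rw [h3, mul_one] at e
    rw [← hm]
    exact (QuotientGroup.eq_one_iff m).2 (mem_subgroupOf.2 (e ▸ hn))
  rw [← Finset.prod_filter_mul_prod_filter_not Finset.univ fun a : A => (a : X) ∈ B,
    Finset.prod_eq_pow_card (b := f z₀) fun a ha => by
      refine (Cop.sectionAction_mk hM hN a z₀).trans (congrArg f (Subtype.ext ?_))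
      change (a : X) * z * (a : X)⁻¹ = z
      rw [hzB a (Finset.mem_filter.1 ha).2, mul_inv_cancel_right]] at h1
  have h2 : ∏ a ∈ Finset.univ.filter (fun a : A => ¬ (a : X) ∈ B), φ a (f z₀) ∈ (K.subgroupOf M).map f :=
    prod_mem fun a ha => by
      rw [show φ a (f z₀) = _ from Cop.sectionAction_mk hM hN a z₀]
      exact mem_map_of_mem f (h a a.2 (Finset.mem_filter.1 ha).2)
  rw [eq_inv_of_mul_eq_one_right h1, inv_mem_iff, ← map_pow, ← mem_comap, comap_map_eq,
    QuotientGroup.ker_mk', sup_eq_left.2 (subgroupOf_mono M hNK), mem_subgroupOf] at h2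
  have h3 : (Finset.univ.filter fun a : A => (a : X) ∈ B).card = Nat.card B := by
    rw [← card_subgroupOf_of_le hBA, Nat.card_eq_fintype_card, Fintype.card_subtype]; rfl
  rw [h3] at h2
  refine zpowers_le.2 h2 (mem_zpowers_pow_iff.2 ?_)
  exact (hcop.coprime_dvd_left (card_dvd_of_le hBA)).coprime_dvd_right
    (Subgroup.orderOf_dvd_natCard M hz)

theorem le_of_conj_le {A B M N K E : Subgroup X} (hBA : B ≤ A) (hM : A ≤ normalizer (M : Set X))
    (hN : A ≤ normalizer (N : Set X)) (hNM : N ≤ M) (hNK : N ≤ K) (hab : ⁅M, M⁆ ≤ N)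
    (hcop : (Nat.card A).Coprime (Nat.card M)) (hs : Group.IsSolvable M)
    (hf : M ⊓ centralizer (A : Set X) = ⊥) (hE : E ≤ M) (hBE : B ≤ normalizer (E : Set X))
    (h1 : ⁅E, B⁆ ≤ K) (h : ∀ b ∈ A, b ∉ B → E.map (MulAut.conj b).toMonoidHom ≤ K) : E ≤ K := by
  rw [← Cop.commutator_sup_centralizer hBE ((hcop.coprime_dvd_left
    (card_dvd_of_le hBA)).coprime_dvd_right (card_dvd_of_le hE)) (Or.inr (isSolvable_of_le hs hE))]
  exact sup_le h1 fun z hz => mem_of_conj_mem hBA hM hN hNM hNK hab hcop hs hf (hE hz.1) hz.2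
    fun b hb hb' => h b hb hb' (conj_mem_map_conj hz.1)

theorem inf_centralizer_le_of_sup {S L₁ L₂ Q : Subgroup X} (hS : S ≤ normalizer (Q : Set X))
    (h1 : L₁ ≤ S) (h2 : L₂ ≤ S) (h3 : S ≤ normalizer (L₁ : Set X)) (h4 : S ≤ L₁ ⊔ L₂)
    (hcop : (Nat.card S).Coprime (Nat.card Q)) (hs : Group.IsSolvable Q) (hQ : ⁅Q, S⁆ = Q) :
    Q ⊓ centralizer (L₂ : Set X) ≤ ⁅Q, L₁⁆ ⊔ ⁅Q, Q⁆ := by
  intro z hz
  have hcop1 := hcop.coprime_dvd_left (card_dvd_of_le h1)
  have hQ' : S ≤ normalizer ((⁅Q, Q⁆ : Subgroup X) : Set X) := Cop.le_normalizer_commutator hS hS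
  have hle : ⁅Q, Q⁆ ≤ Q := Cop.commutator_le_left_of_le_normalizer le_normalizer
  obtain ⟨n, hn, c, hc, e⟩ := Cop.exists_commutator_mul_centralizer (h1.trans hS) hcop1
    (Or.inr hs) hz.1
  rw [← e]
  refine mul_mem (mem_sup_left hn) (mem_sup_right ?_)
  refine Cop.mem_of_mem_commutator_sup_of_commutator_mem hS hQ' hle le_rfl hcop
    (mem_sup_left (hQ.ge hc.1)) fun s hs => ?_
  have : ⁅zpowers c, L₁ ⊔ L₂⁆ ≤ ⁅Q, Q⁆ := by
    refine CommCalc.commutator_sup_right_le (h1.trans hQ') (h2.trans hQ') ?_ ?_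
    · rw [commutator_comm, Cop.commutator_eq_bot_iff_le_centralizer'.2 (zpowers_le.2 hc.2)]
      exact bot_le
    · rw [commutator_comm, zpowers_eq_closure]
      refine CommCalc.commutator_closure_right_le (Set.singleton_subset_iff.2
        (normalizer_commutator_ge_left Q Q hc.1)) fun y hy c' hc' => ?_
      rw [Set.mem_singleton_iff.1 hc']
      have h5 : ⁅y, c⁆ ∈ Q ⊓ centralizer (L₁ : Set X) := mul_mem (conj_mem_of_mem_normalizer
        (Cop.le_normalizer_inf_centralizer hS h3 (h2 hy)) hc) (inv_mem hc)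
      have h6 : ⁅y, c⁆ = ⁅y, n⁻¹⁆ := by
        have := hz.2 y hy
        rw [← e] at this
        rw [commutatorElement_def, commutatorElement_def, inv_inv]
        calc y * c * y⁻¹ * c⁻¹ = y * n⁻¹ * y⁻¹ * (y * (n * c)) * y⁻¹ * c⁻¹ := by group
          _ = _ := by rw [this]; group
      refine Cop.mem_of_mem_commutator_sup_of_commutator_mem (h1.trans hS) (h1.trans hQ') hle le_rfl
        hcop1 (mem_sup_left ?_) fun a ha => ?_
      · rw [h6]
        exact mul_mem (conj_mem_of_mem_normalizer (Cop.le_normalizer_commutator hS h3 (h2 hy))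
          (inv_mem hn)) (inv_mem (inv_mem hn))
      · rw [commutatorElement_eq_one_iff_mul_comm.2 (h5.2 a ha).symm]; exact one_mem _
  exact this (commutator_mem_commutator (mem_zpowers c) (h4 hs))

/-- choice of the configuration `Q S A` in a non-nilpotent group -/
theorem exists_pair {H A F : Subgroup X} [H.Normal] [F.Normal] (hs : Group.IsSolvable H)
    (hcop : (Nat.card A).Coprime (Nat.card H)) (hFH : F < H) (hF : Group.IsNilpotent F)
    (hmax : ∀ K : Subgroup X, K.Normal → K ≤ H → Group.IsNilpotent K → K ≤ F) :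
    ∃ (u r : ℕ) (Q S : Subgroup X), u.Prime ∧ r.Prime ∧ u ≠ r ∧ Q ≤ F ∧ S ≤ H ∧ IsPGroup u Q ∧
      IsPGroup r S ∧ A ≤ normalizer (S : Set X) ∧ S ⊔ A ≤ normalizer (Q : Set X) ∧ ⁅Q, S⁆ ≠ ⊥ ∧
      (∀ U : Subgroup X, U < Q → S ⊔ A ≤ normalizer (U : Set X) → ⁅U, S⁆ = ⊥) ∧
      ∀ T : Subgroup X, T < S → A ≤ normalizer (T : Set X) → ⁅Q, T⁆ = ⊥ := by
  obtain ⟨K, hKn, hFK, hKH, hch⟩ := exists_chief_above hFH
  have hc := commutator_le_of_chief_of_isSolvable (isSolvable_of_le hs hKH) hFK hch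
  obtain ⟨r, hr, -, hpow⟩ := exists_prime_of_chief hc hFK hch
  have := Fact.mk hr
  obtain ⟨S₀, hS₀, hAS₀⟩ := Cop.exists_invariant_sylowOf r (A := A) (G := K)
    le_normalizer_of_normal (hcop.coprime_dvd_right (card_dvd_of_le hKH))
    (Or.inr (isSolvable_of_le hs hKH))
  have hS₀' : IsSylowIn r S₀ K := Cop.isPiHallOf_singleton_iff.1 hS₀
  obtain ⟨u, hu, hur, hne⟩ : ∃ u : ℕ, u.Prime ∧ u ≠ r ∧ ⁅S₀, pCore u X ⊓ F⁆ ≠ ⊥ := by
    by_contra hcon
    push Not at hcon
    have h1 : F ≤ normalizer (S₀ : Set X) := le_of_forall_sylow_le fun p _ _ => by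
      obtain ⟨P⟩ : Nonempty (Sylow p F) := inferInstance
      refine ⟨P, ?_⟩
      have h2 : (P : Subgroup F).map F.subtype ≤ pCore p X ⊓ F := le_inf (le_pCore_of_le_fitting
        ((map_subtype_le _).trans (le_fitting hF)) (P.isPGroup'.map _)) (map_subtype_le _)
      refine h2.trans ?_
      by_cases hp : p = r
      · subst hp
        exact (Cop.le_sylowOf_of_le_normalizer hS₀ (pCore_isPGroup p).to_inf_left
          (inf_le_right.trans hFK.le) le_normalizer_of_normal).trans le_normalizer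
      · exact (Cop.commutator_eq_bot_iff_le_centralizer'.1 (hcon p Fact.out hp)).trans
          (centralizer_le_normalizer _)
    have h2 : K ≤ F ⊔ S₀ := by
      let f := QuotientGroup.mk' F
      have h3 : IsPGroup r (K.map f) := by
        rintro ⟨_, a, ha, rfl⟩
        exact ⟨1, Subtype.ext (by
          rw [pow_one]; exact (QuotientGroup.eq_one_iff _).2 (hpow a ha))⟩
      have h4 := (hS₀'.map f).eq_of_le h3 (hS₀'.map f).le le_rfl
      refine (le_comap_map f K).trans ?_
      rw [h4, comap_map_eq, QuotientGroup.ker_mk', sup_comm]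
    have h3 : S₀ ≤ pCore r X ⊓ K := le_inf ((le_map_pCore hS₀'.le
      (h2.trans (sup_le h1 le_normalizer)) hS₀'.isPGroup).trans
      (map_pCore_le_of_isSubnormal r hKn.isSubnormal)) hS₀'.le
    exact hFK.not_ge (h2.trans (sup_le le_rfl (h3.trans (hmax _ inferInstance
      (inf_le_right.trans hKH) (pCore_isPGroup r).to_inf_left.isNilpotent))))
  obtain ⟨S, hS1, hS2, hS3, hS4⟩ := Cop.exists_minimal_action hAS₀ hne
  obtain ⟨Q, hQ1, hQ2, hQ3, hQ4⟩ := Cop.exists_minimal_action (B := S ⊔ A) (A := S)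
    (P := pCore u X ⊓ F) le_normalizer_of_normal (by rwa [commutator_comm])
  exact ⟨u, r, Q, S, hu, hr, hur, hQ1.trans inf_le_right, hS1.trans (hS₀'.le.trans hKH),
    (pCore_isPGroup u).to_inf_left.to_le hQ1, hS₀'.isPGroup.to_le hS1, hS2, hQ2, hQ3, hQ4,
    fun T h1 h2 => le_bot_iff.1 ((commutator_mono hQ1 le_rfl).trans
      ((commutator_comm _ _).trans (hS4 T h1 h2)).le)⟩

theorem eq_or_eq_of_prime {A B C : Subgroup X}
    (hA : ∀ B : Subgroup X, B ≤ A → B ≠ ⊥ → B ≠ A → (Nat.card B).Prime) (hB : B ≠ ⊥)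
    (hBC : B ≤ C) (hCA : C ≤ A) : C = B ∨ C = A := by
  refine or_iff_not_imp_right.2 fun h => ?_
  have h1 := hA C hCA (fun h' => hB (le_bot_iff.1 (hBC.trans h'.le))) h
  refine (eq_of_le_of_card_le hBC (Nat.le_of_eq ?_)).symm
  rcases (Nat.dvd_prime h1).1 (card_dvd_of_le hBC) with h2 | h2
  · exact absurd (card_eq_one.1 h2) hB
  · exact h2.symm

theorem isNilpotent_inf_centralizer {H A B : Subgroup X} [H.Normal] (hBA : B ≤ A)
    (hAB : A ≤ normalizer (B : Set X)) (hp : (B.relIndex A).Prime)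
    (hmax : ∀ C : Subgroup X, B ≤ C → C ≤ A → C = B ∨ C = A)
    (hf : H ⊓ centralizer (A : Set X) = ⊥) :
    Group.IsNilpotent (H ⊓ centralizer (B : Set X) : Subgroup X) := by
  obtain ⟨b, hb, hbB⟩ : ∃ b ∈ A, b ∉ B := by
    by_contra h
    push Not at h
    exact hp.ne_one (relIndex_eq_one.2 h)
  have hn := Cop.le_normalizer_inf_centralizer (G := H) le_normalizer_of_normal hAB
  have : (B.subgroupOf A).Normal := (normal_subgroupOf_iff_le_normalizer hBA).2 hAB
  refine H5.isNilpotent_of_fpf_aut hp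
    ((H ⊓ centralizer (B : Set X) : Subgroup X).normalizerMonoidHom ⟨b, hn hb⟩) ?_ fun x hx => ?_
  · rw [← map_pow]
    ext x
    change b ^ _ * (x : X) * (b ^ _)⁻¹ = x
    rw [x.2.2 (b ^ B.relIndex A) (pow_index_mem (H := B.subgroupOf A) ⟨b, hb⟩),
      mul_inv_cancel_right]
  · have h1 : b * (x : X) * b⁻¹ = x := congrArg Subtype.val hx
    have h2 : B ⊔ zpowers b = A := (hmax _ le_sup_left (sup_le hBA (zpowers_le.2 hb))).resolve_left
      fun h => hbB (h.le (mem_sup_right (mem_zpowers b)))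
    refine Subtype.ext (mem_bot.1 (hf.le ⟨x.2.1, ?_⟩))
    have h3 : A ≤ centralizer (zpowers (x : X) : Set X) := h2.ge.trans (sup_le
      (fun y hy => mem_centralizer_zpowers_iff.2 (x.2.2 y hy).symm)
      (zpowers_le.2 (mem_centralizer_zpowers_iff.2 (mul_inv_eq_iff_eq_mul.1 h1).symm)))
    exact fun y hy => (mem_centralizer_zpowers_iff.1 (h3 hy)).symm

end grp

variable {ℓ : ℕ} [Fact ℓ.Prime] {Y : Type*} [Group Y] [Finite Y] {k W : Type*} [Field k]
  [AddCommGroup W] [Module k W] {ρ : Y →* Module.End k W} {H A : Subgroup Y}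

/-- The stabilizer of a homogeneous component of an `S A`-invariant subgroup `Q`. -/
theorem Conf.exists_stab (c : Conf ℓ ρ H A)
    (hA : ∀ B : Subgroup Y, B ≤ A → B ≠ ⊥ → B ≠ A → (Nat.card B).Prime) {Q S R : Subgroup Y}
    (hQ : Q ≤ H) (hS : S ≤ H) (hAS : A ≤ normalizer (S : Set Y))
    (hSA : S ⊔ A ≤ normalizer (Q : Set Y)) {ψ : Y → k} {U : Submodule k W}
    {e : Module.End k W} (P : Pack ρ Q R ψ U) (hK : ¬ Q ≤ fixSub ρ U) (he : ∀ v ∈ U, e v = v)
    (h0 : ∀ y ∈ normalizer (Q : Set Y), y ∉ stabSub ρ U → ∀ v ∈ U, e (ρ y v) = 0) :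
    ∃ a ∈ A, a ≠ 1 ∧ zpowers a ≠ A ∧ a ∈ stabSub ρ U ∧ ⁅S, zpowers a⁆ ≤ stabSub ρ U ∧
      ∀ v ∈ U, normOp ρ (zpowers a) v = 0 := by
  have := c.normal
  set T := stabSub ρ U
  have hconj : ∀ x ∈ S, A.map (MulAut.conj x).toMonoidHom ≤ normalizer (Q : Set Y) := fun x hx =>
    Cop.map_conj_le_of_mem (le_sup_right.trans hSA) (hSA (mem_sup_left hx))
  have hnorm : ∀ x ∈ S, ∀ v ∈ U, normOp ρ (A.map (MulAut.conj x).toMonoidHom ⊓ T) v = 0 :=
    fun x hx => normOp_inf_stab he (fun y hy => h0 y (hconj x hx hy))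
      (by rw [normOp_map_conj, c.norm, mul_zero, zero_mul])
  let B := A ⊓ (S ⊔ (T ⊓ normalizer (S : Set Y)))
  have hBA : B ≠ A := fun h => by
    obtain ⟨n, hn, h1⟩ := Cop.exists_conj_le_of_le_sup (N := S) (K := T ⊓ normalizer (S : Set Y))
      (B := A) inf_le_right (h.ge.trans inf_le_right) (c.cop.coprime_dvd_right (card_dvd_of_le hS))
      (Or.inr (isSolvable_of_le c.solv hS))
    have h2 := h1.trans inf_le_left
    have h3 := Cop.commutator_sup_centralizer (pack_le_normalizer P (hconj n hn) h2)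
      (by rw [card_map_conj]; exact c.cop.coprime_dvd_right (card_dvd_of_le (P.le.trans hQ)))
      (Or.inr (isSolvable_of_le c.solv (P.le.trans hQ)))
    have h4 : R ≤ fixSub ρ U := by
      refine h3.ge.trans (sup_le ((pack_commutator_le_ker P (hconj n hn) h2).trans inf_le_right)
        ((inf_le_inf_right _ (P.le.trans hQ)).trans ?_))
      rw [centralizer_map_conj, ← map_conj_eq_of_normal n H, ← map_conj_inf,
        c.fpf, Subgroup.map_bot]
      exact bot_le
    exact hK ((pack_eq_of_commutator_le P ((pack_commutator_le P).trans h4)).ge.trans h4)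
  have hex : ∀ x ∈ S, ∃ a ∈ B, a ≠ 1 ∧ x * a * x⁻¹ ∈ T := fun x hx => by
    have h1 : A.map (MulAut.conj x).toMonoidHom ⊓ T ≠ ⊥ := fun h => P.ne (eq_bot_iff.2 fun v hv => by
      have := hnorm x hx v hv
      rwa [h, normOp_bot] at this)
    obtain ⟨⟨_, ⟨a, ha, rfl⟩, h2⟩, h3⟩ := ne_bot_iff_exists_ne_one.1 h1
    refine ⟨a, ⟨ha, ?_⟩, fun h => h3 (Subtype.ext (by simp [h])), h2⟩
    have e : a = a * x * a⁻¹ * x⁻¹ * (x * a * x⁻¹) := by group
    rw [e]
    exact mul_mem (mem_sup_left (mul_mem (conj_mem_of_mem_normalizer (hAS ha) hx) (inv_mem hx)))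
      (mem_sup_right ⟨h2, conj_mem_of_mem_normalizer (le_normalizer (le_normalizer hx)) (hAS ha)⟩)
  have hgen : ∀ a ∈ B, a ≠ 1 → zpowers a = B := fun a ha h1 =>
    ((eq_or_eq_of_prime hA (by rwa [Ne, zpowers_eq_bot]) (zpowers_le.2 ha)
      inf_le_left).resolve_right hBA).symm
  have hall : ∀ x ∈ S, ∀ b ∈ B, x * b * x⁻¹ ∈ T := fun x hx b hb => by
    obtain ⟨a, ha, h1, h2⟩ := hex x hx
    obtain ⟨n, rfl⟩ := mem_zpowers_iff.1 ((hgen a ha h1).ge hb)
    rw [← conj_zpow]; exact zpow_mem h2 n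
  have hBT : B ≤ T := fun b hb => by simpa using hall 1 (one_mem _) b hb
  obtain ⟨a, ha, h1, -⟩ := hex 1 (one_mem _)
  refine ⟨a, ha.1, h1, hgen a ha h1 ▸ hBA, hBT ha, ?_, fun v hv => ?_⟩
  · rw [hgen a ha h1]
    exact commutator_le.2 fun x hx b hb => mul_mem (hall x hx b hb) (inv_mem (hBT hb))
  · have h2 := hnorm 1 (one_mem _) v hv
    rw [map_conj_one] at h2
    rwa [hgen a ha h1, show B = A ⊓ T from le_antisymm (le_inf inf_le_left hBT)
      fun t ht => ⟨ht.1, mem_sup_right ⟨ht.2, hAS ht.1⟩⟩]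

/-- If `|A|` is a product of two primes, then `H` is nilpotent. -/
theorem Conf.isNilpotent [IsAlgClosed k] [CharP k ℓ] [FiniteDimensional k W] (c : Conf ℓ ρ H A)
    (hA : ∀ B : Subgroup Y, B ≤ A → B ≠ ⊥ → B ≠ A →
      (Nat.card B).Prime ∧ (B.relIndex A).Prime) : Group.IsNilpotent H := by
  by_contra hnil
  have := c.normal
  obtain ⟨F, hFn, hFH, hF, -, hmax⟩ := c.exists_fitting
  obtain ⟨u, r, Q, S, hu, hr, hur, hQF, hSH, hQ, hS, hAS, hSA, hne, hminQ, hminS⟩ :=
    exists_pair c.solv c.cop (lt_of_le_of_ne hFH fun h => hnil (h ▸ hF)) hF hmax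
  have := Fact.mk hu
  have := Fact.mk hr
  have hQH := hQF.trans hFH
  have hq : (Nat.card Q : k) ≠ 0 := natCast_ne_zero_of_coprime k ℓ
    ((c.coprime_of_isNilpotent hFH hF).coprime_dvd_left (card_dvd_of_le hQF))
  have hSu : (Nat.card S).Coprime u := coprime_card_of_isPGroup_of_ne hr hu hur.symm hS
  have hSQ := Cop.coprime_card_of_isPGroup hSu hQ
  have hsQ := isSolvable_of_le c.solv hQH
  have hsS := isSolvable_of_le c.solv hSH
  have hAQ := c.cop.coprime_dvd_right (card_dvd_of_le hQH)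
  have hAS' := c.cop.coprime_dvd_right (card_dvd_of_le hSH)
  have hSN : S ≤ normalizer (Q : Set Y) := le_sup_left.trans hSA
  have hAN : A ≤ normalizer (Q : Set Y) := le_sup_right.trans hSA
  obtain ⟨m1, m2, m3, m4, -, m5, -⟩ := Cop.minimal_action hQ hSA le_sup_left
    (sup_le le_normalizer hAS) hSu hne hminQ
  have hQ0 : Q ≠ ⊥ := fun h => hne (by rw [h, commutator_bot_left])
  have hS0 : S ≠ ⊥ := fun h => hne (by rw [h, commutator_bot_right])
  have hQ'Q : ⁅Q, Q⁆ ≤ Q := Cop.commutator_le_left_of_le_normalizer le_normalizer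
  obtain ⟨R, ψ, U, e, P, hU, he, h0, -⟩ := exists_component ρ Q hq (LinearMap.ker (normOp ρ Q))
    (ker_normOp_ne_bot (by
      obtain ⟨g, hg⟩ := ne_bot_iff_exists_ne_one.1 hQ0
      exact ⟨g, g.2, fun h => hg (Subtype.ext (c.faithful g (hQH g.2) h))⟩))
    (fun g hg => ker_normOp_invariant (le_normalizer hg)) fun g hg h hh a ha v _ => by
      rw [← rho_mul_apply, ← rho_mul_apply, m4 (commutator_mem_commutator hg hh) a ha]
  have hK : ¬ Q ≤ fixSub ρ U := fun h => P.ne (eq_bot_iff.2 fun v hv =>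
    eq_zero_of_mem_ker_normOp hq (hU.le hv).1 fun g hg => h hg v hv)
  obtain ⟨a, ha, ha1, haA, haT, hLT, hn0⟩ := c.exists_stab (fun B h1 h2 h3 => (hA B h1 h2 h3).1)
    hQH hSH hAS hSA P hK he fun y hy => h0 y hy (ker_normOp_invariant hy)
  have hBA := zpowers_le.2 ha
  have hBT := zpowers_le.2 haT
  have hB0 : zpowers a ≠ ⊥ := by rwa [Ne, zpowers_eq_bot]
  obtain ⟨hp, hp'⟩ := hA _ hBA hB0 haA
  have hmaxB := fun C => eq_or_eq_of_prime (B := zpowers a) (C := C)
    (fun B h1 h2 h3 => (hA B h1 h2 h3).1) hB0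
  have hBQ := hAQ.coprime_dvd_left (card_dvd_of_le hBA)
  have hBS := hAS'.coprime_dvd_left (card_dvd_of_le hBA)
  have hBSn := hBA.trans hAS
  have hLS : ⁅S, zpowers a⁆ ≤ S := Cop.commutator_le_left_of_le_normalizer hBSn
  have hLQ := hSQ.coprime_dvd_left (card_dvd_of_le hLS)
  have hpa : (orderOf a).Prime := by rwa [Nat.card_zpowers] at hp
  have hQL : ⁅Q, ⁅S, zpowers a⁆⁆ ≤ Q ⊓ fixSub ρ U := by
    rw [← Cop.commutator_commutator_eq (hLS.trans hSN) hLQ]
    refine (commutator_mono ?_ le_rfl).trans (pack_commutator_le_ker P (hLS.trans hSN) hLT)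
    refine pack_frob_le P hq hQ (fun g hg => pack_commutator_le P
      (m3.le (Cop.pow_mem_frattini_map hQ hg))) hpa (hAN ha) haT hn0 (hLS.trans hSN) hLT
      (normalizer_commutator_ge_right _ _ (mem_zpowers a)) ?_
      (hSu.coprime_dvd_left (card_dvd_of_le hLS)) ?_ (Cop.commutator_commutator_eq hBSn hBS) ?_
    · rw [← Nat.card_zpowers]
      exact hBQ.coprime_dvd_right (hQ.card_eq_or_dvd.resolve_left fun h => hQ0 (card_eq_one.1 h))
    · rw [← Nat.card_zpowers]; exact hBS.coprime_dvd_right (card_dvd_of_le hLS)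
    · refine ((commutator_mono le_rfl (commutator_mono hLS hLS)).trans (hminS _ ?_
        (Cop.le_normalizer_commutator hAS hAS)).le).trans bot_le
      exact (Cop.commutator_le_frattini_map hS).trans_lt (Cop.frattini_map_lt hS0)
  have hRB := pack_commutator_le_ker P (hBA.trans hAN) hBT
  set B := zpowers a with hB
  set L := ⁅S, B⁆ with hL
  set K := Q ⊓ fixSub ρ U with hKdef
  have hK' : ¬ Q ≤ K := fun h => hK (h.trans inf_le_right)
  have hQK : Q ≤ normalizer (K : Set Y) := le_normalizer_ker le_normalizer (pack_le_stab P)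
  have hfQ : Q ⊓ centralizer (A : Set Y) = ⊥ :=
    le_bot_iff.1 ((inf_le_inf_right _ hQH).trans c.fpf.le)
  by_cases hn : A ≤ normalizer (B : Set Y)
  · -- `B` is normal in `A`
    have hL0 : ⁅Q, L⁆ = ⊥ := hminS L (lt_of_le_of_ne hLS fun h => hK' (m1.ge.trans (h ▸ hQL)))
      (Cop.le_normalizer_commutator hAS hn)
    have hSe := Cop.commutator_sup_centralizer hBSn hBS (Or.inr hsS)
    have hQBQ : ⁅Q, B⁆ ≤ Q := Cop.commutator_le_left_of_le_normalizer (hBA.trans hAN)
    have hQB : ⁅Q, B⁆ = Q := by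
      by_contra h
      have h1 := Cop.commutator_eq_bot_of_le_frattini hBQ ((m5 _ (lt_of_le_of_ne hQBQ h)
        (sup_le (hSe.ge.trans (sup_le ?_ ?_)) (Cop.le_normalizer_commutator hAN hn))).trans m3.ge)
      · have h2 := isNilpotent_inf_centralizer hBA hn hp' hmaxB c.fpf
        refine hne (le_bot_iff.1 ((commutator_mono le_rfl hSe.ge).trans
          (CommCalc.commutator_sup_right_le le_normalizer_of_normal le_normalizer_of_normal hL0.le
            (commutator_le.2 fun g hg x hx => ?_))))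
        refine mem_bot.2 (commutatorElement_eq_one_iff_commute.2
          (commute_of_coprime_of_mem_isNilpotent h2 ⟨hQH hg, ?_⟩ ⟨hSH hx.1, hx.2⟩ ?_))
        · exact commutator_eq_bot_iff_le_centralizer.1 h1 hg
        · exact (hSQ.symm.coprime_dvd_left (Subgroup.orderOf_dvd_natCard Q hg)).coprime_dvd_right
            (Subgroup.orderOf_dvd_natCard S hx.1)
      · exact (Cop.commutator_eq_bot_iff_le_centralizer'.1 hL0).trans
          ((centralizer_le hQBQ).trans (centralizer_le_normalizer _))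
      · exact Cop.le_normalizer_commutator (inf_le_left.trans hSN)
          (inf_le_right.trans (centralizer_le_normalizer _))
    have hfp : ∀ g ∈ Q, ⁅g, a⁆ ∈ R → g ∈ R := fun g hg h =>
      sub_fpf P (hBA.trans hAN) hBT hBQ (mem_sup_left (hQB.ge hg)) fun d hd =>
        commutator_mem_of_mem_zpowers (P.mem_normalizer (hAN ha) haT) h hd
    have hfix : ∀ x ∈ S, ∀ z ∈ ⁅Q, Q⁆, x * z * x⁻¹ = z := fun x hx z hz => by
      rw [(m2.ge hz).2 x hx, mul_inv_cancel_right]
    have hSR : S ≤ normalizer (R : Set Y) := fun x hx => mem_normalizer_of_conj_mem fun g hg =>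
      pack_nondeg P (conj_mem_of_mem_normalizer (hSN hx) (P.le hg)) fun y hy => by
        have h1 := conj_mem_of_mem_normalizer' (hSN hx) hy
        have h2 : ⁅x * g * x⁻¹, y⁆ = x * ⁅g, x⁻¹ * y * x⁆ * x⁻¹ := by
          simp only [commutatorElement_def]; group
        rw [h2, hfix x hx _ (commutator_mem_commutator (P.le hg) h1)]
        exact (pack_commutator_le_ker P le_normalizer (pack_le_stab P)
          (commutator_mem_commutator hg h1)).2
    have hCT : S ⊓ centralizer (B : Set Y) ≤ stabSub ρ U := fun x hx v hv => by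
      rw [hU] at hv ⊢
      refine ⟨ker_normOp_invariant (hSN hx.1) v hv.1,
        weightSpace_invariant (hSR hx.1) (fun g hg => ?_) v hv.2⟩
      have hBR := pack_le_normalizer P (hBA.trans hAN) hBT
      obtain ⟨n, hn, z, hz, rfl⟩ := Cop.exists_commutator_mul_centralizer hBR
        (hBQ.coprime_dvd_right (card_dvd_of_le P.le)) (Or.inr (isSolvable_of_le hsQ P.le)) hg
      have h1 := Cop.inf_centralizer_le_commutator_of_eq (hBA.trans hAN) hBQ hQB ⟨P.le hz.1, hz.2⟩
      have h2 : x * n * x⁻¹ ∈ ⁅R, B⁆ := conj_mem_of_mem_normalizer (zpowers_le.1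
        (Cop.le_normalizer_commutator (zpowers_le.2 (hSR hx.1))
          (zpowers_le.2 (centralizer_le_normalizer _ hx.2)))) hn
      have h3 : ∀ y ∈ ⁅R, B⁆, ψ (y * z) = ψ z := fun y hy => by
        have h4 := pack_ker_le P (hRB hy)
        rw [P.psi_mul h4 hz.1, (P.psi_eq_one_iff h4).2 (hRB hy).2, one_mul]
      rw [h3 n hn, ← h3 _ h2, ← hfix x hx.1 z h1, hfix x hx.1 z h1]
      congr 1
      conv_rhs => rw [← hfix x hx.1 z h1]
      group
    have hQR : Q ≤ R := by
      refine m1.ge.trans ((commutator_mono le_rfl hSe.ge).trans (CommCalc.commutator_sup_right_le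
        (hLS.trans hSR) (inf_le_left.trans hSR) (hL0.le.trans bot_le)
        (commutator_le.2 fun g hg x hx => ?_)))
      have h1 := Subgroup.orderOf_dvd_natCard S hx.1
      exact pack_commute_le P hq hsQ hpa (hAN ha) haT hfp hn0 (hSN hx.1) (hCT hx)
        (mem_centralizer_zpowers_iff.1 hx.2).symm (by
          rw [← Nat.card_zpowers a]; exact hBS.symm.coprime_dvd_left h1)
        (hSQ.coprime_dvd_left h1) (commutator_mem_commutator hg (mem_zpowers x))
    exact hK' (hQB.ge.trans ((commutator_mono hQR le_rfl).trans hRB))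
  · -- `B` is not normal in `A`
    have hNB : A ⊓ normalizer (B : Set Y) = B := (hmaxB _ (le_inf hBA le_normalizer)
      inf_le_left).resolve_right fun h => hn (h.ge.trans inf_le_right)
    have hD : ∀ b ∈ A, b ∉ B → (Q ⊓ centralizer (L : Set Y)).map (MulAut.conj b).toMonoidHom ≤
        K ⊔ ⁅Q, Q⁆ := fun b hb hbB => by
      have h1 : B.map (MulAut.conj b).toMonoidHom ≤ A := Cop.map_conj_le_of_mem hBA hb
      have h2 : B ⊔ B.map (MulAut.conj b).toMonoidHom = A :=
        (hmaxB _ le_sup_left (sup_le hBA h1)).resolve_left fun h => hbB (hNB.le ⟨hb,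
          mem_normalizer_of_map_conj_eq (eq_of_le_of_card_le (le_sup_right.trans h.le)
            (card_map_conj b B).ge)⟩)
      have h3 : L.map (MulAut.conj b).toMonoidHom = ⁅S, B.map (MulAut.conj b).toMonoidHom⁆ := by
        rw [hL, Subgroup.map_commutator, map_conj_eq_of_mem_normalizer (hAS hb)]
      have h4 : ⁅S, B.map (MulAut.conj b).toMonoidHom⁆ ≤ S :=
        Cop.commutator_le_left_of_le_normalizer (h1.trans hAS)
      rw [map_conj_inf, map_conj_eq_of_mem_normalizer (hAN hb),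
        ← centralizer_map_conj, h3]
      refine (inf_centralizer_le_of_sup hSN hLS h4 (normalizer_commutator_ge_left S B) ?_ hSQ hsQ
        m1).trans (sup_le_sup_right hQL _)
      refine (Cop.commutator_sup_centralizer hAS hAS' (Or.inr hsS)).ge.trans (sup_le ?_
        (((inf_le_inf_right _ hSH).trans c.fpf.le).trans bot_le))
      rw [← h2]
      exact CommCalc.commutator_sup_right_le
        (Cop.le_normalizer_of_commutator_le le_sup_left (sup_le hLS h4))
        (Cop.le_normalizer_of_commutator_le le_sup_right (sup_le hLS h4)) le_sup_left le_sup_right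
    have hBD : B ≤ normalizer ((Q ⊓ centralizer (L : Set Y) : Subgroup Y) : Set Y) :=
      Cop.le_normalizer_inf_centralizer (hBA.trans hAN) (normalizer_commutator_ge_right S B)
    have hQe : Q ≤ K ⊔ (Q ⊓ centralizer (L : Set Y)) := (Cop.commutator_sup_centralizer
      (hLS.trans hSN) hLQ (Or.inr hsQ)).ge.trans (sup_le_sup_right hQL _)
    set D := Q ⊓ centralizer (L : Set Y)
    have hKQ : ⁅K, Q⁆ ≤ K := Cop.commutator_le_left_of_le_normalizer hQK
    have key : ∀ E : Subgroup Y, E ≤ Q → ⁅E, E⁆ ≤ K → ⁅K ⊔ E, K ⊔ E⁆ ≤ K := fun E h1 h2 =>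
      CommCalc.commutator_sup_left_le le_normalizer (h1.trans hQK)
        ((commutator_mono le_rfl (sup_le inf_le_left h1)).trans hKQ)
        (CommCalc.commutator_sup_right_le le_normalizer (h1.trans hQK)
          (((commutator_comm _ _).le.trans (commutator_mono le_rfl h1)).trans hKQ) h2)
    have hZ : ⁅⁅Q, Q⁆, ⁅Q, Q⁆⁆ ≤ ⊥ := (commutator_mono le_rfl hQ'Q).trans
      (commutator_eq_bot_iff_le_centralizer.2 m4).le
    have hAQ' := Cop.le_normalizer_commutator hAN hAN
    have hQ'K : ⁅Q, Q⁆ ≤ K := by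
      refine (commutator_mono hQe hQe).trans (key D inf_le_left ?_)
      have h1 : ⁅D, D⁆ ≤ ⁅Q, Q⁆ := commutator_mono inf_le_left inf_le_left
      refine le_of_conj_le (N := ⊥) hBA hAQ' le_normalizer_of_normal bot_le bot_le hZ
        (hAQ.coprime_dvd_right (card_dvd_of_le hQ'Q)) (isSolvable_of_le hsQ hQ'Q)
        (le_bot_iff.1 ((inf_le_inf_right _ hQ'Q).trans hfQ.le)) h1
        (Cop.le_normalizer_commutator hBD hBD)
        ((commutator_mono (h1.trans (pack_commutator_le P)) le_rfl).trans hRB) fun b hb hbB => ?_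
      rw [Subgroup.map_commutator]
      exact (commutator_mono (hD b hb hbB) (hD b hb hbB)).trans (key _ hQ'Q (hZ.trans bot_le))
    have hRQ := pack_eq_of_commutator_le P (hQ'K.trans inf_le_right)
    refine hK' (hQe.trans (sup_le le_rfl (le_of_conj_le hBA hAN hAQ' hQ'Q hQ'K le_rfl hAQ hsQ hfQ
      inf_le_left hBD ((commutator_mono (inf_le_left.trans hRQ.ge) le_rfl).trans hRB)
      fun b hb hbB => (hD b hb hbB).trans (sup_le le_rfl hQ'K))))

omit [Fact ℓ.Prime] in
theorem prime_of_card_eq_mul {p q : ℕ} (hp : p.Prime) (hq : q.Prime) (h : Nat.card A = p * q)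
    (B : Subgroup Y) (hBA : B ≤ A) (h0 : B ≠ ⊥) (h1 : B ≠ A) :
    (Nat.card B).Prime ∧ (B.relIndex A).Prime := by
  have h2 := (card_mul_relIndex hBA).trans h
  have h3 : Nat.card B ≠ 1 := fun h => h0 (card_eq_one.1 h)
  have h4 : B.relIndex A ≠ 1 := fun h => h1 (le_antisymm hBA (relIndex_eq_one.1 h))
  generalize Nat.card B = m at *
  generalize B.relIndex A = n at *
  rcases hp.dvd_mul.1 (h2 ▸ dvd_mul_right p q) with ⟨c, rfl⟩ | ⟨c, rfl⟩
  · rw [mul_assoc, Nat.mul_right_inj hp.ne_zero] at h2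
    rcases (Nat.dvd_prime hq).1 (h2 ▸ dvd_mul_left n c) with h | h
    · exact absurd h h4
    · subst h
      obtain rfl : c = 1 := by simpa [hq.ne_zero] using h2
      exact ⟨by simpa using hp, hq⟩
  · rw [mul_left_comm, Nat.mul_right_inj hp.ne_zero] at h2
    rcases (Nat.dvd_prime hq).1 (h2 ▸ dvd_mul_right m c) with h | h
    · exact absurd h h3
    · subst h
      obtain rfl : c = 1 := by simpa [hq.ne_zero] using h2
      exact ⟨hq, by simpa using hp⟩

section aut
universe u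
open CopAut SemidirectProduct

theorem normal_L {A G : Type*} [Group A] [Group G] {φ : A →* MulAut G} (N : Subgroup G)
    [hN : N.Normal] (h : Inv φ N) : (L φ N).Normal := ⟨by
  rintro _ ⟨n, hn, rfl⟩ x
  rw [← inl_left_mul_inr_right x, mul_inv_rev, mul_assoc, mul_assoc, ← mul_assoc (inl n),
    ← mul_assoc (inr _), ← mul_assoc (inr _), inr_conj_inl, ← map_inv, ← map_mul, ← map_mul,
    ← mul_assoc]
  exact inl_mem_L.2 (hN.conj_mem _ (h _ _ hn) _)⟩

/-- the reduction for a group of automorphisms -/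
theorem reduce_aut {A : Type*} {G : Type u} [Group A] [Finite A] [Group G] [Finite G]
    (φ : A →* MulAut G) (N : Subgroup G) [N.Characteristic] (hs : Group.IsSolvable G)
    (hcop : (Nat.card A).Coprime (Nat.card G)) (hf : ∀ g, (∀ a, φ a g = g) → g = 1)
    (h : ∀ (Y : Type u) [Group Y] [Finite Y] (i : G →* Y) (j : A →* Y) (ℓ : ℕ) [Fact ℓ.Prime]
      (W : Type u) [AddCommGroup W] [Module (AlgebraicClosure (ZMod ℓ)) W]
      [FiniteDimensional (AlgebraicClosure (ZMod ℓ)) W]
      (ρ : Y →* Module.End (AlgebraicClosure (ZMod ℓ)) W), Conf ℓ ρ i.range j.range →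
      Function.Injective j → N.map i = ⊥) : Group.IsNilpotent N := by
  let e : Shrink.{u} A ≃* A := Shrink.mulEquiv
  have : Finite (Shrink.{u} A) := Finite.of_equiv _ e.toEquiv.symm
  let φ' := φ.comp e.toMonoidHom
  have := finite_semidirect (φ := φ')
  have := normal_L (φ := φ') ⊤ inv_top
  have := normal_L (φ := φ') N (inv_of_characteristic N)
  have h1 := reduce (G := L φ' ⊤) (A := R φ' ⊤) (N := L φ' N) (map_mono le_top)
    (solvable_L (solvable_top_of hs)) (coprime_R_L_top (by rwa [Nat.card_congr e.toEquiv]))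
    (by
      rw [L_inf_centralizer, top_inf_eq, ← L_bot (φ := φ'), L_inj, eq_bot_iff]
      exact fun g hg => hf g fun a => by simpa [φ'] using mem_fixed.1 hg (e.symm a))
    fun Y _ _ π ℓ _ W _ _ _ ρ c hinj => by
      rw [map_map]
      refine h Y _ ((π.comp inr).comp e.symm.toMonoidHom) ℓ W ρ ?_ ?_
      · rwa [MonoidHom.range_eq_map, MonoidHom.range_eq_map, ← map_map, ← map_map,
          map_top_of_surjective e.symm.toMonoidHom e.symm.surjective, ← map_map]
      · rw [injective_iff_map_eq_one]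
        intro a ha
        simpa using inr_injective ((hinj _ ⟨_, trivial, rfl⟩ ha).trans (map_one inr).symm)
  have h2 := isNilpotent_comap_of_injective h1 inl inl_injective
  rwa [comap_map_eq_self_of_injective inl_injective] at h2

/-- Fitting height at most two. -/
theorem exists_isNilpotent_lcs {A : Type*} {G : Type u} [Group A] [Finite A] [Group G] [Finite G]
    (φ : A →* MulAut G) (hs : Group.IsSolvable G) {p q : ℕ} (hp : p.Prime) (hq : q.Prime)
    (hA : Nat.card A = p * q) (hcop : (Nat.card A).Coprime (Nat.card G))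
    (hf : ∀ g, (∀ a, φ a g = g) → g = 1) :
    ∃ n, Group.IsNilpotent ((⊤ : Subgroup G).lowerCentralSeries n) := by
  obtain ⟨n, hn⟩ := WellFounded.has_min (wellFounded_lt (α := Subgroup G))
    (Set.range (⊤ : Subgroup G).lowerCentralSeries) ⟨_, 0, rfl⟩ |>.elim
      (fun _ ⟨⟨n, hn⟩, h⟩ => (⟨n, hn ▸ h⟩ : ∃ n, ∀ x ∈ Set.range (⊤ : Subgroup G).lowerCentralSeries,
        ¬ x < (⊤ : Subgroup G).lowerCentralSeries n))
  have h1 : (⊤ : Subgroup G).lowerCentralSeries (n + 1) = (⊤ : Subgroup G).lowerCentralSeries n :=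
    (Subgroup.lowerCentralSeries_antitone _ (Nat.le_succ n)).eq_of_not_lt (hn _ ⟨_, rfl⟩)
  refine ⟨n, reduce_aut φ _ hs hcop hf fun Y _ _ i j ℓ _ W _ _ _ ρ c hj => ?_⟩
  refine eq_bot_of_le_commutator_of_isNilpotent (c.isNilpotent (prime_of_card_eq_mul hp hq ?_))
    (map_le_range _ _) ?_
  · rw [← hA]; exact (Nat.card_congr (MonoidHom.ofInjective hj).toEquiv).symm
  · rw [MonoidHom.range_eq_map, ← Subgroup.map_commutator, ← Subgroup.lowerCentralSeries_succ, h1]

end aut

end CfsgLib.Fpf
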