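import Cfsg.Agent.Lib.FpfReduce
import Cfsg.Agent.Lib.FrobDim
import Cfsg.Agent.Lib.H9HHCoreSec
import Cfsg.Agent.Lib.H9Misc

/-!
# Homogeneous components of class two groups under operators
-/

set_option autoImplicit false

namespace CfsgLib.Fpf

open Module Subgroup CfsgLib CfsgLib.H9 Cfsg Polynomial
open scoped commutatorElement

universe u v w

section norm
variable {k : Type u} [Field k] {V : Type v} [AddCommGroup V] [Module k V]
variable {G : Type w} [Group G] [Finite G] {ρ : G →* Module.End k V}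

theorem normOp_zpowers (a : G) :
    normOp ρ (zpowers a) = ∑ i ∈ Finset.range (orderOf a), ρ a ^ i := by
  classical
  have := Fintype.ofFinite (zpowers a)
  rw [normOp_eq, Finset.sum_range]
  refine (Fintype.sum_equiv (finEquivZPowers (isOfFinOrder_of_finite a)) _ _ fun i => ?_).symm
  rw [finEquivZPowers_apply, map_pow]

theorem normOp_map_conj (A : Subgroup G) (x : G) :
    normOp ρ (A.map (MulAut.conj x).toMonoidHom) = ρ x * normOp ρ A * ρ x⁻¹ := by
  classical
  have := Fintype.ofFinite A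
  have := Fintype.ofFinite (A.map (MulAut.conj x).toMonoidHom)
  rw [normOp_eq, normOp_eq, Finset.mul_sum, Finset.sum_mul]
  refine (Fintype.sum_equiv (A.equivMapOfInjective _ (MulAut.conj x).injective).toEquiv _ _
    fun a => ?_).symm
  rw [← map_mul, ← map_mul]; rfl

theorem normOp_bot : normOp ρ ⊥ = 1 := by
  rw [← zpowers_one_eq_bot, normOp_zpowers]; simp

theorem normOp_inf_stab {U : Submodule k V} {e : Module.End k V} (he : ∀ v ∈ U, e v = v)
    {A : Subgroup G} (h0 : ∀ y ∈ A, y ∉ stabSub ρ U → ∀ v ∈ U, e (ρ y v) = 0)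
    (hA : normOp ρ A = 0) : ∀ v ∈ U, normOp ρ (A ⊓ stabSub ρ U) v = 0 := by
  classical
  intro v hv
  have := Fintype.ofFinite A
  have := Fintype.ofFinite (A ⊓ stabSub ρ U : Subgroup G)
  have h1 : e (normOp ρ A v) = 0 := by rw [hA, LinearMap.zero_apply, map_zero]
  rw [normOp_eq, LinearMap.sum_apply, map_sum] at h1
  rw [normOp_eq, LinearMap.sum_apply, ← h1,
    ← Finset.sum_filter_add_sum_filter_not Finset.univ fun a : A => (a : G) ∈ stabSub ρ U,
    Finset.sum_eq_zero (s := Finset.univ.filter fun a : A => ¬ (a : G) ∈ stabSub ρ U)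
      (fun a ha => h0 a a.2 (Finset.mem_filter.1 ha).2 v hv), add_zero]
  refine Finset.sum_bij (fun a _ => ⟨a, a.2.1⟩) (fun a _ => by simpa using a.2.2)
    (fun a _ b _ h => Subtype.ext (congrArg (fun x : A => (x : G)) h))
    (fun b hb => ⟨⟨b, b.2, (Finset.mem_filter.1 hb).2⟩, Finset.mem_univ _, rfl⟩) fun a _ => ?_
  exact (he _ (a.2.2 v hv)).symm

end norm

section pack
variable {k : Type u} [Field k] {V : Type v} [AddCommGroup V] [Module k V]
variable {G : Type w} [Group G] [Finite G] {ρ : G →* Module.End k V} {Q R : Subgroup G}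
  {ψ : G → k} {U : Submodule k V}

theorem stab_le_normalizer_fixSub : stabSub ρ U ≤ normalizer (fixSub ρ U : Set G) := by
  intro x hx
  refine mem_normalizer_of_conj_mem fun g hg => mem_fixSub.2 fun v hv => ?_
  rw [rho_mul_apply, rho_mul_apply, hg _ ((stabSub ρ U).inv_mem hx v hv), rho_apply_inv_apply]

theorem le_normalizer_ker {D : Subgroup G} (h1 : D ≤ normalizer (Q : Set G))
    (h2 : D ≤ stabSub ρ U) : D ≤ normalizer ((Q ⊓ fixSub ρ U : Subgroup G) : Set G) :=
  fun _ hx => inf_normalizer_le_normalizer_inf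
    ⟨h1 hx, stab_le_normalizer_fixSub (h2 hx)⟩

variable (P : Pack ρ Q R ψ U)
include P

theorem pack_ker_le : Q ⊓ fixSub ρ U ≤ R := fun _ hg =>
  P.mem_of_scalar hg.1 1 fun v hv => by rw [one_smul]; exact hg.2 v hv

theorem pack_le_stab : Q ≤ stabSub ρ U := fun g hg => P.inv g hg

theorem pack_commutator_le : ⁅Q, Q⁆ ≤ R := commutator_le.2 P.comm

theorem pack_le_normalizer {D : Subgroup G} (h1 : D ≤ normalizer (Q : Set G))
    (h2 : D ≤ stabSub ρ U) : D ≤ normalizer (R : Set G) :=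
  fun _ hx => P.mem_normalizer (h1 hx) (h2 hx)

theorem pack_commutator_le_ker {D : Subgroup G} (h1 : D ≤ normalizer (Q : Set G))
    (h2 : D ≤ stabSub ρ U) : ⁅R, D⁆ ≤ Q ⊓ fixSub ρ U :=
  commutator_le.2 fun _ hr _ hd =>
    have := P.commutator_mem_fixSub (h1 hd) (h2 hd) hr
    ⟨P.le this.1, this.2⟩

theorem pack_nondeg {g : G} (hg : g ∈ Q) (h : ∀ x ∈ Q, ⁅g, x⁆ ∈ fixSub ρ U) : g ∈ R :=
  P.nondeg g hg fun x hx => (P.psi_eq_one_iff (P.comm g hg x hx)).2 (h x hx)

theorem pack_eq_of_commutator_le (h : ⁅Q, Q⁆ ≤ fixSub ρ U) : R = Q :=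
  le_antisymm P.le fun _ hg => pack_nondeg P hg fun _ hx => h (commutator_mem_commutator hg hx)

theorem sub_fpf {D : Subgroup G} (h1 : D ≤ normalizer (Q : Set G)) (h2 : D ≤ stabSub ρ U)
    (hcop : (Nat.card D).Coprime (Nat.card Q)) {g : G} (hg : g ∈ ⁅Q, D⁆ ⊔ R)
    (h : ∀ d ∈ D, ⁅g, d⁆ ∈ R) : g ∈ R :=
  Cop.mem_of_mem_commutator_sup_of_commutator_mem h1 (pack_le_normalizer P h1 h2) P.le
    (pack_commutator_le P) hcop hg h

theorem sub_pack {D : Subgroup G} (h1 : D ≤ normalizer (Q : Set G)) (h2 : D ≤ stabSub ρ U)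
    (hcop : (Nat.card D).Coprime (Nat.card Q)) (hs : Group.IsSolvable Q) :
    Pack ρ (⁅Q, D⁆ ⊔ R) R ψ U := by
  have hle : ⁅Q, D⁆ ⊔ R ≤ Q := sup_le (Cop.commutator_le_left_of_le_normalizer h1) P.le
  refine ⟨le_sup_right, P.ne, fun g hg => P.inv g (hle hg), P.scal,
    fun g hg h hh => P.comm g (hle hg) h (hle hh), fun g hg h => ?_⟩
  have hQ : Q ≤ normalizer ((Q ⊓ fixSub ρ U : Subgroup G) : Set G) :=
    le_normalizer_ker le_normalizer (pack_le_stab P)
  have hC : ⁅⁅Q, D⁆ ⊔ R, Q ⊓ centralizer (D : Set G)⁆ ≤ Q ⊓ fixSub ρ U := by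
    refine CommCalc.commutator_sup_left_le ((le_sup_left.trans hle).trans hQ) (P.le.trans hQ) ?_
      (pack_commutator_le_ker P (inf_le_left.trans le_normalizer)
        (inf_le_left.trans (pack_le_stab P)))
    refine CommCalc.three_subgroups hQ (le_normalizer_ker h1 h2) (inf_le_left.trans hQ) ?_ ?_
    · rw [Cop.commutator_eq_bot_iff_le_centralizer'.2 inf_le_right, commutator_bot_left]
      exact bot_le
    · exact (commutator_mono ((commutator_mono inf_le_left le_rfl).trans (pack_commutator_le P))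
        le_rfl).trans (pack_commutator_le_ker P h1 h2)
  refine pack_nondeg P (hle hg) fun x hx => ?_
  obtain ⟨n, hn, c, hc, rfl⟩ := Cop.exists_commutator_mul_centralizer h1 hcop (Or.inr hs) hx
  have hn' : n ∈ ⁅Q, D⁆ ⊔ R := mem_sup_left hn
  rw [CommCalc.comm_mul_right]
  refine mul_mem ((P.psi_eq_one_iff (P.comm g (hle hg) n (hle hn'))).1 (h n hn')) ?_
  exact (conj_mem_of_mem_normalizer (hQ (hle hn')) (hC (commutator_mem_commutator hg hc))).2

/-- an element of prime order acting fixed-point-freely with vanishing norm -/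
theorem pack_prime [IsAlgClosed k] [FiniteDimensional k V] (hq : (Nat.card Q : k) ≠ 0) {a : G}
    (hp : (orderOf a).Prime) (h1 : a ∈ normalizer (Q : Set G)) (h2 : a ∈ stabSub ρ U)
    (hf : ∀ g ∈ Q, ⁅g, a⁆ ∈ R → g ∈ R) (h0 : ∀ v ∈ U, normOp ρ (zpowers a) v = 0)
    (hne : R ≠ Q) : ∃ N : ℕ, N ^ 2 = R.relIndex Q ∧ N + 1 = orderOf a := by
  obtain ⟨N, hN, -, h⟩ := P.numerics hq h1 h2 hp.one_lt fun i hi0 hi g hg hc =>
    hf g hg (commutator_mem_of_mem_zpowers (pow_mem (P.mem_normalizer h1 h2) i) hc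
      (mem_zpowers_pow_iff.2 (((Nat.coprime_comm.1 (hp.coprime_iff_not_dvd.2
        (Nat.not_dvd_of_pos_of_lt hi0 hi))).gcd_eq_one))))
  obtain ⟨hm, hd⟩ := monic_geom k hp.ne_zero
  refine ⟨N, hN, ((h _ hm fun v hv => ?_).1 hne (by have := hp.pos; omega)).1⟩
  rw [aeval_geom, ← normOp_zpowers]; exact h0 v hv

omit P in
theorem le_normalizer_sup {D H K : Subgroup G} (h1 : D ≤ normalizer (H : Set G))
    (h2 : D ≤ normalizer (K : Set G)) : D ≤ normalizer ((H ⊔ K : Subgroup G) : Set G) :=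
  (le_inf h1 h2).trans (normalizer_inf_normalizer_le_normalizer_sup H K)

/-- an element commuting with such an element acts trivially on `Q / R` -/
theorem pack_commute_le [IsAlgClosed k] [FiniteDimensional k V] (hq : (Nat.card Q : k) ≠ 0)
    (hs : Group.IsSolvable Q) {a x : G}
    (hp : (orderOf a).Prime) (h1 : a ∈ normalizer (Q : Set G)) (h2 : a ∈ stabSub ρ U)
    (hf : ∀ g ∈ Q, ⁅g, a⁆ ∈ R → g ∈ R) (h0 : ∀ v ∈ U, normOp ρ (zpowers a) v = 0)
    (h3 : x ∈ normalizer (Q : Set G)) (h4 : x ∈ stabSub ρ U) (hc : Commute x a)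
    (hxa : (orderOf x).Coprime (orderOf a)) (hxQ : (orderOf x).Coprime (Nat.card Q)) :
    ⁅Q, zpowers x⁆ ≤ R := by
  by_contra hne
  have hx1 := zpowers_le.2 h3
  have hx2 := zpowers_le.2 h4
  have hcop : (Nat.card (zpowers x)).Coprime (Nat.card Q) := by rwa [Nat.card_zpowers]
  have P' := sub_pack P hx1 hx2 hcop hs
  have hle : ⁅Q, zpowers x⁆ ⊔ R ≤ Q := sup_le (Cop.commutator_le_left_of_le_normalizer hx1) P.le
  have hq' : (Nat.card (⁅Q, zpowers x⁆ ⊔ R : Subgroup G) : k) ≠ 0 := fun h => hq (by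
    obtain ⟨c, hc⟩ := card_dvd_of_le hle
    rw [hc, Nat.cast_mul, h, zero_mul])
  have hne' : R ≠ ⁅Q, zpowers x⁆ ⊔ R := fun h => hne (le_sup_left.trans h.ge)
  have key : ∀ y ∈ normalizer (Q : Set G), y ∈ stabSub ρ U → Commute x y →
      y ∈ normalizer ((⁅Q, zpowers x⁆ ⊔ R : Subgroup G) : Set G) := fun y a1 a2 a3 =>
    zpowers_le.1 (le_normalizer_sup (Cop.le_normalizer_commutator (zpowers_le.2 a1)
      (zpowers_le.2 (centralizer_le_normalizer _ (mem_centralizer_zpowers_iff.2 a3))))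
      (zpowers_le.2 (P.mem_normalizer a1 a2)))
  obtain ⟨N, hN, hNa⟩ := pack_prime P' hq' hp (key a h1 h2 hc) h2 (fun g hg => hf g (hle hg)) h0 hne'
  have hy := P.mem_normalizer (mul_mem h3 h1) (mul_mem h4 h2)
  obtain ⟨N', hN', h, -⟩ := P'.numerics hq' (mul_mem (key x h3 h4 rfl) (key a h1 h2 hc))
    (mul_mem h4 h2) (h := orderOf a + 1) (by have := hp.pos; omega) fun i hi0 hi g hg hgi => by
      have hci : (orderOf (x ^ i)).Coprime (orderOf (a ^ i)) :=
        (hxa.coprime_dvd_left (orderOf_pow_dvd i)).coprime_dvd_right (orderOf_pow_dvd i)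
      rcases (Nat.lt_succ_iff.1 hi).eq_or_lt with rfl | hi'
      · refine sub_fpf P hx1 hx2 hcop hg fun d hd =>
          commutator_mem_of_mem_zpowers (pow_mem hy _) hgi (zpowers_le.2 ?_ hd)
        rw [hc.mul_pow, pow_orderOf_eq_one, mul_one]
        exact mem_zpowers_pow_iff.2 hxa.symm.gcd_eq_one
      · refine hf g (hle hg) (commutator_mem_of_mem_zpowers (pow_mem hy _) hgi ?_)
        rw [hc.mul_pow]
        refine zpowers_le.2 (mem_zpowers_mul_of_coprime' (hc.pow_pow i i) hci) ?_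
        exact mem_zpowers_pow_iff.2 (Nat.coprime_comm.1 (hp.coprime_iff_not_dvd.2
          (Nat.not_dvd_of_pos_of_lt hi0 hi'))).gcd_eq_one
  have := Nat.pow_left_injective two_ne_zero (hN'.trans hN.symm)
  have := h hne'
  omega

omit P in
theorem sq_lt_pow {u N c : ℕ} (hu : 2 ≤ u) (hc : 2 ≤ c) : N ^ 2 < u ^ (N * c) :=
  calc N ^ 2 < (2 ^ N) ^ 2 := Nat.pow_lt_pow_left Nat.lt_two_pow_self two_ne_zero
    _ ≤ (u ^ N) ^ 2 := Nat.pow_le_pow_left (Nat.pow_le_pow_left hu _) _
    _ ≤ (u ^ N) ^ c := Nat.pow_le_pow_right (Nat.pow_pos (by omega)) hc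
    _ = u ^ (N * c) := (pow_mul _ _ _).symm

/-- a Frobenius-like section `L ⟨a⟩` with `⟨a⟩` of norm zero centralizes `Q / R` -/
theorem pack_frob_le [IsAlgClosed k] [FiniteDimensional k V] (hq : (Nat.card Q : k) ≠ 0)
    {u : ℕ} [hu : Fact u.Prime] (hQ : IsPGroup u Q) (hpow : ∀ g ∈ Q, g ^ u ∈ R) {a : G}
    {L : Subgroup G} (hp : (orderOf a).Prime) (h1 : a ∈ normalizer (Q : Set G))
    (h2 : a ∈ stabSub ρ U) (h0 : ∀ v ∈ U, normOp ρ (zpowers a) v = 0)
    (h3 : L ≤ normalizer (Q : Set G)) (h4 : L ≤ stabSub ρ U) (h5 : a ∈ normalizer (L : Set G))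
    (haQ : (orderOf a).Coprime u) (hLQ : (Nat.card L).Coprime u)
    (haL : (orderOf a).Coprime (Nat.card L)) (hL : ⁅L, zpowers a⁆ = L)
    (hab : ⁅Q, ⁅L, L⁆⁆ ≤ R) : ⁅Q, L⁆ ≤ R := by
  classical
  by_contra hne
  have hs := Cop.solvable_of_isPGroup hQ
  have hcop := Cop.coprime_card_of_isPGroup hLQ hQ
  have P' := sub_pack P h3 h4 hcop hs
  have hfp := fun g => sub_fpf P h3 h4 hcop (g := g)
  have hle : ⁅Q, L⁆ ⊔ R ≤ Q := sup_le (Cop.commutator_le_left_of_le_normalizer h3) P.le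
  set M := ⁅Q, L⁆ ⊔ R with hM
  have hq' : (Nat.card M : k) ≠ 0 := fun h => hq (by
    obtain ⟨c, hc⟩ := card_dvd_of_le hle
    rw [hc, Nat.cast_mul, h, zero_mul])
  have hne' : R ≠ M := fun h => hne (le_sup_left.trans h.ge)
  have hB1 := zpowers_le.2 h1
  have hB2 := zpowers_le.2 h2
  have hB5 := zpowers_le.2 h5
  set B := zpowers a with hB
  have hDQ : L ⊔ B ≤ normalizer (Q : Set G) := sup_le h3 hB1
  have hDR : L ⊔ B ≤ normalizer (R : Set G) := pack_le_normalizer P hDQ (sup_le h4 hB2)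
  have hDM : L ⊔ B ≤ normalizer (M : Set G) :=
    le_normalizer_sup (Cop.le_normalizer_commutator hDQ (sup_le le_normalizer hB5)) hDR
  set D := L ⊔ B with hD
  obtain ⟨W, _, _, _, σ, ι, S⟩ := exists_secRep u D.subtype M R le_sup_right
    (fun g => hDM g.2) (fun g => hDR g.2) (pack_commutator_le P') fun g hg => hpow g (hle hg)
  obtain ⟨D', _, _, π, σ', hinj, hsurj, hσ⟩ := exists_faithful σ
  have haD : a ∈ D := mem_sup_right (mem_zpowers a)
  let a₀ : D := ⟨a, haD⟩
  have hBD : B.subgroupOf D = zpowers a₀ := by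
    apply map_injective D.subtype_injective
    rw [map_subgroupOf_eq_of_le le_sup_right, MonoidHom.map_zpowers]; rfl
  let L' := (L.subgroupOf D).map π
  have hcL : Nat.card L' ∣ Nat.card L := by
    rw [← card_subgroupOf_of_le (le_sup_left : L ≤ D)]; exact card_map_dvd _ _
  have hL' : ⁅L', zpowers (π a₀)⁆ = L' := by
    rw [← MonoidHom.map_zpowers, ← Subgroup.map_commutator, ← hBD]
    congr 1
    apply map_injective D.subtype_injective
    rw [Subgroup.map_commutator, map_subgroupOf_eq_of_le le_sup_right,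
      map_subgroupOf_eq_of_le le_sup_left, hL]
  have hcomm : IsMulCommutative L' := ⟨⟨by
    rintro ⟨_, x, hx, rfl⟩ ⟨_, y, hy, rfl⟩
    refine Subtype.ext (commutatorElement_eq_one_iff_mul_comm.1 (hinj ?_))
    change σ' ⁅π x, π y⁆ = _
    rw [← map_commutatorElement, hσ, map_one]
    refine (S.rho_eq_one_iff _).2 fun m hm => ?_
    rw [← inv_mem_iff, commutatorElement_inv]
    exact hab (commutator_mem_commutator (hle hm) (commutator_mem_commutator hx hy))⟩⟩
  have hLk : (Nat.card L : AlgebraicClosure (ZMod u)) ≠ 0 := natCast_ne_zero_of_coprime _ u hLQ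
  have hn0 : normOp σ (L.subgroupOf D) = 0 := secRep_normOp_eq_zero S _ fun m hm h =>
    hfp m hm fun d hd => by
      rw [← inv_mem_iff, commutatorElement_inv]; exact h ⟨d, mem_sup_left hd⟩ hd
  have hn1 : normOp σ' L' = 0 := by
    ext v
    have := normOp_apply_of_fixed (ρ := σ) (H := L.subgroupOf D) (v := normOp σ' L' v)
      fun g hg => by rw [← hσ]; exact normOp_fixed (mem_map_of_mem π hg) v
    rw [hn0, LinearMap.zero_apply, card_subgroupOf_of_le le_sup_left] at this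
    exact (smul_eq_zero.1 this.symm).resolve_left hLk
  have ho : orderOf a₀ = orderOf a := (Subgroup.orderOf_coe a₀).symm
  have hord : orderOf (π a₀) = orderOf a := by
    rcases (Nat.dvd_prime hp).1 (ho ▸ orderOf_map_dvd π a₀) with h | h
    · exfalso
      rw [orderOf_eq_one_iff] at h
      rw [h, zpowers_one_eq_bot, commutator_bot_right] at hL'
      refine hne' (le_antisymm le_sup_right fun m hm => hfp m hm fun d hd => ?_)
      have h6 : π ⟨d, mem_sup_left hd⟩ = 1 := mem_bot.1 (hL'.ge (mem_map_of_mem π hd))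
      have h7 : σ ⟨d, mem_sup_left hd⟩ = 1 := by rw [← hσ, h6, map_one]
      rw [← inv_mem_iff, commutatorElement_inv]
      exact (S.rho_eq_one_iff _).1 h7 m hm
    · exact h
  have hN' : zpowers (π a₀) ≤ normalizer (L' : Set D') :=
    le_normalizer_iff_commutator_le_left.2 hL'.le
  have hfpf := Cop.commutator_inf_centralizer_eq_bot hN' (by
    rw [Nat.card_zpowers, hord]; exact haL.coprime_dvd_right hcL) hcomm
  rw [hL'] at hfpf
  have hdim := FrobDim.finrank_eq_card_mul σ' (L := L') (B := zpowers (π a₀))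
    (natCast_ne_zero_of_coprime _ u (hLQ.coprime_dvd_left hcL)) hN'
    (fun b hb hb1 x hx hbx => mem_bot.1 (hfpf.le ⟨hx, by
      have : Fact (Nat.card (zpowers (π a₀))).Prime := ⟨by rwa [Nat.card_zpowers, hord]⟩
      have h6 : zpowers (π a₀) = zpowers b := by
        refine (eq_of_le_of_card_le (zpowers_le.2 hb) (Nat.le_of_eq ?_)).symm
        rcases (Nat.dvd_prime this.out).1 (card_dvd_of_le (zpowers_le.2 hb)) with h | h
        · rw [card_eq_one, zpowers_eq_bot] at h; exact absurd h hb1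
        · exact h.symm
      rw [h6]; exact mem_centralizer_zpowers_iff.2 hbx⟩)) hn1 (LinearMap.ker (σ a₀ - 1))
    fun v => by
      rw [LinearMap.mem_ker, LinearMap.sub_apply, sub_eq_zero, Module.End.one_apply]
      refine ⟨fun h b hb => ?_, fun h => by rw [← hσ]; exact h _ (mem_zpowers _)⟩
      have : zpowers (π a₀) ≤ fixSub σ' (Submodule.span _ {v}) := zpowers_le.2 fun w hw => by
        obtain ⟨c, rfl⟩ := Submodule.mem_span_singleton.1 hw
        rw [map_smul, hσ, h]
      exact this hb v (Submodule.mem_span_singleton_self v)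
  rw [Nat.card_zpowers, hord] at hdim
  have hrk := LinearMap.finrank_range_add_finrank_ker (σ a₀ - 1)
  set c := finrank (AlgebraicClosure (ZMod u)) (LinearMap.ker (σ a₀ - 1))
  obtain ⟨N₁, hN₁⟩ := P'.exists_sq hq'
  obtain ⟨d, rfl⟩ := exists_pow_of_sq_eq_relIndex (hQ.to_le hle) hN₁
  have hd : d * 2 = orderOf a * c := by
    rw [← S.pow_finrank, ← pow_mul, hdim] at hN₁
    exact Nat.pow_right_injective hu.out.two_le hN₁
  have hd0 : d ≠ 0 := by
    rintro rfl
    have := P'.two_le_of_sq hne' hN₁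
    simp at this
  -- the action of `a`
  have hBM : B ≤ normalizer (M : Set G) := le_sup_right.trans hDM
  have hcop2 : (Nat.card B).Coprime (Nat.card M) :=
    Cop.coprime_card_of_isPGroup (by rwa [hB, Nat.card_zpowers]) (hQ.to_le hle)
  have P'' := sub_pack P' hBM hB2 hcop2 (isSolvable_of_le hs hle)
  have hle2 : ⁅M, B⁆ ⊔ R ≤ M := sup_le (Cop.commutator_le_left_of_le_normalizer hBM) P'.le
  have hrange : LinearMap.range (σ a₀ - 1) ≤ Submodule.span _ (ι '' (⁅M, B⁆ ⊔ R : Subgroup G)) := by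
    rw [LinearMap.range_eq_map, ← S.span, Submodule.map_span, Submodule.span_le]
    rintro _ ⟨_, ⟨m, hm, rfl⟩, rfl⟩
    refine Submodule.subset_span ⟨⁅a, m⁆, mem_sup_left ?_, S.map_commutator a₀ hm⟩
    rw [commutator_comm]; exact commutator_mem_commutator (mem_zpowers a) hm
  have hidx := S.rank _ le_sup_right hle2
  have hr2 := Submodule.finrank_mono hrange
  have hc0 : c ≠ 0 := by rintro h; rw [h] at hd; omega
  obtain ⟨n, hn⟩ : ∃ n, orderOf a = n + 1 := ⟨_, (Nat.succ_pred_eq_of_pos hp.pos).symm⟩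
  have hr3 : finrank (AlgebraicClosure (ZMod u)) (LinearMap.range (σ a₀ - 1)) = n * c := by
    rw [hdim, hn, add_mul, one_mul] at hrk; omega
  have hn0' : n ≠ 0 := by have := hp.two_le; omega
  have hne2 : R ≠ ⁅M, B⁆ ⊔ R := by
    intro h
    rw [← h, relIndex_self, Nat.pow_eq_one, or_iff_right hu.out.ne_one] at hidx
    rw [← h, hidx, hr3] at hr2
    exact mul_ne_zero hn0' hc0 (Nat.le_zero.1 hr2)
  have hq'' : (Nat.card (⁅M, B⁆ ⊔ R : Subgroup G) : k) ≠ 0 := fun h => hq' (by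
    obtain ⟨c, hc⟩ := card_dvd_of_le hle2
    rw [hc, Nat.cast_mul, h, zero_mul])
  obtain ⟨N, hN, hNa⟩ := pack_prime P'' hq'' hp (zpowers_le.1 (le_normalizer_sup
    (normalizer_commutator_ge_right M B) (le_sup_right.trans hDR))) h2 (fun g hg h =>
      sub_fpf P' hBM hB2 hcop2 hg fun d hd =>
        commutator_mem_of_mem_zpowers (hDR haD) h hd) h0 hne2
  have hN2 := P''.two_le_of_sq hne2 hN
  have hc2 : 2 ≤ c := by
    have : 2 ∣ orderOf a * c := ⟨d, by omega⟩
    rcases (Nat.prime_two.dvd_mul).1 this with h | h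
    · have := (Nat.prime_dvd_prime_iff_eq Nat.prime_two hp).1 h; omega
    · omega
  obtain rfl : n = N := by omega
  rw [hr3] at hr2
  exact (sq_lt_pow hu.out.two_le hc2).not_ge
    ((Nat.pow_le_pow_right hu.out.pos hr2).trans (hidx.trans hN.symm).le)

end pack

end CfsgLib.Fpf
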