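import Mathlib
import Cfsg.Agent.Lib.CoreSolvable
import Cfsg.Agent.Lib.CoreElements

/-! Maximal normal subgroups and simple quotients. -/

set_option autoImplicit false

namespace CfsgLib.H5

open Subgroup Cfsg

variable {G : Type*} [Group G]

theorem isSimpleGroup_quotient_of_maximal {N : Subgroup G} [N.Normal] (hN : N ≠ ⊤)
    (h : ∀ W : Subgroup G, W.Normal → N ≤ W → W = N ∨ W = ⊤) : IsSimpleGroup (G ⧸ N) := by
  have := QuotientGroup.nontrivial_iff.mpr hN
  refine ⟨fun K hK => ?_⟩
  have hs := QuotientGroup.mk'_surjective N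
  refine (h (K.comap (QuotientGroup.mk' N)) inferInstance (QuotientGroup.le_comap_mk' N K)).imp
    (fun h => comap_injective hs ?_) fun h => comap_injective hs ?_
  · rw [h, MonoidHom.comap_bot, QuotientGroup.ker_mk']
  · rw [h, comap_top]

theorem exists_maximal_normal_ge [Finite G] {L : Subgroup G} [L.Normal] (hL : L ≠ ⊤) :
    ∃ N : Subgroup G, ∃ _ : N.Normal, L ≤ N ∧ N ≠ ⊤ ∧ IsSimpleGroup (G ⧸ N) ∧
      ∀ W : Subgroup G, W.Normal → N ≤ W → W = N ∨ W = ⊤ := by
  obtain ⟨N, hN, h1, h2, h3⟩ := exists_chief_below hL.lt_top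
  exact ⟨N, hN, h1, h2.ne, isSimpleGroup_quotient_of_maximal h2.ne fun W hW h => h3 W hW h le_top,
    fun W hW h => h3 W hW h le_top⟩

/-- A proper normal subgroup with solvable quotient lies in a normal subgroup of prime index. -/
theorem exists_normal_prime_index_ge [Finite G] {L : Subgroup G} [L.Normal] (hL : L ≠ ⊤)
    [Group.IsSolvable (G ⧸ L)] :
    ∃ N : Subgroup G, N.Normal ∧ L ≤ N ∧ N.index.Prime := by
  obtain ⟨N, hN, h1, -, h2, -⟩ := exists_maximal_normal_ge hL
  have : Group.IsSolvable (G ⧸ N) := Group.isSolvable_of_surjective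
    (f := QuotientGroup.map L N (MonoidHom.id G) h1)
    (QuotientGroup.map_surjective_of_surjective L N (MonoidHom.id G)
      (QuotientGroup.mk'_surjective N) h1)
  letI : CommGroup (G ⧸ N) :=
    { (inferInstance : Group (G ⧸ N)) with mul_comm := IsSimpleGroup.comm_iff_isSolvable.mpr this }
  exact ⟨N, hN, h1, IsSimpleGroup.prime_card⟩

theorem normalizer_eq_self_of_comap {Q : Type*} [Group Q] {f : G →* Q} (hf : Function.Surjective f)
    {K : Subgroup Q} (h : normalizer ((K.comap f : Subgroup G) : Set G) = K.comap f) :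
    normalizer (K : Set Q) = K :=
  comap_injective hf (by rw [comap_normalizer_eq_of_surjective _ hf, h])

end CfsgLib.H5
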