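import Cfsg.Agent.Lib.Suz.Basic
import Cfsg.Agent.Lib.ClassSize2

/-! Brauer's order formula for a four-group acting on a group of odd order. -/

set_option autoImplicit false
set_option linter.unusedSectionVars false

namespace CfsgLib.H6Br

open Subgroup

variable {G : Type*} [Group G]

/-- midpoint of two involutions with odd product -/
theorem exists_mid {s t : G} (hs : s * s = 1) (ht : t * t = 1) {m : ℕ} (hm : Odd m)
    (h : (s * t) ^ m = 1) : ∃ j : ℕ, ((s * t) ^ j * t) * ((s * t) ^ j * t) = 1 ∧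
      ((s * t) ^ j * t) * t * ((s * t) ^ j * t) = s ∧
      ∀ b : G, b * s * b⁻¹ = t → b * t * b⁻¹ = s →
        b * ((s * t) ^ j * t) * b⁻¹ = (s * t) ^ j * t := by
  obtain ⟨j, hj⟩ := Suz.exists_sq_eq_of_odd hm h
  have hinv : t * (s * t) * t = (s * t)⁻¹ := by
    rw [mul_inv_rev, Suz.inv_eq_of_mul_self hs, Suz.inv_eq_of_mul_self ht]
    calc t * (s * t) * t = t * s * (t * t) := by group
      _ = t * s := by rw [ht, mul_one]
  have hp := Suz.conj_pow_of_inv ht hinv j
  set w := (s * t) ^ j with hw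
  have hst : s = w * w * t := by rw [hj, mul_assoc, ht, mul_one]
  refine ⟨j, ?_, ?_, ?_⟩
  · calc w * t * (w * t) = w * (t * w * t) := by group
      _ = 1 := by rw [hp, mul_inv_cancel]
  · calc w * t * t * (w * t) = w * (t * t) * w * t := by group
      _ = s := by rw [ht, mul_one, ← hst]
  · intro b h1 h2
    have h3 : b * (s * t) * b⁻¹ = (s * t)⁻¹ := by
      rw [mul_inv_rev, Suz.inv_eq_of_mul_self hs, Suz.inv_eq_of_mul_self ht]
      calc b * (s * t) * b⁻¹ = (b * s * b⁻¹) * (b * t * b⁻¹) := by group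
        _ = t * s := by rw [h1, h2]
    have h4 : b * w * b⁻¹ = w⁻¹ := by
      rw [hw, ← conj_pow, h3, inv_pow]
    calc b * (w * t) * b⁻¹ = (b * w * b⁻¹) * (b * t * b⁻¹) := by group
      _ = w⁻¹ * (w * w * t) := by rw [h4, h2, ← hst]
      _ = w * t := by group

/-- the involutions in the coset `H a` -/
def Xs (H : Subgroup G) (a : G) : Set G := {x | x * x = 1 ∧ x * a ∈ H}

theorem exists_conj_of_mem_Xs {H : Subgroup G} (hH : Odd (Nat.card H)) {a x : G}
    (ha : a * a = 1) (hx : x ∈ Xs H a) : ∃ c ∈ H, c ∈ zpowers (x * a) ∧ c * a * c⁻¹ = x := by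
  obtain ⟨j, hj⟩ := Suz.exists_conj_of_odd hx.1 ha hH (Suz.pow_card_of_mem hx.2)
  refine ⟨(x * a) ^ j, H.pow_mem hx.2 j, pow_mem (mem_zpowers _) j, ?_⟩
  generalize (x * a) ^ j = w at hj
  rw [← hj]; group

theorem Xs_eq {H : Subgroup G} (hH : Odd (Nat.card H)) {a : G} (ha : a * a = 1)
    (hn : ∀ h ∈ H, a * h * a ∈ H) : Xs H a = {y : G | ∃ x ∈ H, x * a * x⁻¹ = y} := by
  ext y
  constructor
  · intro hy
    obtain ⟨c, hc, -, e⟩ := exists_conj_of_mem_Xs hH ha hy
    exact ⟨c, hc, e⟩
  · rintro ⟨x, hx, rfl⟩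
    refine ⟨?_, ?_⟩
    · calc x * a * x⁻¹ * (x * a * x⁻¹) = x * (a * a) * x⁻¹ := by group
        _ = 1 := by rw [ha]; group
    · have : x * a * x⁻¹ * a = x * (a * x⁻¹ * a) := by group
      rw [this]
      exact H.mul_mem hx (hn _ (H.inv_mem hx))

theorem card_eq_Xs [Finite G] {H : Subgroup G} (hH : Odd (Nat.card H)) {a : G} (ha : a * a = 1)
    (hn : ∀ h ∈ H, a * h * a ∈ H) :
    Nat.card H = (Xs H a).ncard * Nat.card ↥(H ⊓ centralizer {a}) := by
  rw [Xs_eq hH ha hn, Frob.ncard_conj_subgroup, ← inf_relIndex_right, mul_comm, inf_comm H,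
    card_mul_relIndex inf_le_right]

theorem odd_card_of_le [Finite G] {H K : Subgroup G} (hH : Odd (Nat.card H)) (h : K ≤ H) :
    Odd (Nat.card K) := hH.of_dvd_nat (card_dvd_of_le h)

theorem mem_cent {a x : G} : x ∈ centralizer ({a} : Set G) ↔ x * a = a * x := by
  rw [mem_centralizer_singleton_iff]

theorem ncard_Xs_mul [Finite G] {H : Subgroup G} (hH : Odd (Nat.card H)) {a b : G}
    (ha : a * a = 1) (hb : b * b = 1) (hab : a * b = b * a)
    (hna : ∀ h ∈ H, a * h * a ∈ H) (hnb : ∀ h ∈ H, b * h * b ∈ H) :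
    (Xs H a).ncard =
      (Xs (H ⊓ centralizer {b}) a).ncard * (Xs (H ⊓ centralizer {a * b}) a).ncard := by
  have hai := Suz.inv_eq_of_mul_self ha
  have hbi := Suz.inv_eq_of_mul_self hb
  have hHb : Odd (Nat.card ↥(H ⊓ centralizer {b})) := odd_card_of_le hH inf_le_left
  have hc : ∀ p : Xs (H ⊓ centralizer {b}) a, ∃ c ∈ H ⊓ centralizer {b}, c * a * c⁻¹ = p :=
    fun p => by
      obtain ⟨c, h1, -, h2⟩ := exists_conj_of_mem_Xs hHb ha p.2
      exact ⟨c, h1, h2⟩
  choose c hcm hce using hc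
  have hcb : ∀ p, c p * b = b * c p := fun p => mem_cent.1 (mem_inf.1 (hcm p)).2
  have hmem : ∀ (x : G) (z : G), x ∈ H → z ∈ Xs H a → x * z * x⁻¹ ∈ Xs H a := by
    intro x z hx hz
    refine ⟨?_, ?_⟩
    · calc x * z * x⁻¹ * (x * z * x⁻¹) = x * (z * z) * x⁻¹ := by group
        _ = 1 := by rw [hz.1]; group
    · have : x * z * x⁻¹ * a = x * (z * a) * (a * x⁻¹ * a) := by
        calc x * z * x⁻¹ * a = x * z * (a * a) * x⁻¹ * a := by rw [ha]; group
          _ = _ := by group
      rw [this]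
      exact H.mul_mem (H.mul_mem hx hz.2) (hna _ (H.inv_mem hx))
  have hsub : ∀ {K : Subgroup G} {z : G}, z ∈ Xs (H ⊓ K) a → z ∈ Xs H a :=
    fun hz => ⟨hz.1, (mem_inf.1 hz.2).1⟩
  -- membership in the smaller sets is commutation
  have hcomm : ∀ {d z : G}, a * d = d * a → z ∈ Xs H a →
      (z ∈ Xs (H ⊓ centralizer {d}) a ↔ z * d = d * z) := by
    intro d z hd hz
    constructor
    · intro h
      have h1 := mem_cent.1 (mem_inf.1 h.2).2
      have : z * d * a = d * z * a := by
        rw [mul_assoc, ← hd, ← mul_assoc, h1, mul_assoc]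
      exact mul_right_cancel this
    · intro h
      refine ⟨hz.1, mem_inf.2 ⟨hz.2, mem_cent.2 ?_⟩⟩
      rw [mul_assoc, hd, ← mul_assoc, h, mul_assoc]
  have haab : a * (a * b) = a * b * a := by rw [mul_assoc, ← hab]
  let F : Xs (H ⊓ centralizer {b}) a × Xs (H ⊓ centralizer {a * b}) a → Xs H a := fun q =>
    ⟨c q.1 * q.2 * (c q.1)⁻¹, hmem _ _ (mem_inf.1 (hcm q.1)).1 (hsub q.2.2)⟩
  -- the key commutation
  have key : ∀ (p : Xs (H ⊓ centralizer {b}) a) (z : G),
      z * (a * b) = a * b * z ↔ (c p * z * (c p)⁻¹) * (p * b) = (p * b) * (c p * z * (c p)⁻¹) := by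
    intro p z
    have e : (p : G) * b = c p * (a * b) * (c p)⁻¹ := by
      rw [← hce p]
      calc c p * a * (c p)⁻¹ * b = c p * a * ((c p)⁻¹ * (b * c p)) * (c p)⁻¹ := by group
        _ = _ := by rw [← hcb]; group
    rw [e]
    constructor
    · intro h
      calc _ = c p * (z * (a * b)) * (c p)⁻¹ := by group
        _ = c p * (a * b * z) * (c p)⁻¹ := by rw [h]
        _ = _ := by group
    · intro h
      calc z * (a * b) = (c p)⁻¹ * ((c p * z * (c p)⁻¹) * (c p * (a * b) * (c p)⁻¹)) * c p := by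
            group
        _ = _ := by rw [h]; group
  have hpb : ∀ p : Xs (H ⊓ centralizer {b}) a, (p : G) * b = b * p := fun p =>
    (hcomm hab (hsub p.2)).1 p.2
  -- commuting with `p b` means that `p` is the midpoint
  have key2 : ∀ (p : Xs (H ⊓ centralizer {b}) a) (y : G),
      y * (p * b) = (p * b) * y ↔ p * y * p = b * y * b := by
    intro p y
    have hpp : (p : G) * p = 1 := p.2.1
    constructor
    · intro h
      calc (p : G) * y * p = p * (y * (p * b)) * b := by
            rw [mul_assoc, mul_assoc, mul_assoc, mul_assoc, hb, mul_one]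
        _ = (p * p) * b * y * b := by rw [h]; group
        _ = _ := by rw [hpp, one_mul]
    · intro h
      calc y * (p * b) = p * (p * y * p) * b := by
            rw [← mul_assoc, ← mul_assoc, ← mul_assoc, hpp, one_mul]
        _ = p * b * y * (b * b) := by rw [h]; group
        _ = _ := by rw [hb, mul_one]
  have hF : Function.Bijective F := by
    constructor
    · rintro ⟨p, z⟩ ⟨q, w⟩ e
      have e' : c p * z * (c p)⁻¹ = c q * w * (c q)⁻¹ := congrArg (fun x : Xs H a => x.1) e
      have h1 := (key2 p _).1 ((key p z).1 ((hcomm haab (hsub z.2)).1 z.2))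
      have h2 := (key2 q _).1 ((key q w).1 ((hcomm haab (hsub w.2)).1 w.2))
      rw [← e'] at h2
      have hy : c p * z * (c p)⁻¹ ∈ Xs H a := (F (p, z)).2
      generalize c p * z * (c p)⁻¹ = y at h1 h2 hy
      have hin : ∀ r : G, r ∈ Xs H a → r * y ∈ H := by
        intro r hr
        have : r * y = (r * a) * (y * a)⁻¹ := by
          rw [mul_inv_rev, hai, Suz.inv_eq_of_mul_self hy.1]
          calc r * y = r * (a * a) * y := by rw [ha, mul_one]
            _ = _ := by group
        rw [this]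
        exact H.mul_mem hr.2 (H.inv_mem hy.2)
      have h3 : (p : G) * y = q * y := by
        apply Suz.eq_of_sq_eq_of_odd hH (Suz.pow_card_of_mem (hin _ (hsub p.2)))
          (Suz.pow_card_of_mem (hin _ (hsub q.2)))
        calc (p : G) * y * (p * y) = (p * y * p) * y := by group
          _ = (q * y * q) * y := by rw [h1, h2]
          _ = _ := by group
      have h4 : p = q := Subtype.ext (mul_right_cancel h3)
      subst h4
      have h5 : (z : G) = w := by simpa using e'
      rw [Subtype.ext h5]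
    · rintro ⟨y, hy⟩
      have hyb : b * y * b ∈ Xs H a := by
        refine ⟨?_, ?_⟩
        · calc b * y * b * (b * y * b) = b * y * (b * b) * y * b := by group
            _ = b * (y * y) * b := by rw [hb]; group
            _ = 1 := by rw [hy.1, mul_one, hb]
        · have : b * y * b * a = b * (y * a) * b := by
            rw [mul_assoc (b * y), ← hab]; group
          rw [this]
          exact hnb _ hy.2
      have hin : b * y * b * y ∈ H := by
        have : b * y * b * y = (b * y * b * a) * (y * a)⁻¹ := by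
          rw [mul_inv_rev, hai, Suz.inv_eq_of_mul_self hy.1]
          calc b * y * b * y = b * y * b * (a * a) * y := by rw [ha, mul_one]
            _ = _ := by group
        rw [this]
        exact H.mul_mem hyb.2 (H.inv_mem hy.2)
      obtain ⟨j, h1, h2, h3⟩ := exists_mid hyb.1 hy.1 hH (Suz.pow_card_of_mem hin)
      have h4 := h3 b (by
        rw [hbi]
        calc b * (b * y * b) * b = (b * b) * y * (b * b) := by group
          _ = y := by rw [hb]; group) (by rw [hbi])
      have hpX : (b * y * b * y) ^ j * y ∈ Xs H a :=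
        ⟨h1, by rw [mul_assoc]; exact H.mul_mem (H.pow_mem hin j) hy.2⟩
      generalize (b * y * b * y) ^ j * y = p at h1 h2 h4 hpX
      have hp : p ∈ Xs (H ⊓ centralizer {b}) a := (hcomm hab hpX).2 (by
        calc p * b = (b * p * b⁻¹) * b := by rw [h4]
          _ = _ := by group)
      let P : Xs (H ⊓ centralizer {b}) a := ⟨p, hp⟩
      have hz : (c P)⁻¹ * y * (c P)⁻¹⁻¹ ∈ Xs H a :=
        hmem _ _ (H.inv_mem (mem_inf.1 (hcm P)).1) hy
      have hz' : (c P)⁻¹ * y * (c P)⁻¹⁻¹ ∈ Xs (H ⊓ centralizer {a * b}) a := by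
        refine (hcomm haab hz).2 ((key P _).2 ?_)
        have : c P * ((c P)⁻¹ * y * (c P)⁻¹⁻¹) * (c P)⁻¹ = y := by group
        rw [this]
        exact (key2 P y).2 h2
      refine ⟨(P, ⟨_, hz'⟩), Subtype.ext ?_⟩
      change c P * ((c P)⁻¹ * y * (c P)⁻¹⁻¹) * (c P)⁻¹ = y
      group
  rw [← Nat.card_coe_set_eq, ← Nat.card_coe_set_eq, ← Nat.card_coe_set_eq, ← Nat.card_prod,
    Nat.card_congr (Equiv.ofBijective F hF)]

/-- Brauer's formula. -/
theorem brauer_four [Finite G] {H : Subgroup G} (hH : Odd (Nat.card H)) {a b : G}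
    (ha : a * a = 1) (hb : b * b = 1) (hab : a * b = b * a)
    (hna : ∀ h ∈ H, a * h * a ∈ H) (hnb : ∀ h ∈ H, b * h * b ∈ H) :
    Nat.card H * Nat.card ↥(H ⊓ centralizer {a} ⊓ centralizer {b}) ^ 2 =
      Nat.card ↥(H ⊓ centralizer {a}) * Nat.card ↥(H ⊓ centralizer {b}) *
        Nat.card ↥(H ⊓ centralizer {a * b}) := by
  have hn : ∀ d : G, a * d = d * a → ∀ h ∈ H ⊓ centralizer {d},
      a * h * a ∈ H ⊓ centralizer ({d} : Set G) := by
    intro d hd h hh
    have had : a ∈ centralizer ({d} : Set G) := mem_cent.2 hd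
    exact mem_inf.2 ⟨hna h (mem_inf.1 hh).1,
      mul_mem (mul_mem had (mem_inf.1 hh).2) had⟩
  have haab : a * (a * b) = a * b * a := by rw [mul_assoc, ← hab]
  have e1 := card_eq_Xs hH ha hna
  have e2 := card_eq_Xs (odd_card_of_le hH (inf_le_left (b := centralizer {b}))) ha (hn b hab)
  have e3 := card_eq_Xs (odd_card_of_le hH (inf_le_left (b := centralizer {a * b}))) ha
    (hn _ haab)
  have z2 : H ⊓ centralizer {b} ⊓ centralizer {a} = H ⊓ centralizer {a} ⊓ centralizer {b} :=
    inf_right_comm _ _ _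
  have z3 : H ⊓ centralizer {a * b} ⊓ centralizer {a} =
      H ⊓ centralizer {a} ⊓ centralizer {b} := by
    ext x
    simp only [mem_inf, mem_cent]
    constructor
    · rintro ⟨⟨h1, h2⟩, h3⟩
      refine ⟨⟨h1, h3⟩, ?_⟩
      have : a * (x * b) = a * (b * x) := by
        rw [← mul_assoc, ← h3, mul_assoc, h2, mul_assoc]
      exact mul_left_cancel this
    · rintro ⟨⟨h1, h2⟩, h3⟩
      refine ⟨⟨h1, ?_⟩, h2⟩
      rw [← mul_assoc, h2, mul_assoc, h3, mul_assoc]
  rw [z2] at e2
  rw [z3] at e3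
  rw [e2, e3, e1, ncard_Xs_mul hH ha hb hab hna hnb]
  ring

end CfsgLib.H6Br
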