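import Mathlib
import Cfsg.Agent.Lib.CoreSolvable
import Cfsg.Agent.Lib.ClassSize
import Cfsg.Agent.Lib.PResidual

/-!
# Miscellaneous lemmas
-/

set_option autoImplicit false

namespace CfsgLib.H8

open Cfsg Subgroup CfsgLib CfsgLib.PRes

variable {G : Type*} [Group G]

/-- A maximal subgroup of a finite solvable group has prime power index. -/
theorem exists_index_eq_pow_of_isCoatom [Finite G] (hG : Group.IsSolvable G) {M : Subgroup G}
    (hM : IsCoatom M) : ∃ p k : ℕ, p.Prime ∧ M.index = p ^ k := by
  set K := M.normalCore with hK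
  have hKM : K ≤ M := normalCore_le M
  have hnt : Nontrivial (G ⧸ K) := by
    rw [QuotientGroup.nontrivial_iff]
    intro h
    exact hM.1 (top_le_iff.1 (h ▸ hKM))
  obtain ⟨N, hN⟩ := exists_isMinNormal (G := G ⧸ K)
  obtain ⟨p, hp, hNp⟩ := hN.exists_isPGroup inferInstance
  have := Fact.mk hp
  have := hN.1
  set L := N.comap (QuotientGroup.mk' K) with hL
  have hLM : ¬ L ≤ M := by
    intro h
    have h1 : L ≤ K := normal_le_normalCore.2 h
    apply hN.2.1
    rw [← map_comap_eq_self_of_surjective (QuotientGroup.mk'_surjective K) N,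
      Subgroup.map_eq_bot_iff, QuotientGroup.ker_mk']
    exact h1
  have h2 : M ⊔ L = ⊤ := hM.2 _ (lt_of_le_of_ne le_sup_left fun e => hLM (e ▸ le_sup_right))
  obtain ⟨n, hn⟩ := IsPGroup.iff_card.1 hNp
  have h3 : M.index ∣ p ^ n := by
    rw [← relIndex_top_right, ← h2, Frob.relIndex_sup_eq_of_normal, ← hn]
    refine (relIndex_dvd_of_le_left L hKM).trans ?_
    conv_lhs => rw [← QuotientGroup.ker_mk' K]
    rw [relIndex_ker, hL, map_comap_eq_self_of_surjective (QuotientGroup.mk'_surjective K)]
  obtain ⟨k, -, hk⟩ := (Nat.dvd_prime_pow hp).1 h3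
  exact ⟨p, k, hp, hk⟩

/-- A maximal subgroup containing `O^p(G)` is normal. -/
theorem normal_of_isCoatom_of_pResidual_le [Finite G] {p : ℕ} [Fact p.Prime] {M : Subgroup G}
    (hM : IsCoatom M) (h : pResidual p G ≤ M) : M.Normal := by
  have := pResidual_normal (G := G) (p := p)
  have h1 : IsPGroup p (G ⧸ pResidual p G) := isPGroup_quotient_of_pResidual_le le_rfl
  have h2 := h1.isNilpotent
  have h3 : (M.map (QuotientGroup.mk' (pResidual p G))).comap (QuotientGroup.mk' (pResidual p G))
      = M := by
    rw [comap_map_eq, QuotientGroup.ker_mk', sup_eq_left.2 h]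
  have h4 : IsCoatom (M.map (QuotientGroup.mk' (pResidual p G))) := by
    refine ⟨fun h0 => hM.1 (by rw [← h3, h0, comap_top]), fun L hL => ?_⟩
    have h6 := hM.2 (L.comap (QuotientGroup.mk' (pResidual p G))) (by
      rw [← h3]
      exact lt_of_le_of_ne (comap_mono hL.le) fun e =>
        hL.ne (comap_injective (QuotientGroup.mk'_surjective _) e))
    rw [← map_comap_eq_self_of_surjective (QuotientGroup.mk'_surjective (pResidual p G)) L, h6,
      map_top_of_surjective _ (QuotientGroup.mk'_surjective _)]
  have h5 := NormalizerCondition.normal_of_coatom _ Group.normalizerCondition_of_isNilpotent h4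
  rw [← h3]
  infer_instance

/-- For `H` subnormal, `[H : H ∩ K]` divides `[G : K]`. -/
theorem relIndex_dvd_index_of_isSubnormal [Finite G] {H : Subgroup G} (hH : H.IsSubnormal)
    (K : Subgroup G) : K.relIndex H ∣ K.index := by
  induction hH with
  | top => rw [relIndex_top_right]
  | step H L hle _ hN ih =>
    refine dvd_trans ?_ ih
    have := Frob.relIndex_normal_dvd_index (K.subgroupOf L) (H.subgroupOf L)
    rwa [relIndex_subgroupOf hle] at this

end CfsgLib.H8
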