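import Mathlib
import Cfsg.Agent.Lib.H5PiClosed
import Cfsg.Agent.Lib.PComplementMore

/-! Groups with the same order type; transfer of Sylow towers by counting. -/

set_option autoImplicit false

namespace CfsgLib.H4

open Subgroup Cfsg

/-- same number of elements of each order -/
def SameType (G H : Type*) [Group G] [Group H] : Prop :=
  ∀ m : ℕ, Nat.card {g : G // orderOf g = m} = Nat.card {h : H // orderOf h = m}

/-- `K` consists of exactly the `π`-elements -/
def IsPiClosure {G : Type*} [Group G] (π : Set ℕ) (K : Subgroup G) : Prop :=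
  ∀ x : G, x ∈ K ↔ IsPiNum π (orderOf x)

variable {G H : Type*} [Group G] [Group H]

theorem SameType.symm (h : SameType G H) : SameType H G := fun m => (h m).symm

theorem SameType.exists_equiv [Finite G] [Finite H] (hT : SameType G H) :
    ∃ E : G ≃ H, ∀ g, orderOf (E g) = orderOf g := by
  have e : ∀ m : ℕ, {g : G // orderOf g = m} ≃ {h : H // orderOf h = m} := fun m =>
    (Finite.card_eq.mp (hT m)).some
  exact ⟨(Equiv.sigmaFiberEquiv (orderOf : G → ℕ)).symm.trans
    ((Equiv.sigmaCongrRight e).trans (Equiv.sigmaFiberEquiv (orderOf : H → ℕ))),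
    fun g => (e (orderOf g) ⟨g, rfl⟩).2⟩

theorem SameType.ncard_eq [Finite G] [Finite H] (hT : SameType G H) (D : ℕ → Prop) :
    {g : G | D (orderOf g)}.ncard = {h : H | D (orderOf h)}.ncard := by
  obtain ⟨E, hE⟩ := hT.exists_equiv
  rw [← Set.ncard_image_of_injective _ E.injective]
  congr 1
  ext h
  obtain ⟨g, rfl⟩ := E.surjective h
  simp [hE]

theorem SameType.card_eq [Finite G] [Finite H] (hT : SameType G H) : Nat.card G = Nat.card H := by
  obtain ⟨E, -⟩ := hT.exists_equiv
  exact Nat.card_congr E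

theorem isPiNum_congr {π σ : Set ℕ} (h : ∀ q, q.Prime → (q ∈ π ↔ q ∈ σ)) {n : ℕ} :
    IsPiNum π n ↔ IsPiNum σ n :=
  ⟨fun h' q hq hd => (h q hq).mp (h' q hq hd), fun h' q hq hd => (h q hq).mpr (h' q hq hd)⟩

theorem IsPiClosure.congr [Finite G] {π σ : Set ℕ} {K : Subgroup G} (hK : IsPiClosure π K)
    (h : ∀ q, q.Prime → q ∣ Nat.card G → (q ∈ π ↔ q ∈ σ)) : IsPiClosure σ K := by
  intro x
  rw [hK x]
  exact ⟨fun h' q hq hd => (h q hq (hd.trans (orderOf_dvd_natCard x))).mp (h' q hq hd),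
    fun h' q hq hd => (h q hq (hd.trans (orderOf_dvd_natCard x))).mpr (h' q hq hd)⟩

theorem IsPiClosure.normal {π : Set ℕ} {K : Subgroup G} (hK : IsPiClosure π K) : K.Normal :=
  H5.normal_of_mem_iff_isPiNum hK

theorem isPiNum_card_of_forall [Finite G] {π : Set ℕ} {K : Subgroup G}
    (h : ∀ x ∈ K, IsPiNum π (orderOf x)) : IsPiNum π (Nat.card K) :=
  isPiSubgroup_iff_orderOf.mpr h

theorem IsPiClosure.isPiNum_card [Finite G] {π : Set ℕ} {K : Subgroup G} (hK : IsPiClosure π K) :
    IsPiNum π (Nat.card K) :=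
  isPiNum_card_of_forall fun x hx => (hK x).mp hx

theorem IsPiClosure.isPiNum_index [Finite G] {π : Set ℕ} {K : Subgroup G} (hK : IsPiClosure π K) :
    IsPiNum πᶜ K.index := by
  have := hK.normal
  exact H5.isPiNum_compl_index_of_forall_mem fun x hx => (hK x).mpr hx

theorem isPiClosure_empty_bot [Finite G] : IsPiClosure ∅ (⊥ : Subgroup G) := by
  intro x
  rw [mem_bot, ← orderOf_eq_one_iff]
  refine ⟨fun h => h ▸ isPiNum_one _, fun h => ?_⟩
  by_contra h1
  obtain ⟨q, hq, hd⟩ := Nat.exists_prime_and_dvd h1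
  exact h q hq hd

theorem isPiClosure_piCore [Finite G] {π : Set ℕ}
    (h : ∀ x : G, IsPiNum π (orderOf x) → x ∈ piCore π G) : IsPiClosure π (piCore π G) :=
  fun x => ⟨fun hx => isPiSubgroup_iff_orderOf.mp (piCore_isPiSubgroup π) x hx, h x⟩

/-- a Hall subgroup of a group with the order type of a `π`-closed group is the `π`-closure -/
theorem SameType.isPiClosure_of_hall [Finite G] [Finite H] (hT : SameType G H) {π : Set ℕ}
    {K : Subgroup G} (hK : IsPiClosure π K) {N : Subgroup H} (h1 : IsPiNum π (Nat.card N))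
    (h2 : IsPiNum πᶜ N.index) : IsPiClosure π N := by
  have hsub : (N : Set H) ⊆ {h : H | IsPiNum π (orderOf h)} := fun x hx =>
    h1.of_dvd (N.orderOf_dvd_natCard hx)
  have hc : {h : H | IsPiNum π (orderOf h)}.ncard = Nat.card K := by
    rw [← hT.ncard_eq (IsPiNum π), ← Nat.card_coe_set_eq]
    exact Nat.card_congr (Equiv.subtypeEquivRight fun x => (hK x).symm)
  have hd : Nat.card K ∣ Nat.card N := by
    refine (hK.isPiNum_card.coprime_compl h2).dvd_of_dvd_mul_left ?_
    rw [N.index_mul_card, ← hT.card_eq]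
    exact card_subgroup_dvd_card K
  have := Set.eq_of_subset_of_ncard_le hsub (by
    rw [hc, ← Nat.card_coe_set_eq]
    exact Nat.le_of_dvd Nat.card_pos hd) (Set.toFinite _)
  intro x
  rw [← SetLike.mem_coe, this]
  rfl

theorem SameType.step [Finite G] [Finite H] (hT : SameType G H) {π σ : Set ℕ} {p : ℕ}
    (hp : p.Prime) (hσ : ∀ q, q.Prime → (q ∈ σ ↔ q ∈ π ∨ q = p)) {K : Subgroup G}
    (hK : IsPiClosure σ K) {N : Subgroup H} (hN : IsPiClosure π N) (hs : Group.IsSolvable N) :
    ∃ N' : Subgroup H, Group.IsSolvable N' ∧ IsPiClosure σ N' := by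
  have := hN.normal
  have := Fact.mk hp
  obtain ⟨Q⟩ : Nonempty (Sylow p (H ⧸ N)) := inferInstance
  refine ⟨(Q : Subgroup (H ⧸ N)).comap (QuotientGroup.mk' N), ?_, hT.isPiClosure_of_hall hK ?_ ?_⟩
  · refine isSolvable_of_map_mk' hs ?_
    rw [map_comap_eq_self_of_surjective (QuotientGroup.mk'_surjective N)]
    exact isSolvable_of_isPGroup Q.isPGroup'
  · rw [card_comap_mk']
    obtain ⟨k, hk⟩ := Q.isPGroup'.exists_card_eq
    rw [hk]
    exact ((isPiNum_prime hp ((hσ p hp).mpr (Or.inr rfl))).pow k).mul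
      fun q hq hd => (hσ q hq).mpr (Or.inl (hN.isPiNum_card q hq hd))
  · rw [index_comap_of_surjective _ (QuotientGroup.mk'_surjective N)]
    intro q hq hd hqσ
    rcases (hσ q hq).mp hqσ with h | rfl
    · exact hN.isPiNum_index q hq (hd.trans (index_dvd_card _)) h
    · exact Q.not_dvd_index hd

/-- transfer of a Sylow tower -/
theorem SameType.chain [Finite G] [Finite H] (hT : SameType G H) (π τ : Set ℕ) (r0 : ℕ)
    (hG : ∀ r, r0 ≤ r → ∃ K : Subgroup G, IsPiClosure (π ∪ (τ ∩ {q | r ≤ q})) K)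
    {N : Subgroup H} (hN : IsPiClosure π N) (hs : Group.IsSolvable N) :
    ∃ N' : Subgroup H, Group.IsSolvable N' ∧ IsPiClosure (π ∪ (τ ∩ {q | r0 ≤ q})) N' := by
  suffices h : ∀ n r, r0 ≤ r → Nat.card H < r + n →
      ∃ N' : Subgroup H, Group.IsSolvable N' ∧ IsPiClosure (π ∪ (τ ∩ {q | r ≤ q})) N' from
    h (Nat.card H + 1) r0 le_rfl (by omega)
  intro n
  induction n with
  | zero =>
    intro r _ hr
    refine ⟨N, hs, hN.congr fun q _ hd => ⟨Or.inl, ?_⟩⟩
    rintro (h | ⟨-, h⟩)
    · exact h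
    · have := Nat.le_of_dvd Nat.card_pos hd
      change r ≤ q at h
      omega
  | succ n ih =>
    intro r hr0 hr
    obtain ⟨N', hs', hN'⟩ := ih (r + 1) (by omega) (by omega)
    by_cases hrp : r.Prime ∧ r ∈ τ
    · obtain ⟨K, hK⟩ := hG r hr0
      refine hT.step hrp.1 (fun q _ => ?_) hK hN' hs'
      simp only [Set.mem_union, Set.mem_inter_iff, Set.mem_ofPred_eq]
      constructor
      · rintro (h | ⟨h1, h2⟩)
        · exact Or.inl (Or.inl h)
        · rcases h2.eq_or_lt with rfl | h2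
          · exact Or.inr rfl
          · exact Or.inl (Or.inr ⟨h1, h2⟩)
      · rintro ((h | ⟨h1, h2⟩) | rfl)
        · exact Or.inl h
        · exact Or.inr ⟨h1, by omega⟩
        · exact Or.inr ⟨hrp.2, le_rfl⟩
    · refine ⟨N', hs', hN'.congr fun q hq _ => ?_⟩
      simp only [Set.mem_union, Set.mem_inter_iff, Set.mem_ofPred_eq]
      refine or_congr_right ⟨fun h => ⟨h.1, by omega⟩, fun h => ⟨h.1, ?_⟩⟩
      rcases h.2.eq_or_lt with rfl | h2
      · exact absurd ⟨hq, h.1⟩ hrp
      · exact h2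

theorem rank_le_one_of_isCyclic [Finite G] [IsCyclic G] : Group.rank G ≤ 1 := by
  obtain ⟨g, hg⟩ := isCyclic_iff_exists_zpowers_eq_top.mp (inferInstance : IsCyclic G)
  refine (Group.rank_le (S := {g}) ?_).trans (by simp)
  rw [Finset.coe_singleton, ← zpowers_eq_closure, hg]

theorem rank_quaternion_le (n : ℕ) [NeZero n] : Group.rank (QuaternionGroup n) ≤ 2 := by
  classical
  refine (Group.rank_le (S := {QuaternionGroup.a 1, QuaternionGroup.xa 0}) ?_).trans
    Finset.card_le_two
  rw [eq_top_iff]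
  have h1 : ∀ i : ZMod (2 * n), QuaternionGroup.a i ∈ closure
      (({QuaternionGroup.a 1, QuaternionGroup.xa 0} : Finset (QuaternionGroup n)) :
        Set (QuaternionGroup n)) := by
    intro i
    have : NeZero (2 * n) := ⟨mul_ne_zero two_ne_zero (NeZero.ne n)⟩
    rw [← ZMod.natCast_zmod_val i, ← QuaternionGroup.a_one_pow]
    exact pow_mem (subset_closure (by simp)) _
  rintro (i | i) -
  · exact h1 i
  · have : QuaternionGroup.xa i = QuaternionGroup.xa 0 * QuaternionGroup.a i := by simp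
    rw [this]
    exact mul_mem (subset_closure (by simp)) (h1 i)

/-- a `p`-element normalizing a `q`-subgroup of small rank centralizes it -/
theorem mem_centralizer_of_rank [Finite G] {p q k d : ℕ} (hp : p.Prime) (hq : q.Prime)
    (hpq : p ≠ q) {Q : Subgroup G} (hQ : IsPGroup q Q) (hd : Group.rank Q ≤ d)
    (h : ∀ i, 1 ≤ i → i ≤ d → ¬ p ∣ q ^ i - 1) {x : G} (hx : orderOf x = p ^ k)
    (hn : x ∈ normalizer (Q : Set G)) : x ∈ centralizer (Q : Set G) := by
  by_contra hc
  have := Fact.mk hq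
  obtain ⟨i, h1, h2, h3⟩ := PCompl.exists_dvd_pow_sub_one_of_dvd_card_mulAut hQ hp hpq
    (PCompl.dvd_card_mulAut_of_not_mem_centralizer hn hp hx hc)
  exact h i h1 (h2.trans hd) h3

theorem mem_centralizer_of_isCyclic_of_lt [Finite G] {p q k : ℕ} (hp : p.Prime) (hq : q.Prime)
    (hpq : q < p) {Q : Subgroup G} (hQ : IsPGroup q Q) [IsCyclic Q] {x : G}
    (hx : orderOf x = p ^ k) (hn : x ∈ normalizer (Q : Set G)) :
    x ∈ centralizer (Q : Set G) := by
  refine mem_centralizer_of_rank hp hq hpq.ne' hQ rank_le_one_of_isCyclic (fun i h1 h2 h3 => ?_)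
    hx hn
  obtain rfl : i = 1 := le_antisymm h2 h1
  have := hq.two_le
  have := Nat.le_of_dvd (by simp; omega) h3
  simp at this; omega

theorem exists_isPiClosure_of_isNilpotent [Finite G] [Group.IsNilpotent G] (π : Set ℕ) :
    IsPiClosure π (piCore π G) := by
  refine isPiClosure_piCore fun x hx => H5.mem_piCore_of_piSep (PiSep.of_isSolvable inferInstance)
    (fun p q k Q x hp hq hpπ hqπ hQ hx _ => ?_) hx
  have := Fact.mk hq
  refine mem_centralizer_iff.mpr fun y hy => (commute_of_coprime_of_isNilpotent ?_).eq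
  obtain ⟨j, hj⟩ := orderOf_eq_pow_of_mem_isPGroup hQ hy
  rw [hj, hx]
  exact Nat.coprime_pow_primes _ _ hq hp fun h => hqπ (h ▸ hpπ)

end CfsgLib.H4
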