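import Mathlib

/-!
# `ℤ/n`-graded Lie rings with trivial zero component (Kreknin, Higman–Kreknin–Kostrikin)

Gradings are handled as families of additive subgroups of a Lie ring (no directness needed).
-/

set_option autoImplicit false

namespace CfsgLib.GradedLie

variable {L : Type*} [LieRing L] {A : Type*} [AddCommGroup A]

/-- A family of additive subgroups closed under the bracket. -/
def IsGr (F : A → AddSubgroup L) : Prop := ∀ i j, ∀ x ∈ F i, ∀ y ∈ F j, ⁅x, y⁆ ∈ F (i + j)

/-- The bracket of two families. -/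
def br (F H : A → AddSubgroup L) : A → AddSubgroup L := fun k =>
  AddSubgroup.closure {z | ∃ i j, i + j = k ∧ ∃ x ∈ F i, ∃ y ∈ H j, ⁅x, y⁆ = z}

theorem lie_mem_br {F H : A → AddSubgroup L} {i j : A} {x y : L} (hx : x ∈ F i) (hy : y ∈ H j) :
    ⁅x, y⁆ ∈ br F H (i + j) := AddSubgroup.subset_closure ⟨i, j, rfl, x, hx, y, hy, rfl⟩

theorem br_le {F H K : A → AddSubgroup L} :
    br F H ≤ K ↔ ∀ i j, ∀ x ∈ F i, ∀ y ∈ H j, ⁅x, y⁆ ∈ K (i + j) := by
  refine ⟨fun h i j x hx y hy => h _ (lie_mem_br hx hy), fun h k => ?_⟩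
  refine (AddSubgroup.closure_le _).2 ?_
  rintro _ ⟨i, j, rfl, x, hx, y, hy, rfl⟩
  exact h i j x hx y hy

theorem br_mono {F H F' H' : A → AddSubgroup L} (h1 : F ≤ F') (h2 : H ≤ H') :
    br F H ≤ br F' H' := br_le.2 fun _ _ _ hx _ hy => lie_mem_br (h1 _ hx) (h2 _ hy)

theorem IsGr.br_le {F : A → AddSubgroup L} (h : IsGr F) : br F F ≤ F := GradedLie.br_le.2 h

theorem IsGr.of_le {F H : A → AddSubgroup L} (h1 : H ≤ F) (h2 : br F F ≤ H) : IsGr H :=
  GradedLie.br_le.1 ((br_mono h1 h1).trans h2)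

/-- The derived family. -/
def D (F : A → AddSubgroup L) : A → AddSubgroup L := br F F

theorem IsGr.D {F : A → AddSubgroup L} (h : IsGr F) : IsGr (D F) := IsGr.of_le h.br_le le_rfl

theorem IsGr.iterate_D {F : A → AddSubgroup L} (h : IsGr F) (n : ℕ) :
    IsGr (GradedLie.D^[n] F) ∧ GradedLie.D^[n] F ≤ F := by
  induction n with
  | zero => exact ⟨h, le_rfl⟩
  | succ n ih =>
    rw [Function.iterate_succ_apply']
    exact ⟨ih.1.D, ih.1.br_le.trans ih.2⟩

/-- The lower central family; `C F n` corresponds to `γ_(n+1)`. -/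
def C (F : A → AddSubgroup L) (n : ℕ) : A → AddSubgroup L := (fun H => br H F)^[n] F

theorem C_succ (F : A → AddSubgroup L) (n : ℕ) : C F (n + 1) = br (C F n) F :=
  Function.iterate_succ_apply' _ _ _

/-- The residual family `{y | ⁅F, y⁆ ≤ K}`. -/
def resR (F K : A → AddSubgroup L) : A → AddSubgroup L := fun j =>
  { carrier := {y | ∀ i, ∀ x ∈ F i, ⁅x, y⁆ ∈ K (i + j)}
    zero_mem' := fun i x _ => by rw [lie_zero]; exact zero_mem _
    add_mem' := fun ha hb i x hx => by rw [lie_add]; exact add_mem (ha i x hx) (hb i x hx)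
    neg_mem' := fun ha i x hx => by rw [lie_neg]; exact neg_mem (ha i x hx) }

/-- The residual family `{x | ⁅x, H⁆ ≤ K}`. -/
def resL (H K : A → AddSubgroup L) : A → AddSubgroup L := fun i =>
  { carrier := {x | ∀ j, ∀ y ∈ H j, ⁅x, y⁆ ∈ K (i + j)}
    zero_mem' := fun i x _ => by rw [zero_lie]; exact zero_mem _
    add_mem' := fun ha hb i x hx => by rw [add_lie]; exact add_mem (ha i x hx) (hb i x hx)
    neg_mem' := fun ha i x hx => by rw [neg_lie]; exact neg_mem (ha i x hx) }

theorem br_le_iff_le_resR {F H K : A → AddSubgroup L} : br F H ≤ K ↔ H ≤ resR F K :=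
  br_le.trans ⟨fun h j y hy i x hx => h i j x hx y hy, fun h i j x hx _ hy => h j hy i x hx⟩

theorem br_le_iff_le_resL {F H K : A → AddSubgroup L} : br F H ≤ K ↔ F ≤ resL H K :=
  br_le.trans ⟨fun h i x hx j y hy => h i j x hx y hy, fun h i j _ hx y hy => h i hx j y hy⟩

theorem lie_lie' (x y z : L) : ⁅⁅x, y⁆, z⁆ = ⁅⁅x, z⁆, y⁆ + ⁅x, ⁅y, z⁆⁆ := by
  rw [lie_lie, ← lie_skew ⁅x, z⁆ y]; abel

/-- Leibniz rule for families. -/
theorem br_br_le {X Y Z K : A → AddSubgroup L} (h1 : br (br X Z) Y ≤ K)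
    (h2 : br X (br Y Z) ≤ K) : br (br X Y) Z ≤ K := by
  rw [br_le_iff_le_resL, br_le]
  intro i j x hx y hy k z hz
  rw [lie_lie']
  refine add_mem ?_ ?_
  · rw [add_right_comm]; exact h1 _ (lie_mem_br (lie_mem_br hx hz) hy)
  · rw [add_assoc]; exact h2 _ (lie_mem_br hx (lie_mem_br hy hz))

section Kreknin

variable {n : ℕ}

/-- The part of a family in degrees `≥ k`. -/
def tail (k : ℕ) (F : ZMod n → AddSubgroup L) : ZMod n → AddSubgroup L :=
  fun j => if k ≤ j.val then F j else ⊥

/-- The graded subring generated by a family. -/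
def gen (F : A → AddSubgroup L) : A → AddSubgroup L := sInf {H | F ≤ H ∧ IsGr H}

theorem le_gen (F : A → AddSubgroup L) : F ≤ gen F := le_sInf fun _ h => h.1

theorem gen_le {F H : A → AddSubgroup L} (h1 : F ≤ H) (h2 : IsGr H) : gen F ≤ H := sInf_le ⟨h1, h2⟩

theorem isGr_gen (F : A → AddSubgroup L) : IsGr (gen F) :=
  br_le.1 (le_sInf fun _ h => (br_mono (sInf_le h) (sInf_le h)).trans h.2.br_le)

theorem br_gen_le {F T : A → AddSubgroup L} (hF : IsGr F) (hT : T ≤ F) :
    br F (gen T) ≤ br F T := by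
  rw [br_le_iff_le_resR]
  refine (gen_le (H := F ⊓ resR F (br F T)) (le_inf hT (br_le_iff_le_resR.1 le_rfl)) ?_).trans
    inf_le_right
  intro i j x hx y hy
  refine ⟨hF i j x hx.1 y hy.1, fun k z hz => ?_⟩
  rw [leibniz_lie, ← lie_skew x ⁅z, y⁆]
  refine add_mem ?_ (neg_mem ?_)
  · rw [← add_assoc]; exact hy.2 _ _ (hF _ _ _ hz _ hx.1)
  · rw [add_comm i, ← add_assoc]; exact hx.2 _ _ (hF _ _ _ hz _ hy.1)

theorem tail_le (k : ℕ) (F : ZMod n → AddSubgroup L) : tail k F ≤ F := fun j => by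
  unfold tail; split_ifs <;> simp

theorem mem_tail {k : ℕ} {F : ZMod n → AddSubgroup L} {j : ZMod n} {x : L} (h : k ≤ j.val)
    (hx : x ∈ F j) : x ∈ tail k F j := by
  unfold tail; rwa [if_pos h]

theorem kreknin_aux [NeZero n] (k : ℕ) : ∀ F : ZMod n → AddSubgroup L, IsGr F → F 0 = ⊥ →
    D^[2 ^ k - 1] F ≤ gen (tail (k + 1) F) := by
  induction k with
  | zero =>
    intro F _ h0 j x hx
    refine le_gen _ j ?_
    rcases eq_or_ne j 0 with rfl | hj
    · have hx' : x ∈ F 0 := hx
      rw [h0, AddSubgroup.mem_bot] at hx'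
      rw [hx']; exact zero_mem _
    · exact mem_tail (Nat.one_le_iff_ne_zero.2 (by rwa [Ne, ZMod.val_eq_zero])) hx
  | succ k ih =>
    intro F hF h0
    have hk := Nat.one_le_two_pow (n := k)
    rw [show 2 ^ (k + 1) - 1 = (2 ^ k - 1) + ((2 ^ k - 1) + 1) by omega,
      Function.iterate_add_apply]
    obtain ⟨hH, hHF⟩ := hF.iterate_D (2 ^ k - 1 + 1)
    refine (ih _ hH (le_bot_iff.1 ((hHF 0).trans h0.le))).trans (gen_le ?_ (isGr_gen _))
    intro j x hx
    unfold tail at hx
    split_ifs at hx with hj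
    swap
    · rw [AddSubgroup.mem_bot.1 hx]; exact zero_mem _
    rcases hj.lt_or_eq with hj | hj
    · exact le_gen _ j (mem_tail hj (hHF j hx))
    rw [Function.iterate_succ_apply'] at hx
    have h1 := ((br_mono (hF.iterate_D _).2 (ih F hF h0)).trans
      (br_gen_le hF (tail_le _ _))) j hx
    refine (AddSubgroup.closure_le _).2 ?_ h1
    rintro _ ⟨a, b, rfl, y, hy, z, hz, rfl⟩
    unfold tail at hz
    split_ifs at hz with hb
    swap
    · rw [AddSubgroup.mem_bot.1 hz, lie_zero]; exact zero_mem _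
    rcases eq_or_ne a 0 with rfl | ha
    · rw [h0, AddSubgroup.mem_bot] at hy
      rw [hy, zero_lie]; exact zero_mem _
    have ha' : a.val ≠ 0 := by rwa [Ne, ZMod.val_eq_zero]
    have e1 := ZMod.val_lt a
    have e2 := ZMod.val_lt b
    have e3 : (a + b).val = a.val + b.val - n ∧ n ≤ a.val + b.val := by
      rcases lt_or_ge (a.val + b.val) n with h | h
      · rw [ZMod.val_add_of_lt h] at hj; omega
      · exact ⟨ZMod.val_add_of_le h, h⟩
    exact isGr_gen _ a b y (le_gen _ a (mem_tail (by omega) hy)) z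
      (le_gen _ b (mem_tail (by omega) hz))

/-- **Kreknin's theorem**. -/
theorem kreknin [NeZero n] {F : ZMod n → AddSubgroup L} (hF : IsGr F) (h0 : F 0 = ⊥) :
    D^[2 ^ (n - 1) - 1] F = ⊥ := by
  refine le_bot_iff.1 ((kreknin_aux _ F hF h0).trans (gen_le (fun j => ?_) ?_))
  · have := ZMod.val_lt j
    unfold tail; rw [if_neg (by omega)]; rfl
  · intro i j x hx y _
    rw [AddSubgroup.mem_bot.1 hx, zero_lie]; exact zero_mem _

end Kreknin

section Higman

variable {p : ℕ}

/-- Iterated bracket with a list of homogeneous elements. -/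
def it (a : L) (l : List (A × L)) : L := l.foldl (fun b x => ⁅b, x.2⁆) a

@[simp] theorem it_nil (a : L) : it a ([] : List (A × L)) = a := rfl

@[simp] theorem it_cons (a : L) (x : A × L) (l : List (A × L)) :
    it a (x :: l) = it ⁅a, x.2⁆ l := rfl

theorem it_add (a b : L) (l : List (A × L)) : it (a + b) l = it a l + it b l := by
  induction l generalizing a b with
  | nil => rfl
  | cons x l ih => rw [it_cons, it_cons, it_cons, add_lie, ih]

theorem it_zero (l : List (A × L)) : it 0 l = 0 := by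
  induction l with
  | nil => rfl
  | cons x l ih => rw [it_cons, zero_lie, ih]

theorem it_neg (a : L) (l : List (A × L)) : it (-a) l = -it a l := by
  rw [eq_neg_iff_add_eq_zero, ← it_add, neg_add_cancel, it_zero]

theorem it_mem {F K : A → AddSubgroup L} (hK : br K F ≤ K) (l : List (A × L))
    (hl : ∀ x ∈ l, x.2 ∈ F x.1) {a : L} {j : A} (ha : a ∈ K j) :
    it a l ∈ K (j + (l.map Prod.fst).sum) := by
  induction l generalizing a j with
  | nil => simpa using ha
  | cons x l ih =>
    rw [it_cons, List.map_cons, List.sum_cons, ← add_assoc]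
    exact ih (fun y hy => hl y (List.mem_cons_of_mem _ hy))
      (hK _ (lie_mem_br ha (hl x List.mem_cons_self)))

theorem it_comm {F K K' : A → AddSubgroup L} (hK : br K F ≤ K) (hK' : br K' F ≤ K')
    (hD : br K (D F) ≤ K') (x : A × L) (hx : x.2 ∈ F x.1) (l : List (A × L))
    (hl : ∀ x ∈ l, x.2 ∈ F x.1) {a : L} {j : A} (ha : a ∈ K j) :
    it ⁅a, x.2⁆ l - ⁅it a l, x.2⁆ ∈ K' (j + (l.map Prod.fst).sum + x.1) := by
  induction l generalizing a j with
  | nil => simp
  | cons y l ih =>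
    have hy := hl y List.mem_cons_self
    have hl' : ∀ z ∈ l, z.2 ∈ F z.1 := fun z hz => hl z (List.mem_cons_of_mem _ hz)
    rw [it_cons, it_cons, lie_lie', it_add, add_sub_right_comm, List.map_cons, List.sum_cons,
      ← add_assoc]
    refine add_mem (ih hl' (hK _ (lie_mem_br ha hy))) ?_
    have := it_mem hK' l hl' (hD _ (lie_mem_br ha (lie_mem_br hx hy)))
    rwa [show j + (x.1 + y.1) + (l.map Prod.fst).sum = j + y.1 + (l.map Prod.fst).sum + x.1 by
      abel] at this

open Pointwise in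
/-- Subset sums of a list. -/
def sums [DecidableEq A] : List A → Finset A
  | [] => {0}
  | i :: l => sums l ∪ (i +ᵥ sums l)

theorem it_mem_of_mem_sums [DecidableEq A] {F K K' : A → AddSubgroup L} (hK : br K F ≤ K)
    (hK' : br K' F ≤ K') (hD : br K (D F) ≤ K') (h0 : K 0 = ⊥) (l : List (A × L))
    (hl : ∀ x ∈ l, x.2 ∈ F x.1) {a : L} {j : A} (ha : a ∈ K j)
    (hj : -j ∈ sums (l.map Prod.fst)) : it a l ∈ K' (j + (l.map Prod.fst).sum) := by
  induction l generalizing a j with
  | nil =>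
    rw [List.map_nil, sums, Finset.mem_singleton, neg_eq_zero] at hj
    rw [hj, h0, AddSubgroup.mem_bot] at ha
    rw [ha]; exact zero_mem _
  | cons x l ih =>
    have hx := hl x List.mem_cons_self
    have hl' : ∀ z ∈ l, z.2 ∈ F z.1 := fun z hz => hl z (List.mem_cons_of_mem _ hz)
    rw [List.map_cons, sums, Finset.mem_union, Finset.mem_vadd_finset] at hj
    rw [it_cons, List.map_cons, List.sum_cons]
    rcases hj with hj | ⟨s, hs, hj⟩
    · have h1 := add_mem (it_comm hK hK' hD x hx l hl' ha) (hK' _ (lie_mem_br (ih hl' ha hj) hx))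
      rwa [sub_add_cancel, add_assoc, add_comm _ x.1] at h1
    · rw [← add_assoc]
      refine ih hl' (hK _ (lie_mem_br ha hx)) ?_
      rwa [neg_add, ← hj, vadd_eq_add, add_neg_cancel_comm]

open Pointwise in
theorem card_sums [hp : Fact p.Prime] (l : List (ZMod p)) (hl : ∀ i ∈ l, i ≠ 0) :
    min p (l.length + 1) ≤ (sums l).card := by
  induction l with
  | nil => simp [sums]
  | cons i l ih =>
    have h1 := ih fun j hj => hl j (List.mem_cons_of_mem _ hj)
    have hi := hl i List.mem_cons_self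
    rw [sums, List.length_cons]
    by_contra h
    have h2 : sums l ∪ (i +ᵥ sums l) = sums l := by
      refine (Finset.eq_of_subset_of_card_le Finset.subset_union_left ?_).symm
      omega
    have h3 : ∀ s ∈ sums l, i + s ∈ sums l := fun s hs => by
      rw [← h2]; exact Finset.mem_union_right _ (Finset.vadd_mem_vadd_finset hs)
    obtain ⟨s, hs⟩ : (sums l).Nonempty := Finset.card_pos.1 (by have := hp.out.pos; omega)
    have h4 : ∀ n : ℕ, (n : ZMod p) * i + s ∈ sums l := by
      intro n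
      induction n with
      | zero => simpa using hs
      | succ n ihn => have := h3 _ ihn; rwa [← add_assoc, ← one_add_mul, add_comm 1, ← Nat.cast_succ] at this
    have h5 : sums l = Finset.univ := Finset.eq_univ_of_forall fun t => by
      have := h4 ((t - s) / i).val
      rwa [ZMod.natCast_zmod_val, div_mul_cancel₀ _ hi, sub_add_cancel] at this
    rw [h2, h5, Finset.card_univ, ZMod.card] at h
    omega

theorem iterate_br_le [hp : Fact p.Prime] {F K K' : ZMod p → AddSubgroup L} (hK : br K F ≤ K)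
    (hK' : br K' F ≤ K') (hD : br K (D F) ≤ K') (h0 : K 0 = ⊥) (hF : F 0 = ⊥) :
    (fun H => br H F)^[p - 1] K ≤ K' := by
  let U : ℕ → ZMod p → AddSubgroup L := fun r j =>
    { carrier := {a | ∀ l : List (ZMod p × L), l.length = r → (∀ x ∈ l, x.2 ∈ F x.1) →
        it a l ∈ K' (j + (l.map Prod.fst).sum)}
      zero_mem' := fun l _ _ => by rw [it_zero]; exact zero_mem _
      add_mem' := fun ha hb l h1 h2 => by rw [it_add]; exact add_mem (ha l h1 h2) (hb l h1 h2)
      neg_mem' := fun ha l h1 h2 => by rw [it_neg]; exact neg_mem (ha l h1 h2) }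
  have h1 : ∀ r H, H ≤ U r → (fun H => br H F)^[r] H ≤ K' := by
    intro r
    induction r with
    | zero => intro H h j a ha; simpa using h j ha [] rfl (by simp)
    | succ r ih =>
      intro H h
      rw [Function.iterate_succ_apply]
      refine ih _ (br_le.2 fun i j x hx y hy l h1 h2 => ?_)
      have := h i hx ((j, y) :: l) (by simp [h1]) (by simpa [hy] using h2)
      rwa [it_cons, List.map_cons, List.sum_cons, ← add_assoc] at this
  refine h1 _ _ fun j a ha l hl hl' => ?_
  by_cases h : ∀ i ∈ l.map Prod.fst, i ≠ 0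
  · refine it_mem_of_mem_sums hK hK' hD h0 l hl' ha ?_
    have h2 := card_sums _ h
    have := hp.out.pos
    rw [List.length_map, hl, Nat.sub_add_cancel this, min_self] at h2
    rw [Finset.eq_univ_of_card (sums (l.map Prod.fst))
      (le_antisymm (Finset.card_le_univ _) (by rwa [ZMod.card]))]
    exact Finset.mem_univ _
  · push Not at h
    obtain ⟨_, h, rfl⟩ := h
    obtain ⟨x, hx, hx0⟩ := List.mem_map.1 h
    obtain ⟨l1, l2, rfl⟩ := List.append_of_mem hx
    have h3 := hl' x hx
    rw [hx0, hF, AddSubgroup.mem_bot] at h3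
    have : it a (l1 ++ x :: l2) = 0 := by
      rw [it, List.foldl_append, List.foldl_cons, h3, lie_zero]; exact it_zero l2
    rw [this]; exact zero_mem _

theorem iterate_br_mono (F : A → AddSubgroup L) (n : ℕ) :
    Monotone (fun H => br H F)^[n] := Monotone.iterate (fun _ _ h => br_mono h le_rfl) n

theorem C_eq_bot_of_iterate_D [hp : Fact p.Prime] (s : ℕ) : ∀ F : ZMod p → AddSubgroup L,
    IsGr F → F 0 = ⊥ → D^[s] F = ⊥ → C F (∑ i ∈ Finset.range s, (p - 1) ^ i) = ⊥ := by
  induction s with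
  | zero => intro F _ _ h; exact h
  | succ s ih =>
    intro F hF h0 h
    have hD0 : D F 0 = ⊥ := le_bot_iff.1 ((hF.br_le 0).trans h0.le)
    have h1 := ih (D F) hF.D hD0 h
    have h2 : ∀ n, br (C (D F) n) F ≤ C (D F) n ∧ C (D F) n ≤ D F := by
      intro n
      induction n with
      | zero => exact ⟨br_mono hF.br_le le_rfl, le_rfl⟩
      | succ n ihn =>
        rw [C_succ]
        exact ⟨br_br_le (br_mono ihn.1 le_rfl) (br_mono le_rfl (br_mono hF.br_le le_rfl)),
          (br_mono ihn.2 le_rfl).trans hF.D.br_le⟩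
    have h3 : ∀ n, C F (n * (p - 1) + 1) ≤ C (D F) n := by
      intro n
      induction n with
      | zero => rw [zero_mul]; exact le_rfl
      | succ n ihn =>
        rw [show (n + 1) * (p - 1) + 1 = (p - 1) + (n * (p - 1) + 1) by ring, C,
          Function.iterate_add_apply]
        exact (iterate_br_mono F _ ihn).trans (iterate_br_le (h2 n).1 (h2 (n + 1)).1
          (C_succ _ n).ge (le_bot_iff.1 (((h2 n).2 0).trans hD0.le)) h0)
    rw [Finset.sum_range_succ', pow_zero]
    simp_rw [pow_succ]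
    rw [← Finset.sum_mul]
    exact le_bot_iff.1 ((h3 _).trans h1.le)

/-- **Higman–Kreknin–Kostrikin**. -/
theorem higman [hp : Fact p.Prime] {F : ZMod p → AddSubgroup L} (hF : IsGr F) (h0 : F 0 = ⊥) :
    C F (∑ i ∈ Finset.range (2 ^ (p - 1) - 1), (p - 1) ^ i) = ⊥ :=
  C_eq_bot_of_iterate_D _ F hF h0 (kreknin hF h0)

theorem higman_three {F : ZMod 3 → AddSubgroup L} (hF : IsGr F) (h0 : F 0 = ⊥) : C F 2 = ⊥ := by
  have hz : ∀ {i j : ZMod 3} {x y : L}, x ∈ F i → y ∈ F j → (i = 0 ∨ j = 0 ∨ i + j = 0) →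
      ⁅x, y⁆ = 0 := by
    intro i j x y hx hy h
    rcases h with rfl | rfl | h
    · rw [h0, AddSubgroup.mem_bot] at hx; rw [hx, zero_lie]
    · rw [h0, AddSubgroup.mem_bot] at hy; rw [hy, lie_zero]
    · have := hF i j x hx y hy
      rwa [h, h0, AddSubgroup.mem_bot] at this
  rw [C_succ, C_succ, ← le_bot_iff, br_le_iff_le_resL, br_le]
  intro i j x hx y hy k z hz'
  have hx : x ∈ F i := hx
  rw [Pi.bot_apply, AddSubgroup.mem_bot]
  have : ∀ i j k : ZMod 3, (i = 0 ∨ j = 0 ∨ i + j = 0) ∨ (i + j = 0 ∨ k = 0 ∨ i + j + k = 0) ∨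
      ((i = 0 ∨ k = 0 ∨ i + k = 0) ∧ (j = 0 ∨ k = 0 ∨ j + k = 0)) := by
    decide
  rcases this i j k with h | h | h
  · rw [hz hx hy h, zero_lie]
  · exact hz (hF _ _ _ hx _ hy) hz' h
  · rw [lie_lie', hz hx hz' h.1, hz hy hz' h.2, zero_lie, lie_zero, add_zero]

end Higman

end CfsgLib.GradedLie
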