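import Cfsg.Agent.Lib.CommCalc
import Cfsg.Agent.Lib.CoreBasic
import Cfsg.Agent.Lib.PGroupMaxClass

/-!
# Breadth and the derived subgroup of a `p`-group (Vaughan-Lee, Skutin)
-/

set_option autoImplicit false

namespace CfsgLib.H1

open Subgroup CfsgLib.PGrp CfsgLib.CommCalc
open scoped commutatorElement IsMulCommutative

variable {X : Type*} [Group X]

theorem le_or_le_of_forall_mem_or {D K Y : Subgroup X} (h : ∀ x ∈ D, x ∈ K ∨ x ∈ Y) :
    D ≤ K ∨ D ≤ Y := by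
  by_contra! h1
  obtain ⟨a, ha, ha1⟩ := SetLike.not_le_iff_exists.1 h1.1
  obtain ⟨b, hb, hb1⟩ := SetLike.not_le_iff_exists.1 h1.2
  rcases h _ (D.mul_mem ha hb) with h2 | h2
  · exact ha1 ((K.mul_mem_cancel_right ((h b hb).resolve_right hb1)).1 h2)
  · exact hb1 ((Y.mul_mem_cancel_left ((h a ha).resolve_left ha1)).1 h2)

variable [Finite X] {p : ℕ} [hp : Fact p.Prime]

/-- `C` is a subgroup of index `p` in `P`. -/
def IsMax (p : ℕ) (C P : Subgroup X) : Prop := C ≤ P ∧ C.relIndex P = p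

namespace IsMax

variable {C P : Subgroup X}

omit [Finite X] hp in
theorem card_eq (h : IsMax p C P) : Nat.card P = p * Nat.card C := by
  rw [← card_mul_relIndex h.1, h.2, mul_comm]

omit [Finite X] in
theorem lt (h : IsMax p C P) : C < P :=
  lt_of_le_of_ne h.1 fun h1 => hp.out.ne_one (by rw [← h.2, h1, relIndex_self])

theorem le_normalizer (h : IsMax p C P) (hP : IsPGroup p P) : P ≤ normalizer (C : Set X) :=
  (normal_subgroupOf_iff_le_normalizer h.1).1 (normal_of_index_eq_prime hP h.2)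

theorem eq_of_lt (h : IsMax p C P) (hP : IsPGroup p P) {E : Subgroup X} (h1 : C ≤ E)
    (h2 : E < P) : C = E :=
  eq_of_le_of_card_ge h1 (Nat.le_of_mul_le_mul_left
    ((mul_card_le_card_of_lt hP h2).trans h.card_eq.le) hp.out.pos)

theorem le_of_not_mem (h : IsMax p C P) (hP : IsPGroup p P) {E : Subgroup X} (h1 : C ≤ E) {a : X}
    (ha : a ∈ P) (haC : a ∉ C) (haE : a ∈ E) : P ≤ E := by
  by_contra h2
  exact haC ((h.eq_of_lt hP (le_inf h.1 h1) (inf_lt_left.2 h2)).ge ⟨ha, haE⟩)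

theorem pow_mem (h : IsMax p C P) (hP : IsPGroup p P) {a : X} (ha : a ∈ P) : a ^ p ∈ C := by
  have := normal_of_index_eq_prime hP h.2
  have h1 := (C.subgroupOf P).pow_index_mem ⟨a, ha⟩
  rwa [show (C.subgroupOf P).index = p from h.2] at h1

theorem commutator_le (h : IsMax p C P) (hP : IsPGroup p P) : ⁅P, P⁆ ≤ C := by
  have := normal_of_index_eq_prime hP h.2
  have := commutator_le_of_index_eq_prime (C.subgroupOf P) h.2
  rwa [subgroupOf, ← map_le_iff_le_comap, map_subtype_commutator] at this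

end IsMax

theorem exists_isMax {K P : Subgroup X} (hP : IsPGroup p P) (h : ¬ P ≤ K) :
    ∃ C, IsMax p C P ∧ K ⊓ P ≤ C := by
  obtain ⟨M, hM, h1⟩ := (eq_top_or_exists_le_coatom (K.subgroupOf P)).resolve_left
    fun h1 => h (subgroupOf_eq_top.1 h1)
  refine ⟨M.map P.subtype, ⟨map_subtype_le _, ?_⟩, fun x hx => ⟨⟨x, hx.2⟩, h1 hx.1, rfl⟩⟩
  rw [relIndex, subgroupOf, comap_map_eq_self_of_injective P.subtype_injective]
  exact (isCoatom_iff_index_eq hP).1 hM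

/-- a third maximal subgroup through the intersection of two maximal subgroups -/
theorem exists_third {H M P : Subgroup X} (hP : IsPGroup p P) (hH : IsMax p H P)
    (hM : IsMax p M P) {h m : X} (hh : h ∈ H) (hhM : h ∉ M) (hm : m ∈ M) (hmH : m ∉ H) :
    ∃ C, IsMax p C P ∧ h * m ∈ C ∧ C ⊓ H ≤ M ∧ C ⊓ M ≤ H := by
  have hn : P ≤ normalizer ((H ⊓ M : Subgroup X) : Set X) :=
    (le_inf (hH.le_normalizer hP) (hM.le_normalizer hP)).trans inf_normalizer_le_normalizer_inf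
  have hhm : h * m ∈ P := P.mul_mem (hH.1 hh) (hM.1 hm)
  have h1 : h * m ∉ H := fun h1 => hmH ((H.mul_mem_cancel_left hh).1 h1)
  have h2 : h * m ∉ M := fun h2 => hhM ((M.mul_mem_cancel_right hm).1 h2)
  have hHM : H ⊓ M ≤ P := inf_le_left.trans hH.1
  have := (normal_subgroupOf_iff_le_normalizer hHM).2 hn
  have h3 := card_sup_zpowers_of_pow_mem (p := p) ((H ⊓ M).subgroupOf P) (x := ⟨_, hhm⟩)
    (fun h => h1 h.1) ⟨hH.pow_mem hP hhm, hM.pow_mem hP hhm⟩
  rw [← card_map_subtype, Subgroup.map_sup, map_subgroupOf_eq_of_le hHM, MonoidHom.map_zpowers,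
    card_subgroupOf_of_le hHM] at h3
  set C := H ⊓ M ⊔ zpowers (P.subtype ⟨_, hhm⟩)
  have hCP : C ≤ P := sup_le hHM (zpowers_le.2 hhm)
  have hC : h * m ∈ C := mem_sup_right (mem_zpowers _)
  have h4 : IsMax p (H ⊓ M) C := ⟨le_sup_left, Nat.eq_of_mul_eq_mul_left Nat.card_pos (by
    rw [card_mul_relIndex le_sup_left, h3, mul_comm])⟩
  have h5 : Nat.card H = p * Nat.card ↥(H ⊓ M) := by
    have h6 := card_sup_mul_card_inf (hH.1.trans (hM.le_normalizer hP))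
    rw [le_antisymm (sup_le hH.1 hM.1) (hM.le_of_not_mem hP le_sup_right (hH.1 hh) hhM
      (mem_sup_left hh)), hM.card_eq] at h6
    exact Nat.eq_of_mul_eq_mul_right (Nat.card_pos (α := M)) (by rw [← h6]; ring)
  refine ⟨C, ⟨hCP, Nat.eq_of_mul_eq_mul_left (Nat.card_pos (α := C)) ?_⟩, hC, ?_, ?_⟩
  · rw [card_mul_relIndex hCP, h3, ← h5, hH.card_eq, mul_comm]
  · exact (h4.eq_of_lt (hP.to_le hCP) (le_inf le_sup_left inf_le_left)
      (inf_lt_left.2 fun h => h1 (h hC))).ge.trans inf_le_right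
  · exact (h4.eq_of_lt (hP.to_le hCP) (le_inf le_sup_left inf_le_right)
      (inf_lt_left.2 fun h => h2 (h hC))).ge.trans inf_le_left

omit [Finite X] hp in
theorem commutator_self_le_normalizer {C P : Subgroup X} (h : P ≤ normalizer (C : Set X)) :
    P ≤ normalizer ((⁅C, C⁆ : Subgroup X) : Set X) := by
  rw [← map_subtype_commutator]
  exact h.trans (normalizer_le_normalizer_map_subtype_of_characteristic C _)

theorem card_commutator_le {C P : Subgroup X} (hP : IsPGroup p P) (h : IsMax p C P) {a : X}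
    (ha : a ∈ P) (haC : a ∉ C) :
    Nat.card ↥⁅P, P⁆ ≤ Nat.card ↥⁅C, C⁆ * (relCent ⁅C, C⁆ {a}).relIndex C := by
  have hn := h.le_normalizer hP
  have hc : ∀ c : C, ⁅(c : X), a⁆ ∈ C := fun c =>
    h.commutator_le hP (commutator_mem_commutator (h.1 c.2) ha)
  let φ : C →* Abelianization C := MonoidHom.mk' (fun c => Abelianization.of ⟨_, hc c⟩)
    fun c d => by
      have : (⟨_, hc (c * d)⟩ : C) = c * ⟨_, hc d⟩ * c⁻¹ * ⟨_, hc c⟩ :=
        Subtype.ext (comm_mul_left _ _ _)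
      rw [this, map_mul, map_mul, map_mul, map_inv, mul_comm, mul_inv_cancel_comm]
  have hmem : ∀ c : C, c ∈ _root_.commutator C ↔ (c : X) ∈ ⁅C, C⁆ := fun c => by
    rw [← map_subtype_commutator, ← mem_map_iff_mem (f := C.subtype) C.subtype_injective]
    rfl
  have hker : φ.ker = (relCent ⁅C, C⁆ {a}).subgroupOf C := by
    ext c
    rw [MonoidHom.mem_ker, mem_subgroupOf, mem_relCent]
    change _ ∈ (Abelianization.of (G := C)).ker ↔ _
    rw [Abelianization.ker_of, hmem]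
    simp [commutator_self_le_normalizer le_normalizer c.2]
  let T := (φ.range.comap Abelianization.of).map C.subtype
  have hT : Nat.card T = Nat.card ↥⁅C, C⁆ * (relCent ⁅C, C⁆ {a}).relIndex C := by
    rw [card_map_subtype, relIndex, ← hker, index_ker, ← map_subtype_commutator, card_map_subtype]
    exact QuotientGroup.card_preimage_mk (_root_.commutator C)
      (φ.range : Set (Abelianization C))
  have hNT : ⁅C, C⁆ ≤ T := by
    rw [← map_subtype_commutator, ← Abelianization.ker_of (G := C)]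
    exact map_mono (ker_le_comap _ _)
  have haT : ∀ c ∈ C, ⁅c, a⁆ ∈ T := fun c hc' => ⟨⟨_, hc ⟨c, hc'⟩⟩, ⟨⟨c, hc'⟩, rfl⟩, rfl⟩
  have hPT : P ≤ normalizer (T : Set X) := by
    refine h.le_of_not_mem hP (le_normalizer_iff_commutator_le_left.2
      ((commutator_mono (map_subtype_le _) le_rfl).trans hNT)) ha haC ?_
    refine mem_normalizer_of_conj_mem fun t ht => ?_
    have := T.mul_mem (T.inv_mem (haT t (map_subtype_le _ ht))) ht
    simpa [commutatorElement_def, mul_assoc] using this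
  rw [← hT]
  refine card_le_of_le (commutator_le.2 fun x hx y hy => ?_)
  have h1 : ∀ x ∈ P, ⁅x, a⁆ ∈ T := fun x hx => (h.le_of_not_mem hP (E := relCent T {a})
    (fun c hc' => ⟨hPT (h.1 hc'), by simpa using haT c hc'⟩) ha haC ⟨hPT ha, by simp⟩ hx).2 a rfl
  have h2 : ∀ x ∈ P, ∀ c ∈ C, ⁅x, c⁆ ∈ T := fun x hx => (h.le_of_not_mem hP (E := relCent T C)
    (fun c hc' => ⟨hPT (h.1 hc'), fun d hd => hNT (commutator_mem_commutator hc' hd)⟩) ha haC
    ⟨hPT ha, fun d hd => by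
      rw [← commutatorElement_inv]
      exact T.inv_mem (haT d hd)⟩ hx).2
  rw [← commutatorElement_inv]
  refine T.inv_mem ((h.le_of_not_mem hP (E := relCent T {x}) (fun c hc' => ⟨hPT (h.1 hc'), ?_⟩)
    ha haC ⟨hPT ha, ?_⟩ hy).2 x rfl)
  · rintro _ rfl
    rw [← commutatorElement_inv]
    exact T.inv_mem (h2 _ hx c hc')
  · rintro _ rfl
    rw [← commutatorElement_inv]
    exact T.inv_mem (h1 _ hx)

omit hp in
theorem relIndex_relCent_le {C P : Subgroup X} (h : C ≤ P) (a : X) :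
    (relCent ⁅C, C⁆ {a}).relIndex C ≤ (centralizer {a}).relIndex P := by
  rw [← inf_relIndex_right (centralizer {a}) P]
  refine le_trans ?_ (relIndex_le_of_le_right h index_ne_zero_of_finite)
  rw [← inf_relIndex_right (_ ⊓ P) C]
  refine relIndex_le_of_le_left (fun c hc => ⟨commutator_self_le_normalizer le_normalizer hc.2, ?_⟩)
    index_ne_zero_of_finite
  rintro _ rfl
  rw [commutatorElement_eq_one_iff_mul_comm.2 (mem_centralizer_singleton_iff.1 hc.1.1)]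
  exact one_mem _

theorem relIndex_centralizer_eq_mul {C P : Subgroup X} (hP : IsPGroup p P) (h : IsMax p C P)
    {a : X} (ha : a ∈ P) (haC : a ∉ C) {g : X} (hg : g ∈ C) (hgY : g ∉ relCent ⁅C, C⁆ {a}) :
    (centralizer {g}).relIndex P = (centralizer {g}).relIndex C * p := by
  have hn := commutator_self_le_normalizer (h.le_normalizer hP)
  have h1 : centralizer {g} ⊓ P = centralizer {g} ⊓ C := by
    refine le_antisymm (fun y hy => ⟨hy.1, ?_⟩) (inf_le_inf_left _ h.1)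
    by_contra hyC
    refine hgY ⟨hn (h.1 hg), ?_⟩
    rintro _ rfl
    rw [← commutatorElement_inv]
    refine inv_mem ((h.le_of_not_mem hP (E := relCent ⁅C, C⁆ {g}) (fun c hc => ⟨hn (h.1 hc), ?_⟩)
      hy.2 hyC ⟨hn hy.2, ?_⟩ ha).2 g rfl)
    · rintro _ rfl
      exact commutator_mem_commutator hc hg
    · rintro _ rfl
      rw [commutatorElement_eq_one_iff_mul_comm.2 (mem_centralizer_singleton_iff.1 hy.1)]
      exact one_mem _
  rw [← inf_relIndex_right _ P, h1, ← relIndex_mul_relIndex _ C P inf_le_right h.1, h.2,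
    inf_relIndex_right]

theorem relIndex_le_pow_of_lt {P : Subgroup X} (hP : IsPGroup p P) (H : Subgroup X) {m : ℕ}
    (h : H.relIndex P < p ^ (m + 1)) : H.relIndex P ≤ p ^ m := by
  obtain ⟨k, hk⟩ := hP.index (H.subgroupOf P)
  rw [relIndex, hk] at h ⊢
  exact Nat.pow_le_pow_right hp.out.pos (Nat.lt_succ_iff.1
    ((Nat.pow_lt_pow_iff_right hp.out.one_lt).1 h))

theorem exists_good_max {P H₁ H₂ : Subgroup X} (hP : IsPGroup p P) (hna : ⁅P, P⁆ ≠ ⊥)
    (h1 : ¬ P ≤ H₁) (h2 : P ⊓ H₂ ≤ H₁ ∨ 2 < H₂.relIndex P) :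
    ∃ C K, IsMax p C P ∧ IsMax p K C ∧ (∀ x ∈ C, x ∈ H₁ ∨ x ∈ H₂ → x ∈ K) ∧
      ∃ a ∈ P, a ∉ C ∧ a ∉ H₁ ∧ a ∉ H₂ := by
  obtain ⟨H, hH, hH1⟩ := exists_isMax hP h1
  suffices h : ∃ C, IsMax p C P ∧ ¬ C ≤ H ∧ (∀ x ∈ C, x ∈ H₂ → x ∈ H) ∧
      ∃ a ∈ P, a ∉ C ∧ a ∉ H ∧ a ∉ H₂ by
    obtain ⟨C, hC, h3, h4, a, ha, h5, h6, h7⟩ := h
    obtain ⟨K, hK, hK1⟩ := exists_isMax (hP.to_le hC.1) h3
    exact ⟨C, K, hC, hK, fun x hx h => hK1 ⟨h.elim (fun h => hH1 ⟨h, hC.1 hx⟩) (h4 x hx), hx⟩,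
      a, ha, h5, fun h => h6 (hH1 ⟨h, ha⟩), h7⟩
  by_cases h3 : P ⊓ H₂ ≤ H
  · obtain ⟨g, hg, hgH⟩ := SetLike.exists_of_lt hH.lt
    obtain ⟨C, hC, hC1⟩ := exists_isMax hP (K := zpowers g) fun h =>
      hna (commutator_self_eq_bot_iff.2 (isMulCommutative_of_le h inferInstance))
    obtain ⟨a, ha⟩ : ∃ a ∈ P, ¬ (a ∈ C ∨ a ∈ H) := by
      by_contra! h
      exact (le_or_le_of_forall_mem_or h).elim hC.lt.not_ge hH.lt.not_ge
    exact ⟨C, hC, fun h => hgH (h (hC1 ⟨mem_zpowers g, hg⟩)), fun x hx h => h3 ⟨hC.1 hx, h⟩,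
      a, ha.1, fun h => ha.2 (Or.inl h), fun h => ha.2 (Or.inr h),
      fun h => ha.2 (Or.inr (h3 ⟨ha.1, h⟩))⟩
  have h4 : 2 < H₂.relIndex P := h2.resolve_left fun h => h3 fun x hx => hH1 ⟨h hx, hx.1⟩
  obtain ⟨M, hM, hM1⟩ := exists_isMax hP (K := H₂) fun h => by
    rw [relIndex_eq_one.2 h] at h4
    omega
  obtain ⟨m, hm, hmH⟩ := SetLike.not_le_iff_exists.1 h3
  have hmM : m ∈ M := hM1 ⟨hm.2, hm.1⟩
  obtain ⟨h, hh, hhM⟩ : ∃ h ∈ H, h ∉ M := by
    by_contra! h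
    exact hmH ((hH.eq_of_lt hP h hM.lt).ge hmM)
  obtain ⟨C, hC, h5, h6, h7⟩ := exists_third hP hH hM hh hhM hmM hmH
  refine ⟨C, hC, fun h => hmH ((H.mul_mem_cancel_left hh).1 (h h5)),
    fun x hx h => h7 ⟨hx, hM1 ⟨h, hC.1 hx⟩⟩, ?_⟩
  by_cases h8 : M ≤ H₂
  · have h9 : p ≠ 2 := by
      rintro rfl
      have := relIndex_le_of_le_left h8 (L := P) index_ne_zero_of_finite
      rw [hM.2] at this
      omega
    have hhP := hH.1 hh
    refine ⟨h * (h * m), P.mul_mem hhP (hC.1 h5), fun h10 => hhM (h6 ⟨(C.mul_mem_cancel_right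
      h5).1 h10, hh⟩), fun h10 => hmH ?_, fun h10 => hhM ?_⟩
    · rwa [H.mul_mem_cancel_left hh, H.mul_mem_cancel_left hh] at h10
    · have h11 := hM1 ⟨h10, P.mul_mem hhP (hC.1 h5)⟩
      rw [← mul_assoc, M.mul_mem_cancel_right hmM, ← sq] at h11
      obtain ⟨k, hk⟩ := hp.out.odd_of_ne_two h9
      have h12 := hM.pow_mem hP hhP
      rwa [hk, pow_succ, pow_mul, M.mul_mem_cancel_left (M.pow_mem h11 k)] at h12
  · obtain ⟨a, ha⟩ : ∃ a ∈ M, ¬ (a ∈ H ∨ a ∈ H₂) := by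
      by_contra! h
      exact (le_or_le_of_forall_mem_or h).elim (fun h => hmH (h hmM)) h8
    exact ⟨a, hM.1 ha.1, fun h => ha.2 (Or.inl (h7 ⟨h, ha.1⟩)), fun h => ha.2 (Or.inl h),
      fun h => ha.2 (Or.inr h)⟩

/-- Skutin's theorem: if the elements of breadth at least `n` of a `p`-group `P` lie in the union
of a proper subgroup and a subgroup of index greater than two, then `|P'| ≤ p ^ (n choose 2)`. -/
theorem card_commutator_le_of_cover (P : Subgroup X) (hP : IsPGroup p P) (n : ℕ)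
    (H₁ H₂ : Subgroup X) (h1 : ¬ P ≤ H₁) (h2 : P ⊓ H₂ ≤ H₁ ∨ 2 < H₂.relIndex P)
    (h : ∀ x ∈ P, p ^ n ≤ (centralizer {x}).relIndex P → x ∈ H₁ ∨ x ∈ H₂) :
    Nat.card ↥⁅P, P⁆ ≤ p ^ n.choose 2 := by
  induction P using WellFoundedLT.induction generalizing n H₁ H₂ with
  | ind P ih =>
  by_cases hna : ⁅P, P⁆ = ⊥
  · rw [hna, card_bot]
    exact Nat.one_le_pow _ _ hp.out.pos
  obtain ⟨C, K, hC, hK, hcov, a, ha, haC, ha1, ha2⟩ := exists_good_max hP hna h1 h2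
  have hCp := hP.to_le hC.1
  have hmono : ∀ {D E : Subgroup X} (x : X), D ≤ E →
      (centralizer {x}).relIndex D ≤ (centralizer {x}).relIndex E := fun x h =>
    relIndex_le_of_le_right h index_ne_zero_of_finite
  have hlt : ∀ x ∈ P, ¬ (x ∈ H₁ ∨ x ∈ H₂) → (centralizer {x}).relIndex P < p ^ n :=
    fun x hx h' => not_le.1 fun h'' => h' (h x hx h'')
  have hba := hlt a ha (not_or.2 ⟨ha1, ha2⟩)
  obtain ⟨m, rfl⟩ : ∃ m, n = m + 1 := Nat.exists_eq_succ_of_ne_zero (by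
    rintro rfl
    exact index_ne_zero_of_finite (Nat.lt_one_iff.1 hba))
  have h3 := card_commutator_le hP hC ha haC
  have h4 := (relIndex_relCent_le hC.1 a).trans (relIndex_le_pow_of_lt hP _ hba)
  set Y := relCent ⁅C, C⁆ {a}
  by_cases h5 : C ≤ Y
  · rw [relIndex_eq_one.2 h5, mul_one] at h3
    exact h3.trans (ih C hC.lt hCp _ K K hK.lt.not_ge (Or.inl inf_le_right) fun x hx h' =>
      Or.inl (hcov x hx (h x (hC.1 hx) (h'.trans (hmono x hC.1)))))
  have hB : ∀ x ∈ C, p ^ m ≤ (centralizer {x}).relIndex C → x ∈ K ∨ x ∈ Y := by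
    intro x hx h'
    refine or_iff_not_imp_right.2 fun hY => hcov x hx (h x (hC.1 hx) ?_)
    rw [relIndex_centralizer_eq_mul hP hC ha haC hx hY, pow_succ]
    exact Nat.mul_le_mul_right _ h'
  have hch : ∀ k : ℕ, (k + 1).choose 2 = k.choose 2 + k := fun k => by
    rw [Nat.choose_succ_succ' k 1, Nat.choose_one_right, add_comm]
  by_cases h6 : C ⊓ Y ≤ K ∨ 2 < Y.relIndex C
  · rw [hch, pow_add]
    exact h3.trans (Nat.mul_le_mul (ih C hC.lt hCp _ K Y hK.lt.not_ge h6 hB) h4)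
  rw [not_or, not_lt] at h6
  obtain ⟨h6, h7⟩ := h6
  obtain ⟨rfl, h8⟩ : p = 2 ∧ Y.relIndex C = 2 := by
    obtain ⟨k, hk⟩ := hCp.index (Y.subgroupOf C)
    have h8 : k ≠ 0 := by
      rintro rfl
      exact h5 (relIndex_eq_one.1 hk)
    have h9 : p ≤ p ^ k := Nat.le_self_pow h8 p
    have := hp.out.two_le
    rw [relIndex, hk] at h7 ⊢
    omega
  have hY : IsMax 2 (Y ⊓ C) C := ⟨inf_le_right, by rw [inf_relIndex_right, h8]⟩
  obtain ⟨a', ha', ha'K⟩ := SetLike.not_le_iff_exists.1 h6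
  obtain ⟨k, hk, hkY⟩ : ∃ k ∈ K, k ∉ Y ⊓ C := by
    by_contra! h
    exact ha'K ((hK.eq_of_lt hCp h hY.lt).ge ⟨ha'.2, ha'.1⟩)
  obtain ⟨D, hD, h9, -, h10⟩ := exists_third hCp hK hY hk hkY ⟨ha'.2, ha'.1⟩ ha'K
  have hDp := hCp.to_le hD.1
  have hDK : ¬ D ≤ K := fun h => ha'K ((K.mul_mem_cancel_left hk).1 (h h9))
  have ha'D : a' ∉ D := fun h => ha'K (h10 ⟨h, ha'.2, ha'.1⟩)
  have h11 := card_commutator_le hCp hD ha'.1 ha'D
  have h12 := (relIndex_relCent_le (hD.1.trans hC.1) a').trans (relIndex_le_pow_of_lt hP _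
    (hlt a' (hC.1 ha'.1) fun h => ha'K (hcov a' ha'.1 h)))
  set Y' := relCent ⁅D, D⁆ {a'}
  have hB' : ∀ x ∈ D, 2 ^ m ≤ (centralizer {x}).relIndex C → x ∈ K := fun x hx h' =>
    (hB x (hD.1 hx) h').elim id fun h'' => h10 ⟨hx, h'', hD.1 hx⟩
  rw [h8] at h3 h4
  obtain ⟨l, rfl⟩ : ∃ l, m = l + 1 := Nat.exists_eq_succ_of_ne_zero (by
    rintro rfl
    omega)
  have hDP := hD.lt.trans hC.lt
  by_cases h13 : Y'.relIndex D ≤ 2 ^ l
  · have h14 := ih D hDP hDp _ K K hDK (Or.inl inf_le_right) fun x hx h' =>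
      Or.inl (hB' x hx (h'.trans (hmono x hD.1)))
    rw [hch, pow_add, pow_succ, ← mul_assoc]
    exact h3.trans (Nat.mul_le_mul_right _ (h11.trans (Nat.mul_le_mul h14 h13)))
  have hB'' : ∀ x ∈ D, 2 ^ l ≤ (centralizer {x}).relIndex D → x ∈ K ∨ x ∈ Y' := by
    intro x hx h'
    refine or_iff_not_imp_right.2 fun hY => hB' x hx ?_
    rw [relIndex_centralizer_eq_mul hCp hD ha'.1 ha'D hx hY, pow_succ]
    exact Nat.mul_le_mul_right _ h'
  rcases l with _ | l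
  · exfalso
    refine (le_or_le_of_forall_mem_or fun x hx => hB'' x hx ?_).elim hDK fun h => h13 ?_
    · exact Nat.one_le_iff_ne_zero.2 index_ne_zero_of_finite
    · rw [relIndex_eq_one.2 h, pow_zero]
  · have h14 := ih D hDP hDp _ K Y' hDK (Or.inr (lt_of_le_of_lt
      (Nat.le_self_pow (Nat.succ_ne_zero l) 2) (not_le.1 h13))) hB''
    refine h3.trans ((Nat.mul_le_mul_right _ (h11.trans (Nat.mul_le_mul h14 h12))).trans ?_)
    rw [hch (l + 1 + 1), hch (l + 1), ← pow_add, ← pow_succ]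
    exact Nat.pow_le_pow_right two_pos (by omega)

end CfsgLib.H1
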