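import Mathlib
import Cfsg.Agent.Lib.FT.BG4b
import Cfsg.Agent.Lib.PGroupMaxClass

/-! Blackburn: an odd order `p`-group without normal subgroup of order `p ^ 3` and exponent `p`
is metacyclic or of maximal class. -/

set_option autoImplicit false

namespace CfsgLib.H5

open Subgroup Cfsg CfsgLib CfsgLib.FT
open scoped commutatorElement

variable {G : Type*} [Group G] [Finite G] {p : ℕ} [hp : Fact p.Prime]

/-- normal subgroups of exponent `p` have order at most `p ^ 2` -/
def NoNormExp (p : ℕ) (G : Type*) [Group G] : Prop :=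
  ∀ E : Subgroup G, E.Normal → (∀ x ∈ E, x ^ p = 1) → Nat.card E ≤ p ^ 2

theorem mem_of_rank_two (hr : PRankLE p 2 G) {Y : Subgroup G} (hY : IsElementaryAbelian p Y)
    (hc : Nat.card Y = p ^ 2) {x : G} (hx : x ∈ centralizer (Y : Set G)) (hxp : x ^ p = 1) :
    x ∈ Y := by
  have h1 := pRankLE_iff'.1 hr _ (elemAb_sup hY (elemAb_zpowers hxp) (zpowers_le.2 hx))
  have h2 := eq_of_le_of_card_le (le_sup_left : Y ≤ Y ⊔ zpowers x) (hc ▸ h1)
  rw [h2]; exact mem_sup_right (mem_zpowers x)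

theorem NoNormExp.rank (hp2 : p ≠ 2) (hG : IsPGroup p G) (h : NoNormExp p G) : PRankLE p 2 G := by
  by_contra hr
  obtain ⟨C, -, h1, h2, h3⟩ := rank3_normal_abelem_p3 hp2 (hG.to_subgroup ⊤)
    (fun h' => hr (pRankLE_top.1 h'))
  have := h C (normal_of_le_normalizer_top h1) h2.2
  rw [h3] at this
  exact absurd (Nat.pow_le_pow_iff_right hp.out.one_lt |>.1 this) (by omega)

theorem exists_omega_of_class_two (hp2 : p ≠ 2) (E : Subgroup G) [hE : E.Normal]
    (hc : ∀ x ∈ E, ∀ y ∈ E, ⁅x, y⁆ ∈ centralizer (E : Set G) ∧ ⁅x, y⁆ ^ p = 1) :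
    (∀ x ∈ E, ∀ y ∈ E, (x * y) ^ p = x ^ p * y ^ p) ∧
      ∃ K : Subgroup G, K.Normal ∧ ∀ x, x ∈ K ↔ x ∈ E ∧ x ^ p = 1 := by
  have h1 : ∀ x ∈ E, ∀ y ∈ E, (x * y) ^ p = x ^ p * y ^ p := fun x hx y hy =>
    PGrp.mul_pow_prime_eq_of_odd (hp.out.odd_of_ne_two hp2)
      (mem_centralizer_iff.1 (hc y hy x hx).1 x hx).symm
      (mem_centralizer_iff.1 (hc y hy x hx).1 y hy).symm (hc y hy x hx).2
  refine ⟨h1, ⟨{ carrier := {x | x ∈ E ∧ x ^ p = 1}
                 one_mem' := ⟨one_mem E, one_pow p⟩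
                 inv_mem' := fun hx => ⟨inv_mem hx.1, by rw [inv_pow, hx.2, inv_one]⟩
                 mul_mem' := fun {x y} hx hy => ⟨mul_mem hx.1 hy.1, by
                   rw [h1 x hx.1 y hy.1, hx.2, hy.2, one_mul]⟩ }, ⟨fun x hx g => ⟨hE.conj_mem x hx.1 g,
      by rw [conj_pow, hx.2]; simp⟩⟩, fun x => Iff.rfl⟩⟩

theorem NoNormExp.card_le_of_class_two (hp2 : p ≠ 2) (h : NoNormExp p G) (E : Subgroup G)
    [hE : E.Normal]
    (hc : ∀ x ∈ E, ∀ y ∈ E, ⁅x, y⁆ ∈ centralizer (E : Set G) ∧ ⁅x, y⁆ ^ p = 1)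
    {Z : Subgroup G} (hZ : ∀ x ∈ E, x ^ p ∈ Z) : Nat.card E ≤ p ^ 2 * Nat.card Z := by
  obtain ⟨h1, K, hKn, hK⟩ := exists_omega_of_class_two hp2 E hc
  have h2 : K.relIndex E ≤ Nat.card Z := relIndex_le_card_of_fibers (fun x => x ^ p) hZ
    fun a ha b hb hab => (hK _).2 ⟨mul_mem (inv_mem ha) hb, by
      rw [h1 _ (inv_mem ha) _ hb, inv_pow]
      rw [show a ^ p = b ^ p from hab, inv_mul_cancel]⟩
  rw [← card_mul_relIndex (fun x hx => ((hK x).1 hx).1 : K ≤ E)]
  exact Nat.mul_le_mul (h K hKn fun x hx => ((hK x).1 hx).2) h2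

theorem commutator_mem_of_card_le_sq (hG : IsPGroup p G) (N : Subgroup G) [N.Normal]
    {E : Subgroup G} (hNE : N ≤ E) (h : Nat.card E ≤ p ^ 2 * Nat.card N) {x y : G} (hx : x ∈ E)
    (hy : y ∈ E) : ⁅x, y⁆ ∈ N := by
  have h1 := card_map_mk'_mul_card_inf E N
  rw [inf_eq_left.2 hNE] at h1
  have h2 : Nat.card (E.map (QuotientGroup.mk' N)) ≤ p ^ (1 + 1) :=
    Nat.le_of_mul_le_mul_right (h1.le.trans h) Nat.card_pos
  have h3 := lcs_eq_bot_of_card_le ((hG.to_quotient N).to_subgroup _) le_rfl h2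
  have h4 : ⁅(x : G ⧸ N), (y : G ⧸ N)⁆ ∈ (E.map (QuotientGroup.mk' N)).lowerCentralSeries 1 :=
    commutator_mem_commutator (⟨x, hx, rfl⟩ : _ ∈ E.map (QuotientGroup.mk' N)) ⟨y, hy, rfl⟩
  rw [h3, mem_bot] at h4
  exact (QuotientGroup.eq_one_iff _).1 (by simpa [commutatorElement_def] using h4)

theorem commutator_mem_of_card_le_prime (hG : IsPGroup p G) (N : Subgroup G) [N.Normal]
    (E : Subgroup G) [hE : E.Normal] (hNE : N ≤ E) (h : Nat.card E ≤ p * Nat.card N) {x : G}
    (hx : x ∈ E) (g : G) : ⁅x, g⁆ ∈ N := by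
  have h1 := card_map_mk'_mul_card_inf E N
  rw [inf_eq_left.2 hNE] at h1
  have h2 : Nat.card (E.map (QuotientGroup.mk' N)) ≤ p :=
    Nat.le_of_mul_le_mul_right (h1.le.trans h) Nat.card_pos
  have hn := hE.map _ (QuotientGroup.mk'_surjective N)
  have h3 := le_centralizer_of_card_le_prime ((hG.to_quotient N).to_subgroup ⊤)
    ((hG.to_quotient N).to_subgroup _) le_normalizer_of_normal h2
  have h4 := mem_centralizer_iff.1 (h3 (mem_top (g : G ⧸ N))) (x : G ⧸ N) ⟨x, hx, rfl⟩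
  refine (QuotientGroup.eq_one_iff _).1 ?_
  simp only [commutatorElement_def, QuotientGroup.mk_mul, QuotientGroup.mk_inv]
  rw [h4]; group

theorem exists_pow_eq_of_card_prime {Z : Subgroup G} (hZ : Nat.card Z = p) {a b : G} (ha : a ∈ Z)
    (ha1 : a ≠ 1) (hb : b ∈ Z) : ∃ k : ℕ, b = a ^ k := by
  have h1 : zpowers a = Z := by
    refine eq_of_le_of_card_le (zpowers_le.2 ha) ?_
    rw [hZ, Nat.card_zpowers]
    have h2 : orderOf a ∣ p := hZ ▸ orderOf_dvd_natCard Z ha
    rcases (Nat.dvd_prime hp.out).1 h2 with h | h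
    · exact absurd (orderOf_eq_one_iff.1 h) ha1
    · exact h.ge
  rw [← h1] at hb
  obtain ⟨k, hk⟩ := (mem_powers_iff_mem_zpowers.2 hb)
  exact ⟨k, hk.symm⟩

theorem card_le_index_mul_card_inf (H M : Subgroup G) :
    Nat.card H ≤ M.index * Nat.card ↥(M ⊓ H) := by
  rw [← card_inf_mul_relIndex M H, mul_comm]
  refine Nat.mul_le_mul_right _ ?_
  rw [← relIndex_top_right]
  exact relIndex_le_of_le_right le_top (by rw [relIndex_top_right]; exact index_ne_zero_of_finite)

theorem exists_card_centralizer_of_normal_four (hp2 : p ≠ 2) (hG : IsPGroup p G)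
    (h : NoNormExp p G) (Z : Subgroup G) [Z.Normal] (hZ : Nat.card Z = p) (E : Subgroup G)
    [E.Normal] (hE : Nat.card E = p ^ 4) (hpow : ∀ x ∈ E, x ^ p ∈ Z) :
    ∃ s : G, Nat.card (centralizer ({s} : Set G)) = p ^ 2 := by
  have hr := h.rank hp2 hG
  have hp1 := hp.out.one_lt
  have hZc := PGrp.le_center_of_card_eq_prime hG Z hZ
  have hZe := (elemAb_of_card_eq_prime hZ).2
  have hnc : ¬ IsCyclic E := by
    intro hc
    obtain ⟨g, hg⟩ := (Subgroup.isCyclic_iff_exists_zpowers_eq_top _).1 hc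
    have h1 : g ^ p ^ 2 = 1 := by
      rw [sq, pow_mul]; exact hZe _ (hpow g (hg ▸ mem_zpowers g))
    have h2 := Nat.le_of_dvd (by positivity) (orderOf_dvd_of_pow_eq_one h1)
    rw [← Nat.card_zpowers, hg, hE] at h2
    exact absurd (Nat.pow_le_pow_iff_right hp1 |>.1 h2) (by omega)
  obtain ⟨Y, hYE, hYn, hY, hYc⟩ := odd_normal_p2Elem_exists hp2 (hG.to_subgroup ⊤) le_top
    le_normalizer_of_normal hnc
  have hYn' := normal_of_le_normalizer_top hYn
  have hZY : Z ≤ Y := fun z hz => mem_of_rank_two hr hY hYc (center_le_centralizer _ (hZc hz))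
    (hZe z hz)
  -- the center of `E` is small
  have hsmall : ¬ p ^ 2 ≤ Nat.card ↥(E ⊓ centralizer (E : Set G)) := by
    intro h1
    have h2 := h.card_le_of_class_two hp2 E (fun x hx y hy => ?_) hpow
    · rw [hE, hZ, ← pow_succ] at h2
      exact absurd (Nat.pow_le_pow_iff_right hp1 |>.1 h2) (by omega)
    have h3 := commutator_mem_of_card_le_sq hG (E ⊓ centralizer (E : Set G)) inf_le_left
      (by rw [hE, show p ^ 4 = p ^ 2 * p ^ 2 by ring]; exact Nat.mul_le_mul_left _ h1) hx hy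
    refine ⟨h3.2, ?_⟩
    rw [← CommCalc.comm_pow_left (mem_centralizer_iff.1 h3.2 x hx),
      commutatorElement_eq_one_iff_mul_comm]
    exact (mem_center_iff.1 (hZc (hpow x hx)) y).symm
  set M := centralizer (Y : Set G) with hM
  have hMi : M.index ≤ p := PGrp.index_centralizer_le_of_card_sq hG Y hYc
  obtain ⟨s, hsE, hsM⟩ : ∃ s ∈ E, s ∉ M := by
    by_contra hcon
    push Not at hcon
    exact hsmall (hYc ▸ card_le_of_le (le_inf hYE (le_centralizer_comm hcon)))
  have hYM : Y ≤ M := elemAb_le_centralizer hY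
  have hE1 : Nat.card ↥(M ⊓ E) = p ^ 3 := by
    refine le_antisymm ?_ ?_
    · have := PGrp.mul_card_le_card_of_lt (hG.to_subgroup E)
        (lt_of_le_not_ge (inf_le_right : M ⊓ E ≤ E) fun h' => hsM (h' hsE).1)
      rw [hE, pow_succ'] at this
      exact Nat.le_of_mul_le_mul_left this hp.out.pos
    · have := (card_le_index_mul_card_inf E M).trans (Nat.mul_le_mul_right _ hMi)
      rw [hE, pow_succ'] at this
      exact Nat.le_of_mul_le_mul_left this hp.out.pos
  obtain ⟨u, hu, hup⟩ : ∃ u ∈ M ⊓ E, u ^ p ≠ 1 := by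
    by_contra hcon
    push Not at hcon
    have := h _ inferInstance hcon
    rw [hE1] at this
    exact absurd (Nat.pow_le_pow_iff_right hp1 |>.1 this) (by omega)
  have hkey : M ⊓ centralizer {s} ≤ Z := by
    intro c₀ hc₀
    by_contra hc₀Z
    obtain ⟨k, hk1, hk2⟩ := PGrp.exists_pow_not_mem_pow_prime_mem hG Z hc₀Z
    set c := c₀ ^ p ^ k with hcdef
    have hc : c ∈ M ⊓ centralizer {s} := pow_mem hc₀ _
    by_cases hcp : c ^ p = 1
    · have hcY := mem_of_rank_two hr hY hYc hc.1 hcp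
      have h1 := PGrp.mul_card_le_card_of_lt (hG.to_subgroup (Y ⊓ centralizer {s}))
        (lt_of_le_not_ge (le_inf hZY (hZc.trans (center_le_centralizer _)))
          fun h' => hk1 (h' (mem_inf.2 ⟨hcY, hc.2⟩)))
      have h2 := eq_of_le_of_card_le (inf_le_left : Y ⊓ centralizer {s} ≤ Y)
        (by rw [hYc, sq]; rwa [hZ] at h1)
      refine hsM (mem_centralizer_iff.2 fun y hy => ?_)
      rw [← h2] at hy
      exact (mem_centralizer_iff.1 hy.2 s rfl).symm
    · obtain ⟨j, hj⟩ := exists_pow_eq_of_card_prime hZ hk2 hcp (hpow u hu.2)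
      set d := c ^ j with hd
      have hdM : d ∈ M ⊓ centralizer {s} := pow_mem hc _
      have hdp : d ^ p = u ^ p := by rw [hj]; exact pow_right_comm c j p
      have h1 : ⁅d⁻¹, u⁆ ∈ Y := by
        rw [← commutatorElement_inv]
        exact inv_mem (commutator_mem_of_card_le_prime hG Y (M ⊓ E) (le_inf hYM hYE)
          (by rw [hE1, hYc, ← pow_succ']) hu _)
      have h2 : (u * d⁻¹) ^ p = 1 := by
        rw [PGrp.mul_pow_prime_eq_of_odd (hp.out.odd_of_ne_two hp2)
          (mem_centralizer_iff.1 hu.1 _ h1) (mem_centralizer_iff.1 (inv_mem (mem_inf.1 hdM).1) _ h1)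
          (hY.2 _ h1), inv_pow, hdp, mul_inv_cancel]
      have h3 := mem_of_rank_two hr hY hYc (mul_mem (mem_inf.1 hu).1 (inv_mem (mem_inf.1 hdM).1)) h2
      have hdE : d ∈ E := by
        have := mul_mem (inv_mem (hYE h3)) (mem_inf.1 hu).2
        simpa using this
      have hdY : d ∉ Y := fun h' => hup (hdp ▸ hY.2 d h')
      have h4 : Y < Y ⊔ zpowers d :=
        lt_of_le_not_ge le_sup_left fun h' => hdY (h' (mem_sup_right (mem_zpowers d)))
      have h5 : Y ⊔ zpowers d < centralizer {d} ⊓ E := by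
        refine lt_of_le_not_ge (sup_le (le_inf (fun y hy => ?_) hYE)
          (zpowers_le.2 ⟨mem_centralizer_singleton_iff.2 rfl, hdE⟩)) fun h' => hsM ?_
        · exact mem_centralizer_singleton_iff.2 (mem_centralizer_iff.1 hdM.1 y hy)
        · refine (sup_le hYM (zpowers_le.2 hdM.1) : Y ⊔ zpowers d ≤ M) (h' (mem_inf.2 ⟨?_, hsE⟩))
          exact mem_centralizer_singleton_iff.2 (mem_centralizer_iff.1 hdM.2 s rfl)
      have h6 := PGrp.mul_card_le_card_of_lt (hG.to_subgroup _) h4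
      have h7 := PGrp.mul_card_le_card_of_lt (hG.to_subgroup _) h5
      have h8 := eq_of_le_of_card_le (inf_le_right : centralizer {d} ⊓ E ≤ E) (by
        rw [hE]
        refine le_trans ?_ h7
        rw [pow_succ', pow_succ' _ 2, ← hYc]
        exact Nat.mul_le_mul_left _ h6)
      refine hsmall (le_trans ?_ (card_le_of_le (zpowers_le.2 (mem_inf.2 ⟨hdE,
        mem_centralizer_iff.2 fun e he => ?_⟩) : zpowers d ≤ _)))
      · refine pow_succ_le_card_of_lt (k := 1) (hG.to_subgroup _) ?_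
        by_contra h9
        have h10 := IsPGroup.iff_orderOf.1 hG d
        obtain ⟨i, hi⟩ := h10
        rw [Nat.card_zpowers, pow_one, not_lt] at h9
        apply hup
        rw [← hdp, ← orderOf_dvd_iff_pow_eq_one]
        rcases PGrp.eq_one_or_eq_prime_of_le hi h9 with h | h <;> simp [h]
      · rw [← h8] at he
        exact mem_centralizer_singleton_iff.1 he.1
  refine ⟨s, le_antisymm ?_ (PGrp.sq_le_card_centralizer hG ?_ s)⟩
  · refine (card_le_index_mul_card_inf _ M).trans ?_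
    rw [sq]
    exact Nat.mul_le_mul hMi (hZ ▸ card_le_of_le hkey)
  · exact (hYc ▸ card_le_card_group Y)

theorem exists_chain_of_card_centralizer (hp2 : p ≠ 2) (hG : IsPGroup p G) (hr : PRankLE p 2 G)
    (hc : p ^ 4 ≤ Nat.card G) {s : G} (hs : Nat.card (centralizer ({s} : Set G)) = p ^ 2)
    (W : Subgroup G) [W.Normal] (hW : Nat.card W = p) :
    ∃ Y : Subgroup G, Y.Normal ∧ IsElementaryAbelian p Y ∧ W ≤ Y ∧
      ∃ v ∈ centralizer (Y : Set G), ⁅v, s⁆ ∈ Y ∧ ⁅v, s⁆ ∉ W ∧ Commute (v ^ p) s := by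
  have hp1 := hp.out.one_lt
  have hnc : ¬ IsCyclic (⊤ : Subgroup G) := by
    rw [isCyclic_top_iff]
    intro h
    have h1 : centralizer ({s} : Set G) = ⊤ := eq_top_iff.2 fun g _ =>
      mem_centralizer_singleton_iff.2 (h.isMulCommutative.is_comm.comm _ _)
    rw [h1, card_top] at hs
    rw [hs] at hc
    exact absurd (Nat.pow_le_pow_iff_right hp1 |>.1 hc) (by omega)
  obtain ⟨Y, -, hYn, hY, hYc⟩ := ex_odd_normal_p2Elem hp2 (hG.to_subgroup ⊤) hnc
  have hYn' := normal_of_le_normalizer_top hYn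
  have hWY : W ≤ Y := fun z hz => mem_of_rank_two hr hY hYc (center_le_centralizer _
    (PGrp.le_center_of_card_eq_prime hG W hW hz)) ((elemAb_of_card_eq_prime hW).2 z hz)
  set M := centralizer (Y : Set G) with hM
  have hMi : M.index ≤ p := PGrp.index_centralizer_le_of_card_sq hG Y hYc
  have hMc : p ^ 3 ≤ Nat.card M := by
    have := hc.trans ((M.card_mul_index).ge.trans (Nat.mul_le_mul_left _ hMi))
    rw [pow_succ] at this
    exact Nat.le_of_mul_le_mul_right this hp.out.pos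
  have hYM : Y ≤ M := elemAb_le_centralizer hY
  have hsM : s ∉ M := by
    intro h
    have h1 := eq_of_le_of_card_le (show Y ≤ centralizer {s} from fun y hy =>
      mem_centralizer_singleton_iff.2 (mem_centralizer_iff.1 h y hy)) (by rw [hs, hYc])
    have h2 : s ∈ Y := h1 ▸ mem_centralizer_singleton_iff.2 rfl
    have h3 := hMc.trans (card_le_of_le (show M ≤ centralizer {s} from fun m hm =>
      mem_centralizer_singleton_iff.2 (mem_centralizer_iff.1 hm s h2).symm))
    rw [hs] at h3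
    exact absurd (Nat.pow_le_pow_iff_right hp1 |>.1 h3) (by omega)
  obtain ⟨V, hVn, hYV, hVM, hV⟩ := PGrp.exists_normal_card_eq_pow_between hG Y M hYM 3
    (hYc ▸ Nat.pow_le_pow_right hp.out.pos (by omega)) hMc
  obtain ⟨v, hv, hvW⟩ : ∃ v ∈ V, ⁅s, v⁆ ∉ W := by
    by_contra hcon
    push Not at hcon
    have h1 := PGrp.relIndex_centralizer_le_card hcon
    have h2 := PGrp.mul_card_le_card_of_lt (hG.to_subgroup (centralizer {s}))
      (lt_of_le_not_ge (inf_le_left : centralizer {s} ⊓ V ≤ _)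
        fun h' => hsM (hVM (h' (mem_centralizer_singleton_iff.2 rfl)).2))
    have h3 := card_inf_mul_relIndex (centralizer {s}) V
    rw [hs, sq] at h2
    have h4 := h3.ge.trans (Nat.mul_le_mul (Nat.le_of_mul_le_mul_left h2 hp.out.pos) h1)
    rw [hV, hW, ← sq] at h4
    exact absurd (Nat.pow_le_pow_iff_right hp1 |>.1 h4) (by omega)
  have h1 : ⁅v, s⁆ ∈ Y := commutator_mem_of_card_le_prime hG Y V hYV
    (by rw [hV, hYc, ← pow_succ']) hv s
  refine ⟨Y, hYn', hY, hWY, v, hVM hv, h1, fun h => hvW ?_, ?_⟩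
  · rw [← commutatorElement_inv]; exact inv_mem h
  · rw [← commutatorElement_eq_one_iff_commute,
      CommCalc.comm_pow_left (mem_centralizer_iff.1 (hVM hv) _ h1).symm, hY.2 _ h1]

theorem card_centralizer_of_quotient (hp2 : p ≠ 2) (hG : IsPGroup p G) (h : NoNormExp p G)
    (Z : Subgroup G) [Z.Normal] (hZ : Nat.card Z = p) (hr' : PRankLE p 2 (G ⧸ Z))
    (hc : p ^ 4 ≤ Nat.card (G ⧸ Z)) {s : G}
    (hs : Nat.card (centralizer ({(s : G ⧸ Z)} : Set (G ⧸ Z))) = p ^ 2) :
    Nat.card (centralizer ({s} : Set G)) = p ^ 2 := by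
  have hr := h.rank hp2 hG
  have hp1 := hp.out.one_lt
  have hZc := PGrp.le_center_of_card_eq_prime hG Z hZ
  have hZe := (elemAb_of_card_eq_prime hZ).2
  refine le_antisymm ?_ (hs ▸ PGrp.card_centralizer_quotient_le Z s)
  by_contra hcon
  have h1 := pow_succ_le_card_of_lt (hG.to_subgroup _) (not_le.1 hcon)
  have h2 := eq_of_le_of_card_le (show centralizer {s} ≤
      (centralizer ({(s : G ⧸ Z)} : Set (G ⧸ Z))).comap (QuotientGroup.mk' Z) from fun g hg => by
      rw [mem_comap, mem_centralizer_singleton_iff]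
      exact congrArg (QuotientGroup.mk' Z) (mem_centralizer_singleton_iff.1 hg))
    (by rwa [card_comap_mk', hs, hZ, ← pow_succ])
  have hnc : ¬ IsCyclic (⊤ : Subgroup G) := by
    rw [isCyclic_top_iff]
    intro h
    have h1 : centralizer ({(s : G ⧸ Z)} : Set (G ⧸ Z)) = ⊤ := eq_top_iff.2 fun g _ =>
      mem_centralizer_singleton_iff.2 ((isCyclic_of_surjective _
        (QuotientGroup.mk'_surjective Z)).isMulCommutative.is_comm.comm _ _)
    rw [h1, card_top] at hs
    rw [hs] at hc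
    exact absurd (Nat.pow_le_pow_iff_right hp1 |>.1 hc) (by omega)
  obtain ⟨Y, -, hYn, hY, hYc⟩ := ex_odd_normal_p2Elem hp2 (hG.to_subgroup ⊤) hnc
  have hYn' := normal_of_le_normalizer_top hYn
  have hZY : Z ≤ Y := fun z hz => mem_of_rank_two hr hY hYc (center_le_centralizer _ (hZc hz))
    (hZe z hz)
  have hW : Nat.card (Y.map (QuotientGroup.mk' Z)) = p := by
    have := card_map_mk'_mul_card_inf Y Z
    rw [inf_eq_left.2 hZY, hZ, hYc, sq] at this
    exact Nat.eq_of_mul_eq_mul_right hp.out.pos this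
  have hWn := hYn'.map _ (QuotientGroup.mk'_surjective Z)
  obtain ⟨Y₂, hY₂n, hY₂, hWY, v', hv1, hv2, hv3, hv4⟩ :=
    exists_chain_of_card_centralizer hp2 (hG.to_quotient Z) hr' hc hs _ hW
  obtain ⟨v, rfl⟩ := QuotientGroup.mk_surjective v'
  have hu : ((⁅v, s⁆ : G) : G ⧸ Z) = ⁅(v : G ⧸ Z), (s : G ⧸ Z)⁆ := by
    simp [commutatorElement_def]
  have hcZ : ∀ a b : G, Commute (a : G ⧸ Z) b → ⁅a, b⁆ ∈ Z := fun a b hab =>
    (QuotientGroup.eq_one_iff _).1 (by
      simp only [commutatorElement_def, QuotientGroup.mk_mul, QuotientGroup.mk_inv]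
      rw [hab.eq]; group)
  have h3 : v ^ p ∈ centralizer {s} := by
    rw [h2, mem_comap, mem_centralizer_singleton_iff]; exact hv4
  have h4 : ⁅v, ⁅v, s⁆⁻¹⁆ ∈ Z := hcZ _ _ (by
    rw [QuotientGroup.mk_inv, hu]
    exact (mem_centralizer_iff.1 hv1 _ (inv_mem hv2)).symm)
  have h5 : ⁅v, s⁆ ^ p = 1 := by
    have h6 := PGrp.mul_pow_prime_eq_of_odd (hp.out.odd_of_ne_two hp2)
      (mem_center_iff.1 (hZc h4) ⁅v, s⁆⁻¹).symm (mem_center_iff.1 (hZc h4) v).symm (hZe _ h4)
    rw [show ⁅v, s⁆⁻¹ * v = s * v * s⁻¹ by simp [commutatorElement_def, mul_assoc], conj_pow,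
      ← mem_centralizer_singleton_iff.1 h3, mul_inv_cancel_right, inv_pow] at h6
    simpa using h6
  have hn2 := hY₂n.comap (QuotientGroup.mk' Z)
  obtain ⟨-, K, hKn, hK⟩ := exists_omega_of_class_two hp2 (Y₂.comap (QuotientGroup.mk' Z))
    fun x hx y hy => by
      have := hcZ x y (elemAb_iff.1 hY₂ |>.1 _ hx _ hy)
      exact ⟨center_le_centralizer _ (hZc this), hZe _ this⟩
  have h7 : Y < K := lt_of_le_not_ge (fun y hy => (hK y).2 ⟨hWY ⟨y, hy, rfl⟩, hY.2 y hy⟩)
    fun h' => hv3 ⟨_, h' ((hK _).2 ⟨by rw [mem_comap, QuotientGroup.mk'_apply, hu]; exact hv2, h5⟩),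
      hu⟩
  exact absurd (h K hKn fun x hx => ((hK x).1 hx).2) (not_le.2 (hYc ▸ card_lt_card_of_lt h7))

theorem exists_normal_metacyclic_lift (hG : IsPGroup p G)
    (hc : ¬ Nat.card (_root_.commutator G) ≤ p) :
    ∃ (T : Subgroup G) (_ : T.Normal), Nat.card T = p ∧ (IsMetacyclic (G ⧸ T) → IsMetacyclic G) := by
  let M : Subgroup G := closure ((· ^ p) '' (_root_.commutator G : Set G))
  have hM : M ≤ _root_.commutator G := (closure_le _).2 (by
    rintro _ ⟨x, hx, rfl⟩; exact pow_mem hx p)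
  have hMn : M.Normal := by
    refine ⟨fun x hx g => ?_⟩
    have : M.map (MulAut.conj g).toMonoidHom ≤ M := by
      rw [MonoidHom.map_closure, closure_le]
      rintro _ ⟨_, ⟨y, hy, rfl⟩, rfl⟩
      exact subset_closure ⟨g * y * g⁻¹, Normal.conj_mem inferInstance y hy g, by simp [conj_pow]⟩
    exact this ⟨x, hx, rfl⟩
  obtain ⟨T, hTn, hT, hTp, hTM⟩ : ∃ T : Subgroup G, T.Normal ∧ T ≤ _root_.commutator G ∧
      Nat.card T = p ∧ (M ≠ ⊥ → T ≤ M) := by
    by_cases hM1 : M = ⊥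
    · obtain ⟨T, h1, h2, h3⟩ := PGrp.exists_normal_le_card_eq_pow hG (_root_.commutator G) 1
        (by rw [pow_one]; omega)
      exact ⟨T, h1, h2, by rw [h3, pow_one], fun h => absurd hM1 h⟩
    · obtain ⟨T, h1, h2, h3⟩ := PGrp.exists_normal_le_card_eq_pow hG M 1
        (pow_succ_le_card_of_lt (k := 0) (hG.to_subgroup _)
          (by rw [pow_zero]; exact (one_lt_card_iff_ne_bot _).2 hM1))
      exact ⟨T, h1, h2.trans hM, by rw [h3, pow_one], fun _ => h2⟩
  refine ⟨T, hTn, hTp, fun hmc => ?_⟩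
  have hTc := PGrp.le_center_of_card_eq_prime hG T hTp
  have hTe := (elemAb_of_card_eq_prime hTp).2
  obtain ⟨a', b', r, ⟨m, hm⟩, hab, hgen⟩ := PGrp.exists_metacyclic_gens (hG.to_quotient T) hmc
  obtain ⟨a, rfl⟩ := QuotientGroup.mk_surjective a'
  obtain ⟨b, rfl⟩ := QuotientGroup.mk_surjective b'
  have h1 : ∀ x ∈ _root_.commutator G, ∃ k : ℤ, ∃ t ∈ T, x = (a ^ p) ^ k * t := by
    intro x hx
    have h2 : (x : G ⧸ T) ∈ _root_.commutator (G ⧸ T) := by
      rw [_root_.commutator_def, ← map_top_of_surjective _ (QuotientGroup.mk'_surjective T),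
        ← map_commutator]
      exact ⟨x, hx, rfl⟩
    rw [PGrp.commutator_eq_zpowers_metacyclic hab hgen, hm] at h2
    obtain ⟨k, hk⟩ := h2
    refine ⟨m * k, ((a ^ p) ^ (m * k))⁻¹ * x, QuotientGroup.eq.1 ?_, by group⟩
    rw [← hk]
    simp [← zpow_natCast, ← zpow_mul, mul_assoc]
  have h2 : ∀ g : G, ∃ (i : ℤ) (j : ℕ), ∃ t ∈ T, g = a ^ i * b ^ j * t := fun g => by
    obtain ⟨i, j, hij⟩ := hgen g
    exact ⟨i, j, (a ^ i * b ^ j)⁻¹ * g, QuotientGroup.eq.1 (by simp [hij]), by group⟩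
  by_cases hTa : T ≤ zpowers a
  · have h3 : _root_.commutator G ≤ zpowers a := fun x hx => by
      obtain ⟨k, t, ht, rfl⟩ := h1 x hx
      exact mul_mem (zpow_mem (pow_mem (mem_zpowers a) p) k) (hTa ht)
    have hn : (zpowers a).Normal := ⟨fun x hx g => by
      have := mul_mem (h3 (commutator_mem_commutator (mem_top g) (mem_top x))) hx
      simpa [commutatorElement_def] using this⟩
    refine ⟨zpowers a, hn, inferInstance, ⟨⟨(b : G ⧸ zpowers a), fun q => ?_⟩⟩⟩
    obtain ⟨g, rfl⟩ := QuotientGroup.mk_surjective q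
    obtain ⟨i, j, t, ht, rfl⟩ := h2 g
    refine ⟨j, ?_⟩
    simp [(QuotientGroup.eq_one_iff _).2 (hTa ht), (QuotientGroup.eq_one_iff _).2 (mem_zpowers a)]
  have hM1 : M = ⊥ := by
    by_contra hM1
    refine hTa ((hTM hM1).trans ((closure_le _).2 ?_))
    rintro _ ⟨x, hx, rfl⟩
    obtain ⟨k, t, ht, rfl⟩ := h1 x hx
    simp only [SetLike.mem_coe]
    rw [Commute.mul_pow (mem_center_iff.1 (hTc ht) _), hTe t ht, mul_one]
    exact pow_mem (zpow_mem (pow_mem (mem_zpowers a) p) k) p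
  have hmem : ⁅a, b⁆ ∈ _root_.commutator G := commutator_mem_commutator (mem_top a) (mem_top b)
  have h3 : ⁅a, b⁆ ^ p = 1 := mem_bot.1 (hM1 ▸ subset_closure ⟨_, hmem, rfl⟩)
  obtain ⟨k, t, ht, hk⟩ := h1 _ hmem
  have h4 : Commute a ⁅a, b⁆ := hk ▸ (((Commute.refl a).pow_right p).zpow_right k).mul_right
    (mem_center_iff.1 (hTc ht) a)
  have h5 : Commute (a ^ p) b := by
    rw [← commutatorElement_eq_one_iff_commute, CommCalc.comm_pow_left h4, h3]
  have h6 : Commute b ⁅a, b⁆ := hk ▸ (h5.symm.zpow_right k).mul_right (mem_center_iff.1 (hTc ht) b)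
  have h7 : closure ({a, b} : Set G) = ⊤ := by
    refine frattini_nongenerating (eq_top_iff.2 fun g _ => ?_)
    obtain ⟨i, j, t, ht, rfl⟩ := h2 g
    exact mul_mem (mem_sup_left (mul_mem (zpow_mem (subset_closure (by simp)) i)
      (pow_mem (subset_closure (by simp)) j)))
      (mem_sup_right (PGrp.commutator_le_frattini hG (hT ht)))
  have h8 := Regular.commutator_closure_pair_le (N := zpowers ⁅a, b⁆) ((closure_le _).2 (by
    rintro x (rfl | rfl) <;> refine centralizer_le_normalizer _ (mem_centralizer_iff.2 ?_) <;>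
      rintro _ ⟨n, rfl⟩
    exacts [(h4.zpow_right n).symm, (h6.zpow_right n).symm])) (mem_zpowers _)
  rw [h7] at h8
  exact absurd ((card_le_of_le h8).trans
    (card_le_of_isCyclic_of_pow_eq_one inferInstance (elemAb_zpowers h3).2)) hc

theorem NoNormExp.metacyclic_of_card_commutator_le (hp2 : p ≠ 2) (hG : IsPGroup p G)
    (h : NoNormExp p G) (hc : Nat.card (_root_.commutator G) ≤ p) : IsMetacyclic G := by
  have h1 := le_centralizer_of_card_le_prime (hG.to_subgroup ⊤) (hG.to_subgroup _)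
    le_normalizer_of_normal hc
  exact FT.metacyclic_of_card_commutator_le hp2 hG (h _ (PGrp.normal_omegaOne ⊤)
    (exponent_odd_nil23 hp2 (hG.to_subgroup ⊤)
      (Or.inl (Cop.commutator_eq_bot_iff_le_centralizer'.2 h1))).1) hc

theorem card_commutator_le_of_card_le_cube (hG : IsPGroup p G) (h : Nat.card G ≤ p ^ 3) :
    Nat.card (_root_.commutator G) ≤ p := by
  by_cases hc : IsCyclic G
  · have : _root_.commutator G = ⊥ := by
      rw [_root_.commutator_def, commutator_eq_bot_iff_le_centralizer]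
      exact fun x _ => mem_centralizer_iff.2 fun y _ => hc.isMulCommutative.is_comm.comm _ _
    rw [this, card_bot]; exact hp.out.pos
  · have h1 := PGrp.sq_le_index_of_le_frattini hG hc _ (PGrp.commutator_le_frattini hG)
    have h2 := (Nat.mul_le_mul_left _ h1).trans ((_root_.commutator G).card_mul_index.le.trans h)
    rw [pow_succ' p 2] at h2
    exact Nat.le_of_mul_le_mul_right h2 (pow_pos hp.out.pos 2)

/-- Blackburn's theorem (for `p = 3` in particular). -/
theorem metacyclic_or_card_centralizer.{u} (hp2 : p ≠ 2) (X : Type u) [Group X] [Finite X] :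
    IsPGroup p X → NoNormExp p X →
      IsMetacyclic X ∨ ∃ s : X, Nat.card (centralizer ({s} : Set X)) = p ^ 2 := by
  refine card_induction (P := fun X _ _ => IsPGroup p X → NoNormExp p X →
      IsMetacyclic X ∨ ∃ s : X, Nat.card (centralizer ({s} : Set X)) = p ^ 2) (fun G _ _ ih => ?_) X
  intro hG h
  by_cases hc : Nat.card (_root_.commutator G) ≤ p
  · exact Or.inl (h.metacyclic_of_card_commutator_le hp2 hG hc)
  obtain ⟨T, hTn, hTp, hT⟩ := exists_normal_metacyclic_lift hG hc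
  have hT1 : T ≠ ⊥ := fun h => hp.out.one_lt.ne' (by simpa [h] using hTp.symm)
  have hQ := hG.to_quotient T
  by_cases hq : NoNormExp p (G ⧸ T)
  · rcases ih (G ⧸ T) (card_quotient_lt hT1) hQ hq with h1 | ⟨s, hs⟩
    · exact Or.inl (hT h1)
    · by_cases h4 : Nat.card (G ⧸ T) ≤ p ^ 3
      · exact Or.inl (hT (hq.metacyclic_of_card_commutator_le hp2 hQ
          (card_commutator_le_of_card_le_cube hQ h4)))
      · obtain ⟨s, rfl⟩ := QuotientGroup.mk_surjective s
        refine Or.inr ⟨s, card_centralizer_of_quotient hp2 hG h T hTp (hq.rank hp2 hQ) ?_ hs⟩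
        rw [← card_top] at h4 ⊢
        exact pow_succ_le_card_of_lt (hQ.to_subgroup ⊤) (not_le.1 h4)
  · simp only [NoNormExp, not_forall] at hq
    obtain ⟨E, hEn, hE, hEc⟩ := hq
    obtain ⟨K, hKn, hKE, hK⟩ := PGrp.exists_normal_le_card_eq_pow hQ E 3
      (pow_succ_le_card_of_lt (hQ.to_subgroup E) (not_le.1 hEc))
    have := hKn.comap (QuotientGroup.mk' T)
    exact Or.inr (exists_card_centralizer_of_normal_four hp2 hG h T hTp
      (K.comap (QuotientGroup.mk' T)) (by rw [card_comap_mk', hK, hTp, ← pow_succ])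
      fun x hx => (QuotientGroup.eq_one_iff _).1 (hE _ (hKE hx)))

end CfsgLib.H5
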