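import Mathlib
import Cfsg.Agent.Lib.PGroupMisc
import Cfsg.Agent.Lib.PGroupMaxClass
import Cfsg.Agent.Lib.PGroupRankOne
import Cfsg.Agent.Lib.TwoGroupMaxClass
import Cfsg.Agent.Lib.CoreElements
import Cfsg.Agent.Lib.SylowIn

/-! Groups in which `p`-subgroups of equal order are conjugate. -/

set_option autoImplicit false

namespace CfsgLib.H5

open Subgroup Cfsg
open scoped commutatorElement

variable {G : Type*} [Group G] {p : ℕ}

/-- a non-abelian `p`-group of exponent `p` has a non-abelian subgroup of order `p ^ 3` -/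
theorem exists_nonabelian_card_cube [Finite G] [hp : Fact p.Prime] (hG : IsPGroup p G)
    (hexp : ∀ x : G, x ^ p = 1) (hna : ¬ IsMulCommutative G) :
    ∃ H : Subgroup G, Nat.card H = p ^ 3 ∧ ¬ IsMulCommutative H := by
  have := hG.isNilpotent
  obtain ⟨x, -, hx, hxc⟩ := PGrp.exists_central_mod (center G) ⊤
    (fun h => hna (center_eq_top_iff.mp (top_le_iff.mp h)))
  obtain ⟨b, hb⟩ : ∃ b, b * x ≠ x * b := by
    by_contra h
    push Not at h
    exact hx (mem_center_iff.mpr h)
  set z := ⁅x, b⁆ with hz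
  have hzc : ∀ g, g * z = z * g := mem_center_iff.mp (hxc b)
  have hcard : ∀ g : G, Nat.card (zpowers g) ∣ p := fun g => by
    rw [Nat.card_zpowers]; exact orderOf_dvd_of_pow_eq_one (hexp g)
  have h1 : zpowers x ≤ normalizer ((zpowers z : Subgroup G) : Set G) := by
    refine le_trans ?_ (centralizer_le_normalizer _)
    rw [zpowers_le]
    rintro _ ⟨m, rfl⟩
    exact ((show Commute x z from hzc x).zpow_right m).eq.symm
  have h2 : zpowers b ≤ normalizer ((zpowers x ⊔ zpowers z : Subgroup G) : Set G) := by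
    rw [zpowers_le]
    refine mem_normalizer_of_map_conj_eq (eq_of_le_of_card_le ?_ (card_map_conj _ _).ge)
    rw [Subgroup.map_sup, MonoidHom.map_zpowers, MonoidHom.map_zpowers]
    refine sup_le (zpowers_le.mpr ?_) (zpowers_le.mpr ?_)
    · have : (MulAut.conj b).toMonoidHom x = z⁻¹ * x := by
        change b * x * b⁻¹ = _
        rw [hz, commutatorElement_def]
        group
      rw [this]
      exact mul_mem (inv_mem (mem_sup_right (mem_zpowers z))) (mem_sup_left (mem_zpowers x))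
    · have : (MulAut.conj b).toMonoidHom z = z := by
        simp [hzc b]
      rw [this]
      exact mem_sup_right (mem_zpowers z)
  have h3 : ¬ IsMulCommutative (zpowers b ⊔ (zpowers x ⊔ zpowers z) : Subgroup G) := fun h =>
    hb (PGrp.isMulCommutative_iff_forall.mp h b (mem_sup_left (mem_zpowers b)) x
      (mem_sup_right (mem_sup_left (mem_zpowers x))))
  refine ⟨_, ?_, h3⟩
  have h4 : Nat.card (zpowers b ⊔ (zpowers x ⊔ zpowers z) : Subgroup G) ∣ p ^ 3 := by
    refine (card_sup_dvd_mul h2).trans ?_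
    rw [pow_succ', pow_two]
    exact mul_dvd_mul (hcard b) ((card_sup_dvd_mul h1).trans (mul_dvd_mul (hcard x) (hcard z)))
  obtain ⟨j, hj, hj'⟩ := (Nat.dvd_prime_pow hp.out).mp h4
  rw [hj', le_antisymm hj (PGrp.three_le_of_not_isMulCommutative hj' h3)]

/-- a `p`-group of exponent `p` and order at least `p ^ 4` has an abelian subgroup of
order `p ^ 3` -/
theorem exists_abelian_card_cube [Finite G] [hp : Fact p.Prime] (hG : IsPGroup p G)
    (hexp : ∀ x : G, x ^ p = 1) (h4 : p ^ 4 ≤ Nat.card G) :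
    ∃ H : Subgroup G, Nat.card H = p ^ 3 ∧ IsMulCommutative H := by
  have h1 := hp.out.one_lt
  obtain ⟨E, hE, -, hEc⟩ := PGrp.exists_normal_le_card_eq_pow hG ⊤ 2
    (by rw [card_top]; exact le_trans (Nat.pow_le_pow_right h1.le (by norm_num)) h4)
  have hEab : IsMulCommutative E := IsPGroup.isMulCommutative_of_card_eq_prime_sq hEc
  have h2 := PGrp.index_centralizer_le_of_card_sq hG E hEc
  obtain ⟨c, hc, hcE⟩ : ∃ c ∈ centralizer (E : Set G), c ∉ E := by
    by_contra h
    push Not at h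
    have h3 := card_le_of_le (show centralizer (E : Set G) ≤ E from h)
    have h5 := card_mul_index (centralizer (E : Set G))
    have h6 : p ^ 4 ≤ p ^ 2 * p := h4.trans (h5 ▸ Nat.mul_le_mul (hEc ▸ h3) h2)
    rw [← pow_succ] at h6
    exact absurd ((Nat.pow_le_pow_iff_right h1).mp h6) (by norm_num)
  refine ⟨E ⊔ zpowers c, ?_, PGrp.isMulCommutative_sup hEab inferInstance (zpowers_le.mpr hc)⟩
  rw [PGrp.card_sup_zpowers_of_pow_mem E hcE (hexp c ▸ one_mem E), hEc, ← pow_succ']

/-- `p`-groups in which subgroups of equal order are isomorphic -/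
theorem pgroup_cases_of_forall_mulEquiv [Finite G] [hp : Fact p.Prime] (hG : IsPGroup p G)
    (h : ∀ H K : Subgroup G, Nat.card H = Nat.card K → Nonempty (H ≃* K)) :
    IsCyclic G ∨ (IsMulCommutative G ∧ ∀ x : G, x ^ p = 1) ∨
      (p = 2 ∧ Nonempty (G ≃* QuaternionGroup 2)) ∨
      (p ≠ 2 ∧ ¬ IsMulCommutative G ∧ Nat.card G = p ^ 3 ∧ ∀ x : G, x ^ p = 1) := by
  have h1 := hp.out.one_lt
  by_cases hE : ∃ E : Subgroup G, IsElementaryAbelian p E ∧ Nat.card E = p ^ 2
  · obtain ⟨E, hE, hEc⟩ := hE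
    have hexp : ∀ x : G, x ^ p = 1 := by
      intro x
      obtain ⟨k, hk⟩ := IsPGroup.iff_orderOf.mp hG x
      by_contra h0
      have h2 : 2 ≤ k := by
        by_contra h3
        refine h0 (orderOf_dvd_iff_pow_eq_one.mp (hk ▸ ?_))
        exact (pow_dvd_pow p (by omega)).trans (pow_one p).dvd
      have h3 : orderOf (x ^ p ^ (k - 2)) = p ^ 2 := by
        rw [orderOf_pow_of_dvd (pow_ne_zero _ hp.out.ne_zero) (hk ▸ pow_dvd_pow p (by omega)), hk,
          Nat.pow_div (by omega) hp.out.pos]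
        congr 1
        omega
      obtain ⟨e⟩ := h (zpowers (x ^ p ^ (k - 2))) E (by rw [Nat.card_zpowers, h3, hEc])
      have h4 : e ⟨_, mem_zpowers _⟩ ^ p = 1 := Subtype.ext (hE.2 _ (e _).2)
      rw [← map_pow, map_eq_one_iff _ e.injective] at h4
      have h5 := orderOf_dvd_of_pow_eq_one (congrArg Subtype.val h4)
      rw [h3] at h5
      exact absurd (Nat.le_of_dvd hp.out.pos h5) (by nlinarith)
    by_cases hab : IsMulCommutative G
    · exact Or.inr (Or.inl ⟨hab, hexp⟩)
    refine Or.inr (Or.inr (Or.inr ⟨?_, hab, ?_, hexp⟩))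
    · rintro rfl
      exact hab (PGrp.isMulCommutative_of_sq_eq_one hexp)
    · obtain ⟨n, hn⟩ := IsPGroup.iff_card.mp hG
      have h3 := PGrp.three_le_of_not_isMulCommutative hn hab
      by_contra h0
      have h4 : 4 ≤ n := by
        by_contra h5
        exact h0 (by rw [hn, show n = 3 by omega])
      obtain ⟨A, hA, hAc⟩ := exists_abelian_card_cube hG hexp
        (hn ▸ Nat.pow_le_pow_right h1.le h4)
      obtain ⟨B, hB, hBc⟩ := exists_nonabelian_card_cube hG hexp hab
      obtain ⟨e⟩ := h B A (hB.trans hA.symm)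
      exact hBc ⟨⟨fun a b => e.injective (by rw [map_mul, map_mul, hAc.is_comm.comm])⟩⟩
  · push Not at hE
    rcases PGrp.isCyclic_or_quaternion_of_no_card_sq hG hE with hc | ⟨rfl, k, hk, ⟨e⟩⟩
    · exact Or.inl hc
    refine Or.inr (Or.inr (Or.inl ⟨rfl, ?_⟩))
    by_cases hk1 : k = 1
    · subst hk1
      exact ⟨e⟩
    exfalso
    obtain ⟨x, y, hxy, -, hy2⟩ := PGrp.exists_isDQSDPair_of_mulEquiv_quaternionGroup hk e
    have hx : orderOf x = 2 ^ (k + 1) := hxy.2.2.1
    have hy : y ∉ zpowers x := hxy.2.2.2.1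
    have hy4 : orderOf y = 2 ^ 2 := by
      refine orderOf_eq_prime_pow ?_ (hxy.pow_four_eq_one hy)
      rw [pow_one, hy2]
      intro h2
      have := Nat.le_of_dvd (by positivity) (hx ▸ orderOf_dvd_of_pow_eq_one h2)
      exact absurd ((Nat.pow_le_pow_iff_right one_lt_two).mp this) (by omega)
    have h3 : orderOf (x ^ 2 ^ (k - 2)) = 2 ^ 3 := by
      rw [orderOf_pow_of_dvd (by positivity) (hx ▸ pow_dvd_pow 2 (by omega)), hx,
        Nat.pow_div (by omega) two_pos]
      congr 1
      omega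
    obtain ⟨B, hB, hyB⟩ := Sylow.exists_subgroup_card_pow_prime_le 2 (n := 2) (m := 3)
      (h3 ▸ orderOf_dvd_natCard _) (zpowers y) (by rw [Nat.card_zpowers, hy4]) (by norm_num)
    obtain ⟨f⟩ := h (zpowers (x ^ 2 ^ (k - 2))) B (by rw [Nat.card_zpowers, h3, hB])
    have : IsCyclic B := isCyclic_of_surjective f f.surjective
    obtain ⟨b, hb⟩ := IsCyclic.exists_generator (α := B)
    have hbo : orderOf (b : G) = 2 ^ 3 := by
      rw [orderOf_coe, orderOf_eq_card_of_forall_mem_zpowers hb, hB]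
    have hbx : (b : G) ∈ zpowers x := by
      by_contra h0
      have := orderOf_dvd_of_pow_eq_one (hxy.pow_four_eq_one h0)
      rw [hbo] at this
      norm_num at this
    obtain ⟨m, hm⟩ := hb ⟨y, hyB (mem_zpowers y)⟩
    have hm' : (b : G) ^ m = y := congrArg Subtype.val hm
    exact hy (hm' ▸ zpow_mem hbx m)

/-- any two `p`-subgroups of the same order are conjugate -/
def ConjPSub (p : ℕ) (G : Type*) [Group G] : Prop :=
  ∀ H K : Subgroup G, IsPGroup p H → IsPGroup p K → Nat.card H = Nat.card K →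
    ∃ g : G, K = H.map (MulAut.conj g).toMonoidHom

theorem ConjPSub.sylow_cases [Finite G] [hp : Fact p.Prime] (hC : ConjPSub p G) (P : Sylow p G) :
    IsCyclic P ∨ IsElementaryAbelian p (P : Subgroup G) ∨
      (p = 2 ∧ Nonempty ((P : Subgroup G) ≃* QuaternionGroup 2)) ∨
      (p ≠ 2 ∧ ¬ IsMulCommutative P ∧ Nat.card P = p ^ 3 ∧ ∀ x ∈ (P : Subgroup G), x ^ p = 1) := by
  have key := pgroup_cases_of_forall_mulEquiv P.isPGroup' fun H K hHK => by
    obtain ⟨g, hg⟩ := hC (H.map (P : Subgroup G).subtype) (K.map (P : Subgroup G).subtype)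
      ((P.isPGroup'.to_subgroup H).map _) ((P.isPGroup'.to_subgroup K).map _)
      (by rw [card_map_subtype, card_map_subtype, hHK])
    exact ⟨((H.equivMapOfInjective _ (subtype_injective _)).trans
      ((Subgroup.equivMapOfInjective _ _ (MulAut.conj g).injective).trans
        (MulEquiv.subgroupCongr hg.symm))).trans
      (K.equivMapOfInjective _ (subtype_injective _)).symm⟩
  rcases key with h | ⟨h1, h2⟩ | h | ⟨h1, h2, h3, h4⟩
  · exact Or.inl h
  · exact Or.inr (Or.inl ⟨h1, fun x hx => congrArg Subtype.val (h2 ⟨x, hx⟩)⟩)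
  · exact Or.inr (Or.inr (Or.inl h))
  · exact Or.inr (Or.inr (Or.inr ⟨h1, h2, h3, fun x hx => congrArg Subtype.val (h4 ⟨x, hx⟩)⟩))

theorem ConjPSub.exists_conj_mem_zpowers [Finite G] [hp : Fact p.Prime] (hC : ConjPSub p G)
    {x y : G} (hx : orderOf x = p) (hy : orderOf y = p) : ∃ g : G, g * x * g⁻¹ ∈ zpowers y := by
  obtain ⟨g, hg⟩ := hC (zpowers x) (zpowers y) (isPGroup_zpowers_iff.mpr ⟨1, by simp [hx]⟩)
    (isPGroup_zpowers_iff.mpr ⟨1, by simp [hy]⟩) (by rw [Nat.card_zpowers, Nat.card_zpowers, hx, hy])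
  exact ⟨g, hg ▸ conj_mem_map_conj (mem_zpowers x)⟩

/-- a normal subgroup of order divisible by `p` contains all elements of order `p` -/
theorem ConjPSub.mem_of_normal [Finite G] [hp : Fact p.Prime] (hC : ConjPSub p G)
    {N : Subgroup G} [hN : N.Normal] (h : p ∣ Nat.card N) {x : G} (hx : x ^ p = 1) : x ∈ N := by
  by_cases h1 : x = 1
  · rw [h1]; exact one_mem _
  obtain ⟨⟨y, hy⟩, hyo⟩ := exists_prime_orderOf_dvd_card' (G := N) p h
  rw [orderOf_mk] at hyo
  obtain ⟨g, hg⟩ := hC.exists_conj_mem_zpowers (orderOf_eq_prime hx h1) hyo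
  have := hN.conj_mem' _ (zpowers_le.mpr hy hg) g
  simpa [mul_assoc] using this

end CfsgLib.H5
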