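import Mathlib
import Cfsg.Agent.Lib.BurnsideBasis
import Cfsg.Agent.Lib.CoreBasic
import Cfsg.Agent.Lib.FrobFPFStruct

/-! Weight components of an abelian group acting coprimely on a finite abelian group, and
stabilizers of subsets for normal `p`-subgroups of permutation groups. -/

set_option autoImplicit false

namespace CfsgLib.H5.Cover

open Subgroup
open scoped commutatorElement Pointwise

/-- A normal `p`-subgroup moving a point has a subset whose stabilizer lies in a normal subgroup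
not containing it. -/
theorem exists_subset {H X : Type*} [Group H] [Finite H] [MulAction H X] {p : ℕ} [Fact p.Prime]
    (Ω : Set X) (hΩ : ∀ g : H, ∀ x ∈ Ω, g • x ∈ Ω) (B : Subgroup H) [hBn : B.Normal]
    (hB : IsPGroup p B) (hne : ∃ b ∈ B, ∃ x ∈ Ω, b • x ≠ x) :
    ∃ Δ ⊆ Ω, ∃ B' : Subgroup H, B'.Normal ∧ ¬ B ≤ B' ∧
      ∀ b ∈ B, (∀ x ∈ Δ, b • x ∈ Δ) → b ∈ B' := by
  let D : Subgroup H := ⁅B, B⁆
  have hDn : D.Normal := inferInstance
  have hDB : D ≤ B := commutator_le_left B B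
  let B' : Subgroup H :=
    { carrier := {g | ∀ x ∈ Ω, ∃ d ∈ D, g • x = d • x}
      one_mem' := fun x _ => ⟨1, one_mem _, rfl⟩
      mul_mem' := by
        intro g h hg hh x hx
        obtain ⟨d, hd, e⟩ := hh x hx
        obtain ⟨d', hd', e'⟩ := hg x hx
        refine ⟨g * d * g⁻¹ * d', mul_mem (hDn.conj_mem d hd g) hd', ?_⟩
        rw [mul_smul, e, mul_smul (g * d * g⁻¹), ← e', ← mul_smul, ← mul_smul]
        simp
      inv_mem' := by
        intro g hg x hx
        obtain ⟨d, hd, e⟩ := hg _ (hΩ g⁻¹ x hx)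
        refine ⟨d⁻¹, Subgroup.inv_mem _ hd, ?_⟩
        rw [smul_inv_smul] at e
        rw [eq_inv_smul_iff, ← e] }
  have hB' : ∀ g, g ∈ B' ↔ ∀ x ∈ Ω, ∃ d ∈ D, g • x = d • x := fun g => Iff.rfl
  let t : X → X := fun x => (Quotient.mk (MulAction.orbitRel B X) x).out
  have ht1 : ∀ x, ∃ c ∈ B, x = c • t x := by
    intro x
    have : (MulAction.orbitRel B X) x (t x) := Quotient.exact (Quotient.out_eq _).symm
    obtain ⟨c, hc⟩ := this
    exact ⟨c, c.2, hc.symm⟩
  have ht2 : ∀ x, ∀ c ∈ B, t (c • x) = t x := by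
    intro x c hc
    have : Quotient.mk (MulAction.orbitRel B X) (c • x) = Quotient.mk _ x :=
      Quotient.sound ⟨⟨c, hc⟩, rfl⟩
    simp only [t, this]
  have ht3 : ∀ x, t (t x) = t x := by
    intro x
    obtain ⟨c, hc, e⟩ := ht1 x
    conv_rhs => rw [e]
    rw [ht2 _ c hc]
  refine ⟨{y | ∃ x ∈ Ω, ∃ d ∈ D, y = d • t x}, ?_, B', ⟨?_⟩, ?_, ?_⟩
  · rintro _ ⟨x, hx, d, hd, rfl⟩
    obtain ⟨c, hc, e⟩ := ht1 x
    refine hΩ _ _ ?_
    have := hΩ c⁻¹ x hx
    rwa [e, inv_smul_smul] at this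
  · intro g hg h x hx
    obtain ⟨d, hd, e⟩ := hg _ (hΩ h⁻¹ x hx)
    refine ⟨h * d * h⁻¹, hDn.conj_mem d hd h, ?_⟩
    simp only [mul_smul, e]
  · intro hle
    obtain ⟨b, hb, x, hx, hbx⟩ := hne
    have : MulAction.stabilizer B x ⊔ frattini B = ⊤ := by
      rw [eq_top_iff]
      intro c _
      obtain ⟨d, hd, e⟩ := hle c.2 x hx
      have hd' : d ∈ (_root_.commutator B).map B.subtype := by
        rw [map_subtype_commutator]; exact hd
      obtain ⟨d, hd', rfl⟩ := hd'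
      have h1 : d⁻¹ * c ∈ MulAction.stabilizer B x := by
        show ((d⁻¹ * c : B) : H) • x = x
        rw [coe_mul, mul_smul, e, coe_inv]
        exact inv_smul_smul _ _
      have h2 : c = d * (d⁻¹ * c) := by simp
      rw [h2]
      exact mul_mem (mem_sup_right (BurnsideBasis.commutator_le_frattini hB hd')) (mem_sup_left h1)
    have h3 := frattini_nongenerating this
    have : (⟨b, hb⟩ : B) ∈ MulAction.stabilizer B x := h3 ▸ mem_top _
    exact hbx this
  · intro b hb hΔ x hx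
    obtain ⟨c, hc, e⟩ := ht1 x
    obtain ⟨x', hx', d, hd, e'⟩ := hΔ (t x) ⟨x, hx, 1, one_mem _, by simp⟩
    have h1 : t x' = t x := by
      have := congrArg t e'
      rw [ht2 _ b hb, ht2 _ d (hDB hd), ht3, ht3] at this
      exact this.symm
    rw [h1] at e'
    refine ⟨⁅b, c⁆ * (c * d * c⁻¹), mul_mem (commutator_mem_commutator hb hc)
      (hDn.conj_mem d hd c), ?_⟩
    have h2 : b * c = ⁅b, c⁆ * c * b := by simp [commutatorElement_def]
    conv_lhs => rw [e, ← mul_smul, h2, mul_smul, e']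
    conv_rhs => rw [e]
    simp only [mul_smul, inv_smul_smul]

section

variable {H V : Type*} [Group H] [Finite H] [CommGroup V] [MulDistribMulAction H V]

/-- The norm map of a subgroup. -/
noncomputable def nm (Y : Subgroup H) (v : V) : V :=
  haveI := Fintype.ofFinite Y
  ∏ y : Y, (y : H) • v

theorem nm_mul (Y : Subgroup H) (v w : V) : nm Y (v * w) = nm Y v * nm Y w := by
  simp [nm, Finset.prod_mul_distrib]

theorem nm_one (Y : Subgroup H) : nm Y (1 : V) = 1 := by simp [nm]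

/-- The norm map as a homomorphism. -/
noncomputable def nmHom (Y : Subgroup H) : V →* V where
  toFun := nm Y
  map_one' := nm_one Y
  map_mul' := nm_mul Y

theorem smul_nm {Y : Subgroup H} {y : H} (hy : y ∈ Y) (v : V) : y • nm Y v = nm Y v := by
  letI := Fintype.ofFinite Y
  simp only [nm, Finset.smul_prod']
  refine Fintype.prod_equiv (Equiv.mulLeft ⟨y, hy⟩) _ _ fun z => ?_
  simp [mul_smul]

theorem nm_of_fix {Y : Subgroup H} {v : V} (h : ∀ y ∈ Y, y • v = v) :
    nm Y v = v ^ Nat.card Y := by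
  letI := Fintype.ofFinite Y
  simp only [nm]
  rw [Finset.prod_congr rfl (g := fun _ => v) fun (y : Y) _ => h y y.2]
  simp

theorem smul_nm_conj (g : H) (Y : Subgroup H) (v : V) :
    g • nm Y v = nm (Y.map (MulAut.conj g).toMonoidHom) (g • v) := by
  letI := Fintype.ofFinite Y
  letI := Fintype.ofFinite (Y.map (MulAut.conj g).toMonoidHom)
  simp only [nm, Finset.smul_prod']
  refine Fintype.prod_equiv (Y.equivMapOfInjective _ (MulAut.conj g).injective).toEquiv _ _
    fun z => ?_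
  show g • (z : H) • v = (g * z * g⁻¹) • g • v
  simp [mul_smul]

theorem smul_nm_of_norm {g : H} {Y : Subgroup H} (hg : g ∈ normalizer (Y : Set H)) (v : V) :
    g • nm Y v = nm Y (g • v) := by
  rw [smul_nm_conj, map_conj_eq_of_mem_normalizer hg]

/-- `Y` fixes a nontrivial element. -/
def HasFix (V : Type*) [CommGroup V] [MulDistribMulAction H V] (Y : Subgroup H) : Prop :=
  ∃ w : V, w ≠ 1 ∧ ∀ y ∈ Y, y • w = w

/-- The largest subgroups of `A` with a nontrivial fixed element. -/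
def Om (V : Type*) [CommGroup V] [MulDistribMulAction H V] (A : Subgroup H) : Set (Subgroup H) :=
  {Y | Y ≤ A ∧ HasFix V Y ∧ ∀ Y' ≤ A, HasFix V Y' → Nat.card Y' ≤ Nat.card Y}

theorem om_nonempty [Nontrivial V] (A : Subgroup H) : (Om V A).Nonempty := by
  obtain ⟨w, hw⟩ := exists_ne (1 : V)
  obtain ⟨Y, hY, hmax⟩ := Set.exists_max_image {Y : Subgroup H | Y ≤ A ∧ HasFix V Y}
    (fun Y => Nat.card Y) (Set.toFinite _) ⟨⊥, bot_le, w, hw, fun y hy => by
      rw [mem_bot.1 hy, one_smul]⟩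
  exact ⟨Y, hY.1, hY.2, fun Y' h1 h2 => hmax Y' ⟨h1, h2⟩⟩

theorem Om.le {A Y Y' : Subgroup H} (hY : Y ∈ Om V A) (hY' : Y' ≤ A) {w : V} (hw : w ≠ 1)
    (h1 : ∀ y ∈ Y, y • w = w) (h2 : ∀ y ∈ Y', y • w = w) : Y' ≤ Y := by
  have h3 : Y ⊔ Y' ≤ MulAction.stabilizer H w := sup_le h1 h2
  have := eq_of_le_of_card_le (le_sup_left : Y ≤ Y ⊔ Y')
    (hY.2.2 _ (sup_le hY.1 hY') ⟨w, hw, h3⟩)
  rw [this]
  exact le_sup_right

theorem Om.mem {A Y : Subgroup H} (hY : Y ∈ Om V A) {a : H} (ha : a ∈ A) {w : V} (hw : w ≠ 1)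
    (h1 : ∀ y ∈ Y, y • w = w) (h2 : a • w = w) : a ∈ Y :=
  Om.le hY (zpowers_le.2 ha) hw h1 (zpowers_le (H := MulAction.stabilizer H w).2 h2)
    (mem_zpowers a)

omit [Finite H] in
theorem HasFix.conj {Y : Subgroup H} (h : HasFix V Y) (g : H) :
    HasFix V (Y.map (MulAut.conj g).toMonoidHom) := by
  obtain ⟨w, hw, h⟩ := h
  refine ⟨g • w, fun e => hw (by rw [← inv_smul_smul g w, e, smul_one]), ?_⟩
  rintro _ ⟨y, hy, rfl⟩
  show (g * y * g⁻¹) • g • w = g • w
  simp [mul_smul, h y hy]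

omit [Finite H] in
theorem Om.conj {A Y : Subgroup H} (hY : Y ∈ Om V A) {g : H} (hg : g ∈ normalizer (A : Set H)) :
    Y.map (MulAut.conj g).toMonoidHom ∈ Om V A := by
  refine ⟨?_, hY.2.1.conj g, fun Y' h1 h2 => ?_⟩
  · rw [← map_conj_eq_of_mem_normalizer hg]; exact map_mono hY.1
  · rw [card_map_conj]; exact hY.2.2 Y' h1 h2

theorem Om.nm_eq_one {A Y Y' : Subgroup H} (hA : ∀ a ∈ A, ∀ b ∈ A, a * b = b * a)
    (hY : Y ∈ Om V A) (hY' : Y' ∈ Om V A) (hne : Y' ≠ Y) {w : V} (hw : ∀ y ∈ Y', y • w = w) :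
    nm Y w = 1 := by
  by_contra h
  refine hne (eq_of_le_of_card_le (Om.le hY hY'.1 h (fun y hy => smul_nm hy w) fun y hy => ?_)
    (hY'.2.2 _ hY.1 hY.2.1))
  rw [smul_nm_of_norm, hw y hy]
  apply mem_normalizer_of_conj_mem
  intro x hx
  rw [hA y (hY'.1 hy) x (hY.1 hx)]
  simpa using hx

theorem exists_vec [Finite V] {p : ℕ} [Fact p.Prime] (hV : (Nat.card V).Coprime p)
    {A : Subgroup H} (hAp : IsPGroup p A) (hA : ∀ a ∈ A, ∀ b ∈ A, a * b = b * a)
    (w : Subgroup H → V) (hw : ∀ Y ∈ Om V A, ∀ y ∈ Y, y • w Y = w Y) :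
    ∃ v : V, ∀ x ∈ normalizer (A : Set H), x • v = v → ∀ Y ∈ Om V A,
      x • w Y = w (Y.map (MulAut.conj x).toMonoidHom) := by
  classical
  let s := (Set.toFinite (Om V A)).toFinset
  have key : ∀ Y ∈ Om V A, nm Y (∏ Y' ∈ s, w Y') = w Y ^ Nat.card Y := by
    intro Y hY
    show nmHom Y _ = _
    rw [map_prod, Finset.prod_eq_single Y]
    · exact nm_of_fix (hw Y hY)
    · intro Y' hY' hne
      have hY'' : Y' ∈ Om V A := (Set.Finite.mem_toFinset _).1 hY'
      exact Om.nm_eq_one hA hY hY'' hne (hw Y' hY'')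
    · intro h
      exact absurd ((Set.Finite.mem_toFinset _).2 hY) h
  refine ⟨∏ Y' ∈ s, w Y', fun x hx e Y hY => ?_⟩
  have h1 := key _ (Om.conj hY hx)
  rw [← e, ← smul_nm_conj, key Y hY, card_map_conj, smul_pow'] at h1
  obtain ⟨k, hk⟩ := IsPGroup.iff_card.1 (hAp.to_le hY.1)
  have hc : (Nat.card V).Coprime (Nat.card Y) := by rw [hk]; exact hV.pow_right k
  exact (powCoprime hc).injective h1

/-- The action of a subgroup on an invariant subgroup. -/
@[reducible] def resAct (H₁ : Subgroup H) (W : Subgroup V) (h : ∀ g ∈ H₁, ∀ w ∈ W, g • w ∈ W) :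
    MulDistribMulAction H₁ W where
  smul g w := ⟨(g : H) • (w : V), h _ g.2 _ w.2⟩
  one_smul w := Subtype.ext (one_smul H (w : V))
  mul_smul a b w := Subtype.ext (mul_smul (a : H) (b : H) (w : V))
  smul_mul a v w := Subtype.ext (smul_mul' (a : H) (v : V) (w : V))
  smul_one a := Subtype.ext (smul_one (a : H))

/-- The fixed points of a subgroup. -/
def fx (V : Type*) [CommGroup V] [MulDistribMulAction H V] (Y : Subgroup H) : Subgroup V where
  carrier := {w | ∀ y ∈ Y, y • w = w}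
  one_mem' := fun y _ => smul_one y
  mul_mem' := fun {a b} ha hb y hy => by rw [smul_mul', ha y hy, hb y hy]
  inv_mem' := fun {a} ha y hy => by rw [smul_inv', ha y hy]

omit [Finite H] in
theorem fx_inv {Y : Subgroup H} : ∀ g ∈ normalizer (Y : Set H), ∀ w ∈ fx V Y, g • w ∈ fx V Y := by
  intro g hg w hw y hy
  have := hw _ (conj_mem_of_mem_normalizer' hg hy)
  conv_rhs => rw [← this]
  simp [mul_smul]

omit [Finite H] in
theorem hasFPF_of [Finite V] (E : Subgroup H) (W : Subgroup V) (hW : W ≠ ⊥)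
    (h : ∀ g ∈ E, ∀ w ∈ W, g • w ∈ W) (hf : ∀ g ∈ E, ∀ w ∈ W, w ≠ 1 → g • w = w → g = 1) :
    Frob.HasFPF E := by
  letI := resAct E W h
  have : Nontrivial W := (nontrivial_iff_ne_bot W).2 hW
  refine Frob.IsFPF.hasFPF (φ := MulDistribMulAction.toMulAut E W) ?_
  intro a ha v hv
  by_contra hv1
  exact ha (Subtype.ext (hf a a.2 v v.2 (fun e => hv1 (Subtype.ext e)) (congrArg Subtype.val hv)))

end

end CfsgLib.H5.Cover
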