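import Mathlib
import Cfsg.Agent.Lib.CoprimePGroup
import Cfsg.Agent.Lib.PGroupBasic
import Cfsg.Agent.Lib.CommCalc

/-! Thompson's critical subgroup (all primes) and its small-exponent version. -/

set_option autoImplicit false

namespace CfsgLib.H5
open Subgroup Cfsg
open scoped commutatorElement

variable {G : Type*} [Group G] [Finite G] {p : ℕ} [hp : Fact p.Prime]

theorem exists_critical (hG : IsPGroup p G) :
    ∃ K : Subgroup G, K.Characteristic ∧ ⁅K, ⊤⁆ ≤ centralizer (K : Set G) ∧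
      centralizer (K : Set G) ≤ K ∧ ∀ x ∈ K, x ^ p ∈ centralizer (K : Set G) := by
  obtain ⟨K, ⟨hK1, hK2, hK3⟩, hmax⟩ := exists_maximal_of_wellFoundedGT
    (fun K : Subgroup G => K.Characteristic ∧ ⁅K, ⊤⁆ ≤ centralizer (K : Set G) ∧
      ∀ x ∈ K, x ^ p ∈ centralizer (K : Set G))
    ⟨⊥, inferInstance, by simp, by simp⟩
  refine ⟨K, hK1, hK2, ?_, hK3⟩
  by_contra hC
  let Z : Subgroup G := K ⊓ centralizer (K : Set G)
  have hZc : Z.Characteristic := inferInstance
  have hmul : ∀ a b : G, (∀ g, ⁅a, g⁆ ∈ Z) → a ^ p ∈ Z → b ^ p ∈ Z → (a * b) ^ p ∈ Z := by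
    intro a b h ha hb
    have h1 : Commute (a : G ⧸ Z) b := by
      have := h b
      rwa [← QuotientGroup.eq_one_iff, ← QuotientGroup.mk'_apply, map_commutatorElement,
        commutatorElement_eq_one_iff_mul_comm] at this
    rw [← QuotientGroup.eq_one_iff] at ha hb ⊢
    rw [QuotientGroup.mk_pow] at ha hb ⊢
    rw [QuotientGroup.mk_mul, h1.mul_pow, ha, hb, one_mul]
  let X : Subgroup G :=
    { carrier := {x | x ∈ centralizer (K : Set G) ∧ (∀ g, ⁅x, g⁆ ∈ Z) ∧ x ^ p ∈ Z}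
      one_mem' := ⟨one_mem _, by simp, by simp⟩
      mul_mem' := fun {a b} ha hb => ⟨mul_mem ha.1 hb.1, fun g => by
        have : ⁅a * b, g⁆ = a * ⁅b, g⁆ * a⁻¹ * ⁅a, g⁆ := by group
        exact this ▸ mul_mem (Normal.conj_mem inferInstance _ (hb.2.1 g) a) (ha.2.1 g),
        hmul a b ha.2.1 ha.2.2 hb.2.2⟩
      inv_mem' := fun {a} ha => ⟨inv_mem ha.1, fun g => by
        have : ⁅a⁻¹, g⁆ = a⁻¹ * ⁅a, g⁆⁻¹ * a⁻¹⁻¹ := by group
        exact this ▸ Normal.conj_mem inferInstance _ (inv_mem (ha.2.1 g)) _,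
        by rw [inv_pow]; exact inv_mem ha.2.2⟩ }
  have hXc : X.Characteristic := by
    refine characteristic_iff_le_comap.2 fun φ x hx => ?_
    obtain ⟨h1, h2, h3⟩ := hx
    refine ⟨characteristic_iff_le_comap.1 inferInstance φ h1, fun g => ?_, ?_⟩
    · obtain ⟨g, rfl⟩ := φ.surjective g
      have := characteristic_iff_le_comap.1 hZc φ (h2 g)
      rwa [mem_comap, map_commutatorElement] at this
    · have := characteristic_iff_le_comap.1 hZc φ h3
      rwa [mem_comap, map_pow] at this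
  have h1 : ⁅K ⊔ X, ⊤⁆ ≤ Z := by
    rw [CommCalc.commutator_sup_left]
    exact sup_le (le_inf (commutator_le_left _ _) hK2)
      (commutator_le.2 fun x hx g _ => hx.2.1 g)
  have h2 : Z ≤ centralizer ((K ⊔ X : Subgroup G) : Set G) := by
    rw [le_centralizer_iff]
    exact sup_le (le_centralizer_iff.1 inf_le_right)
      fun x hx => centralizer_le (inf_le_left : Z ≤ K) hx.1
  have h3 : X ≤ K := le_sup_right.trans (hmax ⟨inferInstance, h1.trans h2, fun x hx => by
    obtain ⟨a, ha, b, hb, rfl⟩ := mem_sup_of_normal_right.mp hx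
    exact h2 (hmul a b (fun g => h1 (commutator_mem_commutator (mem_sup_left ha) (mem_top g)))
      ⟨pow_mem ha p, hK3 a ha⟩ hb.2.2)⟩ le_sup_left)
  obtain ⟨x, hx1, hx2, hx3, hx4⟩ := PGrp.exists_central_mod_pow_mem hG Z (centralizer (K : Set G))
    fun h => hC (h.trans inf_le_left)
  exact hx2 ⟨h3 ⟨hx1, hx4, hx3⟩, hx1⟩

/-- A `p`-subgroup `P` has a subgroup `H` of exponent `p` (or `4`), normalized by `N(P)`, such that
every `p'`-subgroup of `N(P)` centralizing `H` centralizes `P`. -/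
theorem exists_small_exponent_critical {P : Subgroup G} (hP : IsPGroup p P) :
    ∃ H : Subgroup G, H ≤ P ∧ normalizer (P : Set G) ≤ normalizer (H : Set G) ∧
      (∀ x ∈ H, x ^ (if p = 2 then 4 else p) = 1) ∧ ⁅H, P⁆ ≤ centralizer (H : Set G) ∧
      ∀ A : Subgroup G, A ≤ normalizer (P : Set G) → (Nat.card A).Coprime p → ⁅H, A⁆ = ⊥ →
        ⁅P, A⁆ = ⊥ := by
  obtain ⟨K0, hK1, hK2, hK3, hK4⟩ := exists_critical hP
  set K := K0.map P.subtype with hK
  have hKP : K ≤ P := map_subtype_le _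
  have hN := normalizer_le_normalizer_map_subtype_of_characteristic P K0
  have hc : ∀ x ∈ K, ∀ y ∈ P, ∀ z ∈ K, Commute ⁅x, y⁆ z := by
    rintro _ ⟨x, hx, rfl⟩ y hy _ ⟨z, hz, rfl⟩
    exact (congrArg Subtype.val (hK2 (commutator_mem_commutator hx (mem_top ⟨y, hy⟩)) z hz)).symm
  have hpc : ∀ x ∈ K, ∀ y ∈ K, ⁅x, y⁆ ^ p = 1 := by
    intro x hx y hy
    rw [← PGrp.commutatorElement_pow_left (hc x hx y (hKP hy) x hx),
      commutatorElement_eq_one_iff_mul_comm]
    obtain ⟨x, hx, rfl⟩ := hx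
    obtain ⟨y, hy, rfl⟩ := hy
    exact (congrArg Subtype.val (hK4 x hx y hy)).symm
  set e := if p = 2 then 4 else p with he
  have hpe : p ∣ e.choose 2 := by
    by_cases h : p = 2
    · simp [he, h]
      decide
    · simp only [he, h, if_false]
      exact hp.out.dvd_choose_self two_ne_zero (lt_of_le_of_ne hp.out.two_le (Ne.symm h))
  let H : Subgroup G :=
    { carrier := {x | x ∈ K ∧ x ^ e = 1}
      one_mem' := ⟨K.one_mem, one_pow e⟩
      mul_mem' := fun {a b} ha hb => ⟨K.mul_mem ha.1 hb.1, by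
        obtain ⟨c, hc'⟩ := hpe
        rw [PGrp.mul_pow_eq_of_commute_commutator (hc b hb.1 a (hKP ha.1) a ha.1)
          (hc b hb.1 a (hKP ha.1) b hb.1), ha.2, hb.2, hc', pow_mul, hpc b hb.1 a ha.1]
        simp⟩
      inv_mem' := fun {a} ha => ⟨K.inv_mem ha.1, by rw [inv_pow, ha.2, inv_one]⟩ }
  refine ⟨H, fun x hx => hKP hx.1, fun g hg => mem_normalizer_of_conj_mem fun x hx =>
    ⟨conj_mem_of_mem_normalizer (hN hg) hx.1, by rw [conj_pow, hx.2]; simp⟩, fun x hx => hx.2,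
    commutator_le.2 fun x hx y hy z hz => (hc x hx.1 y hy z hz.1).symm, fun A hA hAp hH => ?_⟩
  have hKp : IsPGroup p K := hP.to_le hKP
  have hH' := le_centralizer_iff.mp (Cop.commutator_eq_bot_iff_le_centralizer'.mp hH)
  refine Cop.commutator_eq_bot_of_centralizer_le hA (le_normalizer.trans hN) ?_ ?_
    (Cop.coprime_card_of_isPGroup hAp hKp)
  · rintro x ⟨hx1, hx2⟩
    exact ⟨⟨x, hx1⟩, hK3 fun y hy => Subtype.ext (hx2 y (mem_map_of_mem _ hy)), rfl⟩
  · by_cases h : p = 2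
    · exact Cop.commutator_eq_bot_of_centralizes_omega_two hKp (hA.trans hN) hAp fun x hx h1 =>
        hH' ⟨hx, by simpa [he, h] using h1⟩
    · exact Cop.commutator_eq_bot_of_centralizes_omega_odd h hKp (hA.trans hN) hAp fun x hx h1 =>
        hH' ⟨hx, by simpa [he, h] using h1⟩

end CfsgLib.H5
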