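import Mathlib
import Cfsg.Agent.Lib.H5ConjPSub
import Cfsg.Agent.Lib.H5Count
import Cfsg.Agent.Lib.H5Involutions
import Cfsg.Agent.Lib.Extraspecial

/-! Non-abelian subgroups of order `p ^ 3` and the exclusion of such Sylow subgroups. -/

set_option autoImplicit false

namespace CfsgLib.H5

open Subgroup Cfsg
open scoped commutatorElement

variable {G : Type*} [Group G] {p : ℕ}

/-- `P` is non-abelian of order `p ^ 3` with centre generated by `z`. -/
structure Cube (p : ℕ) (P : Subgroup G) (z : G) : Prop where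
  mem : z ∈ P
  ord : orderOf z = p
  card : Nat.card P = p ^ 3
  cent : ∀ x ∈ P, (∀ y ∈ P, y * x = x * y) ↔ x ∈ zpowers z
  comm : ∀ x ∈ P, ∀ y ∈ P, ⁅x, y⁆ ∈ zpowers z

theorem card_center_of_card_cube {X : Type*} [Group X] [hp : Fact p.Prime]
    (h : Nat.card X = p ^ 3) (hna : ¬ IsMulCommutative X) :
    Nat.card (center X) = p ∧ ∀ x y : X, ⁅x, y⁆ ∈ center X := by
  have : Finite X := Nat.finite_of_card_ne_zero (h ▸ pow_ne_zero _ hp.out.ne_zero)
  have : Nontrivial X := by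
    by_contra h0
    rw [not_nontrivial_iff_subsingleton] at h0
    exact hna ⟨⟨fun a b => Subsingleton.elim _ _⟩⟩
  obtain ⟨k, hk0, hk⟩ := IsPGroup.card_center_eq_prime_pow h (by norm_num)
  have h1 := card_mul_index (center X)
  have hk3 : k ≤ 3 := (Nat.pow_dvd_pow_iff_le_right hp.out.one_lt).mp
    (hk ▸ h ▸ card_subgroup_dvd_card _)
  have h2 : (center X).index = p ^ (3 - k) := by
    rw [hk, h, show 3 = k + (3 - k) by omega, pow_add] at h1
    simpa using Nat.eq_of_mul_eq_mul_left (pow_pos hp.out.pos _) h1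
  have h3 : k = 1 := by
    by_contra h0
    have : IsCyclic (X ⧸ center X) := by
      refine isCyclic_of_card_dvd_prime (p := p) ?_
      rw [← index_eq_card, h2]
      exact (pow_dvd_pow p (by omega)).trans (pow_one p).dvd
    exact hna (isMulCommutative_of_isCyclic_quotient_center_self X)
  subst h3
  refine ⟨by simpa using hk, fun x y => ?_⟩
  have : IsMulCommutative (X ⧸ center X) := IsPGroup.isMulCommutative_of_card_eq_prime_sq h2
  rw [← QuotientGroup.eq_one_iff, ← QuotientGroup.mk'_apply, map_commutatorElement,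
    commutatorElement_eq_one_iff_mul_comm]
  exact this.is_comm.comm _ _

theorem exists_cube [Finite G] [hp : Fact p.Prime] {P : Subgroup G} (h : Nat.card P = p ^ 3)
    (hna : ¬ IsMulCommutative P) : ∃ z, Cube p P z := by
  obtain ⟨h1, h2⟩ := card_center_of_card_cube h hna
  obtain ⟨⟨⟨z, hz⟩, hzc⟩, hzo⟩ := exists_prime_orderOf_dvd_card' (G := center P) p h1.symm.dvd
  rw [orderOf_mk] at hzo
  have hz1 : (⟨z, hz⟩ : P) ≠ 1 := fun h => by simp [h, hp.out.one_lt.ne] at hzo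
  have h3 : ∀ x : P, x ∈ center P → (x : G) ∈ zpowers z := fun x hx => by
    obtain ⟨m, hm⟩ := PGrp.mem_zpowers_of_card_eq_prime h1 hzc hz1 hx
    exact ⟨m, congrArg Subtype.val hm⟩
  refine ⟨z, hz, by simpa using hzo, h, fun x hx => ⟨fun hc => h3 ⟨x, hx⟩
    (mem_center_iff.mpr fun y => Subtype.ext (hc y y.2)), ?_⟩,
    fun x hx y hy => h3 _ (h2 ⟨x, hx⟩ ⟨y, hy⟩)⟩
  rintro ⟨m, rfl⟩ y hy
  exact ((show Commute y z from congrArg Subtype.val
    (mem_center_iff.mp hzc ⟨y, hy⟩)).zpow_right m).eq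

namespace Cube

variable {P : Subgroup G} {z : G}

theorem ne_one [hp : Fact p.Prime] (h : Cube p P z) : z ≠ 1 := fun h0 =>
  hp.out.one_lt.ne (by simpa [h0] using h.ord)

theorem zpowers_le' (h : Cube p P z) : zpowers z ≤ P := zpowers_le.mpr h.mem

theorem commute (h : Cube p P z) {x c : G} (hx : x ∈ P) (hc : c ∈ zpowers z) : Commute x c :=
  (h.cent c (h.zpowers_le' hc)).mpr hc x hx

theorem map_conj (h : Cube p P z) (g : G) :
    Cube p (P.map (MulAut.conj g).toMonoidHom) (g * z * g⁻¹) := by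
  have h1 : zpowers (g * z * g⁻¹) = (zpowers z).map (MulAut.conj g).toMonoidHom :=
    (MonoidHom.map_zpowers (MulAut.conj g).toMonoidHom z).symm
  refine ⟨conj_mem_map_conj h.mem, (orderOf_conj' g z).trans h.ord,
    (card_map_conj g P).trans h.card, ?_, ?_⟩
  · rintro _ ⟨x, hx, rfl⟩
    rw [h1, mem_map_iff_mem (MulAut.conj g).injective, ← h.cent x hx]
    constructor
    · intro h2 y hy
      apply (MulAut.conj g).injective
      rw [map_mul, map_mul]
      exact h2 _ ⟨y, hy, rfl⟩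
    · rintro h2 _ ⟨y, hy, rfl⟩
      rw [← map_mul, ← map_mul, h2 y hy]
  · rintro _ ⟨x, hx, rfl⟩ _ ⟨y, hy, rfl⟩
    rw [h1, ← map_commutatorElement]
    exact mem_map_of_mem _ (h.comm x hx y hy)

theorem of_mem [Finite G] [hp : Fact p.Prime] (h : Cube p P z) {c : G} (hc : c ∈ zpowers z)
    (hc1 : c ≠ 1) : Cube p P c := by
  have h1 : zpowers c = zpowers z := le_antisymm (zpowers_le.mpr hc) fun d hd =>
    PGrp.mem_zpowers_of_card_eq_prime (by rw [Nat.card_zpowers, h.ord]) hc hc1 hd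
  refine ⟨h.zpowers_le' hc, ?_, h.card, h1 ▸ h.cent, h1 ▸ h.comm⟩
  rw [← Nat.card_zpowers, h1, Nat.card_zpowers, h.ord]

theorem exists_commutator_eq [hp : Fact p.Prime] (h : Cube p P z) {b c : G} (hb : b ∈ P)
    (hbz : b ∉ zpowers z) (hc : c ∈ zpowers z) : ∃ u ∈ P, u * b * u⁻¹ = c * b := by
  obtain ⟨w, hw, hwb⟩ : ∃ w ∈ P, w * b ≠ b * w := by
    by_contra h0
    push Not at h0
    exact hbz ((h.cent b hb).mp h0)
  obtain ⟨m, hm⟩ := PGrp.mem_zpowers_of_card_eq_prime (by rw [Nat.card_zpowers, h.ord])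
    (h.comm w hw b hb) (fun h0 => hwb (commutatorElement_eq_one_iff_mul_comm.mp h0)) hc
  refine ⟨w ^ m, zpow_mem hw m, ?_⟩
  have h1 := PGrp.commutatorElement_zpow_left (h.commute hw (h.comm w hw b hb)).symm m
  simp only at hm
  rw [← hm, ← h1, commutatorElement_def, inv_mul_cancel_right]

theorem inf_centralizer_eq [Finite G] [hp : Fact p.Prime] (h : Cube p P z) {b : G} (hb : b ∈ P)
    (hbz : b ∉ zpowers z) {V : Subgroup G} (hV : Nat.card V = p ^ 2)
    (hle : V ≤ P ⊓ centralizer {b}) : V = P ⊓ centralizer {b} := by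
  refine eq_of_le_of_card_le hle ?_
  have h1 : P ⊓ centralizer {b} < P := by
    refine lt_of_le_of_ne inf_le_left fun h0 => hbz ((h.cent b hb).mp fun y hy => ?_)
    exact mem_centralizer_singleton_iff.mp (h0.ge hy).2
  have h2 := PGrp.mul_card_le_card_of_lt (IsPGroup.of_card h.card) h1
  rw [h.card, pow_succ'] at h2
  exact hV ▸ Nat.le_of_mul_le_mul_left h2 hp.out.pos

theorem sup_eq [Finite G] [hp : Fact p.Prime] (h : Cube p P z) {b : G} (hb : b ∈ P)
    (hbz : b ∉ zpowers z) (hbp : b ^ p = 1) :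
    zpowers z ⊔ zpowers b = P ⊓ centralizer {b} ∧
      Nat.card (P ⊓ centralizer {b} : Subgroup G) = p ^ 2 := by
  have h1 := PGrp.card_sup_zpowers_of_commute h.ord hbp hbz (h.commute hb (mem_zpowers z)).symm
  have h2 := h.inf_centralizer_eq hb hbz h1 (sup_le
    (zpowers_le.mpr ⟨h.mem, mem_centralizer_singleton_iff.mpr
      (h.commute hb (mem_zpowers z)).eq.symm⟩)
    (zpowers_le.mpr ⟨hb, mem_centralizer_singleton_iff.mpr rfl⟩))
  exact ⟨h2, h2 ▸ h1⟩

theorem le_normalizer_of_le (h : Cube p P z) {V : Subgroup G} [Finite G] (h1 : z ∈ V)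
    (h2 : V ≤ P) : P ≤ normalizer (V : Set G) := by
  intro g hg
  refine mem_normalizer_of_conj_mem fun x hx => ?_
  have : g * x * g⁻¹ = ⁅g, x⁆ * x := by rw [commutatorElement_def, inv_mul_cancel_right]
  rw [this]
  exact mul_mem (zpowers_le.mpr h1 (h.comm g hg x (h2 hx))) hx

theorem conj_mem_zpowers_iff (h : Cube p P z) {n x : G} (hn : n ∈ normalizer (P : Set G))
    (hx : x ∈ P) : n * x * n⁻¹ ∈ zpowers z ↔ x ∈ zpowers z := by
  rw [← h.cent x hx, ← h.cent _ (conj_mem_of_mem_normalizer hn hx)]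
  constructor
  · intro h1 y hy
    have := h1 _ (conj_mem_of_mem_normalizer hn hy)
    rw [conj_mul, conj_mul] at this
    exact conj_injective this
  · intro h1 y hy
    have := h1 _ (conj_mem_of_mem_normalizer' hn hy)
    calc y * (n * x * n⁻¹) = n * (n⁻¹ * y * n * x) * n⁻¹ := by group
      _ = _ := by rw [this]; group

end Cube

theorem inverts_pow_odd {s x : G} (h : s * x * s⁻¹ = x⁻¹) {m : ℕ} (hm : Odd m) :
    s ^ m * x * (s ^ m)⁻¹ = x⁻¹ := by
  obtain ⟨k, rfl⟩ := hm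
  have h1 := mem_centralizer_singleton_iff.mp (pow_mem (sq_mem_centralizer_of_inverts h) k)
  calc s ^ (2 * k + 1) * x * (s ^ (2 * k + 1))⁻¹
      = s * ((s ^ 2) ^ k * x) * ((s ^ 2) ^ k)⁻¹ * s⁻¹ := by rw [pow_succ', pow_mul]; group
    _ = x⁻¹ := by rw [h1, ← h]; group

/-- If `p`-subgroups of equal order are conjugate and a Sylow `p`-subgroup is non-abelian of
order `p ^ 3` and exponent `p`, each of its subgroups of order `p ^ 2` is inverted by a
`2`-element of the normalizer of the Sylow subgroup. -/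
theorem ConjPSub.exists_inverts [Finite G] [hp : Fact p.Prime] (hC : ConjPSub p G) (P : Sylow p G)
    {z b : G} (h : Cube p (P : Subgroup G) z) (hb : b ∈ (P : Subgroup G)) (hbz : b ∉ zpowers z)
    (hbp : b ^ p = 1) : ∃ t ∈ normalizer ((P : Subgroup G) : Set G), (∃ k, orderOf t = 2 ^ k) ∧
      ∀ v ∈ (P : Subgroup G) ⊓ centralizer {b}, t * v * t⁻¹ = v⁻¹ := by
  obtain ⟨hV, hVc⟩ := h.sup_eq hb hbz hbp
  set V := (P : Subgroup G) ⊓ centralizer {b} with hVdef
  have hVab : IsMulCommutative V := IsPGroup.isMulCommutative_of_card_eq_prime_sq hVc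
  have hVab' := PGrp.isMulCommutative_iff_forall.mp hVab
  have hzV : z ∈ V := hV ▸ mem_sup_left (mem_zpowers z)
  have hbV : b ∈ V := hV ▸ mem_sup_right (mem_zpowers b)
  have hb1 : b ≠ 1 := fun h0 => hbz (h0 ▸ one_mem _)
  have hbo : orderOf b = p := orderOf_eq_prime hbp hb1
  -- a Sylow subgroup with centre generated by `b` containing `V`
  obtain ⟨P', hP', hVP'⟩ : ∃ P' : Subgroup G, Cube p P' b ∧ V ≤ P' := by
    obtain ⟨g, hg⟩ := hC.exists_conj_mem_zpowers hbo h.ord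
    have h1 := (h.of_mem hg (fun h0 => hb1 (conj_eq_one_iff.mp h0))).map_conj g⁻¹
    rw [show g⁻¹ * (g * b * g⁻¹) * g⁻¹⁻¹ = b by group] at h1
    have h2 : IsSylowIn p ((P : Subgroup G).map (MulAut.conj g⁻¹).toMonoidHom)
        (centralizer {b}) := by
      rw [← sylow_coe_smul_eq_map] at h1 ⊢
      exact IsSylowIn.of_sylow _ fun x hx =>
        mem_centralizer_singleton_iff.mpr (h1.commute hx (mem_zpowers b)).eq
    obtain ⟨c, hc, hcV⟩ := h2.exists_conj_le (IsPGroup.of_card hVc) inf_le_right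
    have h3 := h1.map_conj c⁻¹
    rw [show c⁻¹ * b * c⁻¹⁻¹ = b by
      rw [inv_inv, mul_assoc, ← mem_centralizer_singleton_iff.mp hc, inv_mul_cancel_left]] at h3
    refine ⟨_, h3, ?_⟩
    rw [← map_conj_inv_map_conj c V]
    exact map_mono hcV
  have hzb : z ∉ zpowers b := fun h0 => hbz (PGrp.mem_zpowers_of_card_eq_prime
    (by rw [Nat.card_zpowers, hbo]) h0 h.ne_one (mem_zpowers b))
  obtain ⟨a, ha, hab⟩ := h.exists_commutator_eq hb hbz (mem_zpowers z)
  obtain ⟨e, he, hez⟩ := hP'.exists_commutator_eq (hVP' hzV) hzb (inv_mem (mem_zpowers b))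
  have haz : a * z * a⁻¹ = z := by rw [(h.commute ha (mem_zpowers z)).eq, mul_inv_cancel_right]
  have heb : e * b * e⁻¹ = b := by rw [(hP'.commute he (mem_zpowers b)).eq, mul_inv_cancel_right]
  have hzb' : z * b = b * z := hVab' z hzV b hbV
  set w := a * e * a with hw
  have hwz : w * z * w⁻¹ = b⁻¹ := by
    calc w * z * w⁻¹ = a * (e * (a * z * a⁻¹) * e⁻¹) * a⁻¹ := by rw [hw]; group
      _ = a * (b⁻¹ * z) * a⁻¹ := by rw [haz, hez]
      _ = (a * b * a⁻¹)⁻¹ * (a * z * a⁻¹) := by group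
      _ = b⁻¹ := by rw [hab, haz]; group
  have hwb : w * b * w⁻¹ = z := by
    calc w * b * w⁻¹ = a * (e * (a * b * a⁻¹) * e⁻¹) * a⁻¹ := by rw [hw]; group
      _ = a * ((e * z * e⁻¹) * (e * b * e⁻¹)) * a⁻¹ := by rw [hab]; group
      _ = a * (b⁻¹ * (z * b)) * a⁻¹ := by rw [hez, heb]; group
      _ = z := by rw [hzb', inv_mul_cancel_left, haz]
  have hs : ∀ v ∈ V, w * w * v * (w * w)⁻¹ = v⁻¹ := by
    have h1 : w * w * z * (w * w)⁻¹ = z⁻¹ := by
      calc w * w * z * (w * w)⁻¹ = w * (w * z * w⁻¹) * w⁻¹ := by group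
        _ = (w * b * w⁻¹)⁻¹ := by rw [hwz]; group
        _ = _ := by rw [hwb]
    have h2 : w * w * b * (w * w)⁻¹ = b⁻¹ := by
      calc w * w * b * (w * w)⁻¹ = w * (w * b * w⁻¹) * w⁻¹ := by group
        _ = _ := by rw [hwb, hwz]
    intro v hv
    rw [← hV, mem_sup_iff_of_le_normalizer (zpowers_le.mpr (mem_normalizer_zpowers_of_conj_mem
      (by rw [hzb', mul_inv_cancel_right]; exact mem_zpowers b)))] at hv
    obtain ⟨x, hx, y, hy, rfl⟩ := hv
    rw [← conj_mul, inverts_of_mem_zpowers h1 hx, inverts_of_mem_zpowers h2 hy, ← mul_inv_rev,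
      hVab' x (zpowers_le.mpr hzV hx) y (zpowers_le.mpr hbV hy)]
  set s := w * w with hsdef
  have hs' : ∀ v ∈ V, s⁻¹ * v * s = v⁻¹ := fun v hv => by
    calc s⁻¹ * v * s = s⁻¹ * (s * v⁻¹ * s⁻¹) * s := by rw [hs _ (inv_mem hv), inv_inv]
      _ = _ := by group
  have hsN : s ∈ normalizer (V : Set G) :=
    mem_normalizer_of_conj_mem fun v hv => hs v hv ▸ inv_mem hv
  have hPN : (P : Subgroup G) ≤ normalizer (V : Set G) := h.le_normalizer_of_le hzV inf_le_left
  have hPN' := hPN.trans (normalizer_le_normalizer_centralizer' V)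
  have hsK : s ∈ normalizer (((P : Subgroup G) ⊔ centralizer (V : Set G) : Subgroup G) : Set G) := by
    refine mem_normalizer_of_conj_mem fun k hk => ?_
    obtain ⟨u, hu, c, hc, rfl⟩ := (mem_sup_iff_of_le_normalizer hPN').mp hk
    rw [← conj_mul]
    refine mul_mem ?_ (mem_sup_right
      (conj_mem_of_mem_normalizer (normalizer_le_normalizer_centralizer' V hsN) hc))
    rw [show s * u * s⁻¹ = (s * u * s⁻¹ * u⁻¹) * u by group]
    refine mul_mem (mem_sup_right fun v hv => ?_) (mem_sup_left hu)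
    have h1 := hs' _ (conj_mem_of_mem_normalizer' (hPN hu) hv)
    have h2 := hs v hv
    calc v * (s * u * s⁻¹ * u⁻¹) = (s * v * s⁻¹)⁻¹⁻¹⁻¹ * (s * u * s⁻¹ * u⁻¹) := by
          rw [h2]; simp
      _ = s * u * (u⁻¹ * v * u)⁻¹ * s⁻¹ * u⁻¹ := by group
      _ = _ := by rw [← h1]; group
  obtain ⟨k, hk, hks⟩ := (IsSylowIn.of_sylow P le_sup_left).frattini_elem hsK
  obtain ⟨u, hu, c, hc, rfl⟩ := (mem_sup_iff_of_le_normalizer hPN').mp hk
  have h1 : c * s ∈ normalizer ((P : Subgroup G) : Set G) := by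
    have := mul_mem (inv_mem (le_normalizer hu)) hks
    rwa [mul_assoc u, inv_mul_cancel_left] at this
  obtain ⟨j, m, hm, hjm⟩ := Nat.exists_eq_two_pow_mul_odd (orderOf_pos (c * s)).ne'
  refine ⟨(c * s) ^ m, pow_mem h1 m, ?_, fun v hv => inverts_pow_odd ?_ hm⟩
  · obtain ⟨i, -, hi⟩ := (Nat.dvd_prime_pow Nat.prime_two).mp (orderOf_dvd_of_pow_eq_one
      (show ((c * s) ^ m) ^ 2 ^ j = 1 by rw [← pow_mul, mul_comm m, ← hjm, pow_orderOf_eq_one]))
    exact ⟨i, hi⟩
  · calc c * s * v * (c * s)⁻¹ = c * (s * v * s⁻¹) * c⁻¹ := by group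
      _ = v⁻¹ := by rw [hs v hv, ← hc _ (inv_mem hv), mul_inv_cancel_right]

theorem ConjPSub.false_of_cube [Finite G] [hp : Fact p.Prime] (hp2 : p ≠ 2) (hC : ConjPSub p G)
    (P : Sylow p G) {z : G} (h : Cube p (P : Subgroup G) z)
    (hexp : ∀ x ∈ (P : Subgroup G), x ^ p = 1)
    (h2 : ∀ T : Subgroup G, IsPGroup 2 T → ∀ y ∈ T, ∀ t ∈ T, y⁻¹ * t * y = t ∨ y⁻¹ * t * y = t⁻¹) :
    False := by
  have hp1 := hp.out.one_lt
  obtain ⟨b, hb, hbz⟩ : ∃ b ∈ (P : Subgroup G), b ∉ zpowers z := by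
    by_contra h0
    push Not at h0
    have := card_le_of_le (show (P : Subgroup G) ≤ zpowers z from h0)
    rw [h.card, Nat.card_zpowers, h.ord] at this
    nlinarith [Nat.pow_lt_pow_right hp1 (show 1 < 3 by norm_num)]
  obtain ⟨t, htN, ⟨k, hk⟩, ht⟩ := hC.exists_inverts P h hb hbz (hexp b hb)
  obtain ⟨hV, hVc⟩ := h.sup_eq hb hbz (hexp b hb)
  set V := (P : Subgroup G) ⊓ centralizer {b} with hVdef
  set N := normalizer ((P : Subgroup G) : Set G) with hNdef
  have hVab : IsMulCommutative V := IsPGroup.isMulCommutative_of_card_eq_prime_sq hVc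
  have hVab' := PGrp.isMulCommutative_iff_forall.mp hVab
  have hzV : z ∈ V := hV ▸ mem_sup_left (mem_zpowers z)
  have hbV : b ∈ V := hV ▸ mem_sup_right (mem_zpowers b)
  have hVs : ∀ s ∈ V, s ∉ zpowers z → V = (P : Subgroup G) ⊓ centralizer {s} :=
    fun s hs hsz => h.inf_centralizer_eq hs.1 hsz hVc
      fun v hv => ⟨hv.1, mem_centralizer_singleton_iff.mpr (hVab' v hv s hs)⟩
  have hinv : ∀ x ∈ (P : Subgroup G), t * x * t⁻¹ = x⁻¹ → x ∈ V := by
    intro x hx hxt
    have hc := h.comm x hx b hb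
    have h3 : t * ⁅x, b⁆ * t⁻¹ = ⁅x, b⁆ := by
      rw [conjugate_commutatorElement, hxt, ht b hbV]
      have h4 := (h.commute (mul_mem hb hx) hc).eq
      calc ⁅x⁻¹, b⁻¹⁆ = (b * x)⁻¹ * (⁅x, b⁆ * (b * x)) := by
            simp only [commutatorElement_def]; group
        _ = _ := by rw [← h4]; group
    rw [ht _ (zpowers_le.mpr hzV hc)] at h3
    have h4 : ⁅x, b⁆ ^ 2 = 1 := by rw [pow_two]; exact mul_eq_one_iff_inv_eq.mpr h3
    have h5 := pow_gcd_eq_one.mpr ⟨h4, hexp _ (h.zpowers_le' hc)⟩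
    rw [(Nat.coprime_primes Nat.prime_two hp.out).mpr hp2.symm, pow_one] at h5
    exact ⟨hx, mem_centralizer_singleton_iff.mpr (commutatorElement_eq_one_iff_mul_comm.mp h5)⟩
  obtain ⟨T, htT, hT⟩ := IsSylowIn.exists_ge (isPGroup_zpowers_iff.mpr ⟨k, hk⟩)
    (zpowers_le.mpr htN)
  have hTV : T ≤ normalizer (V : Set G) := by
    intro y hy
    refine mem_normalizer_of_conj_mem fun v hv => hinv _
      (conj_mem_of_mem_normalizer (hT.le hy) hv.1) ?_
    have h3 : (y⁻¹ * t * y) * v * (y⁻¹ * t * y)⁻¹ = v⁻¹ := by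
      rcases h2 T hT.isPGroup y hy t (htT (mem_zpowers t)) with h3 | h3 <;> rw [h3]
      · exact ht v hv
      · calc t⁻¹ * v * t⁻¹⁻¹ = t⁻¹ * (t * v⁻¹ * t⁻¹) * t := by rw [ht _ (inv_mem hv)]; group
          _ = _ := by group
    calc t * (y * v * y⁻¹) * t⁻¹ = y * ((y⁻¹ * t * y) * v * (y⁻¹ * t * y)⁻¹) * y⁻¹ := by group
      _ = _ := by rw [h3]; group
  have hcount := ncard_conj_of_TI N (normalizer (V : Set G)) ((V : Set G) \ (zpowers z : Set G))
    (fun m hm hmV s hs => ⟨conj_mem_of_mem_normalizer hmV hs.1,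
      fun h0 => hs.2 ((h.conj_mem_zpowers_iff hm hs.1.1).mp h0)⟩)
    (fun n hn s hs hns => mem_normalizer_of_conj_mem fun v hv => by
      rw [hVs _ hns.1 hns.2]
      refine ⟨conj_mem_of_mem_normalizer hn hv.1, mem_centralizer_singleton_iff.mpr ?_⟩
      rw [conj_mul, conj_mul, hVab' v hv s hs.1])
  have hset : {x | ∃ n ∈ N, ∃ s ∈ (V : Set G) \ (zpowers z : Set G), n * s * n⁻¹ = x} =
      ((P : Subgroup G) : Set G) \ (zpowers z : Set G) := by
    ext x
    constructor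
    · rintro ⟨n, hn, s, hs, rfl⟩
      exact ⟨conj_mem_of_mem_normalizer hn hs.1.1,
        fun h0 => hs.2 ((h.conj_mem_zpowers_iff hn hs.1.1).mp h0)⟩
    · rintro ⟨hx, hxz⟩
      obtain ⟨hW, hWc⟩ := h.sup_eq hx hxz (hexp x hx)
      set W := (P : Subgroup G) ⊓ centralizer {x} with hWdef
      obtain ⟨g, hg⟩ := hC V W (IsPGroup.of_card hVc) (IsPGroup.of_card hWc) (hVc.trans hWc.symm)
      have h3 : IsSylowIn p (P : Subgroup G) (normalizer (W : Set G)) := IsSylowIn.of_sylow P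
        (h.le_normalizer_of_le (hW ▸ mem_sup_left (mem_zpowers z)) inf_le_left)
      have h4 : IsSylowIn p ((P : Subgroup G).map (MulAut.conj g).toMonoidHom)
          (normalizer (W : Set G)) := by
        rw [hg, normalizer_map_conj]
        exact (IsSylowIn.of_sylow P (h.le_normalizer_of_le hzV inf_le_left)).map_conj g
      obtain ⟨m, hm, hmP⟩ := h3.exists_conj_eq h4
      rw [← map_conj_mul] at hmP
      have hn : m * g ∈ N := mem_normalizer_of_map_conj_eq hmP
      have h5 : (m * g)⁻¹ * x * (m * g) ∈ V := by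
        have h6 : m⁻¹ * x * m ∈ W :=
          conj_mem_of_mem_normalizer' hm (hW ▸ mem_sup_right (mem_zpowers x))
        rw [hg, mem_map_conj_iff] at h6
        convert h6 using 1
        group
      refine ⟨m * g, hn, _, ⟨h5, fun h0 => hxz ?_⟩, by group⟩
      have := (h.conj_mem_zpowers_iff hn h5.1).mpr h0
      rwa [show m * g * ((m * g)⁻¹ * x * (m * g)) * (m * g)⁻¹ = x by group] at this
  rw [hset, ncard_diff_subgroup h.zpowers_le', ncard_diff_subgroup (zpowers_le.mpr hzV), h.card,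
    hVc, Nat.card_zpowers, h.ord] at hcount
  have h3 : (normalizer (V : Set G)).relIndex N = p + 1 := by
    have h4 : p ^ 3 - p = (p + 1) * (p ^ 2 - p) := by
      zify [show p ≤ p ^ 3 from Nat.le_self_pow (by norm_num) p,
        show p ≤ p ^ 2 from Nat.le_self_pow (by norm_num) p]
      ring
    have h5 : 0 < p ^ 2 - p := Nat.sub_pos_of_lt (by nlinarith)
    exact Nat.eq_of_mul_eq_mul_right h5 (hcount.symm.trans h4)
  refine hT.not_dvd (dvd_trans ?_ (relIndex_dvd_of_le_left N hTV))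
  rw [h3]
  exact even_iff_two_dvd.mp (hp.out.odd_of_ne_two hp2).add_one

end CfsgLib.H5
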