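import Cfsg.Agent.Lib.HigmanLie
import Cfsg.Agent.Lib.H5Kegel
import Cfsg.Agent.Lib.FusionRadical
import Cfsg.Agent.Lib.CoprimePGroup
import Cfsg.Agent.Lib.CoprimeGen
import Cfsg.Agent.Lib.CorePiSep
import Cfsg.Agent.Lib.CoreElements
import Cfsg.Agent.Lib.H5SylowIn
import Cfsg.Agent.S3780
import Cfsg.Agent.S3781

/-!
# Automorphisms of prime order with few fixed points (Higman, Alperin)
-/

set_option autoImplicit false

namespace CfsgLib.HigmanGroup

open Subgroup CfsgLib HigmanLie AssocLie Cfsg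

universe u

variable {G : Type u} [Group G]

/-- A subgroup containing all `h⁻¹ α h` has index at most the number of fixed points. -/
theorem index_le_card_fixed [Finite G] (α : MulAut G) {K : Subgroup G} (B : Subgroup K)
    (hK : ∀ h ∈ K, α h ∈ K) (hB : ∀ h : K, h⁻¹ * ⟨α h, hK h h.2⟩ ∈ B) :
    B.index ≤ Nat.card {g : G // α g = g} := by
  let v : K → B := fun h => ⟨_, hB h⟩
  have hv : ∀ h, v (Function.invFun v (v h)) = v h := fun h => Function.invFun_eq ⟨h, rfl⟩
  let F : K → B × {g : G // α g = g} := fun h => (v h, ⟨(Function.invFun v (v h) : K) * (h : G)⁻¹, by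
    have := congrArg (fun b : B => ((b : K) : G)) (hv h)
    simp only [v, coe_mul, coe_inv] at this
    rw [map_mul, map_inv, mul_inv_eq_iff_eq_mul, mul_assoc, ← this, mul_inv_cancel_left]⟩)
  have hF : Function.Injective F := fun a b h => by
    have h1 : v a = v b := congrArg Prod.fst h
    have h2 := congrArg (fun x => (x.2 : G)) h
    simp only [F, h1, mul_right_inj, inv_inj] at h2
    exact Subtype.ext h2
  have := Nat.card_le_card_of_injective F hF
  rw [Nat.card_prod, ← B.card_mul_index] at this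
  exact Nat.le_of_mul_le_mul_left this Nat.card_pos

theorem exists_sub_aut [Finite G] (α : MulAut G) (H : Subgroup G) (hH : ∀ h ∈ H, α h ∈ H) :
    ∃ β : MulAut H, ∀ (j : ℕ) (h : H), ((β ^ j) h : G) = (α ^ j) h := by
  let f : H →* H := (α.toMonoidHom.comp H.subtype).codRestrict H fun h => hH h h.2
  have hf : Function.Injective f := fun a b h =>
    Subtype.ext (α.injective (congrArg Subtype.val h))
  refine ⟨MulEquiv.ofBijective f (Finite.injective_iff_bijective.1 hf), fun j h => ?_⟩
  induction j with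
  | zero => rfl
  | succ j ih => rw [pow_succ', pow_succ', MulAut.mul_apply, MulAut.mul_apply, ← ih]; rfl

theorem exists_quot_aut [Finite G] (α : MulAut G) (N : Subgroup G) [N.Normal]
    (hN : ∀ h ∈ N, α h ∈ N) :
    ∃ β : MulAut (G ⧸ N), ∀ (j : ℕ) (g : G), (β ^ j) (g : G ⧸ N) = ((α ^ j) g : G) := by
  let f : G ⧸ N →* G ⧸ N := QuotientGroup.map N N α.toMonoidHom hN
  have hf : Function.Surjective f := fun x => by
    obtain ⟨g, rfl⟩ := QuotientGroup.mk_surjective x
    exact ⟨(α.symm g : G), congrArg _ (α.apply_symm_apply g)⟩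
  refine ⟨MulEquiv.ofBijective f (Finite.surjective_iff_bijective.1 hf), fun j h => ?_⟩
  induction j with
  | zero => rfl
  | succ j ih => rw [pow_succ', pow_succ', MulAut.mul_apply, MulAut.mul_apply, ih]; rfl

/-- The data of an automorphism `α` with `α ^ p = 1` and at most `m` fixed points. -/
def HasAut (p m : ℕ) (G : Type u) [Group G] (α : MulAut G) : Prop :=
  α ^ p = 1 ∧ Nat.card {g : G // α g = g} ≤ m

theorem HasAut.sub [Finite G] {p m : ℕ} {α : MulAut G} (h : HasAut p m G α) (H : Subgroup G)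
    (hH : ∀ h ∈ H, α h ∈ H) : ∃ β : MulAut H, HasAut p m H β ∧ ∀ h : H, (β h : G) = α h := by
  obtain ⟨β, hβ⟩ := exists_sub_aut α H hH
  have h1 : ∀ h : H, (β h : G) = α h := fun h => by simpa using hβ 1 h
  refine ⟨β, ⟨MulEquiv.ext fun x => Subtype.ext (by rw [hβ, h.1]; rfl), le_trans ?_ h.2⟩, h1⟩
  exact Nat.card_le_card_of_injective (fun x => ⟨x.1, by rw [← h1, x.2]⟩)
    fun a b h => Subtype.ext (Subtype.ext (Subtype.mk.inj h))

theorem HasAut.quot [Finite G] {p m : ℕ} {α : MulAut G} (h : HasAut p m G α) (N : Subgroup G)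
    [N.Normal] (hN : ∀ h ∈ N, α h ∈ N) :
    ∃ β : MulAut (G ⧸ N), HasAut p m (G ⧸ N) β ∧ ∀ g : G, β (g : G ⧸ N) = (α g : G) := by
  obtain ⟨β, hβ⟩ := exists_quot_aut α N hN
  have h1 : ∀ g : G, β (g : G ⧸ N) = (α g : G) := fun h => by simpa using hβ 1 h
  refine ⟨β, ⟨MulEquiv.ext fun x => ?_, le_trans ?_ h.2⟩, h1⟩
  · obtain ⟨g, rfl⟩ := QuotientGroup.mk_surjective x
    rw [hβ, h.1]; rfl
  · let C : Subgroup (G ⧸ N) := MonoidHom.eqLocus β.toMonoidHom (MonoidHom.id _)
    have hC : ∀ g : G, g ∈ C.comap (QuotientGroup.mk' N) ↔ ((α g : G) : G ⧸ N) = g := fun g => by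
      rw [← h1]; rfl
    have := index_le_card_fixed α (K := C.comap (QuotientGroup.mk' N)) (N.subgroupOf _)
      (fun g hg => by rw [hC] at hg ⊢; rw [← h1, hg, h1, hg])
      (fun g => mem_subgroupOf.2 (QuotientGroup.eq.1 ((hC g).1 g.2).symm))
    refine le_trans (le_of_eq ?_) this
    change Nat.card C = N.relIndex _
    have := relIndex_ker (C.comap (QuotientGroup.mk' N)) (QuotientGroup.mk' N)
    rw [map_comap_eq_self_of_surjective (QuotientGroup.mk'_surjective N),
      QuotientGroup.ker_mk'] at this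
    exact this.symm

theorem exists_sub_one_pow_eq {R : Type*} [Ring R] {p : ℕ} (hp : p.Prime) {x : R} (h : x ^ p = 1)
    (e : ℕ) : ∃ t : R, (x - 1) ^ (p * e) = p ^ e • t := by
  obtain ⟨r, hr⟩ := (Commute.one_right (x - 1)).exists_add_pow_prime_eq hp
  rw [sub_add_cancel, h, one_pow, add_right_comm, right_eq_add, add_eq_zero_iff_eq_neg,
    mul_assoc, mul_assoc, ← nsmul_eq_mul, ← smul_neg] at hr
  exact ⟨_, by rw [pow_mul, hr, smul_pow]⟩

theorem card_le_of_comm {A : Type u} [CommGroup A] [Finite A] {p m e : ℕ} (hp : p.Prime)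
    {α : MulAut A} (h : HasAut p m A α) (he : ∀ a : A, a ^ p ^ e = 1) :
    Nat.card A ≤ m ^ (p * e) := by
  let φ : AddMonoid.End (Additive A) := MonoidHom.toAdditive α.toMonoidHom
  have hφ : ∀ (j : ℕ) (a : A), (φ ^ j) (Additive.ofMul a) = Additive.ofMul ((α ^ j) a) := by
    intro j a
    induction j with
    | zero => rfl
    | succ j ih => rw [pow_succ', pow_succ', AddMonoid.End.coe_mul, Function.comp_apply, ih]; rfl
  have h1 : φ ^ p = 1 := AddMonoidHom.ext fun a => (hφ p a.toMul).trans (by rw [h.1]; rfl)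
  have h2 : (φ - 1) ^ (p * e) = 0 := by
    obtain ⟨t, ht⟩ := exists_sub_one_pow_eq hp h1 e
    rw [ht]
    exact AddMonoidHom.ext fun a => congrArg Additive.ofMul (he _)
  have h3 := Cfsg.Agent.S3780.index_range_pow_le (φ - 1) (p * e)
  rw [h2, show AddMonoidHom.range (0 : AddMonoid.End (Additive A)) = ⊥ from AddMonoidHom.range_zero,
    AddSubgroup.index_bot] at h3
  refine h3.trans (Nat.pow_le_pow_left (le_trans ?_ h.2) _)
  let B : Subgroup A := AddSubgroup.toSubgroup' (AddMonoidHom.range (φ - 1 : AddMonoid.End _))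
  have := index_le_card_fixed α (K := ⊤) (B.subgroupOf ⊤) (fun _ _ => trivial)
    (fun a => mem_subgroupOf.2 ⟨Additive.ofMul (a : A), by
      change Additive.ofMul (α a) - Additive.ofMul (a : A) = Additive.ofMul ((a : A)⁻¹ * α a)
      rw [sub_eq_neg_add]; rfl⟩)
  rwa [← relIndex, relIndex_top_right] at this

theorem exists_smul_ι_eq [Finite G] {α : MulAut G} {H : Subgroup G} (hα : ∀ g ∈ H, α g ∈ H)
    (n : ℕ) : ∃ d, d ≤ Nat.card {g : G // α g = g} ∧ d ∣ Nat.card G ∧
      ∀ g ∈ H.lowerCentralSeries n, ∃ y, d • ι H.lowerCentralSeries n g = endo α hα y - y := by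
  let B := (AddSubgroup.toSubgroup (AddMonoidHom.range (endo α hα - 1))).comap
    (ιHom H.lowerCentralSeries n)
  have hK := map_mem_lcs (α := α.toMonoidHom) hα n
  refine ⟨B.index, index_le_card_fixed α B hK fun h => ⟨ι _ n h, ?_⟩,
    (B.index_dvd_card).trans (card_subgroup_dvd_card _), fun g hg => ?_⟩
  · change endo α hα (ι H.lowerCentralSeries n h) - ι H.lowerCentralSeries n h =
      ι H.lowerCentralSeries n ((h : G)⁻¹ * α.toMonoidHom h)
    rw [ι_mul (inv_mem h.2) (hK _ h.2), ι_inv h.2, sub_eq_neg_add]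
    exact congrArg _ (map_ι _ _ h.2)
  · obtain ⟨y, hy⟩ := B.pow_index_mem ⟨g, hg⟩
    exact ⟨y, (ι_pow hg _).symm.trans hy.symm⟩

/-- **Higman's theorem** for groups. -/
theorem lcs_eq_bot_of_fpf [Finite G] {p c : ℕ} [hp : Fact p.Prime] (hc : HigmanBound.{u} p c)
    {α : MulAut G} (hα : α ^ p = 1) (hf : ∀ g, α g = g → g = 1) :
    (⊤ : Subgroup G).lowerCentralSeries c = ⊥ := by
  have := H5.isNilpotent_of_fpf_aut hp.out α hα hf
  have hd : ¬ p ∣ Nat.card G := fun hd => by
    classical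
    have := Fintype.ofFinite G
    obtain ⟨b, hb, hb1⟩ := Equiv.Perm.exists_fixed_point_of_prime' (p := p) (n := 1)
      (σ := MulAut.toPerm G α) (by rwa [← Nat.card_eq_fintype_card])
      (by rw [pow_one, ← map_pow, hα, map_one]) (map_one α)
    exact hb1 (hf b hb)
  refine eq_bot_of_le_commutator_of_isNilpotent (H := ⊤) inferInstance le_top fun g hg => ?_
  refine FrobNPC.mem_of_pow_mem_of_coprime ?_
    (pow_mem_lcs_succ hc (H := ⊤) (fun _ _ => trivial) hα 1 (fun n g hg => ?_) 0 hg)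
  · rw [one_mul]
    exact (Nat.Coprime.coprime_dvd_left (orderOf_dvd_natCard g)
      ((Nat.Prime.coprime_iff_not_dvd hp.out).2 hd).symm).pow_right _
  · obtain ⟨d, h1, h2, h3⟩ := exists_smul_ι_eq (α := α) (H := ⊤) (fun _ _ => trivial) n
    have h4 : Nat.card {g : G // α g = g} ≤ 1 :=
      Finite.card_le_one_iff_subsingleton.2 ⟨fun a b => Subtype.ext ((hf _ a.2).trans (hf _ b.2).symm)⟩
    have h5 := Nat.pos_of_dvd_of_pos h2 Nat.card_pos
    obtain rfl : d = 1 := by omega
    exact h3 g hg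

open scoped IsMulCommutative in
theorem relIndex_lcs_le [Finite G] {p c n : ℕ} [hp : Fact p.Prime] (hc : HigmanBound.{u} p c)
    (hG : IsPGroup p G) {α : MulAut G} (h : HasAut p (p ^ n) G α) {H : Subgroup G}
    (hα : ∀ g ∈ H, α g ∈ H) (k : ℕ) :
    (H.lowerCentralSeries (c + k + 1)).relIndex (H.lowerCentralSeries (c + k)) ≤
      p ^ (n * (p * (n + (c + 2)))) := by
  have h1 : ∀ g ∈ H.lowerCentralSeries (c + k),
      g ^ (p ^ n * p ^ (c + 2)) ∈ H.lowerCentralSeries (c + k + 1) := fun g hg => by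
    refine pow_mem_lcs_succ hc hα h.1 _ (fun j g hg => ?_) k hg
    obtain ⟨d, h1, h2, h3⟩ := exists_smul_ι_eq hα j
    obtain ⟨r, hr⟩ := hG.exists_card_eq
    rw [hr] at h2
    obtain ⟨i, -, rfl⟩ := (Nat.dvd_prime_pow hp.out).1 h2
    obtain ⟨y, hy⟩ := h3 g hg
    have h4 := (Nat.pow_le_pow_iff_right hp.out.one_lt).1 (h1.trans h.2)
    refine ⟨p ^ (n - i) • y, ?_⟩
    rw [map_nsmul, ← smul_sub, ← hy, smul_smul, ← pow_add, Nat.sub_add_cancel h4]
  have hK := map_mem_lcs (α := α.toMonoidHom) hα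
  obtain ⟨β, hβ, hβ'⟩ := h.sub _ (hK (c + k))
  obtain ⟨γ, hγ, -⟩ := hβ.quot ((H.lowerCentralSeries (c + k + 1)).subgroupOf _)
    fun g hg => by rw [mem_subgroupOf, hβ']; exact hK _ _ hg
  rw [pow_mul]
  have : Finite (Q H.lowerCentralSeries (c + k)) := Quotient.finite _
  refine card_le_of_comm (A := Q H.lowerCentralSeries (c + k)) hp.out hγ fun a => ?_
  obtain ⟨g, rfl⟩ := QuotientGroup.mk'_surjective _ a
  refine (map_pow (mkQ H.lowerCentralSeries (c + k)) g _).symm.trans ?_
  rw [pow_add]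
  exact (QuotientGroup.eq_one_iff _).2 (h1 g g.2)

theorem derivedSeries_add_le {H : Subgroup G} {f : ℕ} (h : derivedSeries G f ≤ H) (j : ℕ) :
    derivedSeries G (f + j) ≤ H.lowerCentralSeries j := by
  induction j with
  | zero => exact h
  | succ j ih =>
    rw [← add_assoc, derivedSeries_succ, Subgroup.lowerCentralSeries_succ]
    exact commutator_mono ih (ih.trans (H.lowerCentralSeries_antitone (Nat.zero_le j)))

theorem derivedSeries_add_le_map {H : Subgroup G} {f : ℕ} (h : derivedSeries G f ≤ H) (j : ℕ) :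
    derivedSeries G (f + j) ≤ (derivedSeries H j).map H.subtype := by
  induction j with
  | zero => rwa [derivedSeries_zero, ← MonoidHom.range_eq_map, range_subtype]
  | succ j ih =>
    rw [← add_assoc, derivedSeries_succ, derivedSeries_succ, Subgroup.map_commutator]
    exact commutator_mono ih ih

theorem derivedSeries_le_ker {G' : Type*} [Group G'] (f : G →* G') {n : ℕ}
    (h : derivedSeries f.range n = ⊥) : derivedSeries G n ≤ f.ker := by
  rw [← MonoidHom.ker_rangeRestrict, ← Subgroup.map_eq_bot_iff, ← le_bot_iff, ← h]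
  exact map_derivedSeries_le_derivedSeries _ n

theorem derivedSeries_card_eq_bot [Finite G] [Group.IsSolvable G] {n : ℕ} (h : Nat.card G ≤ n) :
    derivedSeries G n = ⊥ := by
  have : ∀ k, derivedSeries G k ≠ ⊥ → Nat.card (derivedSeries G k) + k ≤ Nat.card G := by
    intro k
    induction k with
    | zero => intro _; simp
    | succ k ih =>
      intro hk
      have hk' : derivedSeries G k ≠ ⊥ := fun h => hk (by rw [derivedSeries_succ, h]; simp)
      have h1 := card_lt_card_of_lt (IsSolvable.commutator_lt_of_ne_bot hk')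
      have := ih hk'
      rw [derivedSeries_succ]
      omega
  by_contra hne
  have h1 := this n hne
  have : 0 < Nat.card (derivedSeries G n) := Nat.card_pos
  omega

/-- Alperin's theorem for `p`-groups. -/
theorem derivedSeries_eq_bot_of_isPGroup [Finite G] {p c n : ℕ} [hp : Fact p.Prime]
    (hc : HigmanBound.{u} p c) (hG : IsPGroup p G) {α : MulAut G} (h : HasAut p (p ^ n) G α) :
    derivedSeries G (n * (p * (n + (c + 2))) + (c + 2)) = ⊥ := by
  refine le_bot_iff.1 ((derivedSeries_add_le (Subgroup.derived_le_lower_central _) _).trans (le_of_eq ?_))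
  by_contra hne
  have h1 := Cfsg.Agent.S3781.result hG (n * (p * (n + (c + 2))) + 1) (by omega) _ le_rfl (c + 2)
    (by omega) hne
  have h2 := relIndex_lcs_le hc hG h
    (map_mem_lcs (α := α.toMonoidHom) (H := ⊤) (fun _ _ => trivial) (n * (p * (n + (c + 2))))) 1
  have := (Nat.pow_le_pow_iff_right hp.out.one_lt).1 (h1.trans h2)
  omega

open scoped IsMulCommutative in
theorem derivedSeries_le_pCore [Finite G] [Group.IsSolvable G] {p m : ℕ} [hp : Fact p.Prime]
    {α : MulAut G} (h : HasAut p m G α) (h0 : pPrimeCore p G = ⊥) :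
    derivedSeries G (m ^ p).factorial ≤ pCore p G := by
  set F := pCore p G with hF
  have hFp : IsPGroup p F := pCore_isPGroup p
  have hFc : F.Characteristic := pCore_characteristic p
  set Φ := (frattini F).map F.subtype with hΦ
  have hΦ' : Φ.subgroupOf F = frattini F := comap_map_eq_self_of_injective F.subtype_injective _
  have hn : (Φ.subgroupOf F).Normal := by rw [hΦ']; infer_instance
  have h1 : (⊤ : Subgroup G) ≤ normalizer (F : Set G) := by rw [normalizer_eq_top]
  let φ := Cop.sectionAction ⊤ F Φ h1 (Cop.le_normalizer_frattini h1)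
  obtain ⟨β, hβ, hβ'⟩ := h.sub F fun g hg => characteristic_iff_le_comap.1 hFc α hg
  obtain ⟨γ, hγ, -⟩ := hβ.quot (Φ.subgroupOf F) fun g hg => by
    rw [hΦ'] at hg ⊢
    exact characteristic_iff_le_comap.1 inferInstance β hg
  have hc : IsMulCommutative (F ⧸ Φ.subgroupOf F) :=
    Normal.quotient_commutative_iff_commutator_le.2 (hΦ' ▸ PGrp.commutator_le_frattini hFp)
  have h2 := card_le_of_comm (e := 1) hp.out hγ fun a => by
    obtain ⟨g, rfl⟩ := QuotientGroup.mk_surjective a
    rw [pow_one, ← QuotientGroup.mk_pow, QuotientGroup.eq_one_iff, hΦ']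
    exact PGrp.pow_prime_mem_frattini hFp g
  rw [mul_one] at h2
  let ψ := φ.comp topEquiv.symm.toMonoidHom
  have h3 : Nat.card ψ.range ≤ (m ^ p).factorial := by
    refine (card_le_card_group _).trans ((Nat.card_le_card_of_injective _
      MulEquiv.toEquiv_injective).trans ?_)
    rw [Nat.card_perm]
    exact Nat.factorial_le h2
  have : Group.IsSolvable ψ.range := solvable_of_surjective ψ.rangeRestrict_surjective
  refine (derivedSeries_le_ker ψ (derivedSeries_card_eq_bot h3)).trans (le_pCore ?_)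
  refine H5.isPGroup_of_forall_coprime fun x hx hxp => ?_
  have h4 : ⁅F, zpowers x⁆ = ⊥ := Cop.commutator_eq_bot_of_le_frattini
    (Cop.coprime_card_of_isPGroup (by rwa [Nat.card_zpowers]) hFp)
    (commutator_le.2 fun g hg y hy => (Cop.mem_ker_sectionAction h1 (Cop.le_normalizer_frattini h1)
      ⟨y, trivial⟩).1 (zpowers_le.2 hx hy) g hg)
  have h5 : x ∈ F := centralizer_pCore_le (isPSolvable_of_isSolvable inferInstance) h0
    (le_centralizer_iff.1 (commutator_eq_bot_iff_le_centralizer.1 h4) (mem_zpowers x))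
  obtain ⟨k, hk⟩ := orderOf_eq_pow_of_mem_isPGroup hFp h5
  rw [← orderOf_eq_one_iff]
  exact Nat.eq_one_of_dvd_coprimes (hxp.pow_right k) dvd_rfl hk.dvd

/-- **Alperin's theorem**. -/
theorem alperin (p n : ℕ) [hp : Fact p.Prime] : ∃ l : ℕ, ∀ (G : Type u) [Group G] [Finite G]
    [Group.IsSolvable G] (α : MulAut G), α ^ p = 1 → Nat.card {g : G // α g = g} = p ^ n →
    derivedSeries G l = ⊥ := by
  obtain ⟨c, hc⟩ : ∃ c, HigmanBound.{u} p c := ⟨_, higmanBound p⟩
  refine ⟨((p ^ n) ^ p).factorial + (n * (p * (n + (c + 2))) + (c + 2)) + c,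
    fun G _ _ _ α hα hC => ?_⟩
  have h : HasAut p (p ^ n) G α := ⟨hα, hC.le⟩
  set O := pPrimeCore p G with hO
  have hOc : O.Characteristic := pPrimeCore_characteristic p
  have hOα : ∀ g ∈ O, α g ∈ O := fun g hg => characteristic_iff_le_comap.1 hOc α hg
  obtain ⟨β, hβ, -⟩ := h.quot O hOα
  have h1 := derivedSeries_le_pCore hβ (pPrimeCore_quotient_pPrimeCore p)
  obtain ⟨γ, hγ, -⟩ := hβ.sub (pCore p _)
    fun g hg => characteristic_iff_le_comap.1 (pCore_characteristic p) β hg
  have h2 := derivedSeries_add_le_map h1 (n * (p * (n + (c + 2))) + (c + 2))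
  rw [derivedSeries_eq_bot_of_isPGroup hc (pCore_isPGroup p) hγ, Subgroup.map_bot,
    ← map_derivedSeries_eq (QuotientGroup.mk'_surjective O), le_bot_iff, Subgroup.map_eq_bot_iff,
    QuotientGroup.ker_mk'] at h2
  obtain ⟨δ, hδ, hδ'⟩ := h.sub O hOα
  have h3 := lcs_eq_bot_of_fpf hc hδ.1 fun g hg => by
    have h4 : orderOf (g : G) ∣ p ^ n := by
      let C : Subgroup G := MonoidHom.eqLocus α.toMonoidHom (MonoidHom.id _)
      have : (g : G) ∈ C := (hδ' g).symm.trans (congrArg Subtype.val hg)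
      exact hC ▸ orderOf_dvd_natCard C this
    rw [Subgroup.orderOf_coe] at h4
    exact orderOf_eq_one_iff.1 (Nat.eq_one_of_dvd_coprimes
      ((pPrimeCore_coprime p).pow_right n) (orderOf_dvd_natCard g) h4)
  refine le_bot_iff.1 ((derivedSeries_add_le h2 c).trans (le_of_eq ?_))
  rw [← top_subtype_lowerCentralSeries, h3, Subgroup.map_bot]

end CfsgLib.HigmanGroup
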