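import Mathlib
import Cfsg.Agent.Lib.HigmanGroup
import Cfsg.Agent.Lib.PGroupRankOne
import Cfsg.Agent.Lib.CommCalc
import Cfsg.Agent.Lib.CoreFitting

/-! Derived length of permutation and linear `p`-groups. -/

set_option autoImplicit false

namespace CfsgLib.H5
open Subgroup Cfsg Module
open scoped commutatorElement

universe u v

theorem derivedSeries_succ_le_map {G : Type*} [Group G] {M : Subgroup G} (h : commutator G ≤ M)
    (k : ℕ) : derivedSeries G (k + 1) ≤ (derivedSeries M k).map M.subtype :=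
  add_comm 1 k ▸ HigmanGroup.derivedSeries_add_le_map (f := 1) (by rwa [derivedSeries_one]) k

theorem derivedSeries_le_of_index_lt {p : ℕ} [hp : Fact p.Prime] (k : ℕ) :
    ∀ (P : Type u) [Group P] [Finite P], IsPGroup p P → ∀ H : Subgroup P, H.index < p ^ (k + 1) →
      derivedSeries P k ≤ H := by
  induction k with
  | zero =>
    intro P _ _ hP H h
    obtain ⟨j, hj⟩ := hP.index H
    rw [hj, Nat.pow_lt_pow_iff_right hp.out.one_lt, zero_add, Nat.lt_one_iff] at h
    rw [h, pow_zero, index_eq_one] at hj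
    exact hj ▸ le_top
  | succ k ih =>
    intro P _ _ hP H h
    rcases eq_top_or_exists_le_coatom H with rfl | ⟨M, hM, hHM⟩
    · exact le_top
    have h1 := (PGrp.isCoatom_iff_index_eq hP).mp hM
    have := PGrp.normal_of_index_eq_prime hP h1
    rw [← relIndex_mul_index hHM, h1, pow_succ, Nat.mul_lt_mul_right hp.out.pos] at h
    exact (derivedSeries_succ_le_map (PGrp.commutator_le_of_index_eq_prime M h1) k).trans
      ((map_mono (ih M (hP.to_subgroup M) _ h)).trans (map_subgroupOf_eq_of_le hHM).le)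

theorem derivedSeries_wreath_ne_bot {D Q : Type*} [Group D] [Group Q] [Nontrivial Q] {k : ℕ}
    (h : derivedSeries D k ≠ ⊥) : derivedSeries (D ≀ᵣ Q) (k + 1) ≠ ⊥ := by
  classical
  obtain ⟨q, hq⟩ := exists_ne (1 : Q)
  have h1 : ∀ j, ∀ d ∈ derivedSeries D j, ∃ f : Q → D, f 1 = d ∧
      (⟨f, 1⟩ : D ≀ᵣ Q) ∈ derivedSeries (D ≀ᵣ Q) (j + 1) := by
    intro j
    let ι : (Q → D) →* D ≀ᵣ Q := MonoidHom.mk' (fun f => ⟨f, 1⟩) fun _ _ => by ext <;> simp
    suffices derivedSeries D j ≤ ((derivedSeries (D ≀ᵣ Q) (j + 1)).comap ι).map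
      (Pi.evalMonoidHom (fun _ => D) 1) from fun d hd => let ⟨f, h1, h2⟩ := this hd; ⟨f, h2, h1⟩
    induction j with
    | zero =>
      intro d _
      refine ⟨fun x => Pi.mulSingle (M := fun _ => D) 1 d x *
        (Pi.mulSingle (M := fun _ => D) 1 d (q⁻¹ * x))⁻¹, ?_, by simp [hq]⟩
      rw [SetLike.mem_coe, mem_comap]
      have := commutator_mem_commutator (mem_top (ι (Pi.mulSingle 1 d)))
        (mem_top (RegularWreathProduct.inl q))
      convert this using 1
      · rfl
      · ext <;> simp [ι, commutatorElement_def]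
    | succ j ih =>
      rw [derivedSeries_succ, derivedSeries_succ _ (j + 1)]
      refine (commutator_mono ih ih).trans ?_
      rw [← map_commutator]
      exact map_mono (map_le_iff_le_comap.mp ((map_commutator _ _ ι).le.trans
        (commutator_mono (map_comap_le _ _) (map_comap_le _ _))))
  intro h2
  refine h (eq_bot_iff.mpr fun d hd => ?_)
  obtain ⟨f, rfl, hf⟩ := h1 k d hd
  exact congrArg (fun w : D ≀ᵣ Q => w.left 1) (h2.le hf)

theorem isPGroup_wreath {D Q : Type*} [Group D] [Group Q] [Finite D] [Finite Q] {p : ℕ}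
    [Fact p.Prime] (hD : IsPGroup p D) (hQ : IsPGroup p Q) : IsPGroup p (D ≀ᵣ Q) := by
  obtain ⟨a, ha⟩ := hD.exists_card_eq
  obtain ⟨b, hb⟩ := hQ.exists_card_eq
  exact IsPGroup.of_card (n := a * p ^ b + b)
    (by rw [RegularWreathProduct.card, ha, hb, ← pow_mul, ← pow_add])

theorem derivedSeries_ne_bot_of_injective {W G : Type*} [Group W] [Group G] (f : W →* G)
    (hf : Function.Injective f) {k : ℕ} (h : derivedSeries W k ≠ ⊥) : derivedSeries G k ≠ ⊥ :=
  fun e => h ((map_eq_bot_iff_of_injective _ hf).mp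
    (le_bot_iff.mp ((map_derivedSeries_le_derivedSeries f k).trans e.le)))

theorem derivedSeries_sylow_ne_bot {W G : Type*} [Group W] [Group G] [Finite G] {p : ℕ}
    [Fact p.Prime] (hW : IsPGroup p W) (f : W →* G) (hf : Function.Injective f) {k : ℕ}
    (h : derivedSeries W k ≠ ⊥) (P : Sylow p G) : derivedSeries (P : Subgroup G) k ≠ ⊥ := by
  obtain ⟨Q, hQ⟩ := (hW.of_surjective _ f.rangeRestrict_surjective).exists_le_sylow
  exact derivedSeries_ne_bot_of_injective ((Q.equiv P).toMonoidHom.comp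
    ((inclusion hQ).comp f.rangeRestrict)) ((Q.equiv P).injective.comp
      ((inclusion_injective hQ).comp (f.rangeRestrict_injective_iff.mpr hf))) h

section linear
variable {F : Type*} [Field F] {p : ℕ} [hp : Fact p.Prime]

/-- The `k`-th derived subgroup of a `p`-group acts trivially in dimension less than `N`. -/
def DerTriv (F : Type*) [Field F] (p k N : ℕ) : Prop :=
  ∀ (P : Type u) [Group P] [Finite P] (V : Type v) [AddCommGroup V] [Module F V]
    [FiniteDimensional F V] (ρ : Representation F P V), IsPGroup p P → finrank F V < N →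
      derivedSeries P k ≤ ρ.ker

variable {P : Type u} [Group P] {V : Type v} [AddCommGroup V] [Module F V]

/-- The norm of an element of order dividing `p`. -/
def nrm (ρ : Representation F P V) (p : ℕ) (x : P) : Module.End F V :=
  ∑ t ∈ Finset.range p, ρ (x ^ t)

omit hp in
theorem nrm_fixed {ρ : Representation F P V} {x : P} (hx : x ^ p = 1) (v : V) :
    ρ x (nrm ρ p x v) = nrm ρ p x v := by
  have := Finset.sum_range_succ (fun t => ρ (x ^ t) v) p
  rw [Finset.sum_range_succ', hx, pow_zero, add_left_inj] at this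
  simp only [nrm, LinearMap.sum_apply, map_sum]
  simpa only [pow_succ', map_mul, Module.End.mul_apply] using this

omit hp in
theorem nrm_mul_apply {ρ : Representation F P V} {x y : P} (hc : Commute x y) {v : V}
    (hv : ρ y v = v) : nrm ρ p (x * y) v = nrm ρ p x v := by
  simp only [nrm, LinearMap.sum_apply, hc.mul_pow, map_mul, Module.End.mul_apply]
  refine Finset.sum_congr rfl fun t _ => ?_
  rw [map_pow ρ y, Module.End.pow_apply, Function.iterate_fixed hv]

theorem sum_nrm {ρ : Representation F P V} {z b : P} (hc : Commute z b) (hz : orderOf z = p)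
    (h0 : ∀ y ∈ zpowers z, y ≠ 1 → nrm ρ p y = 0) (v : V) :
    ∑ i ∈ Finset.range p, nrm ρ p (z ^ i * b) v = (p : F) • v := by
  simp only [nrm, LinearMap.sum_apply] at h0 ⊢
  rw [Finset.sum_comm, Finset.sum_eq_single_of_mem 0 (Finset.mem_range.mpr hp.out.pos)]
  · simp [Nat.cast_smul_eq_nsmul]
  · intro t ht ht0
    have := congrArg (· (ρ (b ^ t) v)) (h0 (z ^ t) ⟨t, zpow_natCast z t⟩
      (pow_ne_one_of_lt_orderOf ht0 (hz ▸ Finset.mem_range.mp ht)))
    simp only [LinearMap.sum_apply, LinearMap.zero_apply] at this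
    rw [← this]
    refine Finset.sum_congr rfl fun i _ => ?_
    rw [(hc.pow_left i).mul_pow, map_mul, Module.End.mul_apply, ← pow_mul, ← pow_mul, mul_comm]

theorem mul_finrank_le [FiniteDimensional F V] (hF : (p : F) ≠ 0) {ρ : Representation F P V}
    {z b g : P} (hc : z ∈ center P) (hz : orderOf z = p) (hg : g * b * g⁻¹ = z * b)
    (h0 : ∀ y ∈ zpowers z, y ≠ 1 → nrm ρ p y = 0) :
    p * finrank F (LinearMap.ker (ρ b - 1)) ≤ finrank F V := by
  have h1 : ∀ i : ℕ, z ^ i * b * g ^ i = g ^ i * b := fun i => by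
    induction i with
    | zero => simp
    | succ i ih =>
      rw [pow_succ' g, mul_assoc g, ← ih, mul_assoc (z ^ i), ← mul_assoc g,
        mem_center_iff.mp (pow_mem hc i) g, mul_assoc _ g, ← mul_assoc g,
        mul_inv_eq_iff_eq_mul.mp hg, pow_succ]
      group
  have h2 : ∀ (i : ℕ) (w : LinearMap.ker (ρ b - 1)), ρ (z ^ i * b) (ρ (g ^ i) w) = ρ (g ^ i) w :=
    fun i w => by
      rw [← Module.End.mul_apply, ← map_mul, h1, map_mul, Module.End.mul_apply,
        show ρ b w = w from sub_eq_zero.mp w.2]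
  let Φ : (Fin p → LinearMap.ker (ρ b - 1)) →ₗ[F] V :=
    ∑ i : Fin p, ρ (g ^ (i : ℕ)) ∘ₗ (Submodule.subtype _) ∘ₗ LinearMap.proj i
  refine le_trans (by simp [finrank_pi_fintype]) (LinearMap.finrank_le_finrank_of_injective (f := Φ)
    ((injective_iff_map_eq_zero _).mpr fun w hw => funext fun i => Subtype.ext ?_))
  have h3 := congrArg (nrm ρ p (z ^ (i : ℕ) * b)) hw
  simp only [Φ, LinearMap.sum_apply, map_sum, map_zero, LinearMap.comp_apply,
    Submodule.subtype_apply, LinearMap.proj_apply] at h3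
  rw [Finset.sum_eq_single_of_mem i (Finset.mem_univ _) fun j _ hj => by
    rw [show z ^ (i : ℕ) * b = z ^ (i : ℕ) * (z ^ (j : ℕ))⁻¹ * (z ^ (j : ℕ) * b) by group,
      nrm_mul_apply (mem_center_iff.mp (mul_mem (pow_mem hc _) (inv_mem (pow_mem hc _))) _).symm
        (h2 j _), h0 _ (mul_mem (pow_mem (mem_zpowers z) _) (inv_mem (pow_mem (mem_zpowers z) _)))
        fun e => hj (Fin.ext (pow_injOn_Iio_orderOf (hz ▸ i.2) (hz ▸ j.2)
          (mul_inv_eq_one.mp e)).symm), LinearMap.zero_apply],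
    ← one_mul (_ * b), nrm_mul_apply (Commute.one_left _) (h2 i _)] at h3
  simp only [nrm, one_pow, map_one, Finset.sum_const, Finset.card_range, LinearMap.smul_apply,
    Module.End.one_apply, ← Nat.cast_smul_eq_nsmul F, smul_eq_zero, hF, false_or] at h3
  have := congrArg (ρ (g ^ (i : ℕ))⁻¹) h3
  rwa [← Module.End.mul_apply, ← map_mul, inv_mul_cancel, map_one, map_zero] at this

theorem derivedSeries_eq_bot_of_irreducible [Finite P] [FiniteDimensional F V] (hF : (p : F) ≠ 0)
    {k N : ℕ} (hH : DerTriv.{u, v} F p k N) (ρ : Representation F P V) (hP : IsPGroup p P)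
    (hN : finrank F V < p * N) (hρ : Function.Injective ρ)
    (hirr : ∀ U : Submodule F V, (∀ g, ∀ v ∈ U, ρ g v ∈ U) → U = ⊥ ∨ U = ⊤)
    {E : Subgroup P} [E.Normal] (hE : IsElementaryAbelian p E) (hc : Nat.card E = p ^ 2) :
    derivedSeries P (k + 1) = ⊥ := by
  have h1 : ∀ y ∈ center P, y ≠ 1 → y ^ p = 1 → nrm ρ p y = 0 := fun y hy hy1 hyp => by
    rcases hirr (LinearMap.ker (ρ y - 1)) fun g v hv => by
      rw [LinearMap.mem_ker, LinearMap.sub_apply, sub_eq_zero, Module.End.one_apply] at hv ⊢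
      rw [← Module.End.mul_apply, ← map_mul, ← mem_center_iff.mp hy, map_mul,
        Module.End.mul_apply, hv] with h | h
    · exact LinearMap.ext fun v => h.le (sub_eq_zero.mpr (nrm_fixed hyp v))
    · exact absurd (hρ (by rw [map_one, ← sub_eq_zero, ← LinearMap.ker_eq_top, h])) hy1
  have h2 : ∀ z ∈ center P, orderOf z = p → ∀ y ∈ zpowers z, y ≠ 1 → nrm ρ p y = 0 :=
    fun z hz ho y hy hy1 => h1 y (zpowers_le.mpr hz hy) hy1
      (orderOf_dvd_iff_pow_eq_one.mp (ho ▸ orderOf_dvd_of_mem_zpowers hy))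
  by_cases h3 : E ≤ center P
  · obtain ⟨z, hz, b, hb, ho, -, hbz⟩ := PGrp.exists_orderOf_eq_prime_pair (hP.to_subgroup E) hE.1
      fun h => by
        have := h.exponent_eq_card ▸ Monoid.exponent_dvd_of_forall_pow_eq_one
          fun g : E => Subtype.ext (hE.2 g g.2)
        rw [hc] at this
        exact absurd (Nat.le_of_dvd hp.out.pos this) (by nlinarith [hp.out.two_le])
    refine eq_bot_iff.mpr fun d _ => hρ (LinearMap.ext fun v => ?_)
    have := sum_nrm (mem_center_iff.mp (h3 hb) z) ho (h2 z (h3 hz) ho) v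
    rw [Finset.sum_eq_zero fun i _ => by
      have h4 := mul_mem (pow_mem hz i) hb
      rw [h1 _ (h3 h4) (fun e => hbz ((mul_mem_cancel_left (pow_mem (mem_zpowers z) i)).mp
        (e ▸ one_mem _))) (hE.2 _ h4), LinearMap.zero_apply], eq_comm, smul_eq_zero] at this
    rw [this.resolve_left hF, map_zero, map_zero]
  have h4 : ⁅E, ⊤⁆ ≤ center P := by
    have := hP.isNilpotent
    obtain ⟨i, hi, hi'⟩ := (Nat.dvd_prime_pow hp.out).mp
      (hc ▸ card_dvd_of_le (commutator_le_left E ⊤))
    interval_cases i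
    · rw [card_eq_one.mp hi']; exact bot_le
    · exact PGrp.le_center_of_card_eq_prime hP _ (hi'.trans (pow_one p))
    · exact absurd (eq_bot_of_le_commutator_of_isNilpotent (H := ⊤) inferInstance le_top
        (eq_of_le_of_card_le (commutator_le_left E ⊤) (hc.trans hi'.symm).le).ge ▸ bot_le) h3
  obtain ⟨b, hb, hb1⟩ := SetLike.not_le_iff_exists.mp h3
  obtain ⟨g, hg⟩ := not_forall.mp (mt mem_center_iff.mpr hb1)
  have h5 : ⁅g, b⁆ ∈ ⁅E, ⊤⁆ :=
    Subgroup.commutator_comm ⊤ E ▸ commutator_mem_commutator (mem_top g) hb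
  have hzE := commutator_le_left E ⊤ h5
  have ho : orderOf ⁅g, b⁆ = p :=
    orderOf_eq_prime (hE.2 _ hzE) (mt commutatorElement_eq_one_iff_mul_comm.mp hg)
  have h6 : ⁅⁅E, ⊤⁆, ⊤⁆ = ⊥ := commutator_eq_bot_iff_le_centralizer.mpr
    (h4.trans (center_le_centralizer _))
  have h7 : commutator P ≤ centralizer E := commutator_eq_bot_iff_le_centralizer.mp
    (commutator_commutator_eq_bot_of_rotate (Subgroup.commutator_comm E ⊤ ▸ h6) h6)
  refine eq_bot_iff.mpr fun d hd => hρ (LinearMap.ext fun v => ?_)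
  obtain ⟨d, hd', rfl⟩ := derivedSeries_succ_le_map h7 k hd
  have h8 : ∀ c ∈ E, g * c * g⁻¹ = ⁅g, b⁆ * c → ∀ w, ρ c w = w → ρ d w = w := by
    intro c hcE hgc w hw
    have h9 := mul_finrank_le hF (h4 h5) ho hgc (h2 _ (h4 h5) ho)
    let U : Subrepresentation (ρ.comp (centralizer (E : Set P)).subtype) :=
      ⟨LinearMap.ker (ρ c - 1), fun m v hv => by
        rw [LinearMap.mem_ker, LinearMap.sub_apply, sub_eq_zero, Module.End.one_apply] at hv ⊢
        rw [MonoidHom.comp_apply, coe_subtype, ← Module.End.mul_apply, ← map_mul, m.2 c hcE,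
          map_mul, Module.End.mul_apply, hv]⟩
    exact congrArg (fun f : Module.End F U.toSubmodule => (f ⟨w, sub_eq_zero.mpr hw⟩ : V))
      (hH _ _ U.toRepresentation (hP.to_subgroup _)
        (Nat.lt_of_mul_lt_mul_left (h9.trans_lt hN)) hd')
  have h9 := sum_nrm (mem_center_iff.mp (h4 h5) b).symm ho (h2 _ (h4 h5) ho) v
  rw [map_one, Module.End.one_apply, ← smul_right_inj hF, ← map_smul, ← h9, map_sum]
  refine Finset.sum_congr rfl fun i _ => h8 _ (mul_mem (pow_mem hzE i) hb) ?_ _
    (nrm_fixed (hE.2 _ (mul_mem (pow_mem hzE i) hb)) v)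
  rw [← mul_assoc, mem_center_iff.mp (pow_mem (h4 h5) i) g, ← mul_assoc, ← pow_succ', pow_succ,
    commutatorElement_def g b]
  group

theorem DerTriv.succ (hF : (p : F) ≠ 0) {k N N' : ℕ} (hH : DerTriv.{u, v} F p k N)
    (hN : N' ≤ p * N)
    (hb : ∀ (P : Type u) [Group P] [Finite P] (V : Type v) [AddCommGroup V] [Module F V]
      [FiniteDimensional F V] (ρ : Representation F P V), IsPGroup p P → finrank F V < N' →
      Function.Injective ρ → (∀ E : Subgroup P, E.Normal → IsElementaryAbelian p E →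
        Nat.card E ≠ p ^ 2) → derivedSeries P (k + 1) = ⊥) : DerTriv.{u, v} F p (k + 1) N' := by
  intro P _ _ V _ _ _ ρ hP hV
  induction hn : finrank F V using Nat.strong_induction_on generalizing V with
  | _ n ih =>
  by_cases hirr : ∀ U : Submodule F V, (∀ g, ∀ v ∈ U, ρ g v ∈ U) → U = ⊥ ∨ U = ⊤
  · have h1 : Function.Injective (QuotientGroup.lift ρ.ker ρ le_rfl) :=
      (injective_iff_map_eq_one' _).mpr fun x => by
        obtain ⟨x, rfl⟩ := QuotientGroup.mk_surjective x
        exact (QuotientGroup.eq_one_iff (N := ρ.ker) x).symm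
    have h2 : derivedSeries (P ⧸ ρ.ker) (k + 1) = ⊥ := by
      by_cases h3 : ∀ E : Subgroup (P ⧸ ρ.ker), E.Normal → IsElementaryAbelian p E →
        Nat.card E ≠ p ^ 2
      · exact hb _ V _ (hP.to_quotient _) hV h1 h3
      · push Not at h3
        obtain ⟨E, _, hE, hc⟩ := h3
        exact derivedSeries_eq_bot_of_irreducible hF hH _ (hP.to_quotient _) (hV.trans_le hN) h1
          (fun U hU => hirr U fun g => hU g) hE hc
    rw [← QuotientGroup.ker_mk' ρ.ker, ← Subgroup.map_eq_bot_iff, ← le_bot_iff, ← h2]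
    exact map_derivedSeries_le_derivedSeries _ _
  · push Not at hirr
    obtain ⟨U, hU, hU1, hU2⟩ := hirr
    obtain ⟨j, hj⟩ := hP.exists_card_eq
    have : NeZero (Nat.card P : F) := ⟨by rw [hj, Nat.cast_pow]; exact pow_ne_zero j hF⟩
    obtain ⟨W, hW⟩ := exists_isCompl (⟨U, hU⟩ : Subrepresentation ρ)
    have h1 : ∀ X : Subrepresentation ρ, X.toSubmodule ≠ ⊤ → ∀ d ∈ derivedSeries P (k + 1),
        ∀ v ∈ X.toSubmodule, ρ d v = v := fun X hX d hd v hv =>
      congrArg (fun f : Module.End F X.toSubmodule => (f ⟨v, hv⟩ : V))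
        (ih _ (hn ▸ Submodule.finrank_lt hX) _ X.toRepresentation
          ((Submodule.finrank_lt hX).trans hV) rfl hd)
    intro d hd
    refine LinearMap.ext fun v => ?_
    have h2 : U ⊔ W.toSubmodule = ⊤ := congrArg Subrepresentation.toSubmodule hW.sup_eq_top
    have h3 : U ⊓ W.toSubmodule = ⊥ := congrArg Subrepresentation.toSubmodule hW.inf_eq_bot
    obtain ⟨a, ha, b, hb, rfl⟩ := Submodule.mem_sup.mp (h2.ge (Submodule.mem_top (x := v)))
    rw [map_add, h1 ⟨U, hU⟩ hU2 d hd a ha, h1 W (fun e => hU1 (by rwa [e, inf_top_eq] at h3))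
      d hd b hb, Module.End.one_apply]

theorem exists_fixed_of_charP [CharP F p] [Finite P] [Nontrivial V] (hP : IsPGroup p P)
    (ρ : Representation F P V) : ∃ v : V, v ≠ 0 ∧ ∀ g, ρ g v = v := by
  let S : V → Subgroup P := fun w =>
    { carrier := {g | ρ g w = w}
      mul_mem' := fun {a b} ha hb => by
        rw [Set.mem_setOf_eq, map_mul, Module.End.mul_apply, hb, ha]
      one_mem' := by simp
      inv_mem' := fun {a} ha => by
        rw [Set.mem_setOf_eq] at ha ⊢
        conv_lhs => rw [← ha, ← Module.End.mul_apply, ← map_mul, inv_mul_cancel, map_one]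
        rfl }
  obtain ⟨v0, hv0⟩ := exists_ne (0 : V)
  obtain ⟨_, ⟨w, hw, rfl⟩, hmax⟩ := exists_maximal_of_wellFoundedGT
    (fun H : Subgroup P => ∃ w ≠ 0, S w = H) ⟨_, v0, hv0, rfl⟩
  refine ⟨w, hw, fun g => (?_ : S w = ⊤).ge (mem_top g)⟩
  by_contra h
  have := hP.isNilpotent
  obtain ⟨x, hx, hx1⟩ := SetLike.exists_of_lt (normalizerCondition_of_isNilpotent _
    (lt_top_iff_ne_top.mpr h))
  obtain ⟨k, hk⟩ := hP x
  have : CharP (Module.End F V) p := charP_of_injective_algebraMap (algebraMap F _).injective p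
  have h1 : ∃ i : ℕ, ((ρ x - 1) ^ i : Module.End F V) w = 0 := ⟨p ^ k, by
    rw [sub_pow_char_pow_of_commute (R := Module.End F V) _ _ (Commute.one_right _), ← map_pow, hk, map_one, one_pow,
      sub_self, LinearMap.zero_apply]⟩
  classical
  obtain ⟨i, hi⟩ := Nat.exists_eq_succ_of_ne_zero (n := Nat.find h1) fun e =>
    hw (by simpa [e] using Nat.find_spec h1)
  have h2 : ∀ j : ℕ, S w ≤ S (((ρ x - 1) ^ j : Module.End F V) w) := fun j => by
    induction j with
    | zero => exact le_rfl
    | succ j ih =>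
      intro s hs
      have h3 : ρ (x⁻¹ * s * x) _ = _ := ih (conj_mem_of_mem_normalizer' hx hs)
      change ρ s _ = _
      rw [pow_succ', Module.End.mul_apply, LinearMap.sub_apply, map_sub, Module.End.one_apply,
        ih hs, ← Module.End.mul_apply, ← map_mul, show s * x = x * (x⁻¹ * s * x) by group,
        map_mul, Module.End.mul_apply, h3]
  refine hx1 (hmax ⟨_, Nat.find_min h1 (hi ▸ Nat.lt_succ_self i), rfl⟩ (h2 i) ?_)
  have := Nat.find_spec h1
  rwa [hi, pow_succ', Module.End.mul_apply, LinearMap.sub_apply, sub_eq_zero] at this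

theorem derivedSeries_le_ker_of_charP [CharP F p] [Finite P] [FiniteDimensional F V]
    (hP : IsPGroup p P) (ρ : Representation F P V) {j : ℕ} (hj : finrank F V ≤ 2 ^ j) :
    derivedSeries P j ≤ ρ.ker := by
  obtain ⟨C, hC0, hC⟩ : ∃ C : ℕ → Submodule F V, C 0 = ⊥ ∧
      ∀ i v, v ∈ C (i + 1) ↔ ∀ g, ρ g v - v ∈ C i :=
    ⟨fun i => Nat.rec ⊥ (fun _ U => ⨅ g, U.comap (ρ g - 1)) i, rfl, fun i v => by simp⟩
  have h1 : ∀ i g, ∀ v ∈ C i, ρ g v ∈ C i := fun i => by
    induction i with
    | zero => intro g v hv; rw [(Submodule.mem_bot F).mp (hC0.le hv), map_zero]; exact zero_mem _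
    | succ i ih =>
      intro g v hv
      refine (hC _ _).mpr fun h => ?_
      have := ih g _ ((hC _ _).mp hv (g⁻¹ * h * g))
      rwa [map_sub, ← Module.End.mul_apply, ← map_mul, show g * (g⁻¹ * h * g) = h * g by group,
        map_mul] at this
  have h2 : ∀ i : ℕ, C i = ⊤ ∨ i ≤ finrank F ↥(C i) := fun i => by
    induction i with
    | zero => exact Or.inr (Nat.zero_le _)
    | succ i ih =>
      have h3 : C i ≤ C (i + 1) := fun v hv => (hC _ _).mpr fun g => sub_mem (h1 i g v hv) hv
      by_cases h : C i = ⊤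
      · exact Or.inl (top_le_iff.mp (h ▸ h3))
      have := Submodule.Quotient.nontrivial_iff.mpr h
      obtain ⟨v, hv, hv1⟩ := exists_fixed_of_charP hP (ρ.quotient (C i) fun g v hv => h1 i g v hv)
      obtain ⟨v, rfl⟩ := Submodule.Quotient.mk_surjective _ v
      exact Or.inr ((ih.resolve_left h).trans_lt (Submodule.finrank_lt_finrank_of_lt
        (SetLike.lt_iff_le_and_exists.mpr ⟨h3, v, (hC _ _).mpr fun g =>
          (Submodule.Quotient.eq _).mp (hv1 g), mt (Submodule.Quotient.mk_eq_zero _).mpr hv⟩)))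
  let G : ℕ → Subgroup P := fun m =>
    { carrier := {g | ∀ i, ∀ v ∈ C i, ρ g v - v ∈ C (i - m)}
      mul_mem' := fun {a b} ha hb i v hv => by
        rw [map_mul, Module.End.mul_apply, ← sub_add_sub_cancel]
        exact add_mem (ha i _ (h1 i b v hv)) (hb i v hv)
      one_mem' := fun i v _ => by simp
      inv_mem' := fun {a} ha i v hv => by
        have := neg_mem (ha i _ (h1 i a⁻¹ v hv))
        rwa [← Module.End.mul_apply, ← map_mul, mul_inv_cancel, map_one, neg_sub] at this }
  have h3 : ∀ j, derivedSeries P j ≤ G (2 ^ j) := fun j => by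
    induction j with
    | zero =>
      intro g _ i v hv
      cases i with
      | zero => rw [(Submodule.mem_bot F).mp (hC0.le hv), map_zero, sub_self]; exact zero_mem _
      | succ i => exact (hC _ _).mp hv g
    | succ j ih =>
      refine (commutator_mono ih ih).trans (commutator_le.mpr fun a ha b hb i v hv => ?_)
      have h4 := h1 i (a⁻¹ * b⁻¹) v hv
      have h5 := sub_mem (ha _ _ (hb i _ h4)) (hb _ _ (ha i _ h4))
      rw [Nat.sub_sub, ← two_mul, ← pow_succ'] at h5
      convert h5 using 1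
      simp only [map_sub, ← Module.End.mul_apply, ← map_mul, commutatorElement_def, mul_assoc,
        mul_inv_cancel_left, mul_inv_cancel, map_one, Module.End.one_apply]
      abel
  intro g hg
  refine LinearMap.ext fun v => sub_eq_zero.mp ((Submodule.mem_bot F).mp ?_)
  have := h3 j hg (finrank F V) v (((h2 _).elim id fun h => Submodule.eq_top_of_finrank_eq
    ((Submodule.finrank_le _).antisymm h)).ge Submodule.mem_top)
  rwa [Nat.sub_eq_zero_of_le hj, hC0] at this

end linear

end CfsgLib.H5
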