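import Mathlib
import Cfsg.Agent.Lib.CoreBasic
import Cfsg.Agent.Lib.CommCalc
import Cfsg.Agent.Lib.HallPetrescu
import Cfsg.Agent.Lib.HallWielandt

/-! Power-commutator congruences and the Engel congruence of exponent `p`. -/

set_option autoImplicit false

namespace CfsgLib.H5

open Subgroup CfsgLib
open scoped commutatorElement

variable {G : Type*} [Group G] {p : ℕ}

local notation "L" => Subgroup.lowerCentralSeries (⊤ : Subgroup G)

theorem lcs_succ_eq (k : ℕ) : L (k + 1) = ⁅L k, ⊤⁆ := rfl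

theorem lcs_le_of_le {i j : ℕ} (h : i ≤ j) : L j ≤ L i := Subgroup.lowerCentralSeries_antitone ⊤ h

theorem comm_mem_lcs_left {k : ℕ} {a : G} (ha : a ∈ L k) (g : G) : ⁅a, g⁆ ∈ L (k + 1) :=
  commutator_mem_commutator ha (mem_top g)

theorem comm_mem_lcs_right {k : ℕ} {a : G} (ha : a ∈ L k) (g : G) : ⁅g, a⁆ ∈ L (k + 1) := by
  rw [← commutatorElement_inv]; exact inv_mem (comm_mem_lcs_left ha g)

theorem lcs_sup_zpowers_le (k : ℕ) (b : G) (j : ℕ) :
    (L k ⊔ zpowers b).lowerCentralSeries (j + 1) ≤ ⁅L (k + j), L k ⊔ zpowers b⁆ := by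
  induction j with
  | zero =>
    have hn := normalizer_commutator_ge_right (L k) (L k ⊔ zpowers b)
    refine CommCalc.commutator_sup_left_le (le_sup_left.trans hn) (le_sup_right.trans hn) le_rfl
      (CommCalc.commutator_sup_right_le (le_sup_left.trans hn) (le_sup_right.trans hn) ?_ ?_)
    · rw [Subgroup.commutator_comm]; exact commutator_mono le_rfl le_sup_right
    · rw [commutator_eq_bot_iff_le_centralizer.2 (le_centralizer (zpowers b))]; exact bot_le
  | succ j ih =>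
    exact commutator_mono (ih.trans (commutator_mono le_rfl le_top)) le_rfl

theorem hp_congr [hp : Fact p.Prime] {k : ℕ} {a : G} (ha : a ∈ L k) (b : G) (N : Subgroup G)
    (h1 : ∀ c ∈ L (k + 1), c ^ p ∈ N) (h2 : ⁅L (k + (p - 2)), L k ⊔ zpowers b⁆ ≤ N) :
    ((a * b) ^ p)⁻¹ * (a ^ p * b ^ p) ∈ N := by
  refine HallPetrescu.inv_mul_pow_prime_mem hp.out (L k ⊔ zpowers b) (mem_sup_left ha)
    (mem_sup_right (mem_zpowers b)) N (fun c hc => h1 c ?_) ?_
  · exact (lcs_sup_zpowers_le k b 0).trans (commutator_mono le_rfl le_top) hc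
  · have := hp.out.two_le
    rw [show p - 1 = p - 2 + 1 by omega]
    exact (lcs_sup_zpowers_le k b _).trans h2

/-- the elements of `L k` whose `p`-th power lies in `N` -/
theorem exists_powSub {k : ℕ} (N : Subgroup G)
    (h : ∀ a ∈ L k, ∀ b ∈ L k, ((a * b) ^ p)⁻¹ * (a ^ p * b ^ p) ∈ N) :
    ∃ K : Subgroup G, ∀ x, x ∈ K ↔ x ∈ L k ∧ x ^ p ∈ N :=
  ⟨{ carrier := {x | x ∈ L k ∧ x ^ p ∈ N}
     one_mem' := ⟨one_mem _, by simp⟩
     inv_mem' := fun hx => ⟨inv_mem hx.1, by rw [inv_pow]; exact inv_mem hx.2⟩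
     mul_mem' := fun {a b} ha hb => ⟨mul_mem ha.1 hb.1, by
       simpa using (mul_mem_cancel_right (mul_mem ha.2 hb.2)).1 (h a ha.1 b hb.1)⟩ },
    fun _ => Iff.rfl⟩

theorem comm_pow_congr {a b g : G} {N : Subgroup G} [hN : N.Normal] (ha : a = ⁅g, b⁆)
    (h : ((a * b) ^ p)⁻¹ * (a ^ p * b ^ p) ∈ N) : a ^ p ∈ N ↔ ⁅g, b ^ p⁆ ∈ N := by
  have h1 : (a * b) ^ p = ⁅g, b ^ p⁆ * b ^ p := by
    rw [ha, show ⁅g, b⁆ * b = g * b * g⁻¹ by simp [commutatorElement_def], conj_pow]
    simp [commutatorElement_def]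
  have h2 := hN.conj_mem _ h (b ^ p)
  rw [h1, show b ^ p * ((⁅g, b ^ p⁆ * b ^ p)⁻¹ * (a ^ p * b ^ p)) * (b ^ p)⁻¹ =
    ⁅g, b ^ p⁆⁻¹ * a ^ p by group] at h2
  exact ⟨fun h3 => inv_mem_iff.1 ((mul_mem_cancel_right h3).1 h2),
    fun h3 => (mul_mem_cancel_left (inv_mem h3)).1 h2⟩

theorem pow_mem_lcs_add [hp : Fact p.Prime] {m : ℕ} (hm : m ≤ p - 1) (h0 : ∀ g : G, g ^ p ∈ L m)
    (j : ℕ) : ∀ c ∈ L j, c ^ p ∈ L (j + m) := by
  have h2 := hp.out.two_le
  induction j with
  | zero => intro c _; simpa using h0 c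
  | succ j ih =>
    have key : ∀ d l, j ≤ l → j + m ≤ l + d → ∀ c ∈ L (l + 1), c ^ p ∈ L (j + 1 + m) := by
      intro d
      induction d with
      | zero => intro l _ h c hc; exact pow_mem (lcs_le_of_le (by omega) hc) p
      | succ d ihd =>
        intro l hl h
        have hhp : ∀ a ∈ L (l + 1), ∀ b : G, ((a * b) ^ p)⁻¹ * (a ^ p * b ^ p) ∈ L (j + 1 + m) :=
          fun a ha b => hp_congr ha b _ (ihd (l + 1) (by omega) (by omega))
            ((commutator_mono le_rfl le_top).trans (lcs_le_of_le (j := l + 1 + (p - 2) + 1)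
              (by omega)))
        obtain ⟨K, hK⟩ := exists_powSub (L (j + 1 + m)) fun a ha b _ => hhp a ha b
        have : L (l + 1) ≤ K := by
          rw [lcs_succ_eq, Subgroup.commutator_comm, commutator_le]
          intro g _ b hb
          refine (hK _).2 ⟨comm_mem_lcs_right hb g, (comm_pow_congr rfl
            (hhp _ (comm_mem_lcs_right hb g) b)).2 ?_⟩
          rw [show j + 1 + m = j + m + 1 by ring]
          exact comm_mem_lcs_right (ih b (lcs_le_of_le hl hb)) g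
        exact fun c hc => ((hK c).1 (this hc)).2
    exact key m j le_rfl le_rfl

theorem comm_bilin {i j : ℕ} {a b r s : G} (ha : a ∈ L i) (hb : b ∈ L j) (hr : r ∈ L (i + 1))
    (hs : s ∈ L (j + 1)) (m n : ℕ) :
    (⁅a, b⁆ ^ (m * n))⁻¹ * ⁅a ^ m * r, b ^ n * s⁆ ∈ L (i + j + 2) := by
  rw [← QuotientGroup.eq]
  let π := QuotientGroup.mk' (L (i + j + 2))
  have h1 : ∀ x y : G, ⁅x, y⁆ ∈ L (i + j + 2) → Commute (π x) (π y) := fun x y h => by
    rw [← commutatorElement_eq_one_iff_commute, ← map_commutatorElement]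
    exact (QuotientGroup.eq_one_iff _).2 h
  have h2 : ∀ x ∈ L (i + j + 1), ∀ g, Commute (π g) (π x) := fun x hx g =>
    h1 _ _ (comm_mem_lcs_right hx g)
  have hab := CommCalc.commutator_mem_lcs ha hb
  change π _ = π _
  have h3 : ⁅π r, π (b ^ n * s)⁆ = 1 := commutatorElement_eq_one_iff_commute.2 (h1 _ _ (by
    have := CommCalc.commutator_mem_lcs hr (mul_mem (pow_mem hb n) (lcs_le_of_le j.le_succ hs))
    rwa [show i + 1 + j + 1 = i + j + 2 by ring] at this))
  have h4 : ⁅π (a ^ m), π s⁆ = 1 := commutatorElement_eq_one_iff_commute.2 (h1 _ _ (by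
    have := CommCalc.commutator_mem_lcs (pow_mem ha m) hs
    rwa [show i + (j + 1) + 1 = i + j + 2 by ring] at this))
  rw [map_commutatorElement, map_mul π (a ^ m), CommCalc.comm_mul_left, h3, map_mul π (b ^ n),
    CommCalc.comm_mul_right, h4, map_pow, map_pow, map_pow, map_commutatorElement,
    CommCalc.comm_pow_pow (map_commutatorElement π a b ▸ h2 _ hab a)
      (map_commutatorElement π a b ▸ h2 _ hab b), mul_one, mul_inv_cancel, one_mul, mul_one,
    mul_inv_cancel, mul_one]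

theorem scal_lcs (θ : G →* G) (μ : ℕ) (h : ∀ q : G, (q ^ μ)⁻¹ * θ q ∈ L 1) (k : ℕ) :
    ∀ q ∈ L k, (q ^ μ ^ (k + 1))⁻¹ * θ q ∈ L (k + 1) := by
  induction k with
  | zero => intro q _; simpa using h q
  | succ k ih =>
    let π := QuotientGroup.mk' (L (k + 2))
    have hc : ∀ x ∈ L (k + 1), ∀ g, Commute (π g) (π x) := fun x hx g => by
      rw [← commutatorElement_eq_one_iff_commute, ← map_commutatorElement]
      exact (QuotientGroup.eq_one_iff _).2 (comm_mem_lcs_right hx g)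
    let K : Subgroup G :=
      { carrier := {x | x ∈ L (k + 1) ∧ π x ^ μ ^ (k + 2) = π (θ x)}
        one_mem' := ⟨one_mem _, by rw [map_one θ, map_one π, one_pow]⟩
        inv_mem' := fun hx => ⟨inv_mem hx.1, by rw [map_inv, map_inv, map_inv, inv_pow, hx.2]⟩
        mul_mem' := fun {a b} ha hb => ⟨mul_mem ha.1 hb.1, by
          rw [map_mul, map_mul, map_mul, (hc b hb.1 a).mul_pow, ha.2, hb.2]⟩ }
    have : L (k + 1) ≤ K := by
      rw [lcs_succ_eq, commutator_le]
      intro a ha b _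
      refine ⟨comm_mem_lcs_left ha b, ?_⟩
      have := comm_bilin (i := k) (j := 0) ha (mem_top b) (ih a ha) (h b) (μ ^ (k + 1)) μ
      rw [mul_inv_cancel_left, mul_inv_cancel_left, ← map_commutatorElement, ← pow_succ] at this
      rw [← map_pow]
      exact QuotientGroup.eq.2 this
    intro q hq
    rw [← QuotientGroup.eq]
    exact (this hq).2

theorem iter_comm_mem_lcs (x y : G) (j : ℕ) : (fun a => ⁅x, a⁆)^[j] y ∈ L j := by
  induction j with
  | zero => exact mem_top y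
  | succ j ih => rw [Function.iterate_succ_apply']; exact comm_mem_lcs_right ih x

theorem iter_comm_scal (θ : G →* G) (μ : ℕ) {x y : G} (hx : θ x = x) (hy : θ y = y ^ μ) (j : ℕ) :
    ((fun a => ⁅x, a⁆)^[j] y ^ μ)⁻¹ * θ ((fun a => ⁅x, a⁆)^[j] y) ∈ L (j + 1) := by
  induction j with
  | zero => simp [hy]
  | succ j ih =>
    rw [Function.iterate_succ_apply']
    have := comm_bilin (i := 0) (j := j) (mem_top x) (iter_comm_mem_lcs x y j) (one_mem _) ih 1 μ
    rwa [mul_inv_cancel_left, pow_one, mul_one, one_mul, zero_add, ← hx, ← map_commutatorElement,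
      hx] at this

theorem iter_comm_mem_commutator [Finite G] [hp : Fact p.Prime] {x y : G} (N : Subgroup G)
    (hx : x ∈ normalizer (N : Set G)) (hyN : y ∈ N) (hN : ∀ n ∈ N, n ^ p ∈ ⁅N, N⁆)
    (hxp : x ^ p = 1) (hxy : (y * x) ^ p = 1) : (fun a => ⁅x, a⁆)^[p - 1] y ∈ ⁅N, N⁆ := by
  obtain ⟨A, _, φ, hφ, hφ0⟩ := HallWielandt.exists_phi_of_commutator_le N ⁅N, N⁆ le_rfl
  have h1 : φ 1 = 0 := (hφ0 1 (one_mem _)).2 (one_mem _)
  have hc : ∀ (i : ℕ), ∀ n ∈ N, x ^ i * n * (x ^ i)⁻¹ ∈ N := fun i n hn =>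
    conj_mem_of_mem_normalizer (pow_mem hx i) hn
  have hd : ∀ m, (fun a => ⁅x, a⁆)^[m] y ∈ N := by
    intro m
    induction m with
    | zero => exact hyN
    | succ m ih =>
      rw [Function.iterate_succ_apply']
      exact mul_mem (conj_mem_of_mem_normalizer hx ih) (inv_mem ih)
  have key : ∀ m j : ℕ, φ (x ^ j * (fun a => ⁅x, a⁆)^[m] y * (x ^ j)⁻¹) =
      (fwdDiff 1)^[m] (fun i : ℕ => φ (x ^ i * y * (x ^ i)⁻¹)) j := by
    intro m
    induction m with
    | zero => intro j; rfl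
    | succ m ih =>
      intro j
      have := hd (m + 1)
      rw [Function.iterate_succ_apply'] at this
      rw [Function.iterate_succ_apply', Function.iterate_succ_apply', fwdDiff, ← ih, ← ih,
        eq_sub_iff_add_eq, ← hφ _ (hc j _ this) _ (hc j _ (hd m))]
      congr 1
      simp only [commutatorElement_def]
      group
  have hpow : ∀ n ∈ N, ∀ k : ℕ, φ (n ^ k) = k • φ n := by
    intro n hn k
    induction k with
    | zero => simpa using h1
    | succ k ih => rw [pow_succ, hφ _ (pow_mem hn k) _ hn, ih, succ_nsmul]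
  have hsum : ∀ m : ℕ, (y * x) ^ m * (x ^ m)⁻¹ ∈ N ∧ φ ((y * x) ^ m * (x ^ m)⁻¹) =
      ∑ i ∈ Finset.range m, φ (x ^ i * y * (x ^ i)⁻¹) := by
    intro m
    induction m with
    | zero => simpa using h1
    | succ m ih =>
      have : (y * x) ^ (m + 1) * (x ^ (m + 1))⁻¹ =
          (y * x) ^ m * (x ^ m)⁻¹ * (x ^ m * y * (x ^ m)⁻¹) := by
        rw [pow_succ, pow_succ']; group
      rw [this, Finset.sum_range_succ, hφ _ ih.1 _ (hc m y hyN), ih.2]
      exact ⟨mul_mem ih.1 (hc m y hyN), rfl⟩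
  have h2 := key (p - 1) 0
  rw [pow_zero, one_mul, inv_one, mul_one, fwdDiff_iter_eq_sum_shift,
    Nat.sub_add_cancel hp.out.one_le] at h2
  refine (hφ0 _ (hd _)).1 ?_
  have h3 := (hsum p).2
  rw [hxy, hxp, inv_one, mul_one, h1] at h3
  rw [h2, h3]
  refine Finset.sum_congr rfl fun k hk => ?_
  rw [Finset.mem_range] at hk
  have h4 := HallWielandt.neg_one_pow_mul_choose (p := p) (p - 1 - k) (by omega)
  rw [Nat.choose_symm (by omega)] at h4
  obtain ⟨t, ht⟩ : (p : ℤ) ∣ (-1) ^ (p - 1 - k) * ((p - 1).choose k : ℤ) - 1 := by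
    rw [← ZMod.intCast_eq_intCast_iff_dvd_sub]
    push_cast
    exact h4.symm
  have h5 : (p : ℤ) • φ (x ^ k * y * (x ^ k)⁻¹) = 0 := by
    rw [natCast_zsmul, ← hpow _ (hc k y hyN)]
    exact (hφ0 _ (pow_mem (hc k y hyN) p)).2 (hN _ (hc k y hyN))
  rw [eq_add_of_sub_eq ht, add_smul, one_smul, mul_comm, mul_smul]
  simp only [smul_eq_mul, mul_one, zero_add]
  rw [h5, smul_zero, zero_add]

theorem engel_aux [Finite G] [hp : Fact p.Prime] (hcl : L p = ⊥) (h1 : ∀ c ∈ L 1, c ^ p = 1)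
    {x y : G} (θ : G →* G) (μ : ℕ) (hx : θ x = x) (hy : θ y = y ^ μ) (hxp : x ^ p = 1)
    (hyp : y ^ p = 1) (hxy : (y * x) ^ p = 1)
    (hμ : ∀ k, 1 ≤ k → k ≤ p - 2 → (μ : ZMod p) ^ (k + 1) ≠ μ) :
    (fun a => ⁅x, a⁆)^[p - 1] y = 1 := by
  have h2 := hp.out.two_le
  let N : Subgroup G := closure (Set.range fun i : ℕ => x ^ i * y * (x ^ i)⁻¹)
  have hgen : ∀ i : ℕ, x ^ i * y * (x ^ i)⁻¹ ∈ N := fun i => subset_closure ⟨i, rfl⟩
  have hyN : y ∈ N := by simpa using hgen 0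
  have hxN : x ∈ normalizer (N : Set G) := mem_normalizer_of_conj_mem fun n hn => by
    have : N.map (MulAut.conj x).toMonoidHom ≤ N := by
      rw [MonoidHom.map_closure, closure_le]
      rintro _ ⟨_, ⟨i, rfl⟩, rfl⟩
      have := hgen (i + 1)
      rw [pow_succ'] at this
      simpa [mul_assoc] using this
    exact this ⟨n, hn, rfl⟩
  have hθN : ∀ n ∈ N, θ n ∈ N := by
    have : N.map θ ≤ N := by
      rw [MonoidHom.map_closure, closure_le]
      rintro _ ⟨_, ⟨i, rfl⟩, rfl⟩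
      simp only [map_mul, map_inv, map_pow, hx, hy, ← conj_pow]
      exact pow_mem (hgen i) μ
    exact fun n hn => this ⟨n, hn, rfl⟩
  let θ' : N →* N := (θ.comp N.subtype).codRestrict N fun n => hθN n n.2
  let π := QuotientGroup.mk' ((⊤ : Subgroup N).lowerCentralSeries 1)
  have hc : ∀ a b : N, Commute (π a) (π b) := fun a b => by
    rw [← commutatorElement_eq_one_iff_commute, ← map_commutatorElement]
    exact (QuotientGroup.eq_one_iff _).2 (comm_mem_lcs_right (mem_top b) a)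
  have hind : ∀ n, ∀ hn : n ∈ N, π ⟨n, hn⟩ ^ p = 1 ∧ π ⟨n, hn⟩ ^ μ = π (θ' ⟨n, hn⟩) := by
    intro n hn
    induction hn using closure_induction with
    | mem _ h =>
      obtain ⟨i, rfl⟩ := h
      rw [← map_pow, ← map_pow]
      refine ⟨?_, congrArg π (Subtype.ext ?_)⟩
      · rw [← map_one π]
        exact congrArg π (Subtype.ext (by simp [conj_pow, hyp]))
      · change (x ^ i * y * (x ^ i)⁻¹) ^ μ = θ (x ^ i * y * (x ^ i)⁻¹)
        simp [hx, hy, conj_pow]
    | one => exact ⟨by rw [show (⟨1, _⟩ : N) = 1 from rfl, map_one, one_pow],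
        by rw [show (⟨1, _⟩ : N) = 1 from rfl, map_one, map_one, map_one, one_pow]⟩
    | mul a b ha hb iha ihb =>
      rw [show (⟨a * b, _⟩ : N) = ⟨a, ha⟩ * ⟨b, hb⟩ from rfl, map_mul, map_mul, map_mul,
        (hc _ _).mul_pow, (hc _ _).mul_pow, iha.1, iha.2, ihb.1, ihb.2]
      exact ⟨one_mul 1, rfl⟩
    | inv a ha iha =>
      rw [show (⟨a⁻¹, _⟩ : N) = ⟨a, ha⟩⁻¹ from rfl, map_inv, map_inv, map_inv, inv_pow, inv_pow,
        iha.1, iha.2]
      exact ⟨inv_one, rfl⟩
  have hmap : ∀ k, ((⊤ : Subgroup N).lowerCentralSeries k).map N.subtype =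
      N.lowerCentralSeries k := fun k => by
    rw [Subgroup.map_lowerCentralSeries, ← MonoidHom.range_eq_map, range_subtype]
  have hE1 := iter_comm_mem_commutator N hxN hyN (fun n hn => by
    have : (⟨n, hn⟩ : N) ^ p ∈ (⊤ : Subgroup N).lowerCentralSeries 1 :=
      (QuotientGroup.eq_one_iff _).1 (hind n hn).1
    exact (hmap 1).le ⟨_, this, rfl⟩) hxp hxy
  have hE2 := iter_comm_scal θ μ hx hy (p - 1)
  have hE3 := h1 _ (lcs_le_of_le (by omega : 1 ≤ p - 1) (iter_comm_mem_lcs x y (p - 1)))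
  rw [Nat.sub_add_cancel hp.out.one_le, hcl, mem_bot, inv_mul_eq_one] at hE2
  set E := (fun a => ⁅x, a⁆)^[p - 1] y
  have key : ∀ k, k + 1 ≤ p - 1 → E ∈ N.lowerCentralSeries (k + 1) := by
    intro k
    induction k with
    | zero => exact fun _ => hE1
    | succ k ih =>
      intro hk
      obtain ⟨e, he, heE⟩ := (hmap _).ge (ih (by omega))
      have h3 := scal_lcs θ' μ (fun q => QuotientGroup.eq.1 (hind q q.2).2) (k + 1) e he
      have h4 : (E ^ μ ^ (k + 1 + 1))⁻¹ * E ^ μ ∈ N.lowerCentralSeries (k + 1 + 1) := by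
        rw [hE2, ← heE]
        exact (hmap _).le ⟨_, h3, rfl⟩
      have h5 : IsCoprime ((μ : ℤ) - μ ^ (k + 1 + 1)) (p : ℤ) := by
        rw [isCoprime_comm, (Nat.prime_iff_prime_int.1 hp.out).coprime_iff_not_dvd,
          ← ZMod.intCast_eq_intCast_iff_dvd_sub]
        push_cast
        exact hμ (k + 1) (by omega) (by omega)
      obtain ⟨a, b, hab⟩ := h5
      have h6 : E = ((E ^ μ ^ (k + 1 + 1))⁻¹ * E ^ μ) ^ a := by
        rw [← zpow_natCast, ← zpow_natCast, ← zpow_neg, ← zpow_add, ← zpow_mul]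
        conv_lhs => rw [← zpow_one E, ← hab, zpow_add, mul_comm b, zpow_mul E p, zpow_natCast, hE3,
          one_zpow, mul_one]
        congr 1; push_cast; ring
      rw [h6]; exact zpow_mem h4 a
  have h7 : N ≤ L 1 ⊔ zpowers y := (closure_le _).2 (by
    rintro _ ⟨i, rfl⟩
    have := mul_mem (mem_sup_left (comm_mem_lcs_right (k := 0) (mem_top y) (x ^ i)) :
      _ ∈ L 1 ⊔ zpowers y) (mem_sup_right (mem_zpowers y))
    simpa [commutatorElement_def] using this)
  have h8 := (Subgroup.lowerCentralSeries_mono (p - 2 + 1) h7).trans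
    ((lcs_sup_zpowers_le 1 y (p - 2)).trans (commutator_mono le_rfl le_top)) (key (p - 2) (by omega))
  rwa [← lcs_succ_eq, show 1 + (p - 2) + 1 = p by omega, hcl, mem_bot] at h8

/-- The Engel congruence. -/
theorem engel_of_pow_eq_one [Finite G] [hp : Fact p.Prime] (hcl : L p = ⊥)
    (h1 : ∀ c ∈ L 1, c ^ p = 1) {x y : G} (hyp : y ^ p = 1) (hxy : ∀ k : ℕ, (y ^ k * x) ^ p = 1) :
    (fun a => ⁅x, a⁆)^[p - 1] y = 1 := by
  obtain ⟨μ, hμ⟩ := IsCyclic.exists_generator (α := (ZMod p)ˣ)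
  have hμo : orderOf μ = p - 1 := by
    rw [orderOf_eq_card_of_forall_mem_zpowers hμ, Nat.card_eq_fintype_card, ZMod.card_units]
  let θ : ((ZMod p)ˣ → G) →* ((ZMod p)ˣ → G) :=
    MonoidHom.mk' (fun f u => f (u * μ)) fun _ _ => rfl
  have hev : ∀ k, ∀ f ∈ (⊤ : Subgroup ((ZMod p)ˣ → G)).lowerCentralSeries k, ∀ u, f u ∈ L k :=
    fun k f hf u => by
      have := (Subgroup.map_lowerCentralSeries ⊤ (Pi.evalMonoidHom (fun _ : (ZMod p)ˣ => G) u) k).le
        ⟨f, hf, rfl⟩
      exact Subgroup.lowerCentralSeries_mono k le_top this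
  have key := engel_aux (G := (ZMod p)ˣ → G) (p := p)
    (eq_bot_iff.2 fun f hf => mem_bot.2 (funext fun u => mem_bot.1 (hcl ▸ hev p f hf u)))
    (fun f hf => funext fun u => h1 _ (hev 1 f hf u)) (x := fun _ => x)
    (y := fun u => y ^ (u : ZMod p).val) θ (μ : ZMod p).val rfl
    (funext fun u => by
      change y ^ _ = (y ^ _) ^ _
      rw [← pow_mul, Units.val_mul, ZMod.val_mul, ← pow_eq_pow_mod _ hyp])
    (funext fun u => by simpa using hxy 0)
    (funext fun u => by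
      change (y ^ _) ^ p = 1
      rw [pow_right_comm, hyp, one_pow])
    (funext fun u => hxy _)
    (fun k hk1 hk2 h => by
      rw [ZMod.natCast_zmod_val, ← Units.val_pow_eq_pow_val, Units.val_inj, pow_succ,
        mul_eq_right, ← orderOf_dvd_iff_pow_eq_one, hμo] at h
      have := Nat.le_of_dvd hk1 h
      have := hp.out.two_le
      omega)
  have h2 : ∀ (j : ℕ) (f : (ZMod p)ˣ → G), ((fun a => ⁅(fun _ => x : (ZMod p)ˣ → G), a⁆)^[j] f) 1 =
      (fun a => ⁅x, a⁆)^[j] (f 1) := by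
    intro j f
    induction j with
    | zero => rfl
    | succ j ih => rw [Function.iterate_succ_apply', Function.iterate_succ_apply', ← ih]; rfl
  have h3 := congrFun key 1
  rwa [h2, Units.val_one, ZMod.val_one, pow_one] at h3

end CfsgLib.H5
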