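import Mathlib
import Cfsg.Agent.Lib.FrobFPFStruct
import Cfsg.Agent.Lib.Hall
import Cfsg.Agent.Lib.CoreSolvable
import Cfsg.Agent.Lib.CoreElements

/-! Groups all of whose elements have prime-power order. -/

set_option autoImplicit false

namespace CfsgLib.H5
open Subgroup Cfsg

/-- Every element has prime-power order. -/
def Eppo (G : Type*) [Group G] : Prop := ∀ g : G, g ≠ 1 → IsPrimePow (orderOf g)

variable {G : Type*} [Group G]

theorem Eppo.of_injective (h : Eppo G) {H : Type*} [Group H] (f : H →* G)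
    (hf : Function.Injective f) : Eppo H := fun g hg => by
  rw [← orderOf_injective f hf]
  exact h _ fun h1 => hg (hf (h1.trans f.map_one.symm))

theorem Eppo.of_surjective (h : Eppo G) {H : Type*} [Group H] (f : G →* H)
    (hf : Function.Surjective f) : Eppo H := fun g hg => by
  obtain ⟨g, rfl⟩ := hf g
  obtain ⟨p, k, hp, -, hk⟩ := (isPrimePow_nat_iff _).mp (h g fun h1 => hg (by simp [h1]))
  obtain ⟨j, -, hj⟩ := (Nat.dvd_prime_pow hp).mp (hk ▸ orderOf_map_dvd f g)
  exact (isPrimePow_nat_iff _).mpr ⟨p, j, hp, Nat.pos_of_ne_zero fun h0 =>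
    hg (orderOf_eq_one_iff.mp (by simpa [h0] using hj)), hj.symm⟩

theorem Eppo.eq_one_or_eq_one (h : Eppo G) {x y : G} (hc : Commute x y)
    (hco : (orderOf x).Coprime (orderOf y)) : x = 1 ∨ y = 1 := by
  by_contra hne
  push Not at hne
  have ho := hc.orderOf_mul_eq_mul_orderOf_of_coprime hco
  have h1 := h (x * y) fun h1 => by
    rw [h1, orderOf_one, eq_comm, mul_eq_one] at ho
    exact hne.1 (orderOf_eq_one_iff.mp ho.1)
  rcases (hco.isPrimePow_dvd_mul h1).mp ho.dvd with h2 | h2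
  · rw [ho] at h2
    exact hne.2 (orderOf_eq_one_iff.mp (Nat.Coprime.eq_one_of_dvd hco.symm
      ((dvd_mul_left _ _).trans h2)))
  · rw [ho] at h2
    exact hne.1 (orderOf_eq_one_iff.mp (Nat.Coprime.eq_one_of_dvd hco
      ((dvd_mul_right _ _).trans h2)))

theorem Eppo.isPGroup_centralizer (h : Eppo G) {y : G} {p : ℕ} (hp : p.Prime)
    (hy : p ∣ orderOf y) : IsPGroup p (centralizer ({y} : Set G)) := by
  have hy1 : y ≠ 1 := fun h1 => hp.not_dvd_one (by simpa [h1] using hy)
  refine isPGroup_of_forall_orderOf fun x hx => ?_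
  by_cases hx1 : x = 1
  · exact ⟨0, by simp [hx1]⟩
  obtain ⟨q, k, hq, -, hk⟩ := (isPrimePow_nat_iff _).mp (h x hx1)
  obtain ⟨r, j, hr, -, hj⟩ := (isPrimePow_nat_iff _).mp (h y hy1)
  obtain rfl := (Nat.prime_dvd_prime_iff_eq hp hr).mp (hp.dvd_of_dvd_pow (hj ▸ hy))
  by_cases hqp : q = p
  · exact ⟨k, hqp ▸ hk.symm⟩
  · exact absurd (h.eq_one_or_eq_one (mem_centralizer_singleton_iff.mp hx)
      (hk ▸ hj ▸ Nat.coprime_pow_primes k j hq hp hqp)) (not_or.mpr ⟨hx1, hy1⟩)

theorem Eppo.isSolvable_centralizer [Finite G] (h : Eppo G) {y : G} (hy : y ≠ 1) :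
    Group.IsSolvable (centralizer ({y} : Set G)) := by
  obtain ⟨p, hp, hd⟩ := Nat.exists_prime_and_dvd (mt orderOf_eq_one_iff.mp hy)
  have := Fact.mk hp
  exact isSolvable_of_isPGroup (h.isPGroup_centralizer hp hd)

theorem Eppo.hasFPF [Finite G] (h : Eppo G) {K V : Subgroup G} (hn : K ≤ normalizer (V : Set G))
    (hV : V ≠ ⊥) (hc : (Nat.card K).Coprime (Nat.card V)) : Frob.HasFPF K :=
  Frob.hasFPF_of_fpf hn hV fun _ hx hx1 _ hv he =>
    (h.eq_one_or_eq_one he ((hc.coprime_dvd_left (orderOf_dvd_natCard K hx)).coprime_dvd_right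
      (orderOf_dvd_natCard V hv))).resolve_left hx1

/-- Higman: a solvable group with all elements of prime-power order has at most two primes. -/
theorem Eppo.card_primeFactors_le_two [Finite G] (h : Eppo G) (hs : Group.IsSolvable G) :
    (Nat.card G).primeFactors.card ≤ 2 := by
  by_contra! h3
  have : Nontrivial G := Finite.one_lt_card_iff_nontrivial.mp (by
    by_contra! h1
    rw [show Nat.card G = 1 from h1.antisymm Nat.card_pos] at h3
    simp at h3)
  obtain ⟨V, hV⟩ := exists_isMinNormal (G := G)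
  have := hV.1
  obtain ⟨p, hp, hVp⟩ := hV.exists_isPGroup inferInstance
  have := Fact.mk hp
  obtain ⟨K, hK⟩ := Hall.exists_isPiHall hs {p}ᶜ
  obtain ⟨hK1, n, hK2⟩ := Hall.isPiHall_compl_singleton_iff.mp hK
  obtain ⟨m, hm⟩ := hVp.exists_card_eq
  have hF := h.hasFPF (K := K) le_normalizer_of_normal hV.2.1 (hm ▸ hK1.pow_right m)
  have h2 : 2 ≤ (Nat.card K).primeFactors.card := by
    have : (Nat.card G).primeFactors ⊆ insert p (Nat.card K).primeFactors := fun q hq => by
      have hq' := Nat.prime_of_mem_primeFactors hq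
      have := Nat.dvd_of_mem_primeFactors hq
      rw [← K.card_mul_index, hK2, hq'.dvd_mul] at this
      rcases this with h | h
      · exact Finset.mem_insert_of_mem (Nat.mem_primeFactors.mpr ⟨hq', h, Nat.card_pos.ne'⟩)
      · simp [(Nat.prime_dvd_prime_iff_eq hq' hp).mp (hq'.dvd_of_dvd_pow h)]
    have := (Finset.card_le_card this).trans (Finset.card_insert_le _ _)
    omega
  have : Nontrivial K := Finite.one_lt_card_iff_nontrivial.mp (by
    by_contra! h1
    rw [show Nat.card K = 1 from h1.antisymm Nat.card_pos] at h2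
    simp at h2)
  obtain ⟨W, hW⟩ := exists_isMinNormal (G := K)
  obtain ⟨q, hq, hWq⟩ := hW.exists_isPGroup inferInstance
  have := Fact.mk hq
  obtain ⟨r, hr, hrq⟩ := Finset.exists_mem_ne (lt_of_lt_of_le one_lt_two h2) q
  have hr' := Nat.prime_of_mem_primeFactors hr
  have := Fact.mk hr'
  obtain ⟨x, hx⟩ := exists_prime_orderOf_dvd_card' r (Nat.dvd_of_mem_primeFactors hr)
  obtain ⟨y, hy, hy1, hxy⟩ := hF.exists_commute_of_prime hW.2.1 (x := x)
    (fun y hy => hW.1.conj_mem y hy x) hr' (hx ▸ pow_orderOf_eq_one x)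
  obtain ⟨k, hk⟩ := orderOf_eq_pow_of_mem_isPGroup hWq hy
  rcases (h.of_injective K.subtype K.subtype_injective).eq_one_or_eq_one hxy
    (hx ▸ hk ▸ ((Nat.coprime_primes hr' hq).mpr hrq).pow_right k) with h1 | h1
  · exact hr'.one_lt.ne (by rw [← hx, h1, orderOf_one])
  · exact hy1 h1

end CfsgLib.H5
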