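import Mathlib
import Cfsg.Agent.Lib.H5CoverA
import Cfsg.Agent.Lib.FrobMain
import Cfsg.Agent.Lib.CoreSolvable
import Cfsg.Agent.Lib.CoreElements
import Cfsg.Agent.Lib.ClassSize
import Cfsg.Agent.Lib.SylowIn
import Cfsg.Agent.Lib.H5PiClosed

/-! Groups acting on an abelian group so that all nonidentity elements have the same fixed
points. -/

set_option autoImplicit false

namespace CfsgLib.H5.TwoCls

open Subgroup Cfsg CfsgLib.H5.Cover
open scoped commutatorElement Pointwise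

section

variable {E V : Type*} [Group E] [Finite E] [CommGroup V] [Finite V] [MulDistribMulAction E V]

/-- the `s`-elements killed by the norm map of `R` -/
def kerNm (V : Type*) [CommGroup V] [MulDistribMulAction E V] (s : ℕ) (R : Subgroup E) :
    Subgroup V where
  carrier := {v | (∃ k, v ^ s ^ k = 1) ∧ nm R v = 1}
  one_mem' := ⟨⟨0, one_pow _⟩, nm_one R⟩
  mul_mem' := by
    rintro a b ⟨⟨i, hi⟩, ha⟩ ⟨⟨j, hj⟩, hb⟩
    refine ⟨⟨i + j, ?_⟩, by rw [nm_mul, ha, hb, one_mul]⟩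
    rw [mul_pow, pow_add, pow_mul, hi, one_pow, mul_comm (s ^ i), pow_mul, hj, one_pow, one_mul]
  inv_mem' := by
    rintro a ⟨⟨i, hi⟩, ha⟩
    refine ⟨⟨i, by rw [inv_pow, hi, inv_one]⟩, ?_⟩
    show nmHom R a⁻¹ = 1
    rw [map_inv, inv_eq_one]
    exact ha

omit [Finite V] in
theorem kerNm_smul {s : ℕ} {R : Subgroup E} {g : E} (hg : g ∈ normalizer (R : Set E)) {v : V}
    (hv : v ∈ kerNm V s R) : g • v ∈ kerNm V s R := by
  obtain ⟨⟨k, hk⟩, h⟩ := hv
  exact ⟨⟨k, by rw [← smul_pow', hk, smul_one]⟩, by rw [← smul_nm_of_norm hg, h, smul_one]⟩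

omit [Finite V] in
theorem kerNm_eq_one {s : ℕ} {R : Subgroup E} (hR : (Nat.card R).Coprime s) {v : V}
    (hv : v ∈ kerNm V s R) (h : ∀ g ∈ R, g • v = v) : v = 1 := by
  obtain ⟨⟨k, hk⟩, h1⟩ := hv
  rw [nm_of_fix h] at h1
  rw [← orderOf_eq_one_iff]
  exact Nat.eq_one_of_dvd_coprimes (hR.pow_right k) (orderOf_dvd_of_pow_eq_one h1)
    (orderOf_dvd_of_pow_eq_one hk)

omit [Finite V] in
theorem kerNm_ne_bot {s : ℕ} {R : Subgroup E} (hR : (Nat.card R).Coprime s) (hR1 : R ≠ ⊥)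
    {V₀ : Subgroup V} (h1 : ∀ e : E, e ≠ 1 → ∀ v, e • v = v → v ∈ V₀)
    (hv : ∃ v ∉ V₀, ∃ k, v ^ s ^ k = 1) : kerNm V s R ≠ ⊥ := by
  obtain ⟨v, hv, k, hk⟩ := hv
  intro h
  have h2 : v ^ Nat.card R * (nm R v)⁻¹ ∈ kerNm V s R := by
    refine ⟨⟨k, ?_⟩, ?_⟩
    · rw [mul_pow, ← pow_mul, mul_comm (Nat.card R), pow_mul, hk, one_pow, one_mul, inv_pow,
        inv_eq_one]
      show nmHom R v ^ s ^ k = 1
      rw [← map_pow, hk, map_one]
    · show nmHom R _ = 1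
      rw [map_mul, map_inv, map_pow, mul_inv_eq_one]
      exact (nm_of_fix fun y hy => smul_nm hy v).symm
  rw [h, mem_bot, mul_inv_eq_one] at h2
  obtain ⟨⟨r, hr⟩, hr1⟩ := ne_bot_iff_exists_ne_one.1 hR1
  have h3 : v ^ Nat.card R ∈ V₀ :=
    h2 ▸ h1 r (fun e => hr1 (Subtype.ext e)) _ (smul_nm hr v)
  obtain ⟨n, hn⟩ := exists_pow_eq_self_of_coprime (x := v) (n := Nat.card R)
    ((hR.pow_right k).coprime_dvd_right (orderOf_dvd_of_pow_eq_one hk))
  exact hv (hn ▸ pow_mem h3 n)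

theorem eq_one_of_norm {s : ℕ} (hs : s.Prime) {V₀ : Subgroup V}
    (h0 : ∀ e : E, ∀ v ∈ V₀, e • v = v) (h1 : ∀ e : E, e ≠ 1 → ∀ v, e • v = v → v ∈ V₀)
    (hv : ∃ v ∉ V₀, ∃ k, v ^ s ^ k = 1) {R : Subgroup E} (hR : (Nat.card R).Coprime s)
    (hR1 : R ≠ ⊥) {b : E} (hb : b ∈ normalizer (R : Set E)) {k : ℕ} (hk : b ^ s ^ k = 1) :
    b = 1 := by
  have := Fact.mk hs
  by_contra hb1
  have hB : IsPGroup s (zpowers b) := IsPGroup.of_card_dvd_pow
    (by rw [Nat.card_zpowers]; exact orderOf_dvd_of_pow_eq_one hk)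
  letI := resAct (zpowers b) (kerNm V s R) fun g hg w hw =>
    kerNm_smul (zpowers_le.2 hb hg) hw
  have hK : IsPGroup s (kerNm V s R) := fun w => by
    obtain ⟨j, hj⟩ := w.2.1
    exact ⟨j, Subtype.ext hj⟩
  have hnt : Nontrivial (kerNm V s R) := (nontrivial_iff_ne_bot _).2 (kerNm_ne_bot hR hR1 h1 hv)
  obtain ⟨n, hn, hc⟩ := hK.nontrivial_iff_card.1 hnt
  obtain ⟨w, hw, hw1⟩ := hB.exists_fixed_point_of_prime_dvd_card_of_fixed_point
    (kerNm V s R) (hc ▸ dvd_pow_self s hn.ne') (a := 1) (fun g => smul_one g)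
  have h2 : b • (w : V) = w := congrArg Subtype.val (hw ⟨b, mem_zpowers b⟩)
  exact hw1 (Subtype.ext (kerNm_eq_one hR w.2 fun g _ => h0 g _ (h1 b hb1 _ h2)).symm)

theorem false_of_odd {t u : ℕ} (ht : t.Prime) (hu : u.Prime) (htu : t ≠ u) (ht2 : t ≠ 2)
    {V₀ : Subgroup V}
    (h0 : ∀ e : E, ∀ v ∈ V₀, e • v = v) (h1 : ∀ e : E, e ≠ 1 → ∀ v, e • v = v → v ∈ V₀)
    (hvt : ∃ v ∉ V₀, ∃ k, v ^ t ^ k = 1) (hvu : ∃ v ∉ V₀, ∃ k, v ^ u ^ k = 1)
    (het : ∃ e : E, e ≠ 1 ∧ ∃ k, e ^ t ^ k = 1) (heu : ∃ e : E, e ≠ 1 ∧ ∃ k, e ^ u ^ k = 1) :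
    False := by
  obtain ⟨b, hb1, k, hb⟩ := het
  obtain ⟨c, hc1, j, hc⟩ := heu
  have := Fact.mk ht
  have := Fact.mk hu
  by_cases h2 : 2 ∣ Nat.card E
  · let K : Subgroup E :=
      { carrier := {e | ∀ v : V, (∃ k, v ^ t ^ k = 1) → e • v * v⁻¹ ∈ V₀}
        one_mem' := fun v _ => by simp
        mul_mem' := by
          intro a b ha hb v hv
          have := mul_mem (ha (b • v) (hv.imp fun k hk => by rw [← smul_pow', hk, smul_one]))
            (hb v hv)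
          simpa [mul_smul, mul_assoc] using this
        inv_mem' := by
          intro a ha v hv
          have := V₀.inv_mem
            (ha (a⁻¹ • v) (hv.imp fun k hk => by rw [← smul_pow', hk, smul_one]))
          simpa [mul_comm] using this }
    have hK : ∀ e, e ∈ K ↔ ∀ v : V, (∃ k, v ^ t ^ k = 1) → e • v * v⁻¹ ∈ V₀ := fun _ => Iff.rfl
    have hKn : K.Normal := ⟨fun a ha g v hv => by
      have h3 := ha (g⁻¹ • v) (hv.imp fun k hk => by rw [← smul_pow', hk, smul_one])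
      rw [← h0 g _ h3] at h3
      simpa [mul_smul, smul_mul'] using h3⟩
    have hKb : K = ⊥ := by
      by_contra hne
      refine hc1 (eq_one_of_norm hu h0 h1 hvu ?_ hne (K.normalizer_eq_top ▸ mem_top c) hc)
      refine Nat.Coprime.symm ((Nat.Prime.coprime_iff_not_dvd hu).2 fun hd => ?_)
      obtain ⟨x, hx⟩ := exists_prime_orderOf_dvd_card' u hd
      have hx1 : (x : E) ≠ 1 := fun h => by
        rw [show x = 1 from Subtype.ext h, orderOf_one] at hx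
        exact hu.one_lt.ne hx
      have hR : (Nat.card (zpowers (x : E))).Coprime t := by
        rw [Nat.card_zpowers, Subgroup.orderOf_coe, hx]
        exact (Nat.coprime_primes hu ht).2 htu.symm
      obtain ⟨⟨w, hw⟩, hw1⟩ := ne_bot_iff_exists_ne_one.1
        (kerNm_ne_bot hR (zpowers_ne_bot.2 hx1) h1 hvt)
      have h3 : (x : E) • w * w⁻¹ = 1 := kerNm_eq_one hR
        (mul_mem (kerNm_smul (le_normalizer (mem_zpowers _)) hw) (Subgroup.inv_mem _ hw))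
        fun g _ => h0 g _ (x.2 w hw.1)
      exact hw1 (Subtype.ext (kerNm_eq_one hR hw fun g _ =>
        h0 g _ (h1 x hx1 w (mul_inv_eq_one.1 h3))))
    have hinv : ∀ i : E, orderOf i = 2 → ∀ v : V, i • v * v ∈ V₀ := fun i hi v => by
      refine h1 i (fun h => by rw [h, orderOf_one] at hi; omega) _ ?_
      rw [smul_mul', ← mul_smul, ← sq, ← hi, pow_orderOf_eq_one, one_smul, mul_comm]
    obtain ⟨i, hi⟩ := exists_prime_orderOf_dvd_card' 2 h2
    have hcent : ∀ g : E, g * i * g⁻¹ = i := fun g => by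
      have hj : orderOf (g * i * g⁻¹) = 2 := by
        rw [← hi]; exact (MulAut.conj g).orderOf_eq i
      have h3 : i * (g * i * g⁻¹) ∈ K := fun v _ => by
        have := mul_mem (hinv i hi ((g * i * g⁻¹) • v)) (V₀.inv_mem (hinv _ hj v))
        rwa [mul_inv, mul_assoc (i • _), mul_inv_cancel_left, ← mul_smul] at this
      rw [hKb, mem_bot] at h3
      have h4 : i * i = 1 := by rw [← sq, ← hi, pow_orderOf_eq_one]
      exact mul_left_cancel (h3.trans h4.symm)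
    have hn : (zpowers i).Normal := ⟨fun x hx g => by
      obtain ⟨n, rfl⟩ := hx
      refine ⟨n, ?_⟩
      show i ^ n = g * i ^ n * g⁻¹
      rw [← conj_zpow, hcent]⟩
    refine hb1 (eq_one_of_norm ht h0 h1 hvt (R := zpowers i) ?_ ?_
      ((zpowers i).normalizer_eq_top ▸ mem_top b) hb)
    · rw [Nat.card_zpowers, hi]
      exact (Nat.coprime_primes Nat.prime_two ht).2 ht2.symm
    · exact zpowers_ne_bot.2 fun h => by rw [h, orderOf_one] at hi; omega
  · have hcop : ∀ {r s : ℕ}, r.Prime → s.Prime → r ≠ s → ∀ {R : Subgroup E}, IsPGroup r R →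
        (Nat.card R).Coprime s := fun hr hs hrs R hR => by
      have := Fact.mk hr
      obtain ⟨n, hn⟩ := hR.exists_card_eq
      exact hn ▸ ((Nat.coprime_primes hr hs).2 hrs).pow_left n
    have hZ : IsZGroup E := ⟨fun r hr R => by
      have := Fact.mk hr
      by_cases hR : (R : Subgroup E) = ⊥
      · rw [hR]; infer_instance
      have hr2 : r ≠ 2 := by
        rintro rfl
        obtain ⟨n, hn, hc⟩ := R.2.nontrivial_iff_card.1 ((nontrivial_iff_ne_bot _).2 hR)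
        exact h2 ((hc ▸ dvd_pow_self 2 hn.ne' : 2 ∣ Nat.card R).trans (card_subgroup_dvd_card _))
      obtain ⟨s, hs, hrs, hv⟩ : ∃ s : ℕ, s.Prime ∧ r ≠ s ∧ ∃ v ∉ V₀, ∃ k, v ^ s ^ k = 1 := by
        by_cases hrt : r = t
        exacts [⟨u, hu, hrt ▸ htu, hvu⟩, ⟨t, ht, hrt, hvt⟩]
      have hc := hcop hr hs hrs R.2
      have hF := hasFPF_of (R : Subgroup E) (kerNm V s R) (kerNm_ne_bot hc hR h1 hv)
        (fun g hg w hw => kerNm_smul (le_normalizer hg) hw) fun g _ w hw hw1 hgw => by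
          by_contra hg1
          exact hw1 (kerNm_eq_one hc hw fun g' _ => h0 g' _ (h1 g hg1 w hgw))
      have := hF.isCyclic_of_isPGroup hr2 (P := ⊤) (R.2.to_subgroup ⊤)
      exact isCyclic_of_surjective _ (topEquiv (G := R)).surjective⟩
    have : Nontrivial E := ⟨b, 1, hb1⟩
    obtain ⟨r, hr, hr1⟩ := exists_pCore_ne_bot (G := E)
    by_cases hrt : r = t
    · exact hc1 (eq_one_of_norm hu h0 h1 hvu (hcop hr hu (hrt ▸ htu) (pCore_isPGroup r)) hr1
        ((pCore r E).normalizer_eq_top ▸ mem_top c) hc)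
    · exact hb1 (eq_one_of_norm ht h0 h1 hvt (hcop hr ht hrt (pCore_isPGroup r)) hr1
        ((pCore r E).normalizer_eq_top ▸ mem_top b) hb)

theorem false_of_fixed {t u : ℕ} (ht : t.Prime) (hu : u.Prime) (htu : t ≠ u)
    {V₀ : Subgroup V}
    (h0 : ∀ e : E, ∀ v ∈ V₀, e • v = v) (h1 : ∀ e : E, e ≠ 1 → ∀ v, e • v = v → v ∈ V₀)
    (hvt : ∃ v ∉ V₀, ∃ k, v ^ t ^ k = 1) (hvu : ∃ v ∉ V₀, ∃ k, v ^ u ^ k = 1)
    (het : ∃ e : E, e ≠ 1 ∧ ∃ k, e ^ t ^ k = 1) (heu : ∃ e : E, e ≠ 1 ∧ ∃ k, e ^ u ^ k = 1) :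
    False := by
  by_cases h2 : t = 2
  · exact false_of_odd hu ht htu.symm (h2 ▸ htu.symm) h0 h1 hvu hvt heu het
  · exact false_of_odd ht hu htu h2 h0 h1 hvt hvu het heu

end

section

variable {G : Type*} [Group G] [Finite G]

theorem exists_norm_notMem {S : Set G} (hS : ∀ g : G, ∀ x ∈ S, g * x * g⁻¹ ∈ S)
    {A C : Subgroup G} (hA : ∀ a, a ∈ A ↔ a ∈ C ∧ a ∈ S)
    (hC : ∀ a ∈ A, a ∉ center G → centralizer {a} = C) {s : ℕ} (hs : s.Prime)
    (hd : s ∣ C.index) (ha : ∃ a ∈ A, a ∉ center G ∧ ∃ k, a ^ s ^ k = 1) :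
    ∃ e ∈ normalizer (A : Set G), e ∉ C ∧ ∃ k, e ^ s ^ k = 1 := by
  have := Fact.mk hs
  obtain ⟨a, ha, haZ, k, hk⟩ := ha
  obtain ⟨S₀, h1, h2⟩ := IsSylowIn.exists_ge (p := s) (Q := zpowers a) (H := C)
    (IsPGroup.of_card_dvd_pow (by rw [Nat.card_zpowers]; exact orderOf_dvd_of_pow_eq_one hk))
    (zpowers_le.2 ((hA a).1 ha).1)
  obtain ⟨P, hP⟩ := h2.exists_sylow_inf_eq
  have h3 : S₀ < P := lt_of_le_of_ne (hP ▸ inf_le_left) fun h =>
    P.not_dvd_index (hd.trans (index_dvd_of_le (h ▸ h2.le)))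
  obtain ⟨e, he, he1⟩ := SetLike.exists_of_lt (lt_inf_normalizer_of_isPGroup P.2 h3)
  have h4 : e * a * e⁻¹ ∈ A := (hA _).2
    ⟨h2.le ((mem_normalizer_iff.1 he.2 a).1 (h1 (mem_zpowers a))), hS e a ((hA a).1 ha).2⟩
  have h5 := hC _ h4 fun h => haZ (by simpa [mul_assoc] using (Normal.conj_mem inferInstance _ h e⁻¹))
  rw [Frob.centralizer_conj_singleton, hC a ha haZ] at h5
  obtain ⟨j, hj⟩ := P.2 ⟨e, he.1⟩
  refine ⟨e, mem_normalizer_fintype fun x hx => (hA _).2 ⟨?_, hS e x ((hA x).1 hx).2⟩,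
    fun h => he1 (hP ▸ mem_inf.2 ⟨he.1, h⟩), j, congrArg Subtype.val hj⟩
  rw [← h5]
  exact ⟨x, ((hA x).1 hx).1, rfl⟩

theorem false_of_two_primes {S : Set G} (hS : ∀ g : G, ∀ x ∈ S, g * x * g⁻¹ ∈ S)
    {A C : Subgroup G} (hA : ∀ a, a ∈ A ↔ a ∈ C ∧ a ∈ S)
    (hC : ∀ a ∈ A, a ∉ center G → centralizer {a} = C) {t u : ℕ} (ht : t.Prime) (hu : u.Prime)
    (htu : t ≠ u) (hdt : t ∣ C.index) (hdu : u ∣ C.index)
    (hat : ∃ a ∈ A, a ∉ center G ∧ ∃ k, a ^ t ^ k = 1)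
    (hau : ∃ a ∈ A, a ∉ center G ∧ ∃ k, a ^ u ^ k = 1) : False := by
  have h1 : ∀ a ∈ A, C ≤ centralizer {a} := fun a ha => by
    by_cases h : a ∈ center G
    · rw [Frob.centralizer_singleton_eq_top_iff.2 h]; exact le_top
    · exact (hC a ha h).ge
  letI : CommGroup A := { (inferInstance : Group A) with
    mul_comm := fun a b => Subtype.ext (mem_centralizer_singleton_iff.1
      (h1 b b.2 ((hA a).1 a.2).1)) }
  have h2 : ∀ {s : ℕ}, s.Prime → s ∣ C.index → (∃ a ∈ A, a ∉ center G ∧ ∃ k, a ^ s ^ k = 1) →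
      (∃ v ∉ (center G).subgroupOf A, ∃ k, v ^ s ^ k = 1) ∧
      ∃ e : A.normalizerMonoidHom.range, e ≠ 1 ∧ ∃ k, e ^ s ^ k = 1 := fun hs hd ha => by
    obtain ⟨e, he, heC, k, hk⟩ := exists_norm_notMem hS hA hC hs hd ha
    obtain ⟨a, ha, haZ, j, hj⟩ := ha
    refine ⟨⟨⟨a, ha⟩, haZ, j, Subtype.ext hj⟩, A.normalizerMonoidHom.rangeRestrict ⟨e, he⟩,
      fun h => heC ?_, k, ?_⟩
    · have h3 : (⟨e, he⟩ : normalizer (A : Set G)) ∈ A.normalizerMonoidHom.ker :=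
        congrArg Subtype.val h
      rw [normalizerMonoidHom_ker] at h3
      rw [← hC a ha haZ]
      exact mem_centralizer_singleton_iff.2 (mem_centralizer_iff.1 h3 a ha).symm
    · rw [← map_pow, show (⟨e, he⟩ : normalizer (A : Set G)) ^ _ = 1 from Subtype.ext hk, map_one]
  refine false_of_fixed (E := A.normalizerMonoidHom.range) (V := A)
    (V₀ := (center G).subgroupOf A) ht hu htu ?_ ?_ (h2 ht hdt hat).1 (h2 hu hdu hau).1
    (h2 ht hdt hat).2 (h2 hu hdu hau).2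
  · rintro ⟨_, e, rfl⟩ v hv
    refine Subtype.ext ?_
    show (e : G) * v * (e : G)⁻¹ = v
    exact mul_inv_eq_iff_eq_mul.2 (mem_center_iff.1 hv e)
  · rintro ⟨_, e, rfl⟩ he v hv
    by_contra hvZ
    have h3 : (e : G) * v * (e : G)⁻¹ = v := congrArg Subtype.val hv
    have h4 : (e : G) ∈ C := hC v v.2 hvZ ▸ mem_centralizer_singleton_iff.2 (mul_inv_eq_iff_eq_mul.1 h3)
    refine he (Subtype.ext ?_)
    show e ∈ A.normalizerMonoidHom.ker
    rw [normalizerMonoidHom_ker]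
    exact fun a ha => (mem_centralizer_singleton_iff.1 (h1 a ha h4)).symm

/-- A conjugation invariant set, closed under powers and products of commuting elements, whose
noncentral elements have classes of one size. -/
structure OneSize (S : Set G) (m : ℕ) : Prop where
  conj : ∀ g : G, ∀ x ∈ S, g * x * g⁻¹ ∈ S
  one : 1 ∈ S
  pow : ∀ x ∈ S, ∀ y ∈ zpowers x, y ∈ S
  mul : ∀ x ∈ S, ∀ y ∈ S, Commute x y → x * y ∈ S
  idx : ∀ x ∈ S, x ∉ center G → (centralizer ({x} : Set G)).index = m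

variable {S : Set G} {m : ℕ}

theorem OneSize.eq_of_le (h : OneSize S m) {x y : G} (hx : x ∈ S) (hxZ : x ∉ center G)
    (hy : y ∈ S) (hyZ : y ∉ center G) (hle : centralizer ({x} : Set G) ≤ centralizer {y}) :
    centralizer ({x} : Set G) = centralizer {y} :=
  hle.antisymm (relIndex_eq_one.mp (Nat.eq_of_mul_eq_mul_right
    (Nat.pos_of_ne_zero (index_ne_zero_of_finite (H := centralizer ({y} : Set G))))
    (by rw [one_mul, relIndex_mul_index hle, h.idx x hx hxZ, h.idx y hy hyZ])))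

theorem OneSize.le_of_coprime (h : OneSize S m) {x y : G} (hx : x ∈ S) (hxZ : x ∉ center G)
    (hy : y ∈ S) (hc : y ∈ centralizer ({x} : Set G)) (hco : (orderOf x).Coprime (orderOf y)) :
    centralizer ({x} : Set G) ≤ centralizer {y} := by
  have hc' : Commute x y := (mem_centralizer_singleton_iff.mp hc).symm
  have h7 := Frob.centralizer_mul_of_coprime hc' hco
  rw [← h.eq_of_le (h.mul x hx y hy hc') (fun h => hxZ (Frob.centralizer_singleton_eq_top_iff.mp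
    (top_le_iff.mp ((Frob.centralizer_singleton_eq_top_iff.mpr h).ge.trans
      (h7.le.trans inf_le_left))))) hx hxZ (h7.le.trans inf_le_left)]
  exact h7.le.trans inf_le_right

theorem OneSize.le_of_two (h : OneSize S m) {x z : G} {s r i j : ℕ} (hs : s.Prime) (hr : r.Prime)
    (hsr : s ≠ r) (hx : x ∈ S) (hxZ : x ∉ center G) (hi : orderOf x = s ^ i) (hz : z ∈ S)
    (hzZ : z ∉ center G) (hj : orderOf z = r ^ j) (hc : z ∈ centralizer ({x} : Set G)) {y : G}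
    (hy : y ∈ S) (hyx : y ∈ centralizer ({x} : Set G)) :
    centralizer ({x} : Set G) ≤ centralizer {y} := by
  have hst := (Nat.coprime_primes hs hr).mpr hsr
  have h8 := h.eq_of_le hx hxZ hz hzZ (h.le_of_coprime hx hxZ hz hc
    (by rw [hi, hj]; exact Nat.coprime_pow_primes _ _ hs hr hsr))
  obtain ⟨a, ha, b, hb, rfl, -, ⟨k, hk⟩, hbo⟩ := exists_p_part hs y
  have h9 := h.le_of_coprime hz hzZ (h.pow _ hy a ha) (h8 ▸ zpowers_le.mpr hyx ha)
    (by rw [hj, hk]; exact Nat.coprime_pow_primes _ _ hr hs hsr.symm)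
  have h10 := h.le_of_coprime hx hxZ (h.pow _ hy b hb) (zpowers_le.mpr hyx hb)
    (by rw [hi]; exact hbo.symm.pow_left i)
  exact fun g hg => mem_centralizer_singleton_iff.mpr (Commute.mul_right
    (mem_centralizer_singleton_iff.mp (h9 (h8 ▸ hg))) (mem_centralizer_singleton_iff.mp (h10 hg)))

omit [Finite G] in
theorem OneSize.exists_subgroup (h : OneSize S m) {C : Subgroup G}
    (hC : ∀ y ∈ S, y ∈ C → C ≤ centralizer {y}) :
    ∃ A : Subgroup G, ∀ a, a ∈ A ↔ a ∈ C ∧ a ∈ S :=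
  ⟨{ carrier := {a | a ∈ C ∧ a ∈ S}
     one_mem' := ⟨one_mem _, h.one⟩
     mul_mem' := fun ha hb => ⟨mul_mem ha.1 hb.1, h.mul _ ha.2 _ hb.2
       (mem_centralizer_singleton_iff.1 (hC _ hb.2 hb.1 ha.1))⟩
     inv_mem' := fun ha => ⟨Subgroup.inv_mem _ ha.1, h.pow _ ha.2 _
       (Subgroup.inv_mem _ (mem_zpowers _))⟩ }, fun _ => Iff.rfl⟩

theorem OneSize.exists_primePow (h : OneSize S m) {x y : G} (hx : x ∈ S) (hxZ : x ∉ center G)
    (hy : y ∈ S) (hyZ : y ∉ center G) {r j : ℕ} (hr : r.Prime) (hj : orderOf y = r ^ j) :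
    ∃ z ∈ centralizer ({x} : Set G), (∃ k, orderOf z = r ^ k) ∧ z ∉ center G := by
  have h1 : ∀ x ∈ S, x ∉ center G →
      (center G).relIndex (centralizer ({x} : Set G)) * m = (center G).index := fun x hx hxZ => by
    rw [← h.idx x hx hxZ, relIndex_mul_index (center_le_centralizer _)]
  have hm : 0 < m := h.idx x hx hxZ ▸ Nat.pos_of_ne_zero index_ne_zero_of_finite
  refine exists_primePow_notMem_of_dvd_relIndex hr ?_
  rw [Nat.eq_of_mul_eq_mul_right hm ((h1 x hx hxZ).trans (h1 y hy hyZ).symm),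
    ← card_map_mk'_eq_relIndex]
  have h2 : orderOf (QuotientGroup.mk' (center G) y) ∣ r ^ j := hj ▸ orderOf_map_dvd _ y
  obtain ⟨k, -, hk⟩ := (Nat.dvd_prime_pow hr).1 h2
  have hk0 : k ≠ 0 := fun h0 => hyZ ((QuotientGroup.eq_one_iff y).1
    (orderOf_eq_one_iff.1 (by rw [h0] at hk; exact hk)))
  exact (dvd_pow_self r hk0).trans (hk ▸ orderOf_dvd_natCard _
    (mem_map_of_mem _ (mem_centralizer_singleton_iff.mpr rfl)))

theorem OneSize.not_dvd (h : OneSize S m) {x z : G} {s r i j : ℕ} (hs : s.Prime) (hr : r.Prime)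
    (hsr : s ≠ r) (hx : x ∈ S) (hxZ : x ∉ center G) (hi : orderOf x = s ^ i) (hz : z ∈ S)
    (hzZ : z ∉ center G) (hj : orderOf z = r ^ j) (hc : z ∈ centralizer ({x} : Set G)) :
    ¬ s ∣ m ∨ ¬ r ∣ m := by
  by_contra! hcon
  have h1 := fun y hy hyx => h.le_of_two hs hr hsr hx hxZ hi hz hzZ hj hc (y := y) hy hyx
  obtain ⟨A, hA⟩ := h.exists_subgroup h1
  refine false_of_two_primes h.conj hA (fun a ha haZ => (h.eq_of_le hx hxZ ((hA a).1 ha).2 haZ
    (h1 a ((hA a).1 ha).2 ((hA a).1 ha).1)).symm) hs hr hsr (by rw [h.idx x hx hxZ]; exact hcon.1)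
    (by rw [h.idx x hx hxZ]; exact hcon.2)
    ⟨x, (hA x).2 ⟨mem_centralizer_singleton_iff.2 rfl, hx⟩, hxZ, i, hi ▸ pow_orderOf_eq_one x⟩
    ⟨z, (hA z).2 ⟨hc, hz⟩, hzZ, j, hj ▸ pow_orderOf_eq_one z⟩

end

end CfsgLib.H5.TwoCls
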