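import Mathlib
import Cfsg.Agent.Lib.H5TwoClsA
import Cfsg.Agent.Lib.H5SylowIn
import Cfsg.Agent.Lib.Kazarin
import Cfsg.Agent.Lib.PGroupBasic
import Cfsg.Agent.Lib.H5ClassGraph

/-! Groups whose `p`-regular classes have two sizes. -/

set_option autoImplicit false

namespace CfsgLib.H5.TwoCls

open Subgroup Cfsg
open scoped commutatorElement Pointwise

variable {G : Type*} [Group G] [Finite G]

theorem exists_pow_of_forall_prime {n p : ℕ} (hp : p.Prime) (hn : n ≠ 0)
    (h : ∀ r : ℕ, r.Prime → r ∣ n → r = p) : ∃ k, n = p ^ k :=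
  (isPiNum_singleton_iff hp hn).1 h

theorem exists_decomp {p q : ℕ} [hp : Fact p.Prime] [hq : Fact q.Prime] (hqp : q ≠ p)
    (h : ∀ (x : G) (r k : ℕ), r.Prime → r ≠ p → r ≠ q → orderOf x = r ^ k → x ∈ center G) :
    ∃ (P : Sylow p G) (Q : Sylow q G) (A : Subgroup G),
      A ≤ center G ∧ Nat.card ↥((P : Subgroup G) ⊔ (Q : Subgroup G)) = Nat.card P * Nat.card Q ∧
      ((P : Subgroup G) ⊔ (Q : Subgroup G)).Normal ∧
      ((P : Subgroup G) ⊔ (Q : Subgroup G)) ⊓ A = ⊥ ∧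
      ((P : Subgroup G) ⊔ (Q : Subgroup G)) ⊔ A = ⊤ := by
  let A : Subgroup G :=
    { carrier := {z | z ∈ center G ∧ (orderOf z).Coprime (p * q)}
      one_mem' := ⟨one_mem _, by simp⟩
      mul_mem' := fun {a b} ha hb => ⟨mul_mem ha.1 hb.1, (ha.2.mul_left hb.2).coprime_dvd_left
        (Commute.orderOf_mul_dvd_mul_orderOf (mem_center_iff.1 hb.1 a))⟩
      inv_mem' := fun ha => ⟨Subgroup.inv_mem _ ha.1, by rw [orderOf_inv]; exact ha.2⟩ }
  have hAZ : A ≤ center G := fun _ h => h.1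
  have hAn : A.Normal := ⟨fun a ha g => by
    rw [mem_center_iff.1 ha.1 g, mul_inv_cancel_right]; exact ha⟩
  have h1 : ∀ r : ℕ, r.Prime → r ∣ Nat.card A → r ≠ p ∧ r ≠ q := fun r hr hd => by
    have := Fact.mk hr
    obtain ⟨x, hx⟩ := exists_prime_orderOf_dvd_card' r hd
    have h2 := x.2.2
    rw [Subgroup.orderOf_coe, hx, hr.coprime_iff_not_dvd] at h2
    exact ⟨fun e => h2 (e ▸ dvd_mul_right _ _), fun e => h2 (e ▸ dvd_mul_left _ _)⟩
  have h2 : ∀ r : ℕ, r.Prime → r ∣ A.index → r = p ∨ r = q := fun r hr hd => by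
    by_contra! hne
    obtain ⟨x, -, ⟨k, hk⟩, hx⟩ := exists_primePow_notMem_of_dvd_relIndex (C := A) (N := ⊤) hr
      (by rwa [relIndex_top_right])
    refine hx ⟨h x r k hr hne.1 hne.2 hk, ?_⟩
    rw [hk]
    exact (((Nat.coprime_primes hr hp.out).2 hne.1).mul_right
      ((Nat.coprime_primes hr hq.out).2 hne.2)).pow_left k
  obtain ⟨H, hH⟩ := exists_right_complement'_of_coprime (N := A)
    (Nat.coprime_of_dvd fun r hr h3 h4 => (h2 r hr h4).elim (h1 r hr h3).1 (h1 r hr h3).2)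
  obtain ⟨P, hP⟩ := H5.exists_sylow_le_of_not_dvd_index (p := p) (N := H)
    fun hd => (h1 p hp.out (hH.index_eq_card ▸ hd)).1 rfl
  obtain ⟨Q, hQ⟩ := H5.exists_sylow_le_of_not_dvd_index (p := q) (N := H)
    fun hd => (h1 q hq.out (hH.index_eq_card ▸ hd)).2 rfl
  have h3 : ∀ K ≤ H, ∀ r : ℕ, r.Prime → r ∣ K.relIndex H → r = p ∨ r = q := fun K hK r hr hd =>
    h2 r hr (hH.symm.index_eq_card ▸ hd.trans (relIndex_dvd_card K H))
  have h4 : (P : Subgroup G) ⊔ Q = H := (sup_le hP hQ).antisymm (relIndex_eq_one.1 (by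
    by_contra hne
    obtain ⟨r, hr, hd⟩ := Nat.exists_prime_and_dvd hne
    have h5 := hd.trans (relIndex_dvd_index_of_le (sup_le hP hQ))
    rcases h3 _ (sup_le hP hQ) r hr hd with e | e
    exacts [P.not_dvd_index (e.symm.dvd.trans (h5.trans (index_dvd_of_le le_sup_left))),
      Q.not_dvd_index (e.symm.dvd.trans (h5.trans (index_dvd_of_le le_sup_right)))]))
  refine ⟨P, Q, A, hAZ, ?_, ?_, ?_, ?_⟩ <;> rw [h4]
  · refine Nat.dvd_antisymm ?_ ((IsPGroup.coprime_card_of_ne p q hqp.symm _ _ P.2 Q.2).mul_dvd_of_dvd_of_dvd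
      (card_dvd_of_le hP) (card_dvd_of_le hQ))
    obtain ⟨k, hk⟩ := exists_pow_of_forall_prime hq.out
      (index_ne_zero_of_finite (H := (P : Subgroup G).subgroupOf H)) fun r hr hd =>
        (h3 _ hP r hr hd).resolve_left fun e =>
          P.not_dvd_index (e.symm.dvd.trans (hd.trans (relIndex_dvd_index_of_le hP)))
    rw [← card_mul_relIndex hP]
    refine mul_dvd_mul_left _ ?_
    rw [relIndex, hk]
    exact Q.pow_dvd_card_of_pow_dvd_card
      (hk ▸ (relIndex_dvd_card _ H).trans (card_subgroup_dvd_card H))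
  · refine ⟨fun x hx g => ?_⟩
    obtain ⟨⟨a, b⟩, rfl⟩ := hH.2 g
    have := mem_center_iff.1 (hAZ a.2) (b * x * (b : G)⁻¹)
    show (a : G) * b * x * (a * b : G)⁻¹ ∈ H
    rw [show (a : G) * b * x * (a * b : G)⁻¹ = a * (b * x * (b : G)⁻¹) * (a : G)⁻¹ by group, ← this,
      mul_inv_cancel_right]
    exact mul_mem (mul_mem b.2 hx) (H.inv_mem b.2)
  · exact hH.symm.disjoint.eq_bot
  · exact hH.symm.sup_eq_top

theorem oneSize_reg {p m : ℕ}
    (h : ∀ x : G, (orderOf x).Coprime p → x ∉ center G → (centralizer ({x} : Set G)).index = m) :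
    OneSize {x : G | (orderOf x).Coprime p} m :=
  ⟨fun g x hx => by
      show (orderOf (MulAut.conj g x)).Coprime p
      rw [MulEquiv.orderOf_eq]; exact hx,
    by simp, fun x hx y hy => Nat.Coprime.coprime_dvd_left (orderOf_dvd_of_mem_zpowers hy) hx,
    fun x hx y hy hc => (Nat.Coprime.mul_left hx hy).coprime_dvd_left
      hc.orderOf_mul_dvd_mul_orderOf, h⟩

omit [Finite G] in
theorem commutator_pow_eq {x y : G} (h : ⁅x, y⁆ ∈ center G) (n : ℕ) : ⁅x ^ n, y⁆ = ⁅x, y⁆ ^ n := by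
  induction n with
  | zero => simp
  | succ n ih =>
    have h1 : ⁅x ^ (n + 1), y⁆ = x * ⁅x ^ n, y⁆ * x⁻¹ * ⁅x, y⁆ := by
      simp only [commutatorElement_def, pow_succ']; group
    rw [h1, ih, mem_center_iff.1 (pow_mem h n) x, mul_inv_cancel_right, pow_succ]

theorem false_of_one_prime {p s t m : ℕ} (hp : p.Prime) (hs : s.Prime) (ht : t.Prime)
    (hsp : s ≠ p) (htp : t ≠ p) (hst : s ≠ t)
    (H : OneSize {x : G | (orderOf x).Coprime p} m) {w : G} {l : ℕ} (hwZ : w ∉ center G)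
    (hl : orderOf w = s ^ l) (htm : t ∣ m) (hm : ∀ r : ℕ, r.Prime → r ∣ m → r = p ∨ r = t) :
    False := by
  have := Fact.mk hp
  have := Fact.mk hs
  have := Fact.mk ht
  have hreg : ∀ {r : ℕ}, r.Prime → r ≠ p → ∀ {x : G} {k : ℕ}, orderOf x = r ^ k →
      x ∈ {x : G | (orderOf x).Coprime p} := fun hr hrp x k hk => by
    show (orderOf x).Coprime p
    rw [hk]; exact ((Nat.coprime_primes hr hp).2 hrp).pow_left k
  have hw := hreg hs hsp hl
  have hsm : ¬ s ∣ m := fun hd => (hm s hs hd).elim hsp hst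
  obtain ⟨T⟩ : Nonempty (Sylow t G) := inferInstance
  have hT : ∀ x ∈ (T : Subgroup G), ∃ k, orderOf x = t ^ k := fun x hx => by
    obtain ⟨k, hk⟩ := IsPGroup.iff_orderOf.1 T.2 ⟨x, hx⟩
    exact ⟨k, by rw [← hk, ← Subgroup.orderOf_coe]⟩
  have hTm : ∀ x ∈ {x : G | (orderOf x).Coprime p}, x ∉ center G →
      ¬ (T : Subgroup G) ≤ centralizer {x} := fun x hx hxZ hle =>
    T.not_dvd_index (htm.trans (H.idx x hx hxZ ▸ index_dvd_of_le hle))
  have := T.2.isNilpotent
  obtain ⟨⟨y, hyT⟩, -, hyZ, hy⟩ := PGrp.exists_central_mod ((center G).subgroupOf T) ⊤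
    fun hle => hTm w hw hwZ fun x hx => center_le_centralizer _ (hle (mem_top (⟨x, hx⟩ : T)))
  replace hyZ : y ∉ center G := hyZ
  replace hy : ∀ g ∈ (T : Subgroup G), ⁅y, g⁆ ∈ center G := fun g hg => hy ⟨g, hg⟩
  obtain ⟨j, hj⟩ := hT y hyT
  have hyS := hreg ht htp hj
  obtain ⟨a, haC, ⟨i, hi⟩, haZ⟩ := H.exists_primePow hyS hyZ hw hwZ hs hl
  have haS := hreg hs hsp hi
  have h1 := fun z hz hzy => H.le_of_two ht hs hst.symm hyS hyZ hj haS haZ hi haC (y := z) hz hzy
  have haC' := H.eq_of_le hyS hyZ haS haZ (h1 a haS haC)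
  obtain ⟨x, hxT, hxC⟩ := SetLike.not_le_iff_exists.1 (hTm y hyS hyZ)
  have hxZ : x ∉ center G := fun h => hxC (center_le_centralizer _ h)
  obtain ⟨k, hk⟩ := hT x hxT
  have hxS := hreg ht htp hk
  obtain ⟨b, hbC, ⟨i', hi'⟩, hbZ⟩ := H.exists_primePow hxS hxZ hw hwZ hs hl
  obtain ⟨P, hP⟩ := H5.exists_sylow_le_of_not_dvd_index (p := s)
    (N := centralizer ({y} : Set G)) (by rw [H.idx y hyS hyZ]; exact hsm)
  obtain ⟨g, -, hg⟩ := (IsSylowIn.sylow_top P).exists_conj_le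
    (isPGroup_zpowers_iff.2 ⟨i', hi'⟩) le_top
  have hb1 : g * b * g⁻¹ ∈ centralizer ({y} : Set G) := hP (hg (mem_map_of_mem _ (mem_zpowers b)))
  have hb2 := H.conj g b (hreg hs hsp hi')
  have hb3 := H.eq_of_le hyS hyZ hb2 (fun h => hbZ (by
    simpa [mul_assoc] using Normal.conj_mem inferInstance _ h g⁻¹)) (h1 _ hb2 hb1)
  have hx1 : g * x * g⁻¹ ∈ centralizer ({y} : Set G) := by
    rw [hb3, Frob.centralizer_conj_singleton]
    exact ⟨x, mem_centralizer_singleton_iff.2 (mem_centralizer_singleton_iff.1 hbC).symm, rfl⟩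
  have hx2 := h1 _ (H.conj g x hxS) hx1
  let f : G →* (G ⧸ center G) ⧸ pCore p (G ⧸ center G) :=
    (QuotientGroup.mk' _).comp (QuotientGroup.mk' _)
  have hf : Function.Surjective f :=
    (QuotientGroup.mk'_surjective _).comp (QuotientGroup.mk'_surjective _)
  have hker : ∀ d, f d = 1 → (orderOf d).Coprime p → d ∈ center G := fun d hd hco =>
    (QuotientGroup.eq_one_iff d).1 (eq_one_of_mem_of_coprime (pCore_isPGroup p)
      ((QuotientGroup.eq_one_iff (QuotientGroup.mk' (center G) d)).1 hd)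
      (hco.coprime_dvd_left (orderOf_map_dvd (QuotientGroup.mk' (center G)) d)))
  have hfZ : ∀ z ∈ center G, f z = 1 := fun z hz => by
    show QuotientGroup.mk' _ (QuotientGroup.mk' _ z) = 1
    rw [show QuotientGroup.mk' (center G) z = 1 from (QuotientGroup.eq_one_iff z).2 hz, map_one]
  have hfy : f y ∈ pCore t ((G ⧸ center G) ⧸ pCore p (G ⧸ center G)) := by
    have h2 := Chr.mem_fitting_inf_centralizer_of_class_prime_pow (pCore_quotient_pCore p)
      (x := f y) (exists_pow_of_forall_prime hp index_ne_zero_of_finite fun r hr hd => ?_)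
    · refine le_pCore_of_le_fitting (zpowers_le.2 h2.1) (IsPGroup.of_card_dvd_pow (n := j) ?_)
        (mem_zpowers _)
      rw [Nat.card_zpowers, ← hj]
      exact orderOf_map_dvd f y
    rw [← index_comap_of_surjective _ hf] at hd
    refine (hm r hr (hd.trans (H.idx y hyS hyZ ▸ index_dvd_of_le fun c hc => ?_))).resolve_right
      fun e => T.not_dvd_index (e.symm.dvd.trans (hd.trans (index_dvd_of_le fun c hc => ?_)))
    · exact mem_centralizer_singleton_iff.2 (by
        rw [← map_mul, ← map_mul, mem_centralizer_singleton_iff.1 hc])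
    · refine mem_centralizer_singleton_iff.2 (commutatorElement_eq_one_iff_mul_comm.1 ?_).symm
      rw [← map_commutatorElement]
      exact hfZ _ (hy c hc)
  have hfy' : f (g * y * g⁻¹) ∈ pCore t ((G ⧸ center G) ⧸ pCore p (G ⧸ center G)) := by
    rw [map_mul, map_mul, map_inv]
    exact Normal.conj_mem inferInstance _ hfy _
  obtain ⟨τ, hτ, hτ1⟩ : f (g * y * g⁻¹) ∈ (T : Subgroup G).map f :=
    pCore_le_sylow (T.mapSurjective hf) hfy'
  have hτC : τ ∈ centralizer ({y} : Set G) := by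
    have h2 : τ * y * τ⁻¹ = ⁅y, τ⁆⁻¹ * y := by simp only [commutatorElement_def]; group
    have h3 : τ * a * τ⁻¹ ∈ centralizer ({y} : Set G) := by
      rw [← centralizer_mul_of_mem_center ((center G).inv_mem (hy τ hτ)), ← h2,
        Frob.centralizer_conj_singleton]
      exact ⟨a, haC, rfl⟩
    have h4 : Commute (τ * a * τ⁻¹) a := mem_centralizer_singleton_iff.1 (haC' ▸ h3)
    have h5 : ⁅τ, a⁆ ^ s ^ i = 1 := by
      rw [commutatorElement_def, h4.inv_right.mul_pow, conj_pow, inv_pow, ← hi, pow_orderOf_eq_one]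
      simp
    have h6 := orderOf_dvd_of_pow_eq_one h5
    have h7 : f ⁅τ, a⁆ = 1 := by
      refine eq_one_of_mem_of_coprime (pCore_isPGroup t) ?_ ((((Nat.coprime_primes hs ht).2
        hst).pow_left i).coprime_dvd_left ((orderOf_map_dvd f _).trans h6))
      rw [map_commutatorElement, hτ1, commutatorElement_def, mul_assoc, mul_assoc, ← mul_assoc (f a)]
      exact mul_mem hfy' (Normal.conj_mem inferInstance _ (Subgroup.inv_mem _ hfy') _)
    have h8 := hker _ h7 ((((Nat.coprime_primes hs hp).2 hsp).pow_left i).coprime_dvd_left h6)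
    obtain ⟨n, hn⟩ := hT τ hτ
    have h9 := commutator_pow_eq h8 (t ^ n)
    rw [← hn, pow_orderOf_eq_one, commutatorElement_one_left, hn] at h9
    rw [haC']
    exact mem_centralizer_singleton_iff.2 (commutatorElement_eq_one_iff_mul_comm.1
      (orderOf_eq_one_iff.1 (Nat.eq_one_of_dvd_coprimes (Nat.coprime_pow_primes _ _ hs ht hst) h6
        (orderOf_dvd_of_pow_eq_one h9.symm))))
  obtain ⟨u, hu, v, hv, huv, -, hu1, hv1⟩ := exists_p_part hp (τ⁻¹ * (g * y * g⁻¹))
  have hd : τ⁻¹ * (g * y * g⁻¹) ∈ f.ker := by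
    rw [MonoidHom.mem_ker, map_mul, map_inv, hτ1, inv_mul_cancel]
  have hv2 := hker v (zpowers_le.2 hd hv) hv1
  have hnil : Group.IsNilpotent f.ker := by
    have := (pCore_isPGroup (G := G ⧸ center G) p).isNilpotent
    refine Subgroup.isNilpotent_of_ker_le_center
      (((QuotientGroup.mk' (center G)).comp f.ker.subtype).codRestrict (pCore p (G ⧸ center G))
        fun d => (QuotientGroup.eq_one_iff _).1 d.2) fun d hd => ?_
    have h2 : (d : G) ∈ center G := (QuotientGroup.eq_one_iff _).1 (congrArg Subtype.val hd)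
    exact mem_center_iff.2 fun g => Subtype.ext (mem_center_iff.1 h2 g)
  have hu2 : u ∈ pCore p G := le_pCore_of_le_fitting
    ((zpowers_le.2 (zpowers_le.2 hd hu)).trans (le_fitting hnil)) (isPGroup_zpowers_iff.2 hu1)
    (mem_zpowers u)
  have h2 : g * ⁅y, x⁆ * g⁻¹ ∈ pCore p G := by
    have h3 : g * y * g⁻¹ = τ * u * v := by rw [mul_assoc τ, ← huv, mul_inv_cancel_left]
    have h4 := mem_centralizer_singleton_iff.1 (hx2 hτC)
    have h5 : g * ⁅y, x⁆ * g⁻¹ = τ * (u * ((g * x * g⁻¹) * u⁻¹ * (g * x * g⁻¹)⁻¹)) * τ⁻¹ := by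
      rw [conjugate_commutatorElement, h3]
      generalize g * x * g⁻¹ = X at h4 ⊢
      calc ⁅τ * u * v, X⁆ = τ * u * (v * X * v⁻¹) * u⁻¹ * (X * τ)⁻¹ := by
            simp only [commutatorElement_def]; group
        _ = _ := by rw [← mem_center_iff.1 hv2 X, mul_inv_cancel_right, ← h4]; group
    rw [h5]
    exact Normal.conj_mem inferInstance _ (mul_mem hu2
      (Normal.conj_mem inferInstance _ (Subgroup.inv_mem _ hu2) _)) _
  rw [mem_center_iff.1 (hy x hxT) g, mul_inv_cancel_right] at h2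
  obtain ⟨n, hn⟩ := hT ⁅y, x⁆ (mul_mem (mul_mem (mul_mem hyT hxT) (Subgroup.inv_mem _ hyT))
    (Subgroup.inv_mem _ hxT))
  exact hxC (mem_centralizer_singleton_iff.2 (commutatorElement_eq_one_iff_mul_comm.1
    (eq_one_of_mem_of_coprime (pCore_isPGroup p) h2 (hreg ht htp hn))).symm)

end CfsgLib.H5.TwoCls
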