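import Mathlib
import Cfsg.Agent.Lib.H5TwoClsB
import Cfsg.Agent.Lib.ClassCount
import Cfsg.Agent.Lib.CharFrobenius
import Cfsg.Agent.S4126
import Cfsg.Agent.S4127

/-! Groups with class sizes among `1, n, m, n m`, for coprime `n, m`. -/

set_option autoImplicit false

namespace CfsgLib.H5.TwoCls

open Subgroup Cfsg
open scoped commutatorElement Pointwise

variable {G : Type*} [Group G] [Finite G]

local notation "ix" g:max => Subgroup.index (centralizer ({g} : Set G))

theorem dichotomy {p m : ℕ} (hp : p.Prime)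
    (hm : ∀ x : G, (orderOf x).Coprime p → x ∉ center G → ix x = m) :
    (∃ q : ℕ, q.Prime ∧ q ≠ p ∧ ∀ (x : G) (r k : ℕ), r.Prime → r ≠ p → r ≠ q →
      orderOf x = r ^ k → x ∈ center G) ∨ ∀ t : ℕ, t.Prime → t ∣ m → t = p := by
  have H := oneSize_reg hm
  have hreg : ∀ {r : ℕ}, r.Prime → r ≠ p → ∀ {x : G} {k : ℕ}, orderOf x = r ^ k →
      x ∈ {x : G | (orderOf x).Coprime p} := fun hr hrp x k hk => by
    show (orderOf x).Coprime p
    rw [hk]; exact ((Nat.coprime_primes hr hp).2 hrp).pow_left k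
  refine or_iff_not_imp_left.2 fun h1 => ?_
  push Not at h1
  obtain ⟨q, hq1, hq⟩ := Nat.exists_infinite_primes (p + 1)
  obtain ⟨x, s, i, hs, hsp, -, hi, hxZ⟩ := h1 q hq (by omega)
  have hx := hreg hs hsp hi
  have h5 : ∀ t : ℕ, t.Prime → t ∣ m → ∃ w : G, ∃ l, orderOf w = t ^ l ∧ w ∉ center G :=
    fun t ht hd => by
      obtain ⟨w, -, ⟨l, hl⟩, hw⟩ := exists_primePow_notMem_of_dvd_relIndex (C := center G)
        (N := ⊤) ht (by
          rw [relIndex_top_right]
          exact hd.trans (H.idx x hx hxZ ▸ index_dvd_of_le (center_le_centralizer _)))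
      exact ⟨w, l, hl, hw⟩
  intro t ht hd
  by_contra htp
  obtain ⟨w, l, hl, hwZ⟩ := h5 t ht hd
  obtain ⟨v, u, n, hu, hup, hut, hn, hvZ⟩ := h1 t ht htp
  refine false_of_one_prime hp hu ht hup htp hut H hvZ hn hd fun c hc hcm => ?_
  by_contra! hne
  obtain ⟨w', l', hl', hwZ'⟩ := h5 c hc hcm
  obtain ⟨w'', hw1, ⟨l'', hl''⟩, hw2⟩ := H.exists_primePow (hreg ht htp hl) hwZ
    (hreg hc hne.1 hl') hwZ' hc hl'
  exact (H.not_dvd ht hc hne.2.symm (hreg ht htp hl) hwZ hl (hreg hc hne.1 hl'') hw2 hl''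
    hw1).elim (· hd) (· hcm)

variable (G) in
/-- all class sizes are among `1, n, m, n m` -/
structure Four (n m : ℕ) : Prop where
  hn : 1 < n
  hm : 1 < m
  cop : n.Coprime m
  idx : ∀ g : G, ix g = 1 ∨ ix g = n ∨ ix g = m ∨ ix g = n * m

variable {n m : ℕ}

omit [Finite G] in
theorem Four.symm (h : Four G n m) : Four G m n :=
  ⟨h.hm, h.hn, h.cop.symm, fun g => by have := h.idx g; rw [mul_comm m]; tauto⟩

omit [Finite G] in
theorem Four.dvd (h : Four G n m) (g : G) : ix g ∣ n * m := by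
  rcases h.idx g with e | e | e | e <;> rw [e]
  exacts [one_dvd _, dvd_mul_right _ _, dvd_mul_left _ _]

omit [Finite G] in
theorem Four.of_dvd (h : Four G n m) {g : G} (hd : m ∣ ix g) : ix g = m ∨ ix g = n * m := by
  have := h.hm
  rcases h.idx g with e | e | e | e
  · rw [e, Nat.dvd_one] at hd; omega
  · rw [e] at hd
    have := Nat.eq_one_of_dvd_coprimes h.cop hd dvd_rfl
    omega
  exacts [Or.inl e, Or.inr e]

theorem Four.rel (h : Four G n m) {y u : G} (hy : ix y = m) (hu : u ∈ centralizer ({y} : Set G))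
    (hc : (orderOf u).Coprime (orderOf y)) :
    (centralizer ({u} : Set G)).relIndex (centralizer {y}) = 1 ∨
      (centralizer ({u} : Set G)).relIndex (centralizer {y}) = n := by
  have h1 := Frob.centralizer_mul_of_coprime (mem_centralizer_singleton_iff.1 hu) hc
  have h2 : (centralizer ({u} : Set G)).relIndex (centralizer {y}) * m = ix (u * y) := by
    rw [h1, ← hy, ← inf_relIndex_right, relIndex_mul_index inf_le_right]
  have h3 := h.hm
  refine (h.of_dvd (h2 ▸ dvd_mul_left _ _)).imp (fun e => ?_) fun e => ?_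
  · exact Nat.eq_of_mul_eq_mul_right (by omega) (h2.trans (e.trans (one_mul m).symm))
  · exact Nat.eq_of_mul_eq_mul_right (by omega) (h2.trans e)

theorem Four.rel' (h : Four G n m) {y : G} {r j : ℕ} (hy : ix y = m) (hj : orderOf y = r ^ j)
    (u : centralizer ({y} : Set G)) (hc : (orderOf u).Coprime r) :
    (centralizer ({u} : Set (centralizer ({y} : Set G)))).index = 1 ∨
      (centralizer ({u} : Set (centralizer ({y} : Set G)))).index = n := by
  rw [← Frob.centralizer_subgroupOf_singleton]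
  exact h.rel hy u.2 (by rw [hj, Subgroup.orderOf_coe]; exact hc.pow_right j)

theorem Four.dich (h : Four G n m) {y u : G} {r j : ℕ} (hr : r.Prime) (hy : ix y = m)
    (hj : orderOf y = r ^ j) (hu : u ∈ centralizer ({y} : Set G))
    (hun : (centralizer ({u} : Set G)).relIndex (centralizer {y}) = n) :
    (∃ t : ℕ, t.Prime ∧ t ≠ r ∧ (∀ c : ℕ, c.Prime → c ∣ n → c = r ∨ c = t) ∧
      ∀ c k : ℕ, c.Prime → orderOf u = c ^ k → c = r ∨ c = t) ∨
      ∀ c : ℕ, c.Prime → c ∣ n → c = r := by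
  refine (dichotomy (G := centralizer ({y} : Set G)) hr fun x hx hxZ =>
    (h.rel' hy hj x hx).resolve_left (mt Frob.index_centralizer_eq_one_iff.1 hxZ)).imp_left ?_
  rintro ⟨t, ht, htr, h1⟩
  refine ⟨t, ht, htr, fun c hc hd => ?_, fun c k hc hk => ?_⟩
  · by_contra! hne
    obtain ⟨v, hv, ⟨k, hk⟩, hvu⟩ := exists_primePow_notMem_of_dvd_relIndex hc (hun ▸ hd)
    exact hvu (mem_centralizer_singleton_iff.2 (congrArg Subtype.val (mem_center_iff.1
      (h1 ⟨v, hv⟩ c k hc hne.1 hne.2 (by rw [← hk, ← Subgroup.orderOf_coe])) ⟨u, hu⟩)).symm)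
  · by_contra! hne
    have h2 := h1 ⟨u, hu⟩ c k hc hne.1 hne.2 (by rw [← hk, ← Subgroup.orderOf_coe])
    have h3 := h.hn
    rw [relIndex_eq_one.2 fun g hg => mem_centralizer_singleton_iff.2
      (congrArg Subtype.val (mem_center_iff.1 h2 ⟨g, hg⟩))] at hun
    omega

theorem exists_conj_mem_of_not_dvd {C : Subgroup G} {r j : ℕ} (hr : r.Prime) (hC : ¬ r ∣ C.index)
    {y : G} (hj : orderOf y = r ^ j) : ∃ g : G, g * y * g⁻¹ ∈ C := by
  have := Fact.mk hr
  obtain ⟨P, hP⟩ := H5.exists_sylow_le_of_not_dvd_index hC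
  obtain ⟨g, -, hg⟩ := (IsSylowIn.sylow_top P).exists_conj_le
    (isPGroup_zpowers_iff.2 ⟨j, hj⟩) le_top
  exact ⟨g, hP (hg (mem_map_of_mem _ (mem_zpowers y)))⟩

theorem Four.pow_of_good (h : Four G n m) {x y : G} {r j s i : ℕ} (hr : r.Prime) (hs : s.Prime)
    (hy : ix y = m) (hj : orderOf y = r ^ j) (hrn : ¬ r ∣ n) (hx : ix x = n)
    (hi : orderOf x = s ^ i) : ∃ a, n = s ^ a := by
  obtain ⟨g, hg⟩ := exists_conj_mem_of_not_dvd hr (hx ▸ hrn) hj
  rw [← Frob.index_centralizer_conj g] at hy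
  rw [← (MulAut.conj g).orderOf_eq, MulAut.conj_apply] at hj
  generalize g * y * g⁻¹ = y at hg hy hj
  have hxy : x ∈ centralizer ({y} : Set G) :=
    mem_centralizer_singleton_iff.2 (mem_centralizer_singleton_iff.1 hg).symm
  have h1 : (centralizer ({x} : Set G)).relIndex (centralizer {y}) = n := by
    rw [ClassCount.relIndex_eq_index_of_coprime (by rw [hx, hy]; exact h.cop), hx]
  have hn := h.hn
  obtain ⟨c, hc, hcn⟩ := Nat.exists_prime_and_dvd hn.ne'
  rcases h.dich hr hy hj hxy h1 with ⟨t, ht, htr, h2, -⟩ | h2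
  swap
  · exact absurd (h2 c hc hcn ▸ hcn) hrn
  have h3 : ∀ c : ℕ, c.Prime → c ∣ n → c = t := fun c hc hd =>
    (h2 c hc hd).resolve_left fun e => hrn (e ▸ hd)
  obtain ⟨a, ha⟩ := exists_pow_of_forall_prime ht (by omega) h3
  by_cases hst : s = t
  · exact ⟨a, hst ▸ ha⟩
  exfalso
  have := Fact.mk ht
  have h4 : ∀ (v : centralizer ({y} : Set G)) (k : ℕ), orderOf v = t ^ k →
      ∃ a, (centralizer ({v} : Set (centralizer ({y} : Set G)))).index = t ^ a := fun v k hk =>
    (h.rel' hy hj v (hk ▸ ((Nat.coprime_primes ht hr).2 htr).pow_left k)).elim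
      (fun e => ⟨0, e⟩) fun e => ⟨a, e.trans ha⟩
  obtain ⟨P, N, hN, hNP⟩ := Cfsg.Agent.S4126.result (G := centralizer ({y} : Set G)) t
    fun v hv => by
      rcases hv with hv | ⟨rfl, hv⟩
      exacts [h4 v 1 (by rw [hv, pow_one]), h4 v 2 hv]
  obtain ⟨b, hb⟩ := P.2.exists_card_eq
  have h5 : (⟨x, hxy⟩ : centralizer ({y} : Set G)) ∈ N := mem_of_coprime_index (by
    rw [hNP.symm.index_eq_card, hb, ← Subgroup.orderOf_coe, hi]
    exact Nat.coprime_pow_primes _ _ hs ht hst)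
  obtain ⟨v, hv, ⟨k, hk⟩, hvx⟩ := exists_primePow_notMem_of_dvd_relIndex ht
    (h1 ▸ h3 c hc hcn ▸ hcn)
  obtain ⟨e, he⟩ := h4 ⟨v, hv⟩ k (by rw [← hk, ← Subgroup.orderOf_coe])
  have h6 := le_of_normal_of_coprime_index (S := N) (C := centralizer {⟨v, hv⟩}) (by
    rw [he, ← hNP.index_eq_card]
    exact ((ht.coprime_iff_not_dvd.2 P.not_dvd_index).symm).pow_right e) h5
  exact hvx (mem_centralizer_singleton_iff.2
    (congrArg Subtype.val (mem_centralizer_singleton_iff.1 h6)).symm)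

theorem Four.hnpc (h : Four G n m) {x : G} {s i a : ℕ} [hs : Fact s.Prime] (hx : ix x = n)
    (hi : orderOf x = s ^ i) (ha : n = s ^ a) : HasNormalPComplement s G := by
  refine Cfsg.Agent.S4127.result s a (fun g hd => ?_) ⟨x, ⟨i, hi⟩, hx.trans ha⟩
  have h1 := hd.trans (h.dvd g)
  rw [ha, pow_succ, Nat.mul_dvd_mul_iff_left (pow_pos hs.out.pos a)] at h1
  have h2 : a ≠ 0 := fun e => by have := h.hn; simp [ha, e] at this
  exact hs.out.one_lt.ne' (Nat.eq_one_of_dvd_coprimes h.cop (ha ▸ dvd_pow_self s h2) h1)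

theorem Four.of_good (h : Four G n m) {x y : G} {r j s i : ℕ} (hr : r.Prime) (hs : s.Prime)
    (hy : ix y = m) (hj : orderOf y = r ^ j) (hrn : ¬ r ∣ n) (hx : ix x = n)
    (hi : orderOf x = s ^ i) : Group.IsNilpotent G ∧ IsPrimePow n ∧ IsPrimePow m := by
  obtain ⟨a, ha⟩ := h.pow_of_good hr hs hy hj hrn hx hi
  have h2 : a ≠ 0 := fun e => by have := h.hn; simp [ha, e] at this
  obtain ⟨b, hb⟩ := h.symm.pow_of_good hs hr hx hi (fun h1 => hs.one_lt.ne'
    (Nat.eq_one_of_dvd_coprimes h.cop (ha ▸ dvd_pow_self s h2) h1)) hy hj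
  have h3 : b ≠ 0 := fun e => by have := h.hm; simp [hb, e] at this
  refine ⟨?_, ha ▸ hs.isPrimePow.pow h2, hb ▸ hr.isPrimePow.pow h3⟩
  have := Fact.mk hr
  have := Fact.mk hs
  obtain ⟨P, N, hN, hNP⟩ := h.hnpc hx hi ha
  obtain ⟨Q, M, hM, hMQ⟩ := h.symm.hnpc hy hj hb
  obtain ⟨c, hc⟩ := P.2.exists_card_eq
  obtain ⟨d, hd⟩ := Q.2.exists_card_eq
  have := (IsPGroup.of_card (G := G ⧸ N) (hNP.symm.index_eq_card.trans hc)).isNilpotent
  have := (IsPGroup.of_card (G := G ⧸ M) (hMQ.symm.index_eq_card.trans hd)).isNilpotent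
  refine Subgroup.isNilpotent_of_ker_le_center ((QuotientGroup.mk' N).prod (QuotientGroup.mk' M)) ?_
  rw [MonoidHom.ker_prod, QuotientGroup.ker_mk', QuotientGroup.ker_mk']
  intro z hz
  refine mem_center_iff.2 fun g => (mem_centralizer_singleton_iff.1
    (le_of_normal_of_coprime_index (Nat.Coprime.coprime_dvd_right (h.dvd g) ?_) hz)).symm
  rw [ha, hb]
  refine (Nat.Coprime.pow_right _ ?_).mul_right (Nat.Coprime.pow_right _ ?_)
  · exact (hs.coprime_iff_not_dvd.2 fun h1 => P.not_dvd_index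
      (hNP.index_eq_card ▸ h1.trans (card_dvd_of_le inf_le_left))).symm
  · exact (hr.coprime_iff_not_dvd.2 fun h1 => Q.not_dvd_index
      (hMQ.index_eq_card ▸ h1.trans (card_dvd_of_le inf_le_right))).symm

theorem Four.exists_primePow (h : Four G n m) {x : G} (hx : ix x = n) :
    ∃ (u : G) (s i : ℕ), s.Prime ∧ orderOf u = s ^ i ∧ ix u = n := by
  have hn := h.hn
  obtain ⟨u, hu, s, k, hs, hk, hu1⟩ : ∃ u ∈ zpowers x, ∃ s k : ℕ, s.Prime ∧ orderOf u = s ^ k ∧
      u ∉ center G := by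
    by_contra! hcon
    rw [Frob.index_centralizer_eq_one_iff.2 (mem_of_forall_primePow_mem hcon)] at hx
    omega
  refine ⟨u, s, k, hs, hk, ?_⟩
  have h1 : ix u ∣ n := hx ▸ index_dvd_of_le (Frob.centralizer_le_centralizer_of_mem_zpowers hu)
  have hm := h.hm
  rcases h.idx u with e | e | e | e
  · exact absurd (Frob.index_centralizer_eq_one_iff.1 e) hu1
  · exact e
  · rw [e] at h1
    have := Nat.eq_one_of_dvd_coprimes h.cop h1 dvd_rfl
    omega
  · rw [e] at h1
    have := Nat.le_of_dvd (by omega) h1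
    nlinarith

omit [Finite G] in
theorem relIndex_center_mul (g : G) :
    (center G).relIndex (centralizer {g}) * ix g = (center G).index :=
  relIndex_mul_index (center_le_centralizer _)

theorem Four.exists_of_dvd (h : Four G n m) {d c : ℕ} (hd : (center G).index = d * (n * m))
    (hc : c.Prime) (hcd : c ∣ d) (g : G) :
    ∃ u ∈ centralizer ({g} : Set G), (∃ k, orderOf u = c ^ k) ∧ u ∉ center G := by
  refine exists_primePow_notMem_of_dvd_relIndex hc (hcd.trans ?_)
  obtain ⟨e, he⟩ := h.dvd g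
  have h1 := relIndex_center_mul g
  rw [hd, he, mul_comm _ e, ← mul_assoc] at h1
  exact ⟨e, Nat.eq_of_mul_eq_mul_right (Nat.pos_of_ne_zero index_ne_zero_of_finite) h1⟩

theorem Four.of_bad (h : Four G n m) {d c : ℕ} (hd : (center G).index = d * (n * m))
    (hbad : ∀ (u : G) (c k : ℕ), c.Prime → orderOf u = c ^ k → ix u = m → c ∣ n)
    {y : G} {r j : ℕ} (hr : r.Prime) (hy : ix y = m) (hj : orderOf y = r ^ j)
    (hc : c.Prime) (hcd : c ∣ d) (hcn : ¬ c ∣ n) : (∃ a, n = r ^ a) ∧ r ∣ d := by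
  have hn := h.hn
  have hm := h.hm
  have hrn := hbad y r j hr hj hy
  have hcr : c ≠ r := fun e => hcn (e ▸ hrn)
  obtain ⟨u, hu, ⟨k, hk⟩, huZ⟩ := h.exists_of_dvd hd hc hcd y
  have h1 : n ∣ ix u := by
    rcases h.idx u with e | e | e | e
    · exact absurd (Frob.index_centralizer_eq_one_iff.1 e) huZ
    · exact e.symm.dvd
    · exact absurd (hbad u c k hc hk e) hcn
    · exact e ▸ dvd_mul_right _ _
  have h2 := (h.rel hy hu (by rw [hk, hj]; exact Nat.coprime_pow_primes _ _ hc hr hcr)).resolve_left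
    fun e => by
      have := Nat.eq_one_of_dvd_coprimes h.cop dvd_rfl
        (h1.trans (hy ▸ index_dvd_of_le (relIndex_eq_one.1 e)))
      omega
  refine ⟨exists_pow_of_forall_prime hr (by omega) ?_, ?_⟩
  · rcases h.dich hr hy hj hu h2 with ⟨t, ht, htr, h3, h4⟩ | h3
    · exact fun c' hc' hd' => (h3 c' hc' hd').resolve_right fun e =>
        hcn (((h4 c k hc hk).resolve_left hcr).trans e.symm ▸ hd')
    · exact h3
  · have hyZ : y ∉ center G := fun e => by
      rw [Frob.index_centralizer_eq_one_iff.2 e] at hy; omega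
    have h3 : r ∣ (center G).relIndex (centralizer {u}) := by
      rw [← card_map_mk'_eq_relIndex]
      have h2 : orderOf (QuotientGroup.mk' (center G) y) ∣ r ^ j := hj ▸ orderOf_map_dvd _ y
      obtain ⟨k, -, hk⟩ := (Nat.dvd_prime_pow hr).1 h2
      have hk0 : k ≠ 0 := fun h0 => hyZ ((QuotientGroup.eq_one_iff y).1
        (orderOf_eq_one_iff.1 (by rw [h0] at hk; exact hk)))
      exact (dvd_pow_self r hk0).trans (hk ▸ orderOf_dvd_natCard _ (mem_map_of_mem _
        (mem_centralizer_singleton_iff.mpr (mem_centralizer_singleton_iff.1 hu).symm)))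
    obtain ⟨e, he⟩ := h1
    have h4 := relIndex_center_mul u
    rw [hd, he, mul_left_comm, mul_left_comm d] at h4
    have h5 : r ∣ d * m := Nat.eq_of_mul_eq_mul_left (by omega) h4 ▸ h3.mul_right e
    exact (hr.dvd_mul.1 h5).resolve_right fun h6 => hr.one_lt.ne'
      (Nat.eq_one_of_dvd_coprimes h.cop hrn h6)

end CfsgLib.H5.TwoCls
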