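import Mathlib
import Cfsg.Agent.Lib.H5FourClsA
import Cfsg.Agent.Lib.CharBurnside
import Cfsg.Agent.Lib.CoprimePGroup
import Cfsg.Agent.Lib.H5Ito
import Cfsg.Agent.Lib.CharCentral

/-! Camina's theorem on class sizes `1, p ^ a, q ^ b, p ^ a q ^ b`: the excluded configuration. -/

set_option autoImplicit false

namespace CfsgLib.H5.TwoCls

open Subgroup Cfsg
open scoped commutatorElement Pointwise

variable {G : Type*} [Group G] [Finite G]

local notation "ix" g:max => Subgroup.index (centralizer ({g} : Set G))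

variable (G) in
/-- the configuration excluded in Camina's theorem -/
structure Bad (p q n m : ℕ) : Prop extends Four G n m where
  hp : p.Prime
  hq : q.Prime
  np : ∃ a, n = p ^ a
  mq : ∃ b, m = q ^ b
  exp : ∀ g : G, ∃ u ∈ centralizer ({g} : Set G), (∃ k, orderOf u = p ^ k) ∧ u ∉ center G
  exq : ∀ g : G, ∃ u ∈ centralizer ({g} : Set G), (∃ k, orderOf u = q ^ k) ∧ u ∉ center G
  nep : ∀ (z : G) (k : ℕ), orderOf z = p ^ k → ix z ≠ n
  neq : ∀ (z : G) (k : ℕ), orderOf z = q ^ k → ix z ≠ m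

variable {p q n m : ℕ}

omit [Finite G] in
theorem Bad.symm (h : Bad G p q n m) : Bad G q p m n :=
  ⟨h.toFour.symm, h.hq, h.hp, h.mq, h.np, h.exq, h.exp, h.neq, h.nep⟩

omit [Finite G] in
theorem Bad.p_dvd (h : Bad G p q n m) : p ∣ n := by
  obtain ⟨a, ha⟩ := h.np
  exact ha ▸ dvd_pow_self p fun e => by have := h.hn; simp [ha, e] at this

omit [Finite G] in
theorem Bad.not_dvd (h : Bad G p q n m) : ¬ p ∣ m := fun h1 =>
  h.hp.one_lt.ne' (Nat.eq_one_of_dvd_coprimes h.cop h.p_dvd h1)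

omit [Finite G] in
theorem Bad.ne (h : Bad G p q n m) : p ≠ q := fun e => h.not_dvd (e ▸ h.symm.p_dvd)

omit [Finite G] in
theorem Bad.eq_of_dvd (h : Bad G p q n m) {c : ℕ} (hc : c.Prime) (hd : c ∣ n * m) :
    c = p ∨ c = q := by
  obtain ⟨a, ha⟩ := h.np
  obtain ⟨b, hb⟩ := h.mq
  exact (hc.dvd_mul.1 hd).imp
    (fun e => (Nat.prime_dvd_prime_iff_eq hc h.hp).1 (hc.dvd_of_dvd_pow (ha ▸ e)))
    fun e => (Nat.prime_dvd_prime_iff_eq hc h.hq).1 (hc.dvd_of_dvd_pow (hb ▸ e))

omit [Finite G] in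
theorem Bad.idx' (h : Bad G p q n m) {z : G} {k : ℕ} (hk : orderOf z = p ^ k)
    (hz : z ∉ center G) : ix z = m ∨ ix z = n * m := by
  rcases h.idx z with e | e | e | e
  exacts [absurd (Frob.index_centralizer_eq_one_iff.1 e) hz, absurd e (h.nep z k hk),
    Or.inl e, Or.inr e]

theorem pCore_le_of_not_dvd {p : ℕ} (hp : p.Prime) {C : Subgroup G} (h : ¬ p ∣ C.index) :
    pCore p G ≤ C := by
  have := Fact.mk hp
  obtain ⟨P, hP⟩ := H5.exists_sylow_le_of_not_dvd_index h
  exact (pCore_le_sylow P).trans hP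

theorem Bad.le_of_large (h : Bad G p q n m) {z w : G} {k l : ℕ} (hk : orderOf z = p ^ k)
    (hz : ix z = n * m) (hl : orderOf w = q ^ l) (hw : w ∈ centralizer ({z} : Set G)) :
    centralizer ({z} : Set G) ≤ centralizer {w} ∧ pCore p G ≤ centralizer {w} := by
  have := Fact.mk h.hp
  have h1 := Frob.centralizer_mul_of_coprime (mem_centralizer_singleton_iff.1 hw).symm
    (by rw [hk, hl]; exact Nat.coprime_pow_primes _ _ h.hp h.hq h.ne)
  have h2 : centralizer ({z * w} : Set G) ≤ centralizer {z} := h1.le.trans inf_le_left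
  have h3 : centralizer ({z} : Set G) ≤ centralizer {w} := by
    refine (relIndex_eq_one.1 (Nat.dvd_one.1 (Nat.dvd_of_mul_dvd_mul_right
      (Nat.pos_of_ne_zero (index_ne_zero_of_finite (H := centralizer ({z} : Set G)))) ?_))).trans
      (h1.le.trans inf_le_right)
    rw [relIndex_mul_index h2, one_mul, hz]
    exact h.dvd _
  have e : ∀ x : G, centralizer (zpowers x : Set G) = centralizer {x} := fun x => by
    rw [zpowers_eq_closure, centralizer_closure]
  refine ⟨h3, e w ▸ commutator_eq_bot_iff_le_centralizer.1 (Cop.commutator_eq_bot_of_pxq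
    (isPGroup_zpowers_iff.2 ⟨k, hk⟩) (pCore_isPGroup p) ?_ le_normalizer_of_normal
    le_normalizer_of_normal ?_ ?_)⟩
  · rw [Nat.card_zpowers, hl]
    exact ((Nat.coprime_primes h.hq h.hp).2 h.ne.symm).pow_left l
  · rw [commutator_eq_bot_iff_le_centralizer, e]
    exact zpowers_le.2 (h3 (mem_centralizer_singleton_iff.2 rfl))
  · rw [e, e]
    exact inf_le_right.trans h3

theorem Bad.pCore_le (h : Bad G p q n m) {z : G} {k : ℕ} (hk : orderOf z = p ^ k) :
    pCore p G ≤ centralizer {z} := by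
  have := Fact.mk h.hp
  by_cases hz : z ∈ center G
  · rw [Frob.centralizer_singleton_eq_top_iff.2 hz]; exact le_top
  rcases h.idx' hk hz with e | e
  · exact pCore_le_of_not_dvd h.hp (e ▸ h.not_dvd)
  obtain ⟨w, hw, ⟨l, hl⟩, hwZ⟩ := h.exq z
  obtain ⟨h1, h2⟩ := h.le_of_large hk e hl hw
  have h3 : ¬ p ∣ ((centralizer ({z} : Set G)).subgroupOf (centralizer {w})).index := fun hd => by
    have h4 := relIndex_mul_index h1
    have hn := h.hn
    have hm := h.hm
    rw [e] at h4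
    rcases h.symm.idx' hl hwZ with e' | e' <;> rw [e'] at h4
    · exact h.not_dvd (Nat.eq_of_mul_eq_mul_right (by omega) (h4.trans (mul_comm n m)) ▸ hd)
    · exact h.hp.not_dvd_one (Nat.eq_of_mul_eq_mul_right (by positivity)
        (h4.trans ((mul_comm n m).trans (one_mul _).symm)) ▸ hd)
  exact fun u hu => pCore_le_of_not_dvd h.hp h3 (le_pCore (N := (pCore p G).subgroupOf _)
    ((pCore_isPGroup p).comap_subtype) (show (⟨u, h2 hu⟩ : centralizer ({w} : Set G)) ∈ _ from hu))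

theorem Bad.isSolvable (h : Bad G p q n m) : Group.IsSolvable G := by
  refine isSolvable_of_normal_of_quotient (center G)
    (Group.isSolvable_of_comm fun a b => mul_comm' a b)
    (isSolvable_of_two_primes h.hp h.hq fun c hc hd => ?_)
  by_contra! hne
  obtain ⟨v, -, ⟨k, hk⟩, hv⟩ := exists_primePow_notMem_of_dvd_relIndex (C := center G) (N := ⊤) hc
    (by rw [relIndex_top_right]; exact hd)
  refine hv (Frob.centralizer_singleton_eq_top_iff.1 (eq_top_of_forall_conj_mem _ fun g => ?_))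
  obtain ⟨x, hx⟩ := exists_conj_mem_of_not_dvd (C := centralizer ({g} : Set G)) hc
    (fun h1 => (h.eq_of_dvd hc (h1.trans (h.dvd g))).elim hne.1 hne.2) hk
  have h1 := mem_centralizer_singleton_iff.1 hx
  refine ⟨x, mem_centralizer_singleton_iff.2 ?_⟩
  calc x⁻¹ * g * x * v = x⁻¹ * (g * (x * v * x⁻¹)) * x := by group
    _ = _ := by rw [← h1]; group

theorem Bad.mem_pCore (h : Bad G p q n m) {z : G} {c k : ℕ} [Fact c.Prime]
    (hk : orderOf z = c ^ k) (h1 : pCore p G ≤ centralizer {z})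
    (h2 : pCore q G ≤ centralizer {z}) : z ∈ pCore c G := by
  have := h.isSolvable
  refine le_pCore_of_le_fitting (zpowers_le.2 (centralizer_fitting_le fun f hf => ?_))
    (isPGroup_zpowers_iff.2 ⟨k, hk⟩) (mem_zpowers z)
  refine mem_centralizer_singleton_iff.1 (mem_of_forall_primePow_mem fun u hu r j hr hj => ?_)
  have := Fact.mk hr
  have h3 : u ∈ pCore r G := le_pCore_of_le_fitting (zpowers_le.2 (zpowers_le.2 hf hu))
    (isPGroup_zpowers_iff.2 ⟨j, hj⟩) (mem_zpowers u)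
  by_cases hrp : r = p
  · exact h1 (hrp ▸ h3)
  by_cases hrq : r = q
  · exact h2 (hrq ▸ h3)
  exact pCore_le_of_not_dvd hr (fun h4 => (h.eq_of_dvd hr (h4.trans (h.dvd z))).elim hrp hrq) h3

theorem Bad.idx_pCore (h : Bad G p q n m) {z : G} (hz : z ∈ pCore p G) (hzZ : z ∉ center G) :
    ix z = m := by
  have := Fact.mk h.hp
  obtain ⟨k, hk⟩ := IsPGroup.iff_orderOf.1 (pCore_isPGroup p) ⟨z, hz⟩
  rw [← Subgroup.orderOf_coe] at hk
  refine (h.idx' hk hzZ).resolve_right fun e => ?_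
  obtain ⟨v, -, ⟨l, hl⟩, hv⟩ := exists_primePow_notMem_of_dvd_relIndex
    (C := centralizer ({z} : Set G)) (N := ⊤) h.hp
    (by rw [relIndex_top_right, e]; exact h.p_dvd.mul_right m)
  exact hv (mem_centralizer_singleton_iff.2
    (mem_centralizer_singleton_iff.1 (h.pCore_le hl hz)).symm)

theorem Bad.key (h : Bad G p q n m) {z : G} {k : ℕ} (hk : orderOf z = p ^ k) (hz : ix z = m)
    (hzV : ¬ pCore q G ≤ centralizer {z}) :
    n < m ∧ pCore q G ⊓ centralizer {z} ≤ center G := by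
  have := Fact.mk h.hq
  set V := pCore q G with hV
  have hq : ∀ v ∈ V, ∃ l, orderOf v = q ^ l := fun v hv => by
    obtain ⟨l, hl⟩ := IsPGroup.iff_orderOf.1 (pCore_isPGroup q) ⟨v, hv⟩
    exact ⟨l, by rw [← hl, ← Subgroup.orderOf_coe]⟩
  have hcomm : ∀ v ∈ V, ∀ w ∈ V, v * w = w * v := fun v hv w hw =>
    mem_centralizer_singleton_iff.1 (h.symm.pCore_le (hq w hw).choose_spec hv)
  have hmem : ∀ v ∈ V, ⁅z, v⁆ ∈ V := fun v hv =>
    mul_mem (Normal.conj_mem inferInstance v hv z) (V.inv_mem hv)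
  have hdec : ∀ g : G, ∃ c ∈ centralizer ({z} : Set G), ∀ v ∈ V, g * v * g⁻¹ = c * v * c⁻¹ := by
    intro g
    obtain ⟨c, hc, e, he, rfl⟩ := ClassCount.exists_mul_of_coprime_index
      (K := centralizer ({z} : Set G)) (H := centralizer (V : Set G)) (by
        obtain ⟨b, hb⟩ := h.mq
        rw [hz, hb]
        refine (h.hq.coprime_iff_not_dvd.2 fun hd => ?_).pow_left b
        obtain ⟨v, -, ⟨l, hl⟩, hv⟩ := exists_primePow_notMem_of_dvd_relIndex
          (C := centralizer (V : Set G)) (N := ⊤) h.hq (by rwa [relIndex_top_right])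
        exact hv fun w hw => mem_centralizer_singleton_iff.1 (h.symm.pCore_le hl hw)) g
    refine ⟨c, hc, fun v hv => ?_⟩
    calc c * e * v * (c * e)⁻¹ = c * (e * v) * e⁻¹ * c⁻¹ := by group
      _ = _ := by rw [← he v hv]; group
  have hconj : ∀ c ∈ centralizer ({z} : Set G), ∀ v : G, c * ⁅z, v⁆ * c⁻¹ = ⁅z, c * v * c⁻¹⁆ :=
    fun c hc v => by
      rw [conjugate_commutatorElement, mem_centralizer_singleton_iff.1 hc, mul_inv_cancel_right]
  have hone : ∀ v ∈ V, ⁅z, v⁆ ∈ centralizer ({z} : Set G) → ⁅z, v⁆ = 1 := fun v hv hc => by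
    have h1 : ∀ i : ℕ, z ^ i * v * (z ^ i)⁻¹ = ⁅z, v⁆ ^ i * v := fun i => by
      induction i with
      | zero => simp
      | succ i ih =>
        have h2 : z * ⁅z, v⁆ ^ i = ⁅z, v⁆ ^ i * z :=
          (mem_centralizer_singleton_iff.1 (pow_mem hc i)).symm
        calc z ^ (i + 1) * v * (z ^ (i + 1))⁻¹ = z * (z ^ i * v * (z ^ i)⁻¹) * z⁻¹ := by group
          _ = z * ⁅z, v⁆ ^ i * v * z⁻¹ := by rw [ih, ← mul_assoc]
          _ = _ := by rw [h2, pow_succ, mul_assoc (_ ^ i) ⁅z, v⁆, commutatorElement_def]; group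
    have h2 := h1 (orderOf z)
    rw [pow_orderOf_eq_one, one_mul, inv_one, mul_one, eq_comm, mul_eq_right, hk] at h2
    obtain ⟨l, hl⟩ := hq _ (hmem v hv)
    exact orderOf_eq_one_iff.1 (Nat.eq_one_of_dvd_coprimes
      (Nat.coprime_pow_primes k l h.hp h.hq h.ne) (orderOf_dvd_of_pow_eq_one h2) hl.dvd)
  obtain ⟨v, hv, hvz⟩ := SetLike.not_le_iff_exists.1 hzV
  have hv1 : ⁅z, v⁆ ≠ 1 := fun e => hvz (mem_centralizer_singleton_iff.2
    (commutatorElement_eq_one_iff_mul_comm.1 e).symm)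
  have hv2 : ⁅z, v⁆ ∉ centralizer ({z} : Set G) := fun e => hv1 (hone v hv e)
  constructor
  · have h1 := h.symm.idx_pCore (hmem v hv) fun e => hv2 (center_le_centralizer _ e)
    have h2 : {x | IsConj ⁅z, v⁆ x} ⊆ ((fun x => z * x⁻¹) '' {x | IsConj z x}) \ {1} := by
      intro x hx
      obtain ⟨g, rfl⟩ := isConj_iff.1 hx
      refine ⟨?_, fun e => hv1 (by simpa using e)⟩
      obtain ⟨c, hc, e⟩ := hdec g
      rw [e _ (hmem v hv), hconj c hc]
      generalize c * v * c⁻¹ = u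
      exact ⟨u * z * u⁻¹, isConj_iff.2 ⟨u, rfl⟩, by simp [commutatorElement_def, mul_assoc]⟩
    have h3 := Set.ncard_le_ncard h2
    rw [Set.ncard_sdiff_singleton_of_mem (by exact ⟨z, IsConj.refl z, mul_inv_cancel z⟩),
      Set.ncard_image_of_injective _ (fun a b e => by simpa using e),
      ← index_centralizer_eq_ncard_isConj, ← index_centralizer_eq_ncard_isConj, h1, hz] at h3
    have := h.hm
    omega
  · intro w hw'
    obtain ⟨hw, hwz⟩ := mem_inf.1 hw'
    by_contra hwZ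
    have h1 : w * ⁅z, v⁆ ∉ centralizer ({z} : Set G) := fun e => hv2 ((mul_mem_cancel_left hwz).1 e)
    have h2 : centralizer ({w * ⁅z, v⁆} : Set G) ≤ centralizer {w} := fun g hg => by
      obtain ⟨c, hc, e⟩ := hdec g
      have h3 : c * w * c⁻¹ * ⁅z, c * v * c⁻¹⁆ = w * ⁅z, v⁆ := by
        rw [← hconj c hc, conj_mul, ← e _ (mul_mem hw (hmem v hv)),
          mem_centralizer_singleton_iff.1 hg, mul_inv_cancel_right]
      have hu : c * v * c⁻¹ ∈ V := Normal.conj_mem inferInstance v hv c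
      have h4 : ⁅z, c * v * c⁻¹ * v⁻¹⁆ = (c * w * c⁻¹)⁻¹ * w := by
        generalize c * v * c⁻¹ = u at hu h3
        have h5 := hcomm _ (Normal.conj_mem inferInstance _ (V.inv_mem hv) z) _
          (mul_mem hv (V.inv_mem hu))
        calc ⁅z, u * v⁻¹⁆ = z * u * z⁻¹ * (z * v⁻¹ * z⁻¹ * (v * u⁻¹)) := by
              simp only [commutatorElement_def]; group
          _ = z * u * z⁻¹ * (v * u⁻¹) * (z * v⁻¹ * z⁻¹) := by rw [h5]; group
          _ = ⁅z, u⁆ * ⁅z, v⁆⁻¹ := by
              rw [hcomm v hv _ (V.inv_mem hu)]; simp only [commutatorElement_def]; group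
          _ = _ := by rw [eq_inv_mul_iff_mul_eq, ← mul_assoc, h3, mul_inv_cancel_right]
      have h5 := hone _ (mul_mem hu (V.inv_mem hv)) (h4 ▸ mul_mem
        (Subgroup.inv_mem _ (mul_mem (mul_mem hc hwz) (Subgroup.inv_mem _ hc))) hwz)
      rw [h4, inv_mul_eq_one, ← e w hw, mul_inv_eq_iff_eq_mul] at h5
      exact mem_centralizer_singleton_iff.2 h5
    have h3 := centralizer_eq_of_le_of_index h2 ((h.symm.idx_pCore hw hwZ).trans
      (h.symm.idx_pCore (mul_mem hw (hmem v hv)) fun e => h1 (center_le_centralizer _ e)).symm)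
      index_ne_zero_of_finite
    exact h1 (mem_centralizer_singleton_iff.2 (mem_centralizer_singleton_iff.1
      (h3.ge (mem_centralizer_singleton_iff.2 (mem_centralizer_singleton_iff.1 hwz).symm))).symm)

theorem Bad.false_of_le (h : Bad G p q n m) {y : G} {j : ℕ} (hj : orderOf y = p ^ j)
    (hy : ix y = m) (hU : pCore p G ≤ center G) : False := by
  have := Fact.mk h.hp
  have := Fact.mk h.hq
  have hm := h.hm
  obtain ⟨w, hw, ⟨l, hl⟩, hwZ⟩ := h.exq y
  refine hwZ ((h.key hj hy fun hle => ?_).2 ⟨h.mem_pCore hl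
    (hU.trans (center_le_centralizer _)) (h.symm.pCore_le hl), hw⟩)
  rw [Frob.index_centralizer_eq_one_iff.2 (hU (h.mem_pCore hj (h.pCore_le hj) hle))] at hy
  omega

theorem Bad.lt (h : Bad G p q n m) (hU : ¬ pCore p G ≤ center G) (hV : ¬ pCore q G ≤ center G) :
    n < m := by
  have := Fact.mk h.hp
  have := Fact.mk h.hq
  obtain ⟨v, hv, hvZ⟩ := SetLike.not_le_iff_exists.1 hV
  obtain ⟨u, hu, huZ⟩ := SetLike.not_le_iff_exists.1 hU
  obtain ⟨z, -, ⟨k, hk⟩, hz⟩ := exists_primePow_notMem_of_dvd_relIndex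
    (C := centralizer ({v} : Set G)) (N := ⊤) h.hp
    (by rw [relIndex_top_right, h.symm.idx_pCore hv hvZ]; exact h.p_dvd)
  have h1 : ¬ pCore q G ≤ centralizer {z} := fun hle =>
    hz (mem_centralizer_singleton_iff.2 (mem_centralizer_singleton_iff.1 (hle hv)).symm)
  refine (h.key hk ((h.idx' hk fun e => hz (center_le_centralizer _ e)).resolve_right
    fun e => h1 ?_) h1).1
  obtain ⟨S, hS⟩ := IsSylowIn.exists_in (p := q) (centralizer ({z} : Set G))
  have h2 : S ≤ pCore q G := fun w hw => by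
    obtain ⟨l, hl⟩ := IsPGroup.iff_orderOf.1 hS.isPGroup ⟨w, hw⟩
    rw [← Subgroup.orderOf_coe] at hl
    exact h.mem_pCore hl (h.le_of_large hk e hl (hS.le hw)).2 (h.symm.pCore_le hl)
  obtain ⟨l, hl⟩ := IsPGroup.iff_orderOf.1 (pCore_isPGroup p) ⟨u, hu⟩
  rw [← Subgroup.orderOf_coe] at hl
  have h3 : pCore q G ≤ centralizer {u} := fun w hw => mem_centralizer_singleton_iff.2
    (commute_of_normal_of_disjoint _ _ inferInstance inferInstance (IsPGroup.disjoint_of_ne q p
      h.ne.symm _ _ (pCore_isPGroup q) (pCore_isPGroup p)) w u hw hu)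
  have h4 : Nat.card (centralizer ({u} : Set G)) =
      Nat.card S * (S.relIndex (centralizer {z}) * n) := by
    refine Nat.eq_of_mul_eq_mul_right (by have := h.hm; omega : 0 < m) ?_
    rw [← mul_assoc, card_mul_relIndex hS.le, mul_assoc, ← e, card_mul_index,
      ← h.idx_pCore hu huZ, card_mul_index]
  obtain ⟨i, hi⟩ := (pCore_isPGroup (G := G) q).exists_card_eq
  have h5 : Nat.card (pCore q G) ∣ Nat.card S :=
    Nat.Coprime.dvd_of_dvd_mul_right (hi ▸ (h.hq.coprime_iff_not_dvd.2 fun hd =>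
      (h.hq.dvd_mul.1 hd).elim hS.not_dvd fun hd => h.hq.one_lt.ne'
        (Nat.eq_one_of_dvd_coprimes h.cop hd h.symm.p_dvd)).pow_left i) (h4 ▸ card_dvd_of_le h3)
  exact eq_of_le_of_card_ge h2 (Nat.le_of_dvd Nat.card_pos h5) ▸ hS.le

theorem Bad.false (h : Bad G p q n m) {x y : G} {i j : ℕ} (hi : orderOf x = q ^ i) (hx : ix x = n)
    (hj : orderOf y = p ^ j) (hy : ix y = m) : False := by
  by_cases hU : pCore p G ≤ center G
  · exact h.false_of_le hj hy hU
  by_cases hV : pCore q G ≤ center G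
  · exact h.symm.false_of_le hi hx hV
  exact (h.lt hU hV).not_gt (h.symm.lt hV hU)

end CfsgLib.H5.TwoCls
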