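import Mathlib
import Cfsg.Agent.Lib.H5Engel
import Cfsg.Agent.Lib.H5Blackburn

/-! The power structure of `p`-groups of maximal class. -/

set_option autoImplicit false

namespace CfsgLib.H5

open Subgroup Cfsg CfsgLib
open scoped commutatorElement Pointwise

variable {G : Type*} [Group G] [Finite G] {p : ℕ} [hp : Fact p.Prime]

local notation "L" => Subgroup.lowerCentralSeries (⊤ : Subgroup G)

theorem le_of_card_le_mul {A B K : Subgroup G} (hB : IsPGroup p B) (hAB : A ≤ B)
    (h : Nat.card B ≤ p * Nat.card A) {a : G} (haB : a ∈ B) (haA : a ∉ A) (hAK : A ≤ K)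
    (haK : a ∈ K) : B ≤ K := by
  have h1 : A < K ⊓ B := lt_of_le_not_ge (le_inf hAK hAB) fun h' => haA (h' (mem_inf.2 ⟨haK, haB⟩))
  have h2 := eq_of_le_of_card_le (inf_le_right : K ⊓ B ≤ B)
    (h.trans (PGrp.mul_card_le_card_of_lt (hB.to_le inf_le_right) h1))
  exact h2.ge.trans inf_le_left

theorem exists_not_mem_of_card_lt (hG : IsPGroup p G) {ι : Type*} (s : Finset ι) (hs : s.card < p)
    (H : ι → Subgroup G) (hH : ∀ i ∈ s, H i ≠ ⊤) : ∃ g : G, ∀ i ∈ s, g ∉ H i := by
  by_contra hcon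
  push Not at hcon
  obtain ⟨i, hi, -, h⟩ := Subgroup.exists_index_le_card_of_leftCoset_cover (s := s) (H := H)
    (g := fun _ => 1) (Set.eq_univ_of_forall fun g => by
      obtain ⟨i, hi, h⟩ := hcon g
      exact Set.mem_biUnion hi (by simpa using h))
  obtain ⟨k, hk⟩ := hG.index (H i)
  rcases PGrp.eq_one_or_eq_prime_of_le hk (h.trans hs.le) with h1 | h1
  · exact hH i hi (index_eq_one.1 h1)
  · omega

/-- the two-step centralizer -/
def twoStep (G : Type*) [Group G] (i : ℕ) : Subgroup G :=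
  CommCalc.relCent ((⊤ : Subgroup G).lowerCentralSeries (i + 2))
    ((⊤ : Subgroup G).lowerCentralSeries i : Set G)

omit [Finite G] in
theorem mem_twoStep {i : ℕ} {g : G} : g ∈ twoStep G i ↔ ∀ t ∈ L i, ⁅g, t⁆ ∈ L (i + 2) :=
  ⟨fun h => h.2, fun h => ⟨le_normalizer_of_normal (mem_top g), h⟩⟩

omit [Finite G] in
theorem lcs_one_le_twoStep (i : ℕ) : L 1 ≤ twoStep G i := fun g hg => mem_twoStep.2 fun t ht => by
  have := CommCalc.commutator_mem_lcs hg ht
  rwa [show 1 + i + 1 = i + 2 by ring] at this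

omit [Finite G] in
theorem mem_relCent_single {N : Subgroup G} [N.Normal] {s g : G} :
    g ∈ CommCalc.relCent N {s} ↔ ⁅s, g⁆ ∈ N := by
  rw [CommCalc.mem_relCent, ← commutatorElement_inv, inv_mem_iff]
  exact ⟨fun h => h.2 s rfl, fun h => ⟨le_normalizer_of_normal (mem_top g), by
    rintro _ rfl; exact h⟩⟩

/-- `G` has order `p ^ n` and maximal class -/
structure MaxCl (p n : ℕ) (G : Type*) [Group G] : Prop where
  card : Nat.card G = p ^ n
  three_le : 3 ≤ n
  ne_bot : (⊤ : Subgroup G).lowerCentralSeries (n - 2) ≠ ⊥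

namespace MaxCl

variable {n : ℕ} (h : MaxCl p n G)
include h

theorem isPGroup : IsPGroup p G := IsPGroup.of_card h.card

theorem card_lcs_one : Nat.card (L 1) = p ^ (n - 2) := by
  have h1 := PGrp.index_commutator_eq_sq_of_lowerCentralSeries_ne_bot h.card h.three_le h.ne_bot
  have h2 := (_root_.commutator G).card_mul_index
  have := h.three_le
  rw [h1, h.card, show n = n - 2 + 2 by omega, pow_add] at h2
  exact Nat.eq_of_mul_eq_mul_right (pow_pos hp.out.pos 2) h2

theorem lcs_ne_bot {i : ℕ} (hi : i ≤ n - 2) : L i ≠ ⊥ :=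
  fun h' => h.ne_bot (eq_bot_iff.2 (h' ▸ lcs_le_of_le hi))

theorem card_lcs {i : ℕ} (h1 : 1 ≤ i) : Nat.card (L i) = p ^ (n - 1 - i) := by
  have h3 := h.three_le
  by_cases hi : n - 1 ≤ i
  · have : L i = ⊥ := eq_bot_iff.2
      ((PGrp.lowerCentralSeries_eq_bot_of_card h.card (by omega)) ▸ lcs_le_of_le hi)
    rw [this, card_bot, Nat.sub_eq_zero_of_le hi, pow_zero]
  refine le_antisymm ?_ ?_
  · obtain ⟨j, rfl⟩ := Nat.exists_eq_add_of_le h1
    rcases Nat.eq_zero_or_pos j with rfl | hj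
    · exact h.card_lcs_one.le
    · have := PGrp.pow_mul_card_lowerCentralSeries_le h.isPGroup 1 (j - 1)
        (h.lcs_ne_bot (by omega))
      rw [h.card_lcs_one, show 1 + (j - 1) + 1 = 1 + j by omega, show j - 1 + 1 = j by omega,
        show n - 2 = j + (n - 1 - (1 + j)) by omega, pow_add] at this
      exact Nat.le_of_mul_le_mul_left this (pow_pos hp.out.pos j)
  · have := PGrp.pow_mul_card_lowerCentralSeries_le h.isPGroup i (n - 2 - i)
      (h.lcs_ne_bot (by omega))
    rw [show n - 2 - i + 1 = n - 1 - i by omega] at this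
    exact (Nat.le_mul_of_pos_right _ Nat.card_pos).trans this

theorem card_lcs_le {i : ℕ} (h1 : 1 ≤ i) : Nat.card (L i) ≤ p * Nat.card (L (i + 1)) := by
  rw [h.card_lcs h1, h.card_lcs (by omega), ← pow_succ']
  exact Nat.pow_le_pow_right hp.out.pos (by omega)

theorem lcs_not_le {i : ℕ} (hi : i ≤ n - 2) : ¬ L i ≤ L (i + 1) := by
  have := h.isPGroup.isNilpotent
  exact (PGrp.lowerCentralSeries_succ_lt (h.lcs_ne_bot hi)).not_ge

theorem twoStep_ne_top {i : ℕ} (hi : i + 3 ≤ n) : twoStep G i ≠ ⊤ := fun h' =>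
  h.lcs_not_le (i := i + 1) (by omega) (by
    rw [lcs_succ_eq i, Subgroup.commutator_comm, commutator_le]
    exact fun g _ t ht => mem_twoStep.1 (h' ▸ mem_top g) t ht)

theorem mem_twoStep_of {i : ℕ} (h1 : 1 ≤ i) {a g : G} (ha : a ∈ L i) (ha' : a ∉ L (i + 1))
    (hg : ⁅g, a⁆ ∈ L (i + 2)) : g ∈ twoStep G i := mem_twoStep.2 fun _ ht =>
  mem_relCent_single.1 (le_of_card_le_mul (h.isPGroup.to_subgroup _) (lcs_le_of_le i.le_succ)
    (h.card_lcs_le h1) ha ha' (fun _ hb => mem_relCent_single.2 (comm_mem_lcs_right hb g))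
    (mem_relCent_single.2 hg) ht)

theorem index_twoStep_le {i : ℕ} (h1 : 1 ≤ i) : (twoStep G i).index ≤ p := by
  by_cases hi : L i ≤ L (i + 1)
  · have : twoStep G i = ⊤ := eq_top_iff.2 fun g _ => mem_twoStep.2 fun t ht =>
      comm_mem_lcs_right (hi ht) g
    rw [this, index_top]; exact hp.out.pos
  obtain ⟨a, ha, ha'⟩ := SetLike.not_le_iff_exists.1 hi
  let π := QuotientGroup.mk' (L (i + 2))
  have h2 := PGrp.index_centralizer_le_card (a := π a) (N := (L (i + 1)).map π) fun g => by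
    obtain ⟨g, rfl⟩ := QuotientGroup.mk'_surjective _ g
    exact ⟨_, comm_mem_lcs_left ha g, map_commutatorElement π a g⟩
  have h3 : Nat.card ((L (i + 1)).map π) ≤ p := by
    have := card_map_mk'_mul_card_inf (L (i + 1)) (L (i + 2))
    rw [inf_eq_left.2 (lcs_le_of_le (i + 1).le_succ)] at this
    exact Nat.le_of_mul_le_mul_right (this.le.trans (h.card_lcs_le (by omega))) Nat.card_pos
  rw [← index_comap_of_surjective _ (QuotientGroup.mk'_surjective _)] at h2
  refine le_trans (index_antitone fun g hg => h.mem_twoStep_of h1 ha ha' ?_) (h2.trans h3)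
  refine (QuotientGroup.eq_one_iff _).1 ?_
  change π _ = 1
  rw [map_commutatorElement, commutatorElement_eq_one_iff_mul_comm]
  exact mem_centralizer_singleton_iff.1 hg

theorem card_le_mul_card_twoStep {i : ℕ} (h1 : 1 ≤ i) :
    Nat.card (⊤ : Subgroup G) ≤ p * Nat.card (twoStep G i) := by
  rw [card_top, ← (twoStep G i).card_mul_index, mul_comm]
  exact Nat.mul_le_mul_right _ (h.index_twoStep_le h1)

theorem pow_mem_of_not_mem_twoStep {i : ℕ} (h1 : 1 ≤ i) {g : G} (hg : g ∉ twoStep G i)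
    (hgp : g ^ p ∈ L i) : g ^ p ∈ L (i + 1) := by
  by_contra h'
  refine hg (h.mem_twoStep_of h1 hgp h' ?_)
  rw [commutatorElement_eq_one_iff_commute.2 ((Commute.refl g).pow_right p)]
  exact one_mem _

theorem pow_mem_lcs {m : ℕ} (h1 : 1 ≤ m) (hm : m + 1 ≤ p) (hn : m + 2 ≤ n) (g : G) :
    g ^ p ∈ L m := by
  induction m, h1 using Nat.le_induction generalizing g with
  | base =>
    have hnc : ¬ IsCyclic G := fun hc => h.lcs_ne_bot (i := 1) (by omega) (by
      rw [lcs_succ_eq, commutator_eq_bot_iff_le_centralizer]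
      exact fun x _ => mem_centralizer_iff.2 fun y _ => hc.isMulCommutative.is_comm.comm _ _)
    have h2 := PGrp.sq_le_index_of_le_frattini h.isPGroup hnc _ le_rfl
    have h3 := PGrp.index_commutator_eq_sq_of_lowerCentralSeries_ne_bot h.card h.three_le h.ne_bot
    have h4 := eq_of_le_of_card_le (PGrp.commutator_le_frattini h.isPGroup) (by
      refine Nat.le_of_mul_le_mul_right ?_ (pow_pos hp.out.pos 2)
      rw [← h3, card_mul_index, ← (frattini G).card_mul_index, h3]
      exact Nat.mul_le_mul_left _ h2)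
    have := PGrp.pow_prime_mem_frattini h.isPGroup g
    rwa [← h4] at this
  | succ m h1 ih =>
    have h2 : ∀ g ∉ twoStep G m, g ^ p ∈ L (m + 1) := fun g hg =>
      h.pow_mem_of_not_mem_twoStep h1 hg (ih (by omega) (by omega) g)
    by_cases hg : g ∈ twoStep G m
    swap
    · exact h2 g hg
    obtain ⟨s, hs⟩ : ∃ s, s ∉ twoStep G m := by
      by_contra hcon
      push Not at hcon
      exact h.twoStep_ne_top (by omega) (eq_top_iff.2 fun s _ => hcon s)
    let π := QuotientGroup.mk' (L (m + 1))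
    have h3 : (⊤ : Subgroup (G ⧸ L (m + 1))).lowerCentralSeries (p - 1) = ⊥ := by
      rw [← map_top_of_surjective _ (QuotientGroup.mk'_surjective _),
        ← Subgroup.map_lowerCentralSeries, Subgroup.map_eq_bot_iff, QuotientGroup.ker_mk']
      exact lcs_le_of_le (by omega)
    have h4 := FT.mul_pow_eq_one_of_lcs_eq_bot ((h.isPGroup.to_quotient _).to_subgroup ⊤) h3
      (mem_top (π (g * s))) (mem_top (π s⁻¹))
      ((QuotientGroup.eq_one_iff _).2 (h2 _ fun h' => hs ((mul_mem_cancel_left hg).1 h')))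
      ((QuotientGroup.eq_one_iff _).2 (h2 _ fun h' => hs (inv_mem_iff.1 h')))
    rw [← map_mul, mul_inv_cancel_right] at h4
    exact (QuotientGroup.eq_one_iff _).1 h4

theorem comm_not_mem_two {M : Subgroup G} (hM : L 1 ≤ M) {s y : G} (hs : s ∉ M) (hy : y ∈ M)
    (hy' : y ∉ L 1) : ⁅s, y⁆ ∉ L 2 := by
  intro h'
  have hP := h.isPGroup
  have h3 := h.three_le
  have h1 : L 1 < L 1 ⊔ zpowers y :=
    lt_of_le_not_ge le_sup_left fun h' => hy' (h' (mem_sup_right (mem_zpowers y)))
  have h2 : Nat.card (⊤ : Subgroup G) ≤ p * Nat.card ↥(L 1 ⊔ zpowers y) := by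
    refine le_trans ?_ (Nat.mul_le_mul_left _ (PGrp.mul_card_le_card_of_lt (hP.to_subgroup _) h1))
    rw [card_top, h.card, h.card_lcs_one, ← pow_succ', ← pow_succ']
    exact Nat.pow_le_pow_right hp.out.pos (by omega)
  have hsM : s ∉ L 1 ⊔ zpowers y := fun h' => hs (sup_le hM (zpowers_le.2 hy) h')
  have h4 : ∀ g : G, ⁅g, y⁆ ∈ L 2 := fun g => by
    rw [← commutatorElement_inv, inv_mem_iff]
    refine mem_relCent_single.1 (le_of_card_le_mul (hP.to_subgroup ⊤) le_top h2 (mem_top s) hsM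
      (sup_le (fun a ha => mem_relCent_single.2 (comm_mem_lcs_right ha y))
        (zpowers_le.2 (mem_relCent_single.2 (by simp))))
      (mem_relCent_single.2 (by rwa [← commutatorElement_inv, inv_mem_iff])) (mem_top g))
  have h5 : ∀ g : G, ⁅g, s⁆ ∈ L 2 := fun g => by
    rw [← commutatorElement_inv, inv_mem_iff]
    exact mem_relCent_single.1 (le_of_card_le_mul (hP.to_subgroup ⊤) le_top h2 (mem_top s) hsM
      (sup_le (fun a ha => mem_relCent_single.2 (comm_mem_lcs_right ha s))
        (zpowers_le.2 (mem_relCent_single.2 h')))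
      (mem_relCent_single.2 (by simp)) (mem_top g))
  refine h.lcs_not_le (i := 1) (by omega) (commutator_le.2 fun g _ t _ => ?_)
  exact mem_relCent_single.1 (le_of_card_le_mul (hP.to_subgroup ⊤) le_top h2 (mem_top s) hsM
    (sup_le (fun a ha => mem_relCent_single.2 (comm_mem_lcs_right ha g))
      (zpowers_le.2 (mem_relCent_single.2 (h4 g)))) (mem_relCent_single.2 (h5 g)) (mem_top t))

theorem iter_not_mem {s y : G} (hsy : ⁅s, y⁆ ∉ L 2) {m : ℕ}
    (hs : ∀ i, 1 ≤ i → i ≤ m → s ∉ twoStep G i) :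
    (fun a => ⁅s, a⁆)^[m + 1] y ∉ L (m + 2) := by
  induction m with
  | zero => exact hsy
  | succ m ih =>
    rw [Function.iterate_succ_apply']
    exact fun h' => hs (m + 1) (by omega) le_rfl (h.mem_twoStep_of (by omega)
      (iter_comm_mem_lcs s y _) (ih fun i h1 h2 => hs i h1 (by omega)) h')

theorem pow_mem_lcs_add_pred (hn : p + 1 ≤ n) {j : ℕ} {c : G} (hc : c ∈ L j) :
    c ^ p ∈ L (j + (p - 1)) := by
  have := hp.out.two_le
  exact pow_mem_lcs_add le_rfl (h.pow_mem_lcs (by omega) (by omega) (by omega)) j c hc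

theorem not_engel (hn : p + 1 ≤ n) {s y : G} (hsy : ⁅s, y⁆ ∉ L 2)
    (hs : ∀ i, 1 ≤ i → i ≤ p - 2 → s ∉ twoStep G i) (hy : y ^ p ∈ L p)
    (hys : ∀ k : ℕ, (y ^ k * s) ^ p ∈ L p) : False := by
  have h2 := hp.out.two_le
  let π := QuotientGroup.mk' (L p)
  have h1 := engel_of_pow_eq_one (G := G ⧸ L p) (p := p) (x := π s) (y := π y)
    (by rw [← map_top_of_surjective _ (QuotientGroup.mk'_surjective _),
      ← Subgroup.map_lowerCentralSeries, Subgroup.map_eq_bot_iff, QuotientGroup.ker_mk'])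
    (by
      rw [← map_top_of_surjective _ (QuotientGroup.mk'_surjective _),
        ← Subgroup.map_lowerCentralSeries]
      rintro _ ⟨c, hc, rfl⟩
      have := h.pow_mem_lcs_add_pred hn hc
      rw [show 1 + (p - 1) = p by omega] at this
      exact (QuotientGroup.eq_one_iff _).2 this)
    ((QuotientGroup.eq_one_iff _).2 hy) fun k => (QuotientGroup.eq_one_iff _).2 (hys k)
  have h3 : ∀ j, (fun a => ⁅π s, a⁆)^[j] (π y) = π ((fun a => ⁅s, a⁆)^[j] y) := by
    intro j
    induction j with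
    | zero => rfl
    | succ j ih =>
      rw [Function.iterate_succ_apply', Function.iterate_succ_apply', ih, map_commutatorElement]
  have h4 := h.iter_not_mem hsy hs
  rw [show p - 2 + 1 = p - 1 by omega, show p - 2 + 2 = p by omega] at h4
  rw [h3] at h1
  exact h4 ((QuotientGroup.eq_one_iff _).1 h1)

theorem exists_pow_ne_one (hn : p + 1 ≤ n) : ∃ g : G, g ^ p ≠ 1 := by
  by_contra hcon
  push Not at hcon
  have h2 := hp.out.two_le
  obtain ⟨s, hs⟩ := exists_not_mem_of_card_lt h.isPGroup (Finset.range (p - 1))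
    (by rw [Finset.card_range]; omega) (twoStep G) fun i hi =>
      h.twoStep_ne_top (by rw [Finset.mem_range] at hi; omega)
  obtain ⟨y, hy⟩ : ∃ y, ⁅s, y⁆ ∉ L 2 := by
    by_contra hcon
    push Not at hcon
    exact hs 0 (Finset.mem_range.2 (by omega)) (mem_twoStep.2 fun t _ => hcon t)
  exact h.not_engel hn hy (fun i _ h2 => hs i (Finset.mem_range.2 (by omega)))
    (hcon y ▸ one_mem _) fun k => hcon _ ▸ one_mem _

theorem hp_twoStep (hn : p + 1 ≤ n) {k : ℕ} (hk : 1 ≤ k) {a b : G} (ha : a ∈ L k)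
    (hb : b ∈ twoStep G (k + (p - 2))) : ((a * b) ^ p)⁻¹ * (a ^ p * b ^ p) ∈ L (k + p) := by
  have h2 := hp.out.two_le
  refine hp_congr ha b _ (fun c hc => ?_) ?_
  · have := h.pow_mem_lcs_add_pred hn hc
    rwa [show k + 1 + (p - 1) = k + p by omega] at this
  · rw [Subgroup.commutator_comm, commutator_le]
    intro g hg t ht
    have := mem_twoStep.1 (sup_le ((lcs_le_of_le hk).trans (lcs_one_le_twoStep _))
      (zpowers_le.2 hb) hg) t ht
    rwa [show k + (p - 2) + 2 = k + p by omega] at this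

theorem pow_not_mem (hn : p + 2 ≤ n) (i : ℕ) (hi : i + p + 1 ≤ n) :
    ∀ g ∈ L i, g ∈ twoStep G (p - 1) → g ∉ L (i + 1) → g ^ p ∉ L (i + p) := by
  have h2 := hp.out.two_le
  have hP := h.isPGroup
  obtain ⟨s, hs⟩ := exists_not_mem_of_card_lt hP (Finset.Icc 1 (p - 1))
    (by rw [Nat.card_Icc]; omega) (twoStep G) fun i hi =>
      h.twoStep_ne_top (by rw [Finset.mem_Icc] at hi; omega)
  simp only [Finset.mem_Icc, and_imp] at hs
  have hsM := hs (p - 1) (by omega) le_rfl
  suffices key : ∀ i, i + p + 1 ≤ n →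
      (∀ g ∈ L i, g ∈ twoStep G (p - 1) → g ∉ L (i + 1) → g ^ p ∉ L (i + p)) ∧
        ∀ j, 1 ≤ j → j ≤ i + (p - 1) → j + 3 ≤ n → s ∉ twoStep G j from (key i hi).1
  intro i
  induction i with
  | zero =>
    intro _
    refine ⟨fun y _ hy hy' hyp => ?_, fun j h1 h2 _ => hs j h1 (by omega)⟩
    rw [zero_add] at hyp
    refine h.not_engel (by omega) (h.comm_not_mem_two (lcs_one_le_twoStep _) hsM hy hy')
      (fun i h1 h2 => hs i h1 (by omega)) hyp fun k => ?_
    have := h.pow_mem_of_not_mem_twoStep (i := p - 1) (by omega) (g := y ^ k * s)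
      (fun h' => hsM ((mul_mem_cancel_left (pow_mem hy k)).1 h'))
      (h.pow_mem_lcs (by omega) (by omega) (by omega) _)
    rwa [show p - 1 + 1 = p by omega] at this
  | succ i ih =>
    intro hi
    obtain ⟨ih1, ih2⟩ := ih (by omega)
    obtain ⟨b, hb1, hb2, hb3, hb4, hb5⟩ : ∃ b ∈ L i, b ∈ twoStep G (p - 1) ∧ b ∉ L (i + 1) ∧
        b ∈ twoStep G (i + 1 + (p - 2)) ∧ ⁅s, b⁆ ∉ L (i + 2) := by
      rcases Nat.eq_zero_or_pos i with rfl | hi0
      · obtain ⟨b, hb, hb'⟩ : ∃ b ∈ twoStep G (p - 1), b ∉ L 1 := by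
          by_contra hcon
          push Not at hcon
          have h3 := (h.card_le_mul_card_twoStep (i := p - 1) (by omega)).trans
            (Nat.mul_le_mul_left _ (card_le_of_le hcon))
          rw [card_top, h.card, h.card_lcs_one, ← pow_succ'] at h3
          exact absurd ((Nat.pow_le_pow_iff_right hp.out.one_lt).1 h3) (by omega)
        exact ⟨b, mem_top b, hb, hb', by rwa [show 0 + 1 + (p - 2) = p - 1 by omega],
          h.comm_not_mem_two (lcs_one_le_twoStep _) hsM hb hb'⟩
      · obtain ⟨b, hb, hb'⟩ := SetLike.not_le_iff_exists.1 (h.lcs_not_le (i := i) (by omega))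
        exact ⟨b, hb, lcs_one_le_twoStep _ (lcs_le_of_le hi0 hb), hb',
          lcs_one_le_twoStep _ (lcs_le_of_le hi0 hb),
          fun h' => ih2 i hi0 (by omega) (by omega) (h.mem_twoStep_of hi0 hb hb' h')⟩
    have hb6 := h.pow_mem_lcs_add_pred (by omega) hb1
    have hb7 := ih1 b hb1 hb2 hb3
    have ha := comm_mem_lcs_right hb1 s
    have h3 : ⁅s, b⁆ ^ p ∉ L (i + 1 + p) := by
      rw [comm_pow_congr rfl (h.hp_twoStep (by omega) (by omega) ha hb4)]
      intro h'
      exact ih2 (i + (p - 1)) (by omega) le_rfl (by omega) (h.mem_twoStep_of (by omega) hb6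
        (by rwa [show i + (p - 1) + 1 = i + p by omega])
        (by rwa [show i + (p - 1) + 2 = i + 1 + p by omega]))
    have h4 : ∀ g ∈ L (i + 1), g ∉ L (i + 1 + 1) → g ^ p ∉ L (i + 1 + p) := by
      intro g hg hg' hgp
      obtain ⟨K, hK⟩ := exists_powSub (L (i + 1 + p)) fun a ha b hb =>
        h.hp_twoStep (by omega) (by omega) ha (lcs_one_le_twoStep _ (lcs_le_of_le (by omega) hb))
      refine h3 ((hK _).1 (le_of_card_le_mul (hP.to_subgroup _) (lcs_le_of_le (i + 1).le_succ)
        (h.card_lcs_le (by omega)) hg hg' (fun c hc => (hK c).2 ⟨lcs_le_of_le (i + 1).le_succ hc, ?_⟩)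
        ((hK g).2 ⟨hg, hgp⟩) ha)).2
      have := h.pow_mem_lcs_add_pred (by omega) hc
      rwa [show i + 1 + 1 + (p - 1) = i + 1 + p by omega] at this
    refine ⟨fun g hg _ hg' => h4 g hg hg', fun j hj1 hj2 hj3 => ?_⟩
    by_cases hj : j ≤ i + (p - 1)
    · exact ih2 j hj1 hj hj3
    obtain rfl : j = i + 1 + (p - 1) := by omega
    intro hsj
    refine h.twoStep_ne_top hj3 (eq_top_iff.2 (le_of_card_le_mul (hP.to_subgroup ⊤) le_top
      (h.card_le_mul_card_twoStep (i := i + 1) (by omega)) (mem_top s)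
      (ih2 (i + 1) (by omega) (by omega) (by omega)) (fun x hx => ?_) hsj))
    have hu := mem_twoStep.1 hx _ ha
    have h5 := h.hp_twoStep (by omega) (by omega) hu
      (lcs_one_le_twoStep _ (lcs_le_of_le (by omega) ha))
    refine h.mem_twoStep_of (by omega) (h.pow_mem_lcs_add_pred (by omega) ha)
      (by rwa [show i + 1 + (p - 1) + 1 = i + 1 + p by omega]) ?_
    rw [← comm_pow_congr rfl (lcs_le_of_le (by omega) h5)]
    exact lcs_le_of_le (by omega) (h.pow_mem_lcs_add_pred (by omega) hu)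

theorem card_le_pow_mul (hn : p + 2 ≤ n) {K P : Subgroup G} (hK : K ≤ twoStep G (p - 1))
    (hP : ∀ g ∈ K, g ^ p ∈ P) : Nat.card K ≤ p ^ (p - 1) * Nat.card P := by
  have h2 := hp.out.two_le
  have key : ∀ d i, i + d + p = n →
      Nat.card ↥(K ⊓ L i) ≤ p ^ (p - 1) * Nat.card ↥(P ⊓ L (i + (p - 1))) := by
    intro d
    induction d with
    | zero =>
      intro i hi
      refine (card_le_of_le inf_le_right).trans ?_
      rw [h.card_lcs (by omega), show n - 1 - i = p - 1 by omega]
      exact Nat.le_mul_of_pos_right _ Nat.card_pos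
    | succ d ih =>
      intro i hi
      have ih' := ih (i + 1) (by omega)
      by_cases h1 : K ⊓ L i ≤ L (i + 1)
      · exact (card_le_of_le (le_inf inf_le_left h1)).trans (ih'.trans (Nat.mul_le_mul_left _
          (card_le_of_le (inf_le_inf_left _ (lcs_le_of_le (by omega))))))
      obtain ⟨g, hg, hg'⟩ := SetLike.not_le_iff_exists.1 h1
      have h3 : P ⊓ L (i + 1 + (p - 1)) < P ⊓ L (i + (p - 1)) :=
        lt_of_le_not_ge (inf_le_inf_left _ (lcs_le_of_le (by omega))) fun h' =>
          h.pow_not_mem hn i (by omega) g hg.2 (hK hg.1) hg' (by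
            have := (h' (mem_inf.2 ⟨hP g hg.1, h.pow_mem_lcs_add_pred (by omega) hg.2⟩)).2
            rwa [show i + 1 + (p - 1) = i + p by omega] at this)
      have h4 := PGrp.mul_card_le_card_of_lt (h.isPGroup.to_subgroup _) h3
      have h5 : Nat.card ↥(K ⊓ L i) ≤ p * Nat.card ↥(K ⊓ L (i + 1)) := by
        have h6 : (L (i + 1)).relIndex (twoStep G (p - 1) ⊓ L i) ≤ p := by
          have h7 := card_mul_relIndex (show L (i + 1) ≤ twoStep G (p - 1) ⊓ L i from
            le_inf ((lcs_le_of_le (by omega)).trans (lcs_one_le_twoStep _))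
              (lcs_le_of_le i.le_succ))
          refine Nat.le_of_mul_le_mul_left (h7.le.trans ?_) Nat.card_pos
          rw [mul_comm]
          rcases Nat.eq_zero_or_pos i with rfl | hi0
          · have h8 := PGrp.mul_card_le_card_of_lt (h.isPGroup.to_subgroup ⊤)
              (lt_top_iff_ne_top.2 (h.twoStep_ne_top (i := p - 1) (by omega)))
            rw [card_top, h.card, show n = n - 2 + 1 + 1 by omega, pow_succ', pow_succ',
              ← h.card_lcs_one] at h8
            exact (card_le_of_le inf_le_left).trans (Nat.le_of_mul_le_mul_left h8 hp.out.pos)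
          · exact (card_le_of_le inf_le_right).trans (h.card_lcs_le hi0)
        have h7 := (relIndex_le_of_le_right (inf_le_inf_right (L i) hK)
          index_ne_zero_of_finite).trans h6
        rw [← card_inf_mul_relIndex (L (i + 1)) (K ⊓ L i), mul_comm]
        exact Nat.mul_le_mul h7 (card_le_of_le (le_inf (inf_le_right.trans inf_le_left) inf_le_left))
      calc _ ≤ p * (p ^ (p - 1) * _) := h5.trans (Nat.mul_le_mul_left _ ih')
        _ = p ^ (p - 1) * (p * _) := by ring
        _ ≤ _ := Nat.mul_le_mul_left _ h4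
  have := key (n - p) 0 (by omega)
  rw [show L 0 = ⊤ from rfl, inf_top_eq] at this
  exact this.trans (Nat.mul_le_mul_left _ (card_le_of_le inf_le_left))

end MaxCl

end CfsgLib.H5
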