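import Mathlib
import Cfsg.Agent.Lib.H5SL2Tori
import Cfsg.Agent.Lib.PGroupBasic
import Cfsg.Agent.Lib.H1Breadth

/-! Redundant Sylow subgroups. -/

set_option autoImplicit false

namespace CfsgLib.H5

open Subgroup CfsgLib CfsgLib.H1 Matrix MatrixGroups
open scoped Pointwise commutatorElement

section general
variable {G : Type*} [Group G] [Finite G] {p : ℕ} [hp : Fact p.Prime]

/-- Every `p`-element lies in at least two Sylow `p`-subgroups. -/
def TwoSyl (p : ℕ) (G : Type*) [Group G] : Prop :=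
  ∀ x : G, (∃ k : ℕ, orderOf x = p ^ k) → ∃ P Q : Sylow p G, P ≠ Q ∧ x ∈ P ∧ x ∈ Q

omit [Finite G] hp in
theorem mem_smul_sylow {P : Sylow p G} {g x : G} : x ∈ g • P ↔ g⁻¹ * x * g ∈ P :=
  mem_conj_smul_iff (H := (P : Subgroup G))

theorem redundant_iff : (∃ Q : Sylow p G, ∀ x : G, (∃ k : ℕ, orderOf x = p ^ k) →
    ∃ P : Sylow p G, P ≠ Q ∧ x ∈ P) ↔ TwoSyl p G := by
  constructor
  · rintro ⟨Q, hQ⟩ x ⟨k, hk⟩
    obtain ⟨P, hP⟩ := exists_sylow_mem_of_orderOf hk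
    obtain ⟨g, rfl⟩ := MulAction.exists_smul_eq G Q P
    obtain ⟨P', h1, h2⟩ := hQ (g⁻¹ * x * g) ⟨k, by
      rw [← hk]; simpa using (MulAut.conj g⁻¹).orderOf_eq x⟩
    exact ⟨g • P', g • Q, fun h => h1 (smul_left_cancel g h), mem_smul_sylow.2 h2, hP⟩
  · intro h
    obtain ⟨Q⟩ : Nonempty (Sylow p G) := inferInstance
    refine ⟨Q, fun x hx => ?_⟩
    obtain ⟨P, P', hne, h1, h2⟩ := h x hx
    by_cases hP : P = Q
    · exact ⟨P', fun h' => hne (hP.trans h'.symm), h2⟩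
    · exact ⟨P, hP, h1⟩

/-- If `x` lies in a unique Sylow subgroup, its centralizer normalizes it. -/
theorem exists_two_sylow_of_not_le {x g : G} {P : Sylow p G} (hx : x ∈ P) (hg : Commute g x)
    (h : g ∉ normalizer (P : Set G)) : ∃ P Q : Sylow p G, P ≠ Q ∧ x ∈ P ∧ x ∈ Q :=
  ⟨g • P, P, fun h' => h (Sylow.smul_eq_iff_mem_normalizer.1 h'),
    mem_smul_sylow.2 (by rwa [mul_assoc, ← hg.eq, inv_mul_cancel_left]), hx⟩

theorem mem_sylow_of_mem_center {z : G} (hz : z ∈ center G) (ho : ∃ k : ℕ, orderOf z = p ^ k)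
    (P : Sylow p G) : z ∈ P := by
  haveI : (zpowers z).Normal := ⟨fun y hy g => by
    rwa [mem_center_iff.1 (zpowers_le.2 hz hy) g, mul_inv_cancel_right]⟩
  exact (isPGroup_zpowers_iff.2 ho).le_sylow_of_normal P (mem_zpowers z)

theorem mem_sylow_of_mk_mem (Z : Subgroup G) [Z.Normal] (hZ : Z ≤ center G) {x : G}
    (ho : ∃ k : ℕ, orderOf x = p ^ k) (P : Sylow p G)
    (h : (x : G ⧸ Z) ∈ P.mapSurjective (QuotientGroup.mk'_surjective Z)) : x ∈ P := by
  obtain ⟨y, hy, hyx⟩ := h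
  have hz : y⁻¹ * x ∈ center G := hZ (QuotientGroup.eq.1 hyx)
  have hc : Commute y⁻¹ x := by
    have := mem_center_iff.1 hz y
    rw [mul_inv_cancel_left] at this
    refine Commute.inv_left ?_
    change y * x = x * y
    conv_lhs => rw [this]
    group
  obtain ⟨k, hk⟩ := ho
  obtain ⟨l, hl⟩ := orderOf_eq_pow_of_mem_isPGroup P.isPGroup' (inv_mem hy)
  have : orderOf (y⁻¹ * x) ∣ p ^ (l + k) := by
    rw [pow_add, ← hk, ← hl]; exact hc.orderOf_mul_dvd_mul_orderOf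
  obtain ⟨j, -, hj⟩ := (Nat.dvd_prime_pow hp.out).1 this
  have := mul_mem hy (mem_sylow_of_mem_center hz ⟨j, hj⟩ P)
  rwa [mul_inv_cancel_left] at this

theorem twoSyl_quotient_iff (Z : Subgroup G) [Z.Normal] (hZ : Z ≤ center G) :
    TwoSyl p (G ⧸ Z) ↔ TwoSyl p G := by
  constructor
  · intro h x ⟨k, hk⟩
    obtain ⟨j, -, hj⟩ := (Nat.dvd_prime_pow hp.out).1
      (hk ▸ orderOf_map_dvd (QuotientGroup.mk' Z) x)
    obtain ⟨P, Q, hne, h1, h2⟩ := h x ⟨j, hj⟩
    obtain ⟨P, rfl⟩ := Sylow.mapSurjective_surjective (QuotientGroup.mk'_surjective Z) p P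
    obtain ⟨Q, rfl⟩ := Sylow.mapSurjective_surjective (QuotientGroup.mk'_surjective Z) p Q
    exact ⟨P, Q, fun h => hne (by rw [h]), mem_sylow_of_mk_mem Z hZ ⟨k, hk⟩ P h1,
      mem_sylow_of_mk_mem Z hZ ⟨k, hk⟩ Q h2⟩
  · intro h x ⟨k, hk⟩
    obtain ⟨x, rfl⟩ := QuotientGroup.mk'_surjective Z x
    obtain ⟨u, -, hu, ho⟩ := exists_lift_isPiNum (π := {p}) (QuotientGroup.mk' Z) x
      ((isPiNum_singleton_iff hp.out (orderOf_pos _).ne').2 ⟨k, hk⟩)
    obtain ⟨P, Q, hne, h1, h2⟩ := h u ((isPiNum_singleton_iff hp.out (orderOf_pos _).ne').1 ho)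
    refine ⟨P.mapSurjective (QuotientGroup.mk'_surjective Z),
      Q.mapSurjective (QuotientGroup.mk'_surjective Z), fun h' => hne ?_, ⟨u, h1, hu⟩, ⟨u, h2, hu⟩⟩
    refine Sylow.ext (P.is_maximal' Q.isPGroup' fun y hy => ?_).symm
    exact mem_sylow_of_mk_mem Z hZ (orderOf_eq_pow_of_mem_isPGroup P.isPGroup' hy) Q
      (h' ▸ ⟨y, hy, rfl⟩)

theorem sylow_eq_of_commute {P Q : Sylow p G} (h : ∀ x ∈ P, ∀ y ∈ Q, Commute x y) : P = Q := by
  have h1 : (P : Subgroup G) ≤ normalizer (Q : Set G) := fun x hx =>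
    mem_normalizer_of_conj_mem (H := (Q : Subgroup G)) fun y hy => by
      rwa [(h x hx y hy).eq, mul_inv_cancel_right]
  have h2 := P.isPGroup'.inf_normalizer_sylow Q
  rw [inf_eq_left.2 h1] at h2
  exact Sylow.ext (P.is_maximal' Q.isPGroup' (h2.le.trans inf_le_right)).symm

/-- In a group with commuting transitive on noncentral elements and `p'`-centre, Sylow subgroups
are abelian and TI. -/
theorem not_twoSyl_of_ca (hca : ∀ x y z : G, x ∉ center G → x * y = y * x → x * z = z * x →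
    y * z = z * y) (hZ : ∀ z ∈ center G, (∃ k : ℕ, orderOf z = p ^ k) → z = 1) :
    ¬ TwoSyl p G := by
  intro h
  have hab : ∀ P : Sylow p G, ∀ x ∈ P, ∀ y ∈ P, x * y = y * x := fun P x hx y hy => by
    by_cases hx1 : x = 1
    · simp [hx1]
    haveI : Nontrivial P := ⟨⟨⟨x, hx⟩, 1, fun h => hx1 (congrArg Subtype.val h)⟩⟩
    haveI := P.isPGroup'.center_nontrivial
    obtain ⟨z, hz⟩ := exists_ne (1 : center P)
    have hz' : ∀ w ∈ P, (z : P) * w = w * (z : P) := fun w hw =>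
      (congrArg Subtype.val (mem_center_iff.1 z.2 ⟨w, hw⟩)).symm
    refine hca (z : P) x y (fun hc => hz (Subtype.ext (Subtype.ext ?_))) (hz' x hx) (hz' y hy)
    exact hZ _ hc (orderOf_eq_pow_of_mem_isPGroup P.isPGroup' z.1.2)
  obtain ⟨P, Q, hne, -⟩ := h 1 ⟨0, by simp⟩
  obtain ⟨x, hx, hx1⟩ : ∃ x ∈ (P : Subgroup G), x ≠ 1 :=
    (bot_or_exists_ne_one _).resolve_left fun h => hne (sylow_eq_of_commute fun x hx y _ => by
      rw [mem_bot.1 (h ▸ hx : x ∈ (⊥ : Subgroup G))]; exact Commute.one_left y)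
  have ho := orderOf_eq_pow_of_mem_isPGroup P.isPGroup' hx
  obtain ⟨P', Q', hne', h1, h2⟩ := h x ho
  exact hne' (sylow_eq_of_commute fun y hy z hz =>
    hca x y z (fun hc => hx1 (hZ x hc ho)) (hab P' x h1 y hy) (hab Q' x h2 z hz))

end general

variable {F : Type*} [Field F] [Finite F]

theorem SL2_trace_sq_ne {p : ℕ} [hp : Fact p.Prime] (h2 : (2 : F) ≠ 0) (hpF : (p : F) ≠ 0)
    {x : SL(2, F)} (hx : x ∉ center SL(2, F)) (ho : ∃ k : ℕ, orderOf x = p ^ k) :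
    (x 0 0 + x 1 1) ^ 2 ≠ 4 := fun h => by
  obtain ⟨r, hr⟩ := CharP.exists F
  have hr' := CharP.char_is_prime F r
  obtain ⟨k, hk⟩ := ho
  have h1 := orderOf_dvd_of_pow_eq_one (SL2_pow_of_trace_sq (r := r) h)
  have h3 : orderOf (x ^ 2) ∣ p ^ k := hk ▸ orderOf_pow_dvd 2
  have hc : r.Coprime p := (Nat.coprime_primes hr' hp.out).2 fun h => hpF (h ▸ CharP.cast_eq_zero F r)
  exact hx (SL2_mem_center_of_sq h2 (orderOf_eq_one_iff.1
    (Nat.eq_one_of_dvd_coprimes (hc.pow_right k) h1 h3)))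

theorem odd_card_of_two_ne_zero (h2 : (2 : F) ≠ 0) : Odd (Nat.card F) := by
  letI := Fintype.ofFinite F
  rw [Nat.card_eq_fintype_card, Nat.odd_iff]
  refine FiniteField.odd_card_of_char_ne_two fun h => h2 ?_
  have := ringChar.Nat.cast_ringChar (R := F)
  rwa [h] at this

theorem SL2_centralizer_eq {x y : SL(2, F)} (hx : x ∉ center SL(2, F)) (hy : y ∉ center SL(2, F))
    (h : x * y = y * x) : centralizer {x} = centralizer ({y} : Set SL(2, F)) := by
  ext z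
  rw [mem_centralizer_singleton_iff, mem_centralizer_singleton_iff]
  exact ⟨fun h' => (SL2_commute_trans hx h h'.symm).symm,
    fun h' => (SL2_commute_trans hy h.symm h'.symm).symm⟩

/-- A Sylow `2`-subgroup of `SL₂(q)`, `q` odd, does not centralize a regular element. -/
theorem SL2_sylow_two_not_le (h2 : (2 : F) ≠ 0) (P : Sylow 2 SL(2, F)) {x : SL(2, F)}
    (hx : (x 0 0 + x 1 1) ^ 2 ≠ 4) : ¬ (P : Subgroup SL(2, F)) ≤ centralizer {x} := fun h => by
  have h1 := card_dvd_of_le h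
  have h3 := P.not_dvd_index
  have h4 := (P : Subgroup SL(2, F)).card_mul_index
  have hpos : 0 < Nat.card P := Nat.card_pos
  obtain ⟨q, hq⟩ := odd_card_of_two_ne_zero h2
  rw [SL2C.card_SL2, hq, show (2 * q + 1) ^ 2 - 1 = 2 * q * (2 * q + 2) by
    apply Nat.sub_eq_of_eq_add; ring] at h4
  rcases (SL2_centralizer hx).2 with h5 | h5
  · rw [h5, hq, add_tsub_cancel_right] at h1
    obtain ⟨c, hc⟩ := h1
    refine h3 ⟨(2 * q + 1) * c * (q + 1), Nat.eq_of_mul_eq_mul_left hpos ?_⟩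
    rw [h4]; nth_rewrite 2 [hc]; ring
  · rw [h5, hq] at h1
    obtain ⟨c, hc⟩ := h1
    refine h3 ⟨(2 * q + 1) * c * q, Nat.eq_of_mul_eq_mul_left hpos ?_⟩
    rw [h4, show 2 * q + 2 = 2 * q + 1 + 1 by ring, hc]; ring

theorem SL2_sylow_two_not_le_center (h2 : (2 : F) ≠ 0) (P : Sylow 2 SL(2, F)) :
    ¬ (P : Subgroup SL(2, F)) ≤ center SL(2, F) := fun h => by
  have h1 := card_dvd_of_le h
  have h3 := P.not_dvd_index
  have h4 := (P : Subgroup SL(2, F)).card_mul_index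
  have hpos : 0 < Nat.card P := Nat.card_pos
  obtain ⟨q, hq⟩ := odd_card_of_two_ne_zero h2
  rw [SL2C.card_SL2, hq, show (2 * q + 1) ^ 2 - 1 = 2 * q * (2 * q + 2) by
    apply Nat.sub_eq_of_eq_add; ring] at h4
  rw [SL2C.card_center_SL2 h2] at h1
  obtain ⟨c, hc⟩ := h1
  refine h3 ⟨(2 * q + 1) * q * c * (q + 1), Nat.eq_of_mul_eq_mul_left hpos ?_⟩
  rw [h4]; nth_rewrite 2 [hc]; ring

theorem SL2_twoSyl (h2 : (2 : F) ≠ 0) (h1 : ¬ ∃ k, Nat.card F + 1 = 2 ^ k)
    (h3 : ¬ ∃ k, Nat.card F = 2 ^ k + 1) : TwoSyl 2 SL(2, F) := by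
  have key : ∀ x : SL(2, F), x ∉ center SL(2, F) → (∃ k : ℕ, orderOf x = 2 ^ k) →
      ∃ P Q : Sylow 2 SL(2, F), P ≠ Q ∧ x ∈ P ∧ x ∈ Q := by
    intro x hx ho
    have htr := SL2_trace_sq_ne h2 (by exact_mod_cast h2) hx ho
    obtain ⟨k, hk⟩ := ho
    obtain ⟨P, hP⟩ := exists_sylow_mem_of_orderOf hk
    set C := centralizer ({x} : Set SL(2, F)) with hC
    obtain ⟨r, hr, hrC, hr2⟩ : ∃ r : ℕ, r.Prime ∧ r ∣ Nat.card C ∧ r ≠ 2 := by
      by_contra hcon
      push Not at hcon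
      have := Nat.eq_prime_pow_of_unique_prime_dvd (p := 2) (Nat.card_pos (α := C)).ne'
        fun {d} hd hd' => hcon d hd hd'
      have hq : 1 < Nat.card F := Finite.one_lt_card
      rcases (SL2_centralizer htr).2 with h5 | h5
      · exact h3 ⟨_, by rw [← this, h5]; omega⟩
      · exact h1 ⟨_, by rw [← this, h5]⟩
    haveI := Fact.mk hr
    obtain ⟨⟨t, htC⟩, ht⟩ := exists_prime_orderOf_dvd_card' r hrC
    rw [orderOf_mk] at ht
    have htx : t * x = x * t := mem_centralizer_singleton_iff.1 htC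
    have htZ : t ∉ center SL(2, F) := fun h => hr2 ((Nat.prime_dvd_prime_iff_eq hr Nat.prime_two).1
      (ht ▸ orderOf_dvd_of_pow_eq_one (SL2_sq_eq_one_of_mem_center h)))
    refine exists_two_sylow_of_not_le hP htx fun htN => SL2_sylow_two_not_le h2 P htr ?_
    by_contra hle
    have hlt : C.subgroupOf (P : Subgroup SL(2, F)) < ⊤ := lt_top_iff_ne_top.2 fun h =>
      hle (subgroupOf_eq_top.1 h)
    haveI := P.isPGroup'.isNilpotent
    obtain ⟨⟨g, hgP⟩, hg, hgC⟩ :=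
      SetLike.exists_of_lt (Group.normalizerCondition_of_isNilpotent _ hlt)
    refine hgC ?_
    have hxg : g * x * g⁻¹ ∈ C := (mem_normalizer_iff.1 hg ⟨x, hP⟩).1
      (mem_centralizer_singleton_iff.2 rfl)
    have hc : Commute (g * t * g⁻¹) t := by
      have hZ' : g * x * g⁻¹ ∉ center SL(2, F) := fun h => hx (by
        have := mem_center_iff.1 h g⁻¹
        rw [show x = g * x * g⁻¹ by
          calc x = g⁻¹ * (g * x * g⁻¹) * g := by group
            _ = _ := by rw [this]; group]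
        exact h)
      refine SL2_commute_trans hZ' ?_
        (SL2_commute_trans hx (mem_centralizer_singleton_iff.1 hxg).symm htx.symm)
      calc _ = g * (x * t) * g⁻¹ := by group
        _ = _ := by rw [← htx]; group
    have hm : g * t * g⁻¹ * t⁻¹ ∈ P := by
      have := mul_mem hgP (conj_mem_of_mem_normalizer (H := (P : Subgroup SL(2, F))) htN
        (inv_mem hgP))
      rwa [← mul_assoc, ← mul_assoc] at this
    obtain ⟨j, hj⟩ := orderOf_eq_pow_of_mem_isPGroup P.isPGroup' hm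
    have h4 : (g * t * g⁻¹ * t⁻¹) ^ r = 1 := by
      rw [hc.inv_right.mul_pow, conj_pow, inv_pow, ← ht, pow_orderOf_eq_one]; simp
    have h5 := orderOf_eq_one_iff.1 (Nat.eq_one_of_dvd_coprimes
      (((Nat.coprime_primes hr Nat.prime_two).2 hr2).pow_right j)
      (orderOf_dvd_of_pow_eq_one h4) hj.dvd)
    rw [mem_subgroupOf, hC, SL2_centralizer_eq hx htZ htx.symm, mem_centralizer_singleton_iff]
    change g * t = t * g
    rw [mul_inv_eq_one, mul_inv_eq_iff_eq_mul] at h5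
    exact h5
  intro x ho
  by_cases hx : x ∈ center SL(2, F)
  · obtain ⟨P⟩ : Nonempty (Sylow 2 SL(2, F)) := inferInstance
    obtain ⟨y, hy, hyZ⟩ := SetLike.not_le_iff_exists.1 (SL2_sylow_two_not_le_center h2 P)
    obtain ⟨P, Q, hne, -⟩ := key y hyZ (orderOf_eq_pow_of_mem_isPGroup P.isPGroup' hy)
    exact ⟨P, Q, hne, mem_sylow_of_mem_center hx ho P, mem_sylow_of_mem_center hx ho Q⟩
  · exact key x hx ho

omit [Finite F] in
theorem SL2_conj_not_mem_center {x : SL(2, F)} (hx : x ∉ center SL(2, F)) (g : SL(2, F)) :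
    g * x * g⁻¹ ∉ center SL(2, F) := fun h => hx (by
  have := (inferInstance : (center SL(2, F)).Normal).conj_mem _ h g⁻¹
  simpa [mul_assoc] using this)

theorem SL2_mem_normalizer_centralizer {x g : SL(2, F)} (hx : x ∉ center SL(2, F))
    (h : x * (g * x * g⁻¹) = g * x * g⁻¹ * x) :
    g ∈ normalizer ((centralizer {x} : Subgroup SL(2, F)) : Set SL(2, F)) := by
  refine mem_normalizer_of_conj_mem fun y hy => ?_
  rw [SL2_centralizer_eq hx (SL2_conj_not_mem_center hx g) h, mem_centralizer_singleton_iff]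
  rw [mem_centralizer_singleton_iff] at hy
  calc _ = g * (y * x) * g⁻¹ := by group
    _ = _ := by rw [hy]; group

theorem SL2_relIndex_centralizer_le {x : SL(2, F)} (hx : (x 0 0 + x 1 1) ^ 2 ≠ 4) :
    (centralizer {x}).relIndex
      (normalizer ((centralizer {x} : Subgroup SL(2, F)) : Set SL(2, F))) ≤ 2 := by
  set C := centralizer ({x} : Set SL(2, F)) with hC
  have key : ∀ g ∈ normalizer (C : Set SL(2, F)), g ∉ C → g * x * g⁻¹ = x⁻¹ := fun g hg hgC => by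
    refine (SL2_eq_or_eq_inv hx (mem_centralizer_singleton_iff.1
      (conj_mem_of_mem_normalizer hg (mem_centralizer_singleton_iff.2 rfl))).symm
      (SL2_trace_conj g x)).resolve_left fun h => hgC ?_
    rw [mem_centralizer_singleton_iff, ← mul_inv_eq_iff_eq_mul, h]
  by_cases h : normalizer (C : Set SL(2, F)) ≤ C
  · rw [relIndex_eq_one.2 h]; norm_num
  obtain ⟨a, ha, haC⟩ := SetLike.not_le_iff_exists.1 h
  refine (index_eq_two_iff.2 ⟨⟨a, ha⟩, fun b => ?_⟩).le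
  by_cases hb : (b : SL(2, F)) ∈ C
  · exact Or.inr ⟨hb, fun h' => haC ((mul_mem_cancel_left hb).1 h')⟩
  · refine Or.inl ⟨mem_centralizer_singleton_iff.2 ?_, hb⟩
    change b * a * x = x * (b * a)
    rw [← mul_inv_eq_iff_eq_mul]
    calc _ = b * (a * x * a⁻¹) * (b : SL(2, F))⁻¹ := by group
      _ = (b * x * (b : SL(2, F))⁻¹)⁻¹ := by rw [key a ha haC]; group
      _ = x := by rw [key b b.2 hb, inv_inv]

theorem SL2_not_twoSyl (h2 : (2 : F) ≠ 0) {k : ℕ} (hk : 2 ≤ k)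
    (h : Nat.card F + 1 = 2 ^ k ∨ Nat.card F = 2 ^ k + 1) : ¬ TwoSyl 2 SL(2, F) := by
  intro hT
  obtain ⟨P⟩ : Nonempty (Sylow 2 SL(2, F)) := inferInstance
  haveI := P.isPGroup'.isNilpotent
  have hreg : ∀ x ∈ P, x ∉ center SL(2, F) → (x 0 0 + x 1 1) ^ 2 ≠ 4 := fun x hx hxZ =>
    SL2_trace_sq_ne h2 (by exact_mod_cast h2) hxZ (orderOf_eq_pow_of_mem_isPGroup P.isPGroup' hx)
  obtain ⟨⟨x, hxP⟩, -, hxZ, hx⟩ := PGrp.exists_central_mod
    ((center SL(2, F)).subgroupOf (P : Subgroup SL(2, F))) ⊤ fun h =>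
      SL2_sylow_two_not_le_center h2 P fun y hy => h (mem_top ⟨y, hy⟩)
  have htr := hreg x hxP hxZ
  set C := centralizer ({x} : Set SL(2, F)) with hC
  have hPN : (P : Subgroup SL(2, F)) ≤ normalizer (C : Set SL(2, F)) := fun g hg => by
    refine SL2_mem_normalizer_centralizer hxZ ?_
    have h1 : ⁅x, g⁆ ∈ center SL(2, F) := hx ⟨g, hg⟩
    have e : g * x * g⁻¹ = ⁅x, g⁆⁻¹ * x := by rw [commutatorElement_def]; group
    rw [e, ← mul_assoc, mem_center_iff.1 (inv_mem h1) x]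
  have hN := SL2_relIndex_centralizer_le htr
  have hN0 : C.relIndex (normalizer (C : Set SL(2, F))) ≠ 0 := index_ne_zero_of_finite
  have hdvd : 2 ^ (k + 1) ∣ Nat.card P := by
    refine P.pow_dvd_card_of_pow_dvd_card ?_
    obtain ⟨q, hq⟩ := odd_card_of_two_ne_zero h2
    rw [SL2C.card_SL2, hq, show (2 * q + 1) ^ 2 - 1 = 2 * q * (2 * q + 2) by
      apply Nat.sub_eq_of_eq_add; ring, pow_succ]
    rcases h with h | h
    · exact ⟨(2 * q + 1) * q, by rw [← h, hq]; ring⟩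
    · exact ⟨(2 * q + 1) * (q + 1), by rw [show 2 ^ k = 2 * q by omega]; ring⟩
  have h3 := card_inf_mul_relIndex C (P : Subgroup SL(2, F))
  have h4 := (relIndex_le_of_le_right hPN hN0).trans hN
  have h5 := Nat.le_of_dvd Nat.card_pos hdvd
  obtain ⟨j, hj⟩ := IsPGroup.iff_card.1 (P.isPGroup'.to_le (inf_le_right : C ⊓ P ≤ P))
  have hjk : k ≤ j := by
    rw [← h3, hj] at h5
    have := h5.trans (Nat.mul_le_mul_left _ h4)
    rw [← pow_succ, Nat.pow_le_pow_iff_right one_lt_two] at this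
    omega
  have h6 : 2 ^ k ∣ Nat.card C :=
    (pow_dvd_pow 2 hjk).trans (hj ▸ card_dvd_of_le (inf_le_left : C ⊓ P ≤ C))
  have h7 : Nat.card C = 2 ^ k := by
    have h4k : 4 ∣ 2 ^ k := pow_dvd_pow 2 hk
    have h4C := h4k.trans h6
    have := (SL2_centralizer htr).2
    rw [← hC] at this
    omega
  have hNc : Nat.card (normalizer (C : Set SL(2, F))) ≤ 2 ^ (k + 1) := by
    rw [← card_mul_relIndex (le_normalizer (H := C)), h7, pow_succ]
    exact Nat.mul_le_mul_left _ hN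
  have hPc : Nat.card P = 2 ^ (k + 1) := le_antisymm ((card_le_of_le hPN).trans hNc) h5
  obtain ⟨⟨y, hyC⟩, hy⟩ := (SL2_centralizer htr).1.exists_generator
  have hCy : C ≤ zpowers y := fun z hz => by
    obtain ⟨m, hm⟩ := hy ⟨z, hz⟩
    exact ⟨m, congrArg Subtype.val hm⟩
  obtain ⟨Q, Q', hne, h8, h9⟩ := hT y
    (orderOf_eq_pow_of_mem_isPGroup (IsPGroup.of_card h7) hyC)
  have key : ∀ Q : Sylow 2 SL(2, F), y ∈ Q → (Q : Subgroup SL(2, F)) = normalizer (C : Set _) := by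
    intro Q hQ
    have hQc : Nat.card Q = 2 ^ (k + 1) := by
      rw [← hPc, Q.card_eq_multiplicity, P.card_eq_multiplicity]
    have hCQ : C ≤ Q := hCy.trans (zpowers_le.2 hQ)
    have e := card_mul_relIndex hCQ
    rw [h7, hQc, pow_succ] at e
    exact eq_of_le_of_card_le (IsMax.le_normalizer
      ⟨hCQ, Nat.eq_of_mul_eq_mul_left (by positivity) e⟩ Q.isPGroup') (hQc ▸ hNc)
  exact hne (Sylow.ext ((key Q h8).trans (key Q' h9).symm))

theorem SL2_twoSyl_iff (p : ℕ) [hp : Fact p.Prime] : TwoSyl p SL(2, F) ↔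
    (p = 2 ∧ (¬ ∃ k : ℕ, Nat.card F + 1 = 2 ^ k) ∧ (¬ ∃ k : ℕ, Nat.card F = 2 ^ k) ∧
      ¬ ∃ k : ℕ, Nat.card F = 2 ^ k + 1) := by
  letI := Fintype.ofFinite F
  have hq : 1 < Nat.card F := Finite.one_lt_card
  have hca : (∀ z ∈ center SL(2, F), (∃ k : ℕ, orderOf z = p ^ k) → z = 1) →
      ¬ TwoSyl p SL(2, F) := not_twoSyl_of_ca fun x y z => SL2_commute_trans
  by_cases h2 : (2 : F) = 0
  · haveI : CharP F 2 := (CharP.charP_iff_prime_eq_zero Nat.prime_two).2 (by exact_mod_cast h2)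
    refine iff_of_false (hca fun z hz _ => by rwa [center_SL2_eq_bot] at hz) fun h => h.2.2.1 ?_
    obtain ⟨n, -, hn⟩ := FiniteField.card F 2
    exact ⟨n, by rw [Nat.card_eq_fintype_card, hn]⟩
  by_cases hp2 : p = 2
  swap
  · refine iff_of_false (hca fun z hz ⟨k, hk⟩ => orderOf_eq_one_iff.1 ?_) fun h => hp2 h.1
    exact Nat.eq_one_of_dvd_coprimes (((Nat.coprime_primes Nat.prime_two hp.out).2
      (Ne.symm hp2)).pow_right k) (orderOf_dvd_of_pow_eq_one (SL2_sq_eq_one_of_mem_center hz)) hk.dvd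
  subst hp2
  have hodd := odd_card_of_two_ne_zero h2
  refine ⟨fun h => ⟨rfl, ?_, ?_, ?_⟩, fun h => SL2_twoSyl h2 h.2.1 h.2.2.2⟩
  · rintro ⟨k, hk⟩
    refine SL2_not_twoSyl h2 (k := k) ?_ (Or.inl hk) h
    rcases k with _ | _ | k <;> omega
  · rintro ⟨k, hk⟩
    rcases k with _ | k
    · omega
    · rw [hk, pow_succ] at hodd
      exact (Nat.not_odd_iff_even.2 (even_two.mul_left _)) hodd
  · rintro ⟨k, hk⟩
    rcases k with _ | _ | k
    · rw [hk] at hodd; exact absurd hodd (by decide)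
    · exact SL2_not_twoSyl h2 (k := 2) le_rfl (Or.inl (by omega)) h
    · exact SL2_not_twoSyl h2 (by omega) (Or.inr hk) h

end CfsgLib.H5
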