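import Mathlib
import Cfsg.Agent.Lib.BurnsideBasis

/-! Elements of a finite group lying in a largest, self-normalizing two-subgroup. -/

set_option autoImplicit false

namespace CfsgLib.H5.SymSyl

open Subgroup

/-- Elementwise description of a two-subgroup. -/
def Two {A : Type*} [Group A] (Q : Subgroup A) : Prop := ∀ g ∈ Q, ∃ k : ℕ, g ^ 2 ^ k = 1

theorem two_iff {A : Type*} [Group A] (Q : Subgroup A) : Two Q ↔ IsPGroup 2 Q := by
  constructor
  · intro h g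
    obtain ⟨k, hk⟩ := h g g.2
    exact ⟨k, Subtype.ext (by simpa using hk)⟩
  · intro h g hg
    obtain ⟨k, hk⟩ := h ⟨g, hg⟩
    exact ⟨k, by simpa using congrArg Subtype.val hk⟩

/-- `Q` is a two-subgroup of `H₀` containing all two-subgroups of `H₀` through `y`, and
self-normalizing in `H₀`. -/
structure UIn {A : Type*} [Group A] (H₀ : Subgroup A) (y : A) (Q : Subgroup A) : Prop where
  le : Q ≤ H₀
  two : IsPGroup 2 Q
  max : ∀ R : Subgroup A, R ≤ H₀ → IsPGroup 2 R → y ∈ R → R ≤ Q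
  self : ∀ g ∈ H₀, (∀ q ∈ Q, g * q * g⁻¹ ∈ Q) → (∀ q ∈ Q, g⁻¹ * q * g ∈ Q) → g ∈ Q

/-- `y` lies in a largest two-subgroup, which is self-normalizing. -/
def U {A : Type*} [Group A] (y : A) : Prop := ∃ Q : Subgroup A, UIn ⊤ y Q

theorem U.prod {A B : Type*} [Group A] [Group B] {a : A} {b : B} (ha : U a) (hb : U b) :
    U ((a, b) : A × B) := by
  obtain ⟨Q₁, h₁⟩ := ha
  obtain ⟨Q₂, h₂⟩ := hb
  refine ⟨Q₁.prod Q₂, le_top, ?_, ?_, ?_⟩
  · rw [← two_iff]
    rintro ⟨u, v⟩ ⟨hu, hv⟩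
    obtain ⟨k, hk⟩ := (two_iff _).2 h₁.two u hu
    obtain ⟨l, hl⟩ := (two_iff _).2 h₂.two v hv
    refine ⟨k + l, Prod.ext ?_ ?_⟩
    · simp [pow_add, pow_mul, hk]
    · simp only [Prod.pow_snd, Prod.snd_one]
      rw [add_comm, pow_add, pow_mul, hl, one_pow]
  · intro R _ hR hy g hg
    refine ⟨h₁.max (R.map (MonoidHom.fst A B)) le_top (hR.map _) ⟨_, hy, rfl⟩ ⟨g, hg, rfl⟩,
      h₂.max (R.map (MonoidHom.snd A B)) le_top (hR.map _) ⟨_, hy, rfl⟩ ⟨g, hg, rfl⟩⟩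
  · rintro ⟨u, v⟩ _ h h'
    refine ⟨h₁.self u (mem_top _) (fun q hq => (h (q, 1) ⟨hq, one_mem _⟩).1)
      (fun q hq => (h' (q, 1) ⟨hq, one_mem _⟩).1),
      h₂.self v (mem_top _) (fun q hq => (h (1, q) ⟨one_mem _, hq⟩).2)
      (fun q hq => (h' (1, q) ⟨one_mem _, hq⟩).2)⟩

theorem U.map {A B : Type*} [Group A] [Group B] {a : A} (ha : U a) (φ : A →* B)
    (hφ : Function.Injective φ) : ∃ Q, UIn φ.range (φ a) Q := by
  obtain ⟨Q, h⟩ := ha
  refine ⟨Q.map φ, map_le_range _ _, h.two.map _, ?_, ?_⟩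
  · intro R hR h2 hy g hg
    obtain ⟨g, rfl⟩ := hR hg
    exact ⟨g, h.max (R.comap φ) le_top (h2.comap_of_injective φ hφ) hy hg, rfl⟩
  · rintro _ ⟨g, rfl⟩ h1 h2
    refine ⟨g, h.self g (mem_top _) (fun q hq => ?_) (fun q hq => ?_), rfl⟩
    · obtain ⟨r, hr, e⟩ := h1 (φ q) ⟨q, hq, rfl⟩
      have : r = g * q * g⁻¹ := hφ (by simpa using e)
      exact this ▸ hr
    · obtain ⟨r, hr, e⟩ := h2 (φ q) ⟨q, hq, rfl⟩
      have : r = g⁻¹ * q * g := hφ (by simpa using e)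
      exact this ▸ hr

theorem two_zpowers {A : Type*} [Group A] {x : A} (hx : ∃ k : ℕ, x ^ 2 ^ k = 1) :
    IsPGroup 2 (zpowers x) := by
  rw [← two_iff]
  rintro _ ⟨i, rfl⟩
  obtain ⟨k, hk⟩ := hx
  refine ⟨k, ?_⟩
  show (x ^ i) ^ 2 ^ k = 1
  rw [← zpow_natCast, ← zpow_mul, mul_comm, zpow_mul, zpow_natCast, hk, one_zpow]

theorem U.ext {A : Type*} [Group A] {H₀ H Q₀ : Subgroup A} {x y : A} (hle : H₀ ≤ H)
    (hidx : ∀ g ∈ H, ∀ h ∈ H, g ∉ H₀ → h ∉ H₀ → g * h ∈ H₀) (hQ : UIn H₀ y Q₀)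
    (hy : y ∈ H₀) (hyx : y ∈ zpowers x) (hx : ∃ k : ℕ, x ^ 2 ^ k = 1)
    (hall : ∀ R : Subgroup A, IsPGroup 2 R → x ∈ R → R ≤ H)
    (hconj : ∀ g : A, g⁻¹ * x * g ∈ H → g ∈ H) : U x := by
  have hn : ∀ g ∈ H, ∀ h ∈ H₀, g * h * g⁻¹ ∈ H₀ := by
    intro g hg h hh
    by_cases h0 : g ∈ H₀
    · exact mul_mem (mul_mem h0 hh) (inv_mem h0)
    · refine hidx _ (mul_mem hg (hle hh)) _ (inv_mem hg) ?_ ?_
      · intro e; exact h0 ((mul_mem_cancel_right hh).1 e)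
      · intro e; exact h0 (inv_mem_iff.1 e)
  let Q : Subgroup A :=
    { carrier := {g | g ∈ H ∧ (∀ q ∈ Q₀, g * q * g⁻¹ ∈ Q₀) ∧ (∀ q ∈ Q₀, g⁻¹ * q * g ∈ Q₀)}
      one_mem' := ⟨one_mem _, fun q hq => by simpa using hq, fun q hq => by simpa using hq⟩
      mul_mem' := by
        rintro a b ⟨ha, ha1, ha2⟩ ⟨hb, hb1, hb2⟩
        refine ⟨mul_mem ha hb, fun q hq => ?_, fun q hq => ?_⟩
        · have := ha1 _ (hb1 q hq)
          simpa [mul_assoc] using this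
        · have := hb2 _ (ha2 q hq)
          simpa [mul_assoc] using this
      inv_mem' := by
        rintro a ⟨ha, ha1, ha2⟩
        exact ⟨inv_mem ha, fun q hq => by simpa using ha2 q hq,
          fun q hq => by simpa using ha1 q hq⟩ }
  have hmem : ∀ g, g ∈ Q ↔ g ∈ H ∧ (∀ q ∈ Q₀, g * q * g⁻¹ ∈ Q₀) ∧
      (∀ q ∈ Q₀, g⁻¹ * q * g ∈ Q₀) := fun g => Iff.rfl
  have hQQ : ∀ g ∈ Q, g ∈ H₀ → g ∈ Q₀ := fun g hg h0 =>
    hQ.self g h0 ((hmem g).1 hg).2.1 ((hmem g).1 hg).2.2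
  have hQ0 : Q₀ ≤ Q := fun q hq => (hmem q).2 ⟨hle (hQ.le hq),
    fun r hr => mul_mem (mul_mem hq hr) (inv_mem hq), fun r hr => mul_mem (mul_mem (inv_mem hq) hr) hq⟩
  have hmax : ∀ R : Subgroup A, IsPGroup 2 R → x ∈ R → R ≤ Q := by
    intro R hR hxR
    have hRH := hall R hR hxR
    have hyR : y ∈ R := (zpowers_le.2 hxR) hyx
    have h0 : R ⊓ H₀ ≤ Q₀ := hQ.max _ inf_le_right (hR.to_inf_left) ⟨hyR, hy⟩
    have key : ∀ g ∈ R, ∀ q ∈ Q₀, g⁻¹ * q * g ∈ Q₀ := by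
      intro g hg q hq
      have h1 : Q₀.comap (MulAut.conj g).toMonoidHom ≤ Q₀ := by
        refine hQ.max _ ?_ (hQ.two.comap_of_injective _ (MulAut.conj g).injective) ?_
        · intro u hu
          have hu' : g * u * g⁻¹ ∈ Q₀ := hu
          have := hn g⁻¹ (inv_mem (hRH hg)) _ (hQ.le hu')
          simpa [mul_assoc] using this
        · show g * y * g⁻¹ ∈ Q₀
          exact h0 (mem_inf.2 ⟨mul_mem (mul_mem hg hyR) (inv_mem hg), hn g (hRH hg) y hy⟩)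
      apply h1
      show g * (g⁻¹ * q * g) * g⁻¹ ∈ Q₀
      simpa [mul_assoc] using hq
    intro g hg
    exact (hmem g).2 ⟨hRH hg, fun q hq => by simpa using key g⁻¹ (inv_mem hg) q hq, key g hg⟩
  have hxQ : x ∈ Q := hmax _ (two_zpowers hx) (mem_zpowers x) (mem_zpowers x)
  refine ⟨Q, le_top, ?_, fun R _ => hmax R, ?_⟩
  · rw [← two_iff]
    intro g hg
    have hgH := ((hmem g).1 hg).1
    have h2 : g * g ∈ H₀ := by
      by_cases h0 : g ∈ H₀
      · exact mul_mem h0 h0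
      · exact hidx g hgH g hgH h0 h0
    obtain ⟨k, hk⟩ := (two_iff _).2 hQ.two _ (hQQ _ (mul_mem hg hg) h2)
    exact ⟨k + 1, by rw [pow_succ', pow_mul, sq, hk]⟩
  · intro g _ h1 h2
    have hgH : g ∈ H := hconj g ((hmem _).1 (h2 x hxQ)).1
    refine (hmem g).2 ⟨hgH, fun q hq => hQQ _ (h1 q (hQ0 hq)) (hn g hgH q (hQ.le hq)),
      fun q hq => hQQ _ (h2 q (hQ0 hq)) ?_⟩
    simpa using hn g⁻¹ (inv_mem hgH) q (hQ.le hq)

theorem U.of_two {A : Type*} [Group A] (hA : IsPGroup 2 A) (x : A) : U x :=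
  ⟨⊤, le_top, hA.to_subgroup _, fun _ _ _ _ => le_top, fun _ _ _ _ => mem_top _⟩

/-- A two-element commuting with all its conjugates under the two-element `x` generates
with `x` a two-group. -/
theorem exists_two_of_comm {A : Type*} [Group A] {x z : A} (hx : ∃ k : ℕ, x ^ 2 ^ k = 1)
    (hz : z * z = 1) (hc : ∀ j : ℤ, Commute z (x ^ j * z * (x ^ j)⁻¹)) :
    ∃ R : Subgroup A, IsPGroup 2 R ∧ x ∈ R ∧ z ∈ R := by
  let S : Set A := Set.range fun j : ℤ => x ^ j * z * (x ^ j)⁻¹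
  have hcomm : ∀ a ∈ S, ∀ b ∈ S, a * b = b * a := by
    rintro _ ⟨i, rfl⟩ _ ⟨j, rfl⟩
    have h := (hc (j - i)).eq
    have e : x ^ j = x ^ i * x ^ (j - i) := by rw [← zpow_add]; congr 1; ring
    simp only [e]
    have := congrArg (fun t => x ^ i * t * (x ^ i)⁻¹) h
    simp only [mul_assoc, mul_inv_rev, inv_mul_cancel_left] at this ⊢
    exact this
  have hE : IsPGroup 2 (closure S) := by
    rw [← two_iff]
    have := isMulCommutative_closure hcomm
    intro g hg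
    refine ⟨1, ?_⟩
    rw [pow_one, sq]
    induction hg using closure_induction with
    | mem a ha =>
      obtain ⟨i, rfl⟩ := ha
      simp only [mul_assoc, inv_mul_cancel_left]
      rw [← mul_assoc z, hz, one_mul, mul_inv_cancel]
    | one => simp
    | mul a b ha hb iha ihb =>
      have e : b * a = a * b := setLike_mul_comm hb ha
      calc a * b * (a * b) = a * (b * a) * b := by simp only [mul_assoc]
        _ = (a * a) * (b * b) := by rw [e]; simp only [mul_assoc]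
        _ = 1 := by rw [iha, ihb, one_mul]
    | inv a ha iha => rw [← mul_inv_rev, iha, inv_one]
  have hN : ∀ i : ℤ, ∀ g ∈ closure S, x ^ i * g * (x ^ i)⁻¹ ∈ closure S := by
    intro i g hg
    induction hg using closure_induction with
    | mem a ha =>
      obtain ⟨j, rfl⟩ := ha
      refine subset_closure ⟨i + j, ?_⟩
      simp only [zpow_add, mul_assoc, mul_inv_rev]
    | one => simp
    | mul a b ha hb iha ihb =>
      have := mul_mem iha ihb
      simpa [mul_assoc] using this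
    | inv a ha iha =>
      have := inv_mem iha
      simpa [mul_assoc] using this
  refine ⟨zpowers x ⊔ closure S, (two_zpowers hx).to_sup_of_normal_right' hE ?_,
    mem_sup_left (mem_zpowers x), mem_sup_right (subset_closure ⟨0, by simp⟩)⟩
  rintro _ ⟨i, rfl⟩
  rw [mem_normalizer_iff]
  intro h
  refine ⟨hN i h, fun hh => ?_⟩
  have := hN (-i) _ hh
  simpa [mul_assoc] using this

end CfsgLib.H5.SymSyl
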