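import Mathlib
import Cfsg.Agent.Lib.H5SymA

/-! Two-elements of symmetric groups lying in a unique Sylow two-subgroup. -/

set_option autoImplicit false

namespace CfsgLib.H5.SymSyl

open Subgroup Equiv Equiv.Perm

variable {α : Type}

/-- Permutations preserving `B`. -/
def H0 (B : Set α) : Subgroup (Perm α) where
  carrier := {g | ∀ u, g u ∈ B ↔ u ∈ B}
  one_mem' := fun _ => Iff.rfl
  mul_mem' := fun {a b} ha hb u => (ha (b u)).trans (hb u)
  inv_mem' := fun {a} ha u => by
    have := ha (a⁻¹ u)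
    simpa using this.symm

theorem mem_H0 {B : Set α} {g : Perm α} : g ∈ H0 B ↔ ∀ u, g u ∈ B ↔ u ∈ B := Iff.rfl

/-- Permutations preserving `B` or exchanging it with its complement. -/
def H1 (B : Set α) : Subgroup (Perm α) where
  carrier := {g | (∀ u, g u ∈ B ↔ u ∈ B) ∨ (∀ u, g u ∈ B ↔ u ∉ B)}
  one_mem' := Or.inl fun _ => Iff.rfl
  mul_mem' := by
    rintro a b (ha | ha) (hb | hb)
    · exact Or.inl fun u => (ha (b u)).trans (hb u)
    · exact Or.inr fun u => (ha (b u)).trans (hb u)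
    · exact Or.inr fun u => (ha (b u)).trans (not_congr (hb u))
    · exact Or.inl fun u => (ha (b u)).trans ((not_congr (hb u)).trans not_not)
  inv_mem' := by
    rintro a (ha | ha)
    · refine Or.inl fun u => ?_
      have := ha (a⁻¹ u)
      simpa using this.symm
    · refine Or.inr fun u => ?_
      have := ha (a⁻¹ u)
      simp only [Perm.coe_inv, apply_symm_apply] at this ⊢
      tauto

theorem mem_H1 {B : Set α} {g : Perm α} :
    g ∈ H1 B ↔ (∀ u, g u ∈ B ↔ u ∈ B) ∨ (∀ u, g u ∈ B ↔ u ∉ B) := Iff.rfl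

theorem H0_le (B : Set α) : H0 B ≤ H1 B := fun _ h => Or.inl h

theorem H1_idx (B : Set α) : ∀ g ∈ H1 B, ∀ h ∈ H1 B, g ∉ H0 B → h ∉ H0 B → g * h ∈ H0 B := by
  rintro g (hg | hg) h (hh | hh) h1 h2
  · exact absurd hg h1
  · exact absurd hg h1
  · exact absurd hh h2
  · exact fun u => (hg (h u)).trans ((not_congr (hh u)).trans not_not)

theorem H1_compl (B : Set α) : H1 Bᶜ = H1 B := by
  ext g
  simp only [mem_H1, Set.mem_compl_iff, not_not]
  constructor
  · rintro (h | h)
    · exact Or.inl fun u => not_iff_not.1 (h u)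
    · exact Or.inr fun u => by have := h u; tauto
  · rintro (h | h)
    · exact Or.inl fun u => not_congr (h u)
    · exact Or.inr fun u => by have := h u; tauto

theorem H1_eq {B B' : Set α} (h : B' = B ∨ B' = Bᶜ) : H1 B' = H1 B := by
  rcases h with rfl | rfl
  · rfl
  · exact H1_compl B

theorem conj_mem_H1 {B : Set α} {x g : Perm α} (h : g⁻¹ * x * g ∈ H1 B) : x ∈ H1 (g '' B) := by
  have e : ∀ u, u ∈ g '' B ↔ g⁻¹ u ∈ B := fun u => by
    constructor
    · rintro ⟨v, hv, rfl⟩; simpa using hv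
    · intro hu; exact ⟨_, hu, by simp⟩
  rcases h with h | h
  · refine Or.inl fun u => ?_
    rw [e, e, ← h (g⁻¹ u)]; simp
  · refine Or.inr fun u => ?_
    rw [e, e, ← h (g⁻¹ u)]; simp

theorem mem_H1_of_image {B : Set α} {g : Perm α} (h : g '' B = B ∨ g '' B = Bᶜ) : g ∈ H1 B := by
  have e : ∀ u, g u ∈ g '' B ↔ u ∈ B := fun u => g.injective.mem_set_image
  rcases h with h | h
  · exact Or.inl fun u => by have := e u; rwa [h] at this
  · refine Or.inr fun u => ?_
    have := e u
    rw [h, Set.mem_compl_iff] at this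
    tauto

theorem range_eq (B : Set α) [DecidablePred (· ∈ B)] :
    (subtypeCongrHom (· ∈ B)).range = H0 B := by
  ext g
  constructor
  · rintro ⟨⟨a, b⟩, rfl⟩ u
    by_cases hu : u ∈ B
    · simp [subtypeCongr.left_apply _ _ hu, hu]
    · have := (b ⟨u, hu⟩).2
      simp [subtypeCongr.right_apply _ _ hu, hu, this]
  · intro hg
    refine ⟨(g.subtypePerm hg, g.subtypePerm fun u => not_congr (hg u)), ?_⟩
    ext u
    by_cases hu : u ∈ B
    · exact subtypeCongr.left_apply _ _ hu
    · exact subtypeCongr.right_apply _ _ hu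

theorem uin_H0 {B : Set α} {y : Perm α} (hy : ∀ u, y u ∈ B ↔ u ∈ B)
    (h1 : U (y.subtypePerm (p := (· ∈ B)) hy))
    (h2 : U (y.subtypePerm (p := (· ∉ B)) fun u => not_congr (hy u))) :
    ∃ Q, UIn (H0 B) y Q := by
  classical
  have := (h1.prod h2).map (subtypeCongrHom (· ∈ B)) (subtypeCongrHom_injective _)
  rw [range_eq] at this
  convert this
  ext u
  by_cases hu : u ∈ B
  · simp [subtypeCongr.left_apply _ _ hu]
  · simp [subtypeCongr.right_apply _ _ hu]

theorem swap_card [Finite α] {B : Set α} {g : Perm α} (hg : ∀ u, g u ∈ B ↔ u ∉ B) :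
    2 * B.ncard = Nat.card α := by
  have e : g '' Bᶜ = B := by
    ext v
    constructor
    · rintro ⟨u, hu, rfl⟩; exact (hg u).2 hu
    · intro hv
      refine ⟨g⁻¹ v, (hg _).1 (by simpa using hv), by simp⟩
  have h1 : B.ncard = Bᶜ.ncard := by
    conv_lhs => rw [← e]
    exact Set.ncard_image_of_injective _ g.injective
  have h2 := Set.ncard_add_ncard_compl B
  omega

/-- A transitive two-group on at least two points has a system of two blocks. -/
theorem exists_block [Finite α] (R : Subgroup (Perm α)) (hR : IsPGroup 2 R) (a : α)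
    (htr : ∀ u, ∃ g ∈ R, g a = u) (hb : ∃ b, b ≠ a) :
    ∃ B : Set α, R ≤ H1 B ∧ 2 * B.ncard = Nat.card α := by
  have hS : MulAction.stabilizer R a ≠ ⊤ := by
    intro h
    obtain ⟨b, hb⟩ := hb
    obtain ⟨g, hg, e⟩ := htr b
    have : (⟨g, hg⟩ : R) ∈ MulAction.stabilizer R a := h ▸ mem_top _
    exact hb (e.symm.trans this)
  obtain ⟨M, hM, hle⟩ := (eq_top_or_exists_le_coatom _).resolve_left hS
  have hi := BurnsideBasis.coatom_index hR hM
  let B : Set α := {u | ∃ g ∈ M, (g : Perm α) a = u}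
  have hB : ∀ h : R, (h : Perm α) a ∈ B ↔ h ∈ M := by
    intro h
    constructor
    · rintro ⟨g, hg, e⟩
      have : g⁻¹ * h ∈ M := by
        apply hle
        show (g : Perm α)⁻¹ ((h : Perm α) a) = a
        rw [← e]; simp
      exact (mul_mem_cancel_left (inv_mem hg)).1 this
    · intro hh; exact ⟨h, hh, rfl⟩
  have key : ∀ g : R, ∀ u, (g : Perm α) u ∈ B ↔ (g ∈ M ↔ u ∈ B) := by
    intro g u
    obtain ⟨h, hh, rfl⟩ := htr u
    have e := hB (g * ⟨h, hh⟩)
    rw [mul_mem_iff_of_index_two hi, ← hB ⟨h, hh⟩] at e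
    exact e
  refine ⟨B, fun g hg => ?_, ?_⟩
  · by_cases h : (⟨g, hg⟩ : R) ∈ M
    · exact Or.inl fun u => by rw [key ⟨g, hg⟩ u]; tauto
    · exact Or.inr fun u => by rw [key ⟨g, hg⟩ u]; tauto
  · obtain ⟨g, hg⟩ : ∃ g : R, g ∉ M := by
      by_contra h
      push Not at h
      exact hM.1 (eq_top_iff.2 fun g _ => h g)
    exact swap_card (g := (g : Perm α)) fun u => by rw [key g u]; tauto

/-- The length of the cycle of `x` through `u`. -/
noncomputable def len (x : Perm α) (u : α) : ℕ := {v | x.SameCycle u v}.ncard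

/-- The fixed points of `x`. -/
noncomputable def nfix (x : Perm α) : ℕ := {v | x v = v}.ncard

theorem orbit_card [Finite α] (R : Subgroup (Perm α)) (hR : IsPGroup 2 R) (a : α) :
    ∃ j : ℕ, {u | ∃ g ∈ R, g a = u}.ncard = 2 ^ j := by
  obtain ⟨j, hj⟩ := hR.card_orbit a
  refine ⟨j, ?_⟩
  rw [← hj, Nat.card_coe_set_eq]
  congr 1
  ext u
  constructor
  · rintro ⟨g, hg, rfl⟩; exact ⟨⟨g, hg⟩, rfl⟩
  · rintro ⟨g, rfl⟩; exact ⟨g, g.2, rfl⟩

theorem len_pow [Finite α] {x : Perm α} (hx : ∃ k : ℕ, x ^ 2 ^ k = 1) (u : α) :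
    ∃ j : ℕ, len x u = 2 ^ j := by
  obtain ⟨j, hj⟩ := orbit_card _ (two_zpowers hx) u
  refine ⟨j, ?_⟩
  rw [← hj, len]
  congr 1
  ext v
  constructor
  · rintro ⟨i, hi⟩; exact ⟨_, ⟨i, rfl⟩, hi⟩
  · rintro ⟨_, ⟨i, rfl⟩, hi⟩; exact ⟨i, hi⟩

theorem len_eq_one [Finite α] {x : Perm α} {u : α} : len x u = 1 ↔ x u = u := by
  rw [len, Set.ncard_eq_one]
  constructor
  · rintro ⟨a, ha⟩
    have h1 : u ∈ {v | x.SameCycle u v} := SameCycle.refl _ _
    have h2 : x u ∈ {v | x.SameCycle u v} := ⟨1, by simp⟩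
    rw [ha] at h1 h2
    exact h2.trans h1.symm
  · intro h
    refine ⟨u, ?_⟩
    ext v
    constructor
    · intro hv; exact (SameCycle.eq_of_left hv h).symm
    · rintro rfl; exact SameCycle.refl _ _

theorem len_congr {x : Perm α} {u v : α} (h : x.SameCycle u v) : len x u = len x v := by
  unfold len
  congr 1
  ext w
  exact ⟨fun e => h.symm.trans e, fun e => h.trans e⟩

theorem sameCycle_mem {x : Perm α} {p : α → Prop} (h : ∀ u, p (x u) ↔ p u) {u v : α}
    (e : x.SameCycle u v) : p v ↔ p u := by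
  obtain ⟨i, rfl⟩ := e
  exact (zpowers_le (H := H0 {u | p u})).2 h ⟨i, rfl⟩ u

theorem len_subtype {x : Perm α} {p : α → Prop} (h : ∀ u, p (x u) ↔ p u) (u : {u // p u}) :
    len (x.subtypePerm h) u = len x u := by
  unfold len
  rw [← Set.ncard_image_of_injective _ Subtype.val_injective]
  congr 1
  ext v
  constructor
  · rintro ⟨w, hw, rfl⟩; exact sameCycle_subtypePerm.1 hw
  · intro hv
    exact ⟨⟨v, (sameCycle_mem h hv).2 u.2⟩, sameCycle_subtypePerm.2 hv, rfl⟩

/-- At most two fixed points and distinct lengths of the nontrivial cycles. -/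
structure Good (x : Perm α) : Prop where
  two : ∃ k : ℕ, x ^ 2 ^ k = 1
  same : ∀ u v, x u ≠ u → len x u = len x v → x.SameCycle u v
  fix : nfix x ≤ 2

theorem two_subtype {x : Perm α} {p : α → Prop} (h : ∀ u, p (x u) ↔ p u)
    (hx : ∃ k : ℕ, x ^ 2 ^ k = 1) : ∃ k : ℕ, (x.subtypePerm h) ^ 2 ^ k = 1 := by
  obtain ⟨k, hk⟩ := hx
  refine ⟨k, ?_⟩
  rw [subtypePerm_pow]
  ext u
  simp [hk]

theorem Good.subtype [Finite α] {x : Perm α} (hx : Good x) {p : α → Prop}
    (h : ∀ u, p (x u) ↔ p u) : Good (x.subtypePerm h) := by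
  refine ⟨two_subtype h hx.two, fun u v hu e => ?_, le_trans ?_ hx.fix⟩
  · rw [len_subtype, len_subtype] at e
    exact sameCycle_subtypePerm.2 (hx.same u v (fun e' => hu (Subtype.ext e')) e)
  · unfold nfix
    rw [← Set.ncard_image_of_injective _ Subtype.val_injective]
    apply Set.ncard_le_ncard _ (Set.toFinite _)
    rintro _ ⟨w, hw, rfl⟩
    exact congrArg Subtype.val hw

theorem good_of_same [Finite α] {x : Perm α} (hx : ∃ k : ℕ, x ^ 2 ^ k = 1)
    (h : ∀ u v, x.SameCycle u v) : Good x := by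
  refine ⟨hx, fun u v _ _ => h u v, ?_⟩
  refine le_trans ((Set.ncard_le_one (Set.toFinite _)).2 fun a ha b _ => ?_) one_le_two
  exact SameCycle.eq_of_left (h a b) ha

theorem Good.count [Finite α] {x : Perm α} (hx : Good x) (k : ℕ) :
    {u | len x u ≤ 2 ^ k}.ncard + 2 ≤ nfix x + 2 ^ (k + 1) := by
  induction k with
  | zero =>
    have : {u | len x u ≤ 2 ^ 0} ⊆ {v | x v = v} := by
      intro u hu
      obtain ⟨j, hj⟩ := len_pow hx.two u
      have h1 : len x u ≤ 1 := hu
      have h2 : 0 < len x u := by rw [hj]; positivity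
      exact len_eq_one.1 (by omega)
    have := Set.ncard_le_ncard this (Set.toFinite _)
    unfold nfix
    omega
  | succ k ih =>
    have h1 : {u | len x u ≤ 2 ^ (k + 1)} ⊆ {u | len x u ≤ 2 ^ k} ∪ {u | len x u = 2 ^ (k + 1)} := by
      intro u hu
      obtain ⟨j, hj⟩ := len_pow hx.two u
      have h1 : len x u ≤ 2 ^ (k + 1) := hu
      rw [hj, Nat.pow_le_pow_iff_right one_lt_two] at h1
      rcases h1.lt_or_eq with h | h
      · left
        show len x u ≤ 2 ^ k
        rw [hj]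
        exact Nat.pow_le_pow_right two_pos (by omega)
      · right
        show len x u = 2 ^ (k + 1)
        rw [hj, h]
    have h2 : {u | len x u = 2 ^ (k + 1)}.ncard ≤ 2 ^ (k + 1) := by
      rcases Set.eq_empty_or_nonempty {u | len x u = 2 ^ (k + 1)} with h | ⟨a, ha⟩
      · rw [h]; simp
      · have ha' : len x a = 2 ^ (k + 1) := ha
        rw [← ha']
        apply Set.ncard_le_ncard _ (Set.toFinite _)
        intro v hv
        refine hx.same a v (fun e => ?_) (Eq.symm hv)
        have := len_eq_one.2 e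
        rw [ha'] at this
        simp at this
    have h3 := (Set.ncard_le_ncard h1 (Set.toFinite _)).trans (Set.ncard_union_le _ _)
    have : 2 ^ (k + 1 + 1) = 2 ^ (k + 1) + 2 ^ (k + 1) := by ring
    omega

end CfsgLib.H5.SymSyl
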