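import Mathlib
import Cfsg.Agent.Lib.H5SymB

/-! The induction for two-elements of symmetric groups in a unique Sylow two-subgroup. -/

set_option autoImplicit false

namespace CfsgLib.H5.SymSyl

open Subgroup Equiv Equiv.Perm

theorem step {α : Type} [Finite α]
    (ih : ∀ (β : Type) [Finite β] (y : Perm β), Nat.card β < Nat.card α → Good y → U y)
    {x y : Perm α} (hx : ∃ k : ℕ, x ^ 2 ^ k = 1) {B : Set α} (hy : ∀ u, y u ∈ B ↔ u ∈ B)
    (hyx : y ∈ zpowers x) (h1 : Good (y.subtypePerm (p := (· ∈ B)) hy))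
    (h2 : Good (y.subtypePerm (p := (· ∉ B)) fun u => not_congr (hy u)))
    (hB : B.Nonempty) (hB' : Bᶜ.Nonempty)
    (hK : ∀ B' : Set α, B'.ncard = B.ncard → x ∈ H1 B' → B' = B ∨ B' = Bᶜ)
    (hO : ∀ R : Subgroup (Perm α), IsPGroup 2 R → x ∈ R → ∃ B' : Set α, B'.ncard = B.ncard ∧
      R ≤ H1 B') : U x := by
  have hc := Set.ncard_add_ncard_compl B
  have p1 := (Set.ncard_pos (Set.toFinite _)).2 hB
  have p2 := (Set.ncard_pos (Set.toFinite _)).2 hB'
  have u1 := ih _ _ (by
    show Nat.card B < _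
    rw [Nat.card_coe_set_eq]; omega) h1
  have u2 := ih _ _ (by
    show Nat.card (Bᶜ : Set α) < _
    rw [Nat.card_coe_set_eq]; omega) h2
  obtain ⟨Q, hQ⟩ := uin_H0 hy u1 u2
  refine U.ext (H0_le B) (H1_idx B) hQ hy hyx hx ?_ ?_
  · intro R hR hxR
    obtain ⟨B', e, hle⟩ := hO R hR hxR
    rw [← H1_eq (hK B' e (hle hxR))]
    exact hle
  · intro g hg
    exact mem_H1_of_image (hK _ (Set.ncard_image_of_injective _ g.injective) (conj_mem_H1 hg))

theorem full {α : Type} [Finite α]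
    (ih : ∀ (β : Type) [Finite β] (y : Perm β), Nat.card β < Nat.card α → Good y → U y)
    {x : Perm α} (hx : ∃ k : ℕ, x ^ 2 ^ k = 1) (a : α) (ha : x a ≠ a)
    (hall : ∀ u, x.SameCycle a u) : U x := by
  have htr : ∀ R : Subgroup (Perm α), x ∈ R → ∀ u, ∃ g ∈ R, g a = u := by
    intro R hR u
    obtain ⟨i, hi⟩ := hall u
    exact ⟨_, zpow_mem hR i, hi⟩
  have hsw : ∀ B : Set α, x ∈ H1 B → 2 * B.ncard = Nat.card α → ∀ u, x u ∈ B ↔ u ∉ B := by
    rintro B (h | h) hc
    · exfalso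
      have hc' := Set.ncard_add_ncard_compl B
      have hpos : 0 < Nat.card α := Nat.card_pos_iff.2 ⟨⟨a⟩, inferInstance⟩
      obtain ⟨u, hu⟩ : B.Nonempty := (Set.ncard_pos (Set.toFinite _)).1 (by omega)
      obtain ⟨v, hv⟩ : Bᶜ.Nonempty := (Set.ncard_pos (Set.toFinite _)).1 (by omega)
      exact hv ((sameCycle_mem (p := (· ∈ B)) h ((hall u).symm.trans (hall v))).2 hu)
    · exact h
  obtain ⟨B, hB, hc⟩ := exists_block _ (two_zpowers hx) a (htr _ (mem_zpowers x)) ⟨_, ha⟩
  have hs := hsw B (hB (mem_zpowers x)) hc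
  have hy : ∀ u, (x ^ 2) u ∈ B ↔ u ∈ B := fun u => by
    rw [sq, Perm.mul_apply, hs, hs, not_not]
  have hx2 : ∃ k : ℕ, (x ^ 2) ^ 2 ^ k = 1 := by
    obtain ⟨k, hk⟩ := hx
    exact ⟨k, by rw [← pow_mul, mul_comm, pow_mul, hk, one_pow]⟩
  have hsame : ∀ u v, (u ∈ B ↔ v ∈ B) → (x ^ 2).SameCycle u v := by
    intro u v e
    obtain ⟨i, hi⟩ := (hall u).symm.trans (hall v)
    rcases Int.even_or_odd' i with ⟨j, rfl | rfl⟩
    · exact ⟨j, by rw [← zpow_natCast, ← zpow_mul]; exact hi⟩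
    · exfalso
      have h1 : (x ^ 2).SameCycle (x u) v := ⟨j, by
        rw [← hi, zpow_add, zpow_one, Perm.mul_apply, ← zpow_natCast, ← zpow_mul]; rfl⟩
      have h2 := sameCycle_mem (p := (· ∈ B)) hy h1
      have h3 := hs u
      tauto
  have hc' := Set.ncard_add_ncard_compl B
  have hpos : 0 < Nat.card α := Nat.card_pos_iff.2 ⟨⟨a⟩, inferInstance⟩
  refine step ih hx hy (pow_mem (mem_zpowers x) 2) ?_ ?_
    ((Set.ncard_pos (Set.toFinite _)).1 (by omega))
    ((Set.ncard_pos (Set.toFinite _)).1 (by omega)) ?_ ?_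
  · exact good_of_same (two_subtype _ hx2) fun u v =>
      sameCycle_subtypePerm.2 (hsame u v (iff_of_true u.2 v.2))
  · exact good_of_same (two_subtype _ hx2) fun u v =>
      sameCycle_subtypePerm.2 (hsame u v (iff_of_false u.2 v.2))
  · intro B' e h
    have hs' := hsw B' h (by omega)
    have key : ∀ u, (u ∈ B' ↔ u ∈ B) ↔ (a ∈ B' ↔ a ∈ B) := fun u =>
      sameCycle_mem (p := fun u => u ∈ B' ↔ u ∈ B) (fun w => by
        simp only [hs, hs']; tauto) (hall u)
    by_cases h0 : a ∈ B' ↔ a ∈ B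
    · exact Or.inl (Set.ext fun u => (key u).2 h0)
    · refine Or.inr (Set.ext fun u => ?_)
      have := key u
      rw [Set.mem_compl_iff]
      tauto
  · intro R hR hxR
    obtain ⟨B', h, e⟩ := exists_block R hR a (htr R hxR) ⟨_, ha⟩
    exact ⟨B', by omega, h⟩

theorem Good.u (n : ℕ) : ∀ (α : Type) [Finite α] (x : Perm α), Nat.card α = n → Good x → U x := by
  induction n using Nat.strong_induction_on with
  | _ n IH =>
  intro α _ x hn hx
  have ih : ∀ (β : Type) [Finite β] (y : Perm β), Nat.card β < Nat.card α → Good y → U y :=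
    fun β _ y h hy => IH _ (hn ▸ h) β y rfl hy
  by_cases hfix : ∀ u, x u = u
  · have h1 : nfix x = Nat.card α := by
      unfold nfix
      rw [Set.eq_univ_of_forall (s := {v | x v = v}) hfix, Set.ncard_univ]
    have h2 := hx.fix
    apply U.of_two
    have h3 : Nat.card (Perm α) = (Nat.card α).factorial := Nat.card_perm
    rw [h1] at h2
    interval_cases h : Nat.card α
    · exact IsPGroup.of_card (n := 0) h3
    · exact IsPGroup.of_card (n := 0) h3
    · exact IsPGroup.of_card (n := 1) h3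
  push Not at hfix
  obtain ⟨b, hb⟩ := hfix
  have : Nonempty α := ⟨b⟩
  obtain ⟨a, hmax⟩ := Finite.exists_max (len x)
  obtain ⟨k, hk⟩ := len_pow hx.two a
  have ha : x a ≠ a := by
    intro e
    have h1 := len_eq_one.2 e
    have h2 := hmax b
    obtain ⟨j, hj⟩ := len_pow hx.two b
    have h3 : 0 < len x b := by rw [hj]; positivity
    exact hb (len_eq_one.1 (by omega))
  obtain ⟨k, rfl⟩ : ∃ j, k = j + 1 := by
    refine Nat.exists_eq_succ_of_ne_zero ?_
    rintro rfl
    exact ha (len_eq_one.1 hk)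
  by_cases hall : ∀ u, x.SameCycle a u
  · exact full ih hx.two a ha hall
  push Not at hall
  set B : Set α := {v | x.SameCycle a v} with hBdef
  have hBc : B.ncard = 2 ^ (k + 1) := hk
  have hy : ∀ u, x u ∈ B ↔ u ∈ B := fun u => sameCycle_apply_right
  have hcnt : Bᶜ.ncard + 2 ≤ nfix x + 2 ^ (k + 1) := by
    refine le_trans (Nat.add_le_add_right (Set.ncard_le_ncard ?_ (Set.toFinite _)) 2) (hx.count k)
    intro u hu
    obtain ⟨j, hj⟩ := len_pow hx.two u
    have h1 := hmax u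
    have h2 : len x a ≠ len x u := fun e => hu (hx.same a u ha e)
    rw [hk, hj] at h1 h2
    show len x u ≤ 2 ^ k
    rw [hj]
    rw [Nat.pow_le_pow_iff_right one_lt_two] at h1
    have : k + 1 ≠ j := fun e => h2 (by rw [e])
    exact Nat.pow_le_pow_right two_pos (by omega)
  have hf := hx.fix
  have hc := Set.ncard_add_ncard_compl B
  refine step ih hx.two hy (mem_zpowers x) (hx.subtype _) (hx.subtype _) ⟨a, SameCycle.refl _ _⟩
    hall ?_ ?_
  · rintro B' e (h | h)
    · by_cases h0 : a ∈ B'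
      · left
        refine (Set.eq_of_subset_of_ncard_le (fun u hu => ?_) e.le (Set.toFinite _)).symm
        exact (sameCycle_mem (p := (· ∈ B')) h hu).2 h0
      · right
        refine Set.eq_of_subset_of_ncard_le (fun u hu hu' => ?_) (by omega) (Set.toFinite _)
        exact h0 ((sameCycle_mem (p := (· ∈ B')) h hu').1 hu)
    · exfalso
      have h1 := swap_card h
      obtain ⟨u, hu⟩ : {v | x v = v}.Nonempty :=
        (Set.ncard_pos (Set.toFinite _)).1 (by unfold nfix at hcnt; omega)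
      have h2 := h u
      rw [show x u = u from hu] at h2
      tauto
  · intro R hR hxR
    obtain ⟨j, hj⟩ := orbit_card R hR a
    have hsub : B ⊆ {u | ∃ g ∈ R, g a = u} := by
      rintro u ⟨i, hi⟩
      exact ⟨_, zpow_mem hxR i, hi⟩
    have h1 := Set.ncard_le_ncard hsub (Set.toFinite _)
    have h2 := Set.ncard_le_card {u | ∃ g ∈ R, g a = u}
    by_cases e : j = k + 1
    · have h3 : B = {u | ∃ g ∈ R, g a = u} :=
        Set.eq_of_subset_of_ncard_le hsub (by rw [hj, hBc, e]) (Set.toFinite _)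
      refine ⟨B, rfl, fun g hg => Or.inl fun u => ?_⟩
      rw [h3]
      constructor
      · rintro ⟨h, hh, e⟩
        exact ⟨g⁻¹ * h, mul_mem (inv_mem hg) hh, by simp [e]⟩
      · rintro ⟨h, hh, rfl⟩
        exact ⟨g * h, mul_mem hg hh, rfl⟩
    · rw [hj, hBc, Nat.pow_le_pow_iff_right one_lt_two] at h1
      have h3 : 2 ^ (k + 2) ≤ 2 ^ j := Nat.pow_le_pow_right two_pos (by omega)
      have h4 : 2 ^ (k + 2) = 2 * 2 ^ (k + 1) := by ring
      have h5 : {u | ∃ g ∈ R, g a = u} = Set.univ :=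
        Set.eq_of_subset_of_ncard_le (Set.subset_univ _) (by rw [Set.ncard_univ]; omega)
          (Set.toFinite _)
      obtain ⟨B', h, e'⟩ := exists_block R hR a (fun u => (h5 ▸ Set.mem_univ u :
        u ∈ {u | ∃ g ∈ R, g a = u})) ⟨_, ha⟩
      exact ⟨B', by omega, h⟩

end CfsgLib.H5.SymSyl
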