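import Mathlib
import Cfsg.Agent.Lib.CoreSolvable

/-! Solvable linear groups transitive on subspaces of each dimension. -/

set_option autoImplicit false
set_option linter.unusedSectionVars false
set_option linter.style.haveILetI false

namespace CfsgLib.H6L

open Module Submodule

variable {K V Y : Type*} [Field K] [AddCommGroup V] [Module K V] [Group Y]

theorem exists_ext [FiniteDimensional K V] {U : Submodule K V} {x : V} (hx : x ∉ U) {k : ℕ}
    (h1 : finrank K U ≤ k) (h2 : k < finrank K V) :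
    ∃ W : Submodule K V, U ≤ W ∧ x ∉ W ∧ finrank K W = k := by
  induction k, h1 using Nat.le_induction with
  | base => exact ⟨U, le_rfl, hx, rfl⟩
  | succ k hk ih =>
    obtain ⟨W, h3, h4, h5⟩ := ih (by omega)
    have h6 : W ⊔ span K {x} ≠ ⊤ := by
      intro h
      have := finrank_sup_span_singleton h4
      rw [h, finrank_top] at this
      omega
    obtain ⟨y, hy⟩ : ∃ y, y ∉ W ⊔ span K {x} := by
      by_contra h
      push Not at h
      exact h6 (eq_top_iff.2 fun y _ => h y)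
    refine ⟨W ⊔ span K {y}, h3.trans le_sup_left, fun h => ?_, ?_⟩
    · obtain ⟨w, hw, z, hz, e⟩ := mem_sup.1 h
      obtain ⟨c, rfl⟩ := mem_span_singleton.1 hz
      by_cases hc : c = 0
      · rw [hc, zero_smul, add_zero] at e
        exact h4 (e ▸ hw)
      · apply hy
        have : y = c⁻¹ • (x - w) := by rw [← e, add_sub_cancel_left, smul_smul, inv_mul_cancel₀ hc,
          one_smul]
        rw [this]
        exact smul_mem _ _ (sub_mem (mem_sup_right (mem_span_singleton_self x)) (mem_sup_left hw))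
    · rw [finrank_sup_span_singleton (fun h => hy (mem_sup_left h)), h5]

theorem scalar_of_inv [FiniteDimensional K V] {f : End K V} {k : ℕ} (h0 : 0 < k)
    (h1 : k < finrank K V) (h : ∀ W : Submodule K V, finrank K W = k → ∀ w ∈ W, f w ∈ W) :
    ∃ c : K, f = c • 1 := by
  apply LinearMap.exists_eq_smul_id_of_forall_notLinearIndependent
  intro v hv
  have hv0 : v ≠ 0 := hv.ne_zero 0
  have h2 : f v ∉ span K {v} := by
    intro h3
    obtain ⟨c, hc⟩ := mem_span_singleton.1 h3
    exact (LinearIndependent.pair_iff' hv0).1 hv c hc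
  obtain ⟨W, h3, h4, h5⟩ := exists_ext h2 (k := k) (by rw [finrank_span_singleton hv0]; omega) h1
  exact h4 (h W h5 v (h3 (mem_span_singleton_self v)))

theorem sq_eq_one_iff_of_nz {a : K} (h : a ^ 2 = 1) : a = 1 ∨ a = -1 :=
  mul_self_eq_one_iff.1 (by rw [← pow_two, h])

/-- transitive on subspaces of each dimension -/
def TS (L : Y →* End K V) : Prop :=
  ∀ U W : Submodule K V, finrank K U = finrank K W → ∃ y, U.map (L y) = W

/-- acts as a scalar -/
def Sc (L : Y →* End K V) (y : Y) : Prop := ∃ c : K, L y = c • 1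

variable {L : Y →* End K V}

theorem L_inv_apply (L : Y →* End K V) (y : Y) (v : V) : L y⁻¹ (L y v) = v := by
  rw [← End.mul_apply, ← map_mul, inv_mul_cancel, map_one, End.one_apply]

theorem L_apply_inv (L : Y →* End K V) (y : Y) (v : V) : L y (L y⁻¹ v) = v := by
  rw [← End.mul_apply, ← map_mul, mul_inv_cancel, map_one, End.one_apply]

theorem L_inj (L : Y →* End K V) (y : Y) : Function.Injective (L y) :=
  Function.LeftInverse.injective (L_inv_apply L y)

theorem L_ne (L : Y →* End K V) (y : Y) {v : V} (hv : v ≠ 0) : L y v ≠ 0 :=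
  fun h => hv (L_inj L y (by rw [h, map_zero]))

theorem L_conj (L : Y →* End K V) (g y : Y) (v : V) : L (g * y * g⁻¹) (L g v) = L g (L y v) := by
  rw [map_mul, map_mul, End.mul_apply, End.mul_apply, L_inv_apply]

theorem Sc.conj {y : Y} (h : Sc L y) (g : Y) : Sc L (g * y * g⁻¹) := by
  obtain ⟨c, hc⟩ := h
  exact ⟨c, by rw [map_mul, map_mul, hc, mul_smul_comm, smul_mul_assoc, mul_one, ← map_mul,
    mul_inv_cancel, map_one]⟩

theorem Sc.of_conj {y g : Y} (h : Sc L (g * y * g⁻¹)) : Sc L y := by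
  have := h.conj g⁻¹
  rwa [show g⁻¹ * (g * y * g⁻¹) * g⁻¹⁻¹ = y by group] at this

/-- the subgroup of scalars -/
def scSub (L : Y →* End K V) : Subgroup Y where
  carrier := {y | Sc L y}
  one_mem' := ⟨1, by simp⟩
  mul_mem' := by
    rintro a b ⟨c, hc⟩ ⟨d, hd⟩
    exact ⟨c * d, by rw [map_mul, hc, hd, smul_mul_smul_comm, mul_one]⟩
  inv_mem' := by
    rintro a ⟨c, hc⟩
    refine ⟨c⁻¹, ?_⟩
    ext v
    by_cases h : c = 0
    · have := L_inv_apply L a v
      rw [hc, h, zero_smul, LinearMap.zero_apply, map_zero] at this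
      rw [← this]; simp
    · apply L_inj L a
      rw [L_apply_inv, hc]
      simp [smul_smul, h]

instance (L : Y →* End K V) : (scSub L).Normal := ⟨fun _ h g => Sc.conj h g⟩

theorem TS.sc_of_inv [FiniteDimensional K V] (h : TS L) {N : Subgroup Y} [hN : N.Normal]
    {U : Submodule K V} (h1 : U ≠ ⊥) (h2 : U ≠ ⊤) (hU : ∀ b ∈ N, ∀ u ∈ U, L b u ∈ U) :
    ∀ b ∈ N, Sc L b := by
  intro b hb
  refine scalar_of_inv (k := finrank K U) (finrank_pos_iff.2 (nontrivial_iff_ne_bot.2 h1))
    (finrank_lt h2) fun W hW w hw => ?_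
  obtain ⟨y, rfl⟩ := h U W hW.symm
  obtain ⟨u, hu, rfl⟩ := hw
  refine ⟨L (y⁻¹ * b * y) u, hU _ (hN.conj_mem' b hb y) u hu, ?_⟩
  rw [← L_conj L y, show y * (y⁻¹ * b * y) * y⁻¹ = b by group]

theorem TS.inv_transfer (h : TS L) {N : Subgroup Y} [hN : N.Normal] {b : Y} (hb : b ∈ N)
    (hs : ¬ Sc L b) {U W : Submodule K V} (hUW : finrank K U = finrank K W)
    (hU : ∀ u ∈ U, L b u ∈ U) : ∃ d ∈ N, ¬ Sc L d ∧ ∀ w ∈ W, L d w ∈ W := by
  obtain ⟨y, rfl⟩ := h U W hUW
  refine ⟨y * b * y⁻¹, hN.conj_mem b hb y, fun e => hs e.of_conj, ?_⟩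
  rintro _ ⟨u, hu, rfl⟩
  exact ⟨L b u, hU u hu, (L_conj L y b u).symm⟩

theorem TS.eig_transfer (h : TS L) {N : Subgroup Y} [hN : N.Normal] {b : Y} (hb : b ∈ N)
    {U W : Submodule K V} (hUW : finrank K U = finrank K W) {c : K}
    (hU : ∀ u, u ∈ U ↔ L b u = c • u) : ∃ d ∈ N, ∀ w, w ∈ W ↔ L d w = c • w := by
  obtain ⟨y, rfl⟩ := h U W hUW
  refine ⟨y * b * y⁻¹, hN.conj_mem b hb y, fun w => ⟨?_, fun e => ?_⟩⟩
  · rintro ⟨u, hu, rfl⟩
    rw [L_conj, (hU u).1 hu, map_smul]
  · refine ⟨L y⁻¹ w, (hU _).2 (L_inj L y ?_), L_apply_inv L y w⟩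
    rw [← L_conj, map_smul, L_apply_inv, e]

theorem mul_pow_of_smul {X Z : End K V} {η : K} (h : Z * X = η • (X * Z)) (m : ℕ) :
    (X * Z) ^ m = η ^ m.choose 2 • (X ^ m * Z ^ m) := by
  have h1 : ∀ m : ℕ, Z ^ m * X = η ^ m • (X * Z ^ m) := by
    intro m
    induction m with
    | zero => simp
    | succ m ih =>
      rw [pow_succ', mul_assoc, ih, mul_smul_comm, ← mul_assoc, h, smul_mul_assoc, smul_smul,
        mul_assoc, pow_succ]
  induction m with
  | zero => simp
  | succ m ih =>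
    rw [pow_succ, ih, smul_mul_assoc, mul_assoc, ← mul_assoc (Z ^ m), h1, smul_mul_assoc,
      mul_smul_comm, smul_smul, ← pow_add, Nat.choose_succ_succ' m 1, Nat.choose_one_right,
      add_comm, mul_assoc, ← pow_succ, ← mul_assoc, ← pow_succ]

theorem exists_eigen [Nontrivial V] {T : End K V} {q : ℕ} (hq : 0 < q) {ζ ν : K}
    (hζ : IsPrimitiveRoot ζ q) (h : T ^ q = ν ^ q • 1) : ∃ (c : K) (v : V), v ≠ 0 ∧ T v = c • v := by
  by_contra hn
  push Not at hn
  have h1 : Function.Injective (Polynomial.aeval T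
      (∏ i ∈ Finset.range q, (Polynomial.X - Polynomial.C (ζ ^ i * ν)))) := by
    refine Finset.prod_induction _ (fun f => Function.Injective (Polynomial.aeval T f)) ?_ ?_ ?_
    · intro a b ha hb
      rw [map_mul]
      exact ha.comp hb
    · rw [map_one]; exact Function.injective_id
    · intro i _
      rw [← LinearMap.ker_eq_bot, eq_bot_iff]
      intro v hv
      by_contra h0
      refine hn (ζ ^ i * ν) v h0 ?_
      rw [LinearMap.mem_ker, map_sub, Polynomial.aeval_X, Polynomial.aeval_C,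
        Algebra.algebraMap_eq_smul_one, LinearMap.sub_apply, sub_eq_zero] at hv
      exact hv
  rw [← X_pow_sub_C_eq_prod hζ hq rfl] at h1
  obtain ⟨v, hv⟩ := exists_ne (0 : V)
  refine hv (h1 ?_)
  rw [map_sub, map_pow, Polynomial.aeval_X, Polynomial.aeval_C, h,
    Algebra.algebraMap_eq_smul_one, sub_self, map_zero, LinearMap.zero_apply]

theorem exists_pow_mul_eq [Finite K] {q : ℕ} (hq : q.Prime) {μ μ' : K} (h0 : μ ≠ 0)
    (h0' : μ' ≠ 0) (h : ∀ ν : K, μ ≠ ν ^ q) : ∃ (j : ℕ) (ν : K), μ ^ j * μ' = ν ^ q := by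
  obtain ⟨g, hg⟩ := IsCyclic.exists_monoid_generator (α := Kˣ)
  obtain ⟨a, ha⟩ := hg (Units.mk0 μ h0)
  obtain ⟨b, hb⟩ := hg (Units.mk0 μ' h0')
  have ha' : (g : K) ^ a = μ := by simpa using congrArg Units.val ha
  have hb' : (g : K) ^ b = μ' := by simpa using congrArg Units.val hb
  have hc : a.Coprime q := by
    rw [Nat.coprime_comm, hq.coprime_iff_not_dvd]
    rintro ⟨k, rfl⟩
    exact h ((g : K) ^ k) (by rw [← ha', ← pow_mul, mul_comm])
  obtain ⟨m, -, hm⟩ := Nat.exists_mul_mod_eq_one_of_coprime hc hq.one_lt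
  have : q ∣ a * (m * (b * (q - 1))) + b := by
    have h1 := Nat.div_add_mod (a * m) q
    rw [hm] at h1
    obtain ⟨r, rfl⟩ : ∃ r, q = r + 1 := ⟨q - 1, by have := hq.pos; omega⟩
    rw [← mul_assoc, ← h1, Nat.add_sub_cancel]
    exact ⟨a * m / (r + 1) * (b * r) + b, by ring⟩
  obtain ⟨k, hk⟩ := this
  exact ⟨m * (b * (q - 1)), (g : K) ^ k, by
    rw [← ha', ← hb', ← pow_mul, ← pow_add, hk, ← pow_mul, mul_comm]⟩

/-- the non-abelian configuration -/
structure NA (L : Y →* End K V) (B : Subgroup Y) (q : ℕ) : Prop where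
  hq : q.Prime
  ts : TS L
  h3 : 3 ≤ finrank K V
  comm : ∀ a ∈ B, ∀ b ∈ B, ∃ ζ : K, ζ ^ q = 1 ∧ L a * L b = ζ • (L b * L a)
  pow : ∀ b ∈ B, Sc L (b ^ q)
  rad : ∀ b ∈ B, ¬ Sc L b → ∃ c ∈ B, L b * L c ≠ L c * L b

namespace NA

variable [Finite K] [Finite V] {B : Subgroup Y} [B.Normal] {q : ℕ} (A : NA L B q)
include A

theorem rad' {b : Y} (hb : b ∈ B) (hs : ¬ Sc L b) :
    ∃ c ∈ B, ∃ ζ : K, ζ ≠ 1 ∧ ζ ^ q = 1 ∧ ∀ v, L b (L c v) = ζ • L c (L b v) := by
  obtain ⟨c, hc, h⟩ := A.rad b hb hs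
  obtain ⟨ζ, h1, h2⟩ := A.comm b hb c hc
  refine ⟨c, hc, ζ, ?_, h1, fun v => congrArg (fun f : End K V => f v) h2⟩
  rintro rfl
  exact h (by rw [h2, one_smul])

theorem no_eigen {b : Y} (hb : b ∈ B) (hs : ¬ Sc L b) {l : K} {v : V} (hv : v ≠ 0)
    (e : L b v = l • v) : False := by
  have hl : l ≠ 0 := by
    rintro rfl
    exact L_ne L b hv (by rw [e, zero_smul])
  obtain ⟨c, hc, ζ, hζ1, hζ, hbc⟩ := A.rad' hb hs
  have hζ0 : ζ ≠ 0 := by
    rintro rfl
    rw [zero_pow A.hq.ne_zero] at hζ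
    exact zero_ne_one hζ
  let E : Submodule K V := LinearMap.ker (L b - l • 1)
  have hE : ∀ u, u ∈ E ↔ L b u = l • u := fun u => by simp [E, sub_eq_zero]
  have hEt : E ≠ ⊤ := fun h => hs ⟨l, LinearMap.ext fun u => (hE u).1 (h ▸ mem_top)⟩
  have hu0 : L c v ≠ 0 := L_ne L c hv
  have hu : L b (L c v) = (ζ * l) • L c v := by rw [hbc, e, map_smul, smul_smul]
  generalize hud : L c v = u at hu0 hu
  have hd : ζ * l - l ≠ 0 := by
    rw [← sub_one_mul]
    exact mul_ne_zero (sub_ne_zero.2 hζ1) hl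
  have canc : ∀ {a : K} {x : V}, x ≠ 0 → a • x = 0 → a = 0 := fun hx h =>
    (smul_eq_zero.1 h).resolve_right hx
  by_cases h1 : ∃ v' ∈ E, v' ∉ span K {v}
  · obtain ⟨v', hv', hv''⟩ := h1
    have e' := (hE _).1 hv'
    have hx : L b (v' + u) ∉ span K {v} ⊔ span K {v' + u} := by
      intro h
      obtain ⟨_, h2, _, h3, h4⟩ := mem_sup.1 h
      obtain ⟨α, rfl⟩ := mem_span_singleton.1 h2
      obtain ⟨β, rfl⟩ := mem_span_singleton.1 h3
      rw [map_add, e', hu] at h4
      have h5 := congrArg (fun x => L b x - l • x) h4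
      simp only [map_add, map_smul, e, e', hu] at h5
      have h6 : ((β - ζ * l) * (ζ * l - l)) • u = 0 := by
        linear_combination (norm := module) h5
      have h7 : β = ζ * l := sub_eq_zero.1 ((mul_eq_zero.1 (canc hu0 h6)).resolve_right hd)
      refine hv'' (mem_span_singleton.2 ⟨-(ζ * l - l)⁻¹ * α, ?_⟩)
      have h8 : (ζ * l - l) • v' = (-α) • v := by
        rw [h7] at h4
        linear_combination (norm := module) h4
      rw [← inv_smul_smul₀ hd v', h8, smul_smul]
      congr 1; ring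
    have h2 : finrank K ↥(span K {v} ⊔ span K {v' + u}) ≤ finrank K E := by
      have a1 := finrank_sup_span_singleton hv''
      have a2 : finrank K ↥(span K {v} ⊔ span K {v'}) ≤ finrank K E :=
        finrank_mono (sup_le ((span_singleton_le_iff_mem _ _).2 ((hE _).2 e))
          ((span_singleton_le_iff_mem _ _).2 hv'))
      have a3 := finrank_add_le_finrank_add_finrank (span K {v}) (span K {v' + u})
      have a4 := finrank_span_le_card (R := K) ({v' + u} : Set V)
      rw [Set.toFinset_singleton, Finset.card_singleton] at a4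
      omega
    obtain ⟨W, w1, w2, w3⟩ := exists_ext hx h2 (finrank_lt hEt)
    obtain ⟨d, hd', hW⟩ := A.ts.eig_transfer hb w3.symm hE
    obtain ⟨ξ, -, hξ⟩ := A.comm b hb d hd'
    have hξ' : ∀ x, L b (L d x) = ξ • L d (L b x) := fun x => congrArg (fun f : End K V => f x) hξ
    have a1 := (hW v).1 (w1 (mem_sup_left (mem_span_singleton_self v)))
    have a2 := (hW _).1 (w1 (mem_sup_right (mem_span_singleton_self _)))
    have a3 := hξ' v
    rw [a1, e, map_smul, map_smul, e, a1] at a3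
    have a4 : ξ = 1 := by
      have : ((1 - ξ) * (l * l)) • v = 0 := by linear_combination (norm := module) a3
      exact (sub_eq_zero.1 ((mul_eq_zero.1 (canc hv this)).resolve_right
        (mul_ne_zero hl hl))).symm
    refine w2 ((hW _).2 ?_)
    have a5 := hξ' (v' + u)
    rw [a4, one_smul, a2, map_smul] at a5
    exact a5.symm
  push Not at h1
  have hw : v + u ≠ 0 := by
    intro h
    have h5 := congrArg (fun x => L b x - l • x) h
    simp only [map_add, map_zero, e, hu] at h5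
    exact hd (canc hu0 (by linear_combination (norm := module) h5))
  have hE1 : finrank K E = finrank K (span K {v + u}) := by
    rw [finrank_span_singleton hw, ← finrank_span_singleton (K := K) hv,
      le_antisymm h1 ((span_singleton_le_iff_mem _ _).2 ((hE _).2 e))]
  obtain ⟨d, hd', hW⟩ := A.ts.eig_transfer hb hE1 hE
  obtain ⟨ξ, hξq, hξ⟩ := A.comm b hb d hd'
  have hξ0 : ξ ≠ 0 := by
    rintro rfl
    rw [zero_pow A.hq.ne_zero] at hξq
    exact zero_ne_one hξq
  have hξ' : ∀ x, L b (L d x) = ξ • L d (L b x) := fun x => congrArg (fun f : End K V => f x) hξ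
  have a1 := (hW _).1 (mem_span_singleton_self _)
  have a2 := hξ' v
  have a3 := hξ' u
  rw [e, map_smul] at a2
  rw [hu, map_smul] at a3
  rw [map_add] at a1
  have x1 := L_ne L d hv
  have x2 := L_ne L d hu0
  by_cases hξ1 : ξ = 1
  · have h5 := congrArg (fun x => L b x - l • x) a1
    simp only [map_add, map_smul, e, hu, a2, a3, hξ1, one_smul] at h5
    have h6 : L d u = l • u := by
      have : (ζ * l - l) • (L d u - l • u) = 0 := by linear_combination (norm := module) h5
      exact sub_eq_zero.1 ((smul_eq_zero.1 this).resolve_left hd)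
    obtain ⟨α, hα⟩ := mem_span_singleton.1 ((hW u).2 h6)
    have h7 := congrArg (fun x => L b x - (ζ * l) • x) hα
    simp only [map_add, map_smul, e, hu] at h7
    have h8 : α = 0 := by
      have : (α * (ζ * l - l)) • v = 0 := by linear_combination (norm := module) -h7
      exact (mul_eq_zero.1 (canc hv this)).resolve_right hd
    rw [h8, zero_smul] at hα
    exact hu0 hα.symm
  have h5 := congrArg (fun x => L b x - l • x) a1
  simp only [map_add, map_smul, e, hu, a2, a3] at h5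
  have h6 := congrArg (fun x => L b x - (ζ * l) • x) h5
  simp only [map_add, map_sub, map_smul, e, hu, a2, a3] at h6
  have h7 := congrArg (fun x => L b x - (ξ * l) • x) h6
  have h8 := congrArg (fun x => L b x - (ξ * ζ * l) • x) h6
  simp only [map_add, map_sub, map_smul, e, hu, a2, a3] at h7 h8
  have b1 : ξ * ζ = 1 := by
    have : ((ξ * ζ - 1) * ((ξ - 1) * (ζ - 1) * ξ * ζ * l ^ 3)) • L d u = 0 := by
      linear_combination (norm := module) h7
    refine sub_eq_zero.1 ((mul_eq_zero.1 (canc x2 this)).resolve_right ?_)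
    exact mul_ne_zero (mul_ne_zero (mul_ne_zero (mul_ne_zero (sub_ne_zero.2 hξ1)
      (sub_ne_zero.2 hζ1)) hξ0) hζ0) (pow_ne_zero _ hl)
  have b2 : ξ = ζ := by
    have : ((ξ - ζ) * ((ξ - 1) * (ζ - 1) * ξ * l ^ 3)) • L d v = 0 := by
      linear_combination (norm := module) -h8
    refine sub_eq_zero.1 ((mul_eq_zero.1 (canc x1 this)).resolve_right ?_)
    exact mul_ne_zero (mul_ne_zero (mul_ne_zero (sub_ne_zero.2 hξ1)
      (sub_ne_zero.2 hζ1)) hξ0) (pow_ne_zero _ hl)
  have b3 : ζ = -1 := by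
    rw [b2] at b1
    exact (mul_self_eq_one_iff.1 b1).resolve_left hζ1
  have hq2 : q = 2 := by
    rcases A.hq.eq_two_or_odd' with h | h
    · exact h
    · rw [b3, h.neg_one_pow] at hζ
      exact (hζ1 (b3.trans hζ)).elim
  subst hq2
  obtain ⟨μ, hμ⟩ := A.pow b hb
  obtain ⟨ν, hν⟩ := A.pow c hc
  have hμ' : ∀ x, L b (L b x) = μ • x := fun x => by
    rw [← End.mul_apply, ← map_mul, ← pow_two, hμ]; rfl
  have hν' : ∀ x, L c (L c x) = ν • x := fun x => by
    rw [← End.mul_apply, ← map_mul, ← pow_two, hν]; rfl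
  have hν0 : ν ≠ 0 := by
    rintro rfl
    exact L_ne L c (L_ne L c hv) (by rw [hν', zero_smul])
  have hμl : μ = l * l := by
    have := hμ' v
    rw [e, map_smul, e] at this
    exact (sub_eq_zero.1 (canc hv (a := μ - l * l) (by linear_combination (norm := module) -this)))
  have htop : span K {v} ⊔ span K {u} = ⊤ := by
    rw [eq_top_iff]
    intro x _
    have c1 : L b x + l • x ∈ span K {v} := h1 _ ((hE _).2 (by
      rw [map_add, hμ', map_smul, hμl, smul_add, smul_smul, add_comm]))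
    have c2 : L b x - l • x ∈ span K {u} := by
      obtain ⟨α, hα⟩ := mem_span_singleton.1 (h1 (L c (L b x - l • x)) ((hE _).2 (by
        rw [hbc]
        simp only [map_sub, map_smul, hμ', hμl, b3]
        module)))
      have := congrArg (L c) hα
      rw [map_smul, hν', hud] at this
      exact mem_span_singleton.2 ⟨ν⁻¹ * α, by rw [← smul_smul, this, inv_smul_smul₀ hν0]⟩
    have : x = (ζ * l - l)⁻¹ • ((L b x - l • x) - (L b x + l • x)) := by
      rw [eq_inv_smul_iff₀ hd, b3]; module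
    rw [this]
    exact smul_mem _ _ (sub_mem (mem_sup_right c2) (mem_sup_left c1))
  have a3 := finrank_add_le_finrank_add_finrank (span K {v}) (span K {u})
  rw [htop, finrank_top, finrank_span_singleton hv, finrank_span_singleton hu0] at a3
  have := A.h3
  omega

theorem sc_of_pow {b : Y} (hb : b ∈ B) {ν : K} (h : L b ^ q = ν ^ q • 1) : Sc L b := by
  by_contra hs
  haveI : Fact q.Prime := ⟨A.hq⟩
  haveI : Nontrivial V := finrank_pos_iff.1 (lt_of_lt_of_le (by norm_num) A.h3)
  obtain ⟨c, hc, ζ, hζ1, hζ, -⟩ := A.rad' hb hs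
  have : IsPrimitiveRoot ζ q := by
    have := IsPrimitiveRoot.orderOf ζ
    rwa [orderOf_eq_prime hζ hζ1] at this
  obtain ⟨l, v, hv, e⟩ := exists_eigen A.hq.pos this h
  exact A.no_eigen hb hs hv e

theorem exists_sc_mul {b d : Y} (hb : b ∈ B) (hs : ¬ Sc L b) (hd : d ∈ B)
    (h : q ≠ 2 ∨ L b * L d = L d * L b) : ∃ j : ℕ, Sc L (b ^ j * d) := by
  haveI : Nontrivial V := finrank_pos_iff.1 (lt_of_lt_of_le (by norm_num) A.h3)
  have h0 : ∀ {y : Y} {μ : K}, L y = μ • 1 → μ ≠ 0 := by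
    rintro y μ e rfl
    obtain ⟨v, hv⟩ := exists_ne (0 : V)
    exact L_ne L y hv (by rw [e]; simp)
  obtain ⟨μ, hμ⟩ := A.pow b hb
  obtain ⟨μ', hμ'⟩ := A.pow d hd
  obtain ⟨j, ν, e⟩ := exists_pow_mul_eq A.hq (h0 hμ) (h0 hμ') fun ν e =>
    hs (A.sc_of_pow hb (ν := ν) (by rw [← map_pow, hμ, e]))
  refine ⟨j, A.sc_of_pow (mul_mem (pow_mem hb j) hd) (ν := ν) ?_⟩
  have key : ∀ η : K, η ^ q.choose 2 = 1 → L d * L (b ^ j) = η • (L (b ^ j) * L d) →
      L (b ^ j * d) ^ q = ν ^ q • 1 := by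
    intro η h1 h2
    rw [map_mul, mul_pow_of_smul h2, h1, one_smul, map_pow, ← pow_mul, mul_comm j q, pow_mul,
      ← map_pow, ← map_pow L d, hμ, hμ', smul_pow, one_pow, smul_mul_smul_comm, e, mul_one]
  rcases h with h | h
  · obtain ⟨η, h1, h2⟩ := A.comm d hd (b ^ j) (pow_mem hb j)
    obtain ⟨k, hk⟩ := A.hq.dvd_choose_self two_ne_zero (lt_of_le_of_ne A.hq.two_le h.symm)
    exact key η (by rw [hk, pow_mul, h1, one_pow]) h2
  · refine key 1 (one_pow _) ?_
    rw [one_smul, map_pow]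
    exact ((show Commute (L b) (L d) from h).pow_left j).eq.symm

theorem false {b : Y} (hb : b ∈ B) (hs : ¬ Sc L b) : False := by
  obtain ⟨c, hc, ζ, hζ1, hζ, hbc⟩ := A.rad' hb hs
  by_cases hq : q ≠ 2
  · obtain ⟨j, α, hα⟩ := A.exists_sc_mul hb hs hc (Or.inl hq)
    haveI : Nontrivial V := finrank_pos_iff.1 (lt_of_lt_of_le (by norm_num) A.h3)
    obtain ⟨v, hv⟩ := exists_ne (0 : V)
    have h1 : L b (L c v) = L c (L b v) := by
      apply L_inj L (b ^ j)
      rw [← End.mul_apply (L (b ^ j)), ← map_mul, ← pow_succ, pow_succ', map_mul, End.mul_apply,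
        ← End.mul_apply (L (b ^ j)), ← End.mul_apply (L (b ^ j)), ← map_mul, hα]
      simp
    rw [hbc] at h1
    have : (ζ - 1) • L c (L b v) = 0 := by rw [sub_smul, h1, one_smul, sub_self]
    exact hζ1 (sub_eq_zero.1 ((smul_eq_zero.1 this).resolve_right (L_ne L c (L_ne L b hv))))
  push Not at hq
  subst hq
  have hζ' : ζ = -1 := (sq_eq_one_iff_of_nz hζ).resolve_left hζ1
  subst hζ'
  haveI : Nontrivial V := finrank_pos_iff.1 (lt_of_lt_of_le (by norm_num) A.h3)
  obtain ⟨v, hv⟩ := exists_ne (0 : V)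
  obtain ⟨μ, hμ⟩ := A.pow b hb
  have hμ0 : μ ≠ 0 := by
    rintro rfl
    exact L_ne L (b ^ 2) hv (by rw [hμ]; simp)
  have hev : ∀ (i : ℕ) (x : V), L (b ^ (2 * i)) x = μ ^ i • x := fun i x => by
    rw [pow_mul, map_pow, hμ, smul_pow, one_pow]; rfl
  have pl : ∀ d ∈ B, L b * L d = L d * L b → L d v ∈ span K {v} ∨ L d v ∈ span K {L b v} := by
    intro d hd h
    obtain ⟨j, α, hα⟩ := A.exists_sc_mul hb hs hd (Or.inr h)
    have h1 : L (b ^ j) (L d v) = α • v := by rw [← End.mul_apply, ← map_mul, hα]; rfl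
    obtain ⟨i, rfl | rfl⟩ := Nat.even_or_odd' j
    · rw [hev] at h1
      exact Or.inl (mem_span_singleton.2 ⟨(μ ^ i)⁻¹ * α, by
        rw [← smul_smul, ← h1, inv_smul_smul₀ (pow_ne_zero _ hμ0)]⟩)
    · have h2 := congrArg (L b) h1
      rw [← End.mul_apply, ← map_mul, ← pow_succ', show 2 * i + 1 + 1 = 2 * (i + 1) by ring, hev,
        map_smul] at h2
      exact Or.inr (mem_span_singleton.2 ⟨(μ ^ (i + 1))⁻¹ * α, by
        rw [← smul_smul, ← h2, inv_smul_smul₀ (pow_ne_zero _ hμ0)]⟩)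
  have pl2 : ∀ d ∈ B, L d v ∈ span K {v} ⊔ span K {L b v} ∨ L d v ∈ span K {v} ⊔ span K {L c v} ∨
      L d v ∈ span K {v} ⊔ span K {L c (L b v)} := by
    intro d hd
    obtain ⟨η, h1, h2⟩ := A.comm b hb d hd
    rcases sq_eq_one_iff_of_nz h1 with rfl | rfl
    · rcases pl d hd (by rw [h2, one_smul]) with h | h
      · exact Or.inl (mem_sup_left h)
      · exact Or.inl (mem_sup_right h)
    · have h3 : L b * L (c⁻¹ * d) = L (c⁻¹ * d) * L b := by
        ext x
        apply L_inj L c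
        have h4 : L b (L d x) = (-1 : K) • L d (L b x) := congrArg (fun f : End K V => f x) h2
        have h5 := hbc (L c⁻¹ (L d x))
        rw [L_apply_inv, h4] at h5
        simp only [map_mul, End.mul_apply, L_apply_inv]
        simpa using h5.symm
      have h6 : L d v = L c (L (c⁻¹ * d) v) := by rw [map_mul, End.mul_apply, L_apply_inv]
      rw [h6]
      rcases pl _ (mul_mem (inv_mem hc) hd) h3 with h | h
      · obtain ⟨α, hα⟩ := mem_span_singleton.1 h
        exact Or.inr (Or.inl (mem_sup_right (mem_span_singleton.2 ⟨α, by rw [← hα, map_smul]⟩)))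
      · obtain ⟨α, hα⟩ := mem_span_singleton.1 h
        exact Or.inr (Or.inr (mem_sup_right (mem_span_singleton.2 ⟨α, by rw [← hα, map_smul]⟩)))
  have ne : ∀ d ∈ B, ¬ Sc L d → L d v ∉ span K {v} := fun d hd hs' h => by
    obtain ⟨α, hα⟩ := mem_span_singleton.1 h
    exact A.no_eigen hd hs' hv hα.symm
  have cov : ∀ w : V, w ∈ span K {v} ⊔ span K {L b v} ∨ w ∈ span K {v} ⊔ span K {L c v} ∨
      w ∈ span K {v} ⊔ span K {L c (L b v)} := by
    intro w
    by_cases hw : w ∈ span K {v}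
    · exact Or.inl (mem_sup_left hw)
    obtain ⟨d, hd, hs', hW⟩ := A.ts.inv_transfer hb hs (U := span K {v} ⊔ span K {L b v})
      (W := span K {v} ⊔ span K {w}) (by
        rw [finrank_sup_span_singleton hw, finrank_sup_span_singleton (ne b hb hs)]) (by
        intro u hu
        obtain ⟨_, h2, _, h3, rfl⟩ := mem_sup.1 hu
        obtain ⟨α, rfl⟩ := mem_span_singleton.1 h2
        obtain ⟨β, rfl⟩ := mem_span_singleton.1 h3
        rw [map_add, map_smul, map_smul, ← End.mul_apply, ← map_mul, ← pow_two, hμ]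
        exact add_mem (mem_sup_right (smul_mem _ _ (mem_span_singleton_self _)))
          (mem_sup_left (smul_mem _ _ (smul_mem _ _ (mem_span_singleton_self _)))))
    obtain ⟨_, h2, _, h3, e⟩ := mem_sup.1 (hW v (mem_sup_left (mem_span_singleton_self v)))
    obtain ⟨β, rfl⟩ := mem_span_singleton.1 h3
    have hβ : β ≠ 0 := by
      rintro rfl
      rw [zero_smul, add_zero] at e
      exact ne d hd hs' (e ▸ h2)
    have key : ∀ P : Submodule K V, L d v ∈ span K {v} ⊔ P → w ∈ span K {v} ⊔ P := by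
      intro P h
      rw [← e] at h
      have := sub_mem h (mem_sup_left h2)
      rw [add_sub_cancel_left] at this
      exact (smul_mem_iff _ hβ).1 this
    exact (pl2 d hd).imp (key _) (Or.imp (key _) (key _))
  have hQ : 3 ≤ Nat.card K := by
    haveI := Fintype.ofFinite K
    rw [Nat.card_eq_fintype_card]
    exact Fintype.two_lt_card_iff.2 ⟨0, 1, -1, zero_ne_one, by simp, hζ1.symm⟩
  have hP : ∀ x : V, ((span K {v} ⊔ span K {x} : Submodule K V) : Set V).ncard ≤
      Nat.card K ^ 2 := by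
    intro x
    rw [← Nat.card_coe_set_eq]
    change Nat.card ↥(span K {v} ⊔ span K {x}) ≤ _
    rw [natCard_eq_pow_finrank (K := K)]
    refine Nat.pow_le_pow_right (by omega) ?_
    have a3 := finrank_add_le_finrank_add_finrank (span K {v}) (span K {x})
    have a4 := finrank_span_le_card (R := K) ({x} : Set V)
    rw [Set.toFinset_singleton, Finset.card_singleton] at a4
    rw [finrank_span_singleton hv] at a3
    omega
  have h1 : (Set.univ : Set V) ⊆ ((span K {v} ⊔ span K {L b v} : Submodule K V) : Set V) ∪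
      ((((span K {v} ⊔ span K {L c v} : Submodule K V) : Set V) \ {0}) ∪
      ((span K {v} ⊔ span K {L c (L b v)} : Submodule K V) : Set V)) := by
    intro w _
    by_cases h0 : w = 0
    · exact Or.inl (h0 ▸ zero_mem _)
    rcases cov w with h | h | h
    exacts [Or.inl h, Or.inr (Or.inl ⟨h, h0⟩), Or.inr (Or.inr h)]
  have h2 := (Set.ncard_le_ncard h1 (Set.toFinite _)).trans ((Set.ncard_union_le _ _).trans
    (Nat.add_le_add_left (Set.ncard_union_le _ _) _))
  rw [Set.ncard_univ, natCard_eq_pow_finrank (K := K),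
    Set.ncard_sdiff_singleton_of_mem (by exact zero_mem _)] at h2
  have h3 := hP (L b v)
  have h4 := hP (L c v)
  have h5 := hP (L c (L b v))
  have h6 := Nat.pow_le_pow_right (show 0 < Nat.card K by omega) A.h3
  have h7 : 3 * Nat.card K ^ 2 ≤ Nat.card K ^ 3 := by
    rw [pow_succ' _ 2]; exact Nat.mul_le_mul_right _ hQ
  have h8 : 0 < ((span K {v} ⊔ span K {L c v} : Submodule K V) : Set V).ncard :=
    (Set.ncard_pos (Set.toFinite _)).2 ⟨0, zero_mem _⟩
  omega

end NA

theorem exists_abelian_irr [Finite K] [Finite V] [Finite Y] (hs : Group.IsSolvable Y)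
    (hL : Function.Injective L) (h3 : 3 ≤ finrank K V) (h : TS L) :
    ∃ B : Subgroup Y, B.Normal ∧ (∀ a ∈ B, ∀ b ∈ B, a * b = b * a) ∧
      ∀ U : Submodule K V, (∀ b ∈ B, ∀ u ∈ U, L b u ∈ U) → U = ⊥ ∨ U = ⊤ := by
  haveI : Nontrivial V := finrank_pos_iff.1 (lt_of_lt_of_le (by norm_num) h3)
  have hZ : scSub L ≠ ⊤ := by
    intro hZ
    obtain ⟨v, hv⟩ := exists_ne (0 : V)
    obtain ⟨w, hw⟩ : ∃ w, w ∉ span K {v} := by
      by_contra h
      push Not at h
      have : span K {v} = ⊤ := eq_top_iff.2 fun w _ => h w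
      have h1 := finrank_span_singleton (K := K) hv
      rw [this, finrank_top] at h1
      omega
    have hw0 : w ≠ 0 := fun e => hw (e ▸ zero_mem _)
    obtain ⟨y, hy⟩ := h (span K {v}) (span K {w}) (by
      rw [finrank_span_singleton hv, finrank_span_singleton hw0])
    obtain ⟨c, hc⟩ : y ∈ scSub L := hZ ▸ Subgroup.mem_top y
    obtain ⟨u, hu, e⟩ : w ∈ (span K {v}).map (L y) := hy ▸ mem_span_singleton_self w
    rw [hc] at e
    exact hw (e ▸ smul_mem _ c hu)
  haveI : Nontrivial (Y ⧸ scSub L) := QuotientGroup.nontrivial_iff.2 hZ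
  obtain ⟨M, hM⟩ := exists_isMinNormal (G := Y ⧸ scSub L)
  obtain ⟨q, hq, hE⟩ := hM.exists_isElementaryAbelian inferInstance
  haveI := hM.1
  let B := M.comap (QuotientGroup.mk' (scSub L))
  have hcen : ∀ z, Sc L z → ∀ y, z * y = y * z := by
    rintro z ⟨c, hc⟩ y
    apply hL
    rw [map_mul, map_mul, hc, smul_mul_assoc, mul_smul_comm, one_mul, mul_one]
  obtain ⟨b, hb, hbs⟩ : ∃ b ∈ B, ¬ Sc L b := by
    obtain ⟨⟨m, hm⟩, hm1⟩ := (Subgroup.nontrivial_iff_exists_ne_one M).1
      ((Subgroup.nontrivial_iff_ne_bot M).2 hM.2.1) |>.imp (fun x (hx : x ∈ M ∧ x ≠ 1) => hx)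
      |> fun ⟨x, hx⟩ => (⟨⟨x, hx.1⟩, hx.2⟩ : ∃ x : M, (x : Y ⧸ scSub L) ≠ 1)
    obtain ⟨b, rfl⟩ := QuotientGroup.mk_surjective m
    exact ⟨b, hm, fun e => hm1 ((QuotientGroup.eq_one_iff b).2 e)⟩
  by_cases hab : ∀ a ∈ B, ∀ b ∈ B, a * b = b * a
  · refine ⟨B, inferInstance, hab, fun U hU => ?_⟩
    by_contra hn
    push Not at hn
    exact hbs (h.sc_of_inv hn.1 hn.2 hU b hb)
  exfalso
  have hpow : ∀ b ∈ B, Sc L (b ^ q) := fun b hb =>
    (QuotientGroup.eq_one_iff (N := scSub L) _).1 (by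
      rw [QuotientGroup.mk_pow]; exact hE.2 _ hb)
  refine NA.false (B := B) ⟨hq, h, h3, fun a ha c hc => ?_, hpow, fun a ha hs => ?_⟩ hb hbs
  · obtain ⟨ζ, hζ⟩ : Sc L (a * c * (c * a)⁻¹) := (QuotientGroup.eq_one_iff (N := scSub L) _).1 (by
      rw [QuotientGroup.mk_mul, QuotientGroup.mk_inv, mul_inv_eq_one, QuotientGroup.mk_mul,
        QuotientGroup.mk_mul]
      exact congrArg Subtype.val (hE.1.is_comm.comm (⟨_, ha⟩ : M) ⟨_, hc⟩))
    have h1 : L a * L c = ζ • (L c * L a) := by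
      rw [← map_mul, ← map_mul, ← one_mul (L (c * a)), ← smul_mul_assoc, ← hζ, ← map_mul]
      congr 1; group
    refine ⟨ζ, ?_, h1⟩
    have h2 : ∀ m : ℕ, L a ^ m * L c = ζ ^ m • (L c * L a ^ m) := by
      intro m
      induction m with
      | zero => simp
      | succ m ih =>
        rw [pow_succ', mul_assoc, ih, mul_smul_comm, ← mul_assoc, h1, smul_mul_assoc, smul_smul,
          mul_assoc, pow_succ]
    have h4 := h2 q
    rw [← map_pow, ← map_mul, ← map_mul, hcen _ (hpow a ha)] at h4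
    obtain ⟨v, hv⟩ := exists_ne (0 : V)
    have h5 : (ζ ^ q - 1) • L (c * a ^ q) v = 0 := by
      rw [sub_smul, one_smul, sub_eq_zero]
      exact (congrArg (fun f : End K V => f v) h4).symm
    exact sub_eq_zero.1 ((smul_eq_zero.1 h5).resolve_right (L_ne L _ hv))
  · by_contra hn
    push Not at hn
    let R := B ⊓ Subgroup.centralizer (B : Set Y)
    have haR : a ∈ R := Subgroup.mem_inf.2 ⟨ha, fun c hc => hL (by
      rw [map_mul, map_mul, hn c hc])⟩
    haveI : (R.map (QuotientGroup.mk' (scSub L))).Normal :=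
      Subgroup.Normal.map inferInstance _ (QuotientGroup.mk'_surjective _)
    rcases hM.inf_eq_bot_or_le (R.map (QuotientGroup.mk' (scSub L))) with h1 | h1
    · have : (a : Y ⧸ scSub L) ∈ M ⊓ R.map (QuotientGroup.mk' (scSub L)) :=
        Subgroup.mem_inf.2 ⟨ha, a, haR, rfl⟩
      rw [h1, Subgroup.mem_bot] at this
      exact hs ((QuotientGroup.eq_one_iff a).1 this)
    · apply hab
      intro x hx y hy
      obtain ⟨r, hr, e⟩ := h1 hx
      have h2 : Sc L (r⁻¹ * x) := QuotientGroup.eq.1 e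
      have h4 := hcen _ h2 y
      have h5 := (Subgroup.mem_inf.1 hr).2 y hy
      calc x * y = r * (r⁻¹ * x * y) := by group
        _ = r * y * (r⁻¹ * x) := by rw [h4]; group
        _ = y * x := by rw [← h5]; group

end CfsgLib.H6L
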