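import Cfsg.Agent.Lib.H6Lin
import Cfsg.Agent.Lib.Suz.Huppert
import Cfsg.Agent.Lib.Suz.FieldAut
import Cfsg.Agent.Lib.CoprimeGen

/-! Solvable automorphism groups of elementary abelian groups transitive on subgroups of each
order. -/

set_option autoImplicit false
set_option linter.unusedSectionVars false
set_option linter.style.haveILetI false

namespace CfsgLib.H6L

open Subgroup CfsgLib.Suz

variable {Y V : Type*} [Group Y] [Finite Y] [CommGroup V] [Finite V] {φ : Y →* MulAut V}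
  {p : ℕ} [hp : Fact p.Prime]

/-- transitive on subgroups of each order -/
def TSg (φ : Y →* MulAut V) : Prop :=
  ∀ U W : Subgroup V, Nat.card U = Nat.card W → ∃ y, U.map (φ y).toMonoidHom = W

/-- acts as a power map -/
def Pw (φ : Y →* MulAut V) (y : Y) : Prop := ∃ k : ℕ, ∀ v, φ y v = v ^ k

/-- the linear representation -/
def lin (p : ℕ) [Module (ZMod p) (Additive V)] (φ : Y →* MulAut V) :
    Y →* Module.End (ZMod p) (Additive V) where
  toFun y := (BurnsideBasis.elemAbAutEquiv p V (φ y)).toLinearMap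
  map_one' := by rw [map_one, map_one]; rfl
  map_mul' a b := by rw [map_mul, map_mul]; rfl

section Mod

variable [Module (ZMod p) (Additive V)]

theorem lin_apply (y : Y) (v : V) : lin p φ y (Additive.ofMul v) = Additive.ofMul (φ y v) := rfl

theorem lin_injective (hφ : Function.Injective φ) : Function.Injective (lin p φ) := by
  intro a b h
  apply hφ
  ext v
  exact congrArg (fun f : Module.End (ZMod p) (Additive V) => f (Additive.ofMul v)) h

/-- submodule to subgroup -/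
def toSub (W : Submodule (ZMod p) (Additive V)) : Subgroup V :=
  AddSubgroup.toSubgroup' W.toAddSubgroup

/-- subgroup to submodule -/
def ofSub (p : ℕ) [Module (ZMod p) (Additive V)] (U : Subgroup V) :
    Submodule (ZMod p) (Additive V) :=
  AddSubgroup.toZModSubmodule p (Subgroup.toAddSubgroup U)

theorem mem_toSub {W : Submodule (ZMod p) (Additive V)} {v : V} :
    v ∈ toSub W ↔ Additive.ofMul v ∈ W := Iff.rfl

theorem mem_ofSub {U : Subgroup V} {v : V} : Additive.ofMul v ∈ ofSub p U ↔ v ∈ U := Iff.rfl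

theorem TSg.ts (h : TSg φ) : TS (lin p φ) := by
  intro U W hUW
  obtain ⟨y, hy⟩ := h (toSub U) (toSub W) (by
    change Nat.card U = Nat.card W
    rw [Module.natCard_eq_pow_finrank (K := ZMod p) (V := U),
      Module.natCard_eq_pow_finrank (K := ZMod p) (V := W), hUW])
  refine ⟨y, ?_⟩
  ext w
  exact SetLike.ext_iff.1 hy (Additive.toMul w)

theorem pw_of_sc {y : Y} (h : Sc (lin p φ) y) : Pw φ y := by
  obtain ⟨c, hc⟩ := h
  refine ⟨c.val, fun v => ?_⟩
  have := congrArg (fun f : Module.End (ZMod p) (Additive V) => f (Additive.ofMul v)) hc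
  simp only [lin_apply, LinearMap.smul_apply, Module.End.one_apply] at this
  rw [← ZMod.natCast_zmod_val c, Nat.cast_smul_eq_nsmul] at this
  exact this

theorem ofSub_ne_bot {U : Subgroup V} (h : U ≠ ⊥) : ofSub p U ≠ ⊥ := fun e => h (by
  rw [eq_bot_iff]
  intro v hv
  have : Additive.ofMul v ∈ ofSub p U := hv
  rw [e] at this
  exact this)

theorem ofSub_ne_top {U : Subgroup V} (h : U ≠ ⊤) : ofSub p U ≠ ⊤ := fun e => h (by
  rw [eq_top_iff]
  intro v _
  have : Additive.ofMul v ∈ ofSub p U := e ▸ Submodule.mem_top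
  exact this)

end Mod

theorem TSg.pw_of_inv (h : TSg φ) (hV : ∀ v : V, v ^ p = 1) {N : Subgroup Y} [N.Normal]
    {U : Subgroup V} (h1 : U ≠ ⊥) (h2 : U ≠ ⊤) (hU : ∀ b ∈ N, ∀ u ∈ U, φ b u ∈ U) :
    ∀ b ∈ N, Pw φ b := by
  obtain ⟨inst⟩ := BurnsideBasis.nonempty_elemAbModule hV
  exact fun b hb => pw_of_sc ((h.ts (p := p)).sc_of_inv (ofSub_ne_bot h1) (ofSub_ne_top h2)
    (fun b hb u hu => hU b hb _ hu) b hb)

theorem field_of_cyclic [Nontrivial V] (hV : ∀ v : V, v ^ p = 1) {ξ : Y}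
    (hN : ∀ y, y * ξ * y⁻¹ ∈ zpowers ξ)
    (hirr : ∀ U : Subgroup V, (∀ u ∈ U, φ ξ u ∈ U) → U = ⊥ ∨ U = ⊤) :
    ∃ (F : Type) (_ : Field F) (_ : Fintype F) (_ : CharP F p) (e : V → F),
      Function.Bijective e ∧ (∀ v w, e (v * w) = e v + e w) ∧
      (∀ y, ∃ (c : F) (j : ℕ), c ≠ 0 ∧ ∀ v, e (φ y v) = c * e v ^ p ^ j) := by
  obtain ⟨inst⟩ := BurnsideBasis.nonempty_elemAbModule hV
  set L := lin p φ with hL
  have hLa : ∀ y (v : V), L y (Additive.ofMul v) = Additive.ofMul (φ y v) := fun _ _ => rfl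
  have hT : ∀ W : Submodule (ZMod p) (Additive V), (∀ w ∈ W, L ξ w ∈ W) → W = ⊥ ∨ W = ⊤ := by
    intro W hW
    rcases hirr (toSub W) (fun u hu => hW _ hu) with h | h
    · left
      rw [eq_bot_iff]
      intro w hw
      have : Additive.toMul w ∈ toSub W := hw
      rw [h, mem_bot] at this
      exact this
    · right
      rw [eq_top_iff]
      intro w _
      have : Additive.toMul w ∈ toSub W := h ▸ mem_top _
      exact this
  obtain ⟨E, _, _, t, ψ, hψt, hgen, hbij⟩ := Chr.exists_field_of_irr hT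
  obtain ⟨-, hpow⟩ := Chr.irr_pow_card_pow hT
  obtain ⟨v₀, hv₀⟩ := exists_ne (0 : Additive V)
  set f : E ≃ Additive V := Equiv.ofBijective _ (hbij v₀ hv₀) with hf
  have hfa : ∀ x, f x = ψ x v₀ := fun _ => rfl
  have : Finite E := Finite.of_equiv _ f.symm
  have hE : CharP E p := charP_of_injective_algebraMap (algebraMap (ZMod p) E).injective p
  have hmul : ∀ x z, f (x * z) = ψ x (f z) := by
    intro x z
    rw [hfa, hfa, map_mul]; rfl
  have hsemi : ∀ y, ∃ j : ℕ, ∀ x, L y * ψ x = ψ (x ^ p ^ j) * L y := by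
    intro y
    have h1 := hN y
    rw [← mem_powers_iff_mem_zpowers] at h1
    obtain ⟨k, hk⟩ := h1
    simp only at hk
    have h2 : L y * L ξ = L ξ ^ k * L y := by
      rw [← map_pow, hk, ← map_mul, ← map_mul]
      congr 1
      group
    obtain ⟨j, hj⟩ := hpow (L y) k (L_inj L y) h2
    rw [hj, Nat.card_zmod, ← hψt, ← map_pow] at h2
    refine ⟨j, fun x => ?_⟩
    obtain ⟨p, rfl⟩ := hgen x
    induction p using Polynomial.induction_on with
    | C a =>
      rw [Polynomial.aeval_C, ← map_pow, ZMod.pow_card_pow, AlgHom.commutes]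
      exact (Algebra.commutes a _).symm
    | add p q hp hq =>
      rw [map_add, add_pow_char_pow, map_add, map_add, mul_add, add_mul, hp, hq]
    | monomial n a ih =>
      rw [pow_succ, ← mul_assoc, map_mul, Polynomial.aeval_X, map_mul, ← mul_assoc, ih, mul_pow,
        mul_assoc, h2, ← mul_pow, mul_pow, map_mul ψ, mul_assoc]
  refine ⟨E, inferInstance, Fintype.ofFinite E, hE, fun v => f.symm (Additive.ofMul v),
    f.symm.bijective.comp Additive.ofMul.bijective, fun v w => ?_, fun y => ?_⟩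
  · apply f.injective
    rw [Equiv.apply_symm_apply, hfa, map_add, LinearMap.add_apply, ← hfa, ← hfa,
      Equiv.apply_symm_apply, Equiv.apply_symm_apply, ofMul_mul]
  · obtain ⟨j, hj⟩ := hsemi y
    refine ⟨f.symm (L y v₀), j, fun h => ?_, fun v => ?_⟩
    · have h1 := congrArg f h
      rw [Equiv.apply_symm_apply, hfa, map_zero, LinearMap.zero_apply] at h1
      exact L_ne L y hv₀ h1
    · apply f.injective
      rw [Equiv.apply_symm_apply, mul_comm, hmul, Equiv.apply_symm_apply, ← Module.End.mul_apply,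
        ← hj, Module.End.mul_apply, ← hfa, Equiv.apply_symm_apply, hLa]

theorem TSg.exists_galois (h : TSg φ) (hφ : Function.Injective φ) (hs : Group.IsSolvable Y)
    (hV : ∀ v : V, v ^ p = 1) {n : ℕ} (hn : Nat.card V = p ^ n) (h3 : 3 ≤ n) :
    ∃ e : V → GaloisField p n, Function.Bijective e ∧ (∀ v w, e (v * w) = e v + e w) ∧
      (∀ y, ∃ (c : GaloisField p n) (σ : GaloisField p n ≃+* GaloisField p n), c ≠ 0 ∧
        ∀ v, e (φ y v) = c * σ (e v)) := by
  haveI : Nontrivial V := Finite.one_lt_card_iff_nontrivial.1 (by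
    rw [hn]; exact Nat.one_lt_pow (by omega) hp.out.one_lt)
  obtain ⟨inst⟩ := BurnsideBasis.nonempty_elemAbModule hV
  obtain ⟨B, hB, hc, hirr⟩ := exists_abelian_irr hs (lin_injective (p := p) hφ)
    (by rw [BurnsideBasis.elemAb_finrank hn]; exact h3) h.ts
  have hirr' : ∀ U : Subgroup V, (∀ b ∈ B, ∀ u ∈ U, φ b u ∈ U) → U = ⊥ ∨ U = ⊤ := by
    intro U hU
    by_contra hn
    push Not at hn
    rcases hirr (ofSub p U) (fun b hb u hu => hU b hb _ hu) with h | h
    exacts [ofSub_ne_bot hn.1 h, ofSub_ne_top hn.2 h]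
  have hcyc : IsCyclic B := by
    have h1 := Cop.isCyclic_quotient_ker_of_irreducible (A := B) (V := V)
      ⟨⟨fun a b => Subtype.ext (hc a a.2 b b.2)⟩⟩ inferInstance (φ.comp B.subtype)
      (fun W hW => hirr' W fun b hb => hW ⟨b, hb⟩)
    have h2 : Function.Injective (φ.comp B.subtype) := hφ.comp B.subtype_injective
    exact isCyclic_of_surjective ((QuotientGroup.quotientKerEquivRange (φ.comp B.subtype)).trans
      (MonoidHom.ofInjective h2).symm) (MulEquiv.surjective _)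
  obtain ⟨ξ, hξ⟩ := (Subgroup.isCyclic_iff_exists_zpowers_eq_top _).1 hcyc
  obtain ⟨F, _, _, _, e, h1, h2, h3⟩ := field_of_cyclic (φ := φ) hV (ξ := ξ)
    (fun y => hξ ▸ hB.conj_mem _ (hξ ▸ mem_zpowers ξ) y) (fun U hU => hirr' U (by
      intro g hg u hu
      rw [← hξ, ← mem_powers_iff_mem_zpowers] at hg
      obtain ⟨k, rfl⟩ := hg
      induction k with
      | zero => simpa using hu
      | succ k ih =>
        simp only at ih ⊢
        rw [pow_succ', act_mul]
        exact hU _ ih))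
  have hF : Nat.card F = p ^ n := by rw [← hn]; exact (Nat.card_eq_of_bijective e h1).symm
  let _ : Algebra (ZMod p) F := ZMod.algebra F p
  let ι : F ≃+* GaloisField p n := (GaloisField.algEquivGaloisField p n hF).toRingEquiv
  refine ⟨ι ∘ e, ι.bijective.comp h1, fun v w => by simp [h2], fun y => ?_⟩
  obtain ⟨c, j, hc, h⟩ := h3 y
  refine ⟨ι c, iterateFrobeniusEquiv _ p j, by simpa using hc, fun v => ?_⟩
  simp [h, iterateFrobenius_def]

theorem isCyclic_ringAut {F : Type*} [Field F] [Finite F] [CharP F p] {n : ℕ}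
    (hF : Nat.card F = p ^ n) : IsCyclic (F ≃+* F) := by
  refine ⟨frobeniusEquiv F p, fun σ => ?_⟩
  obtain ⟨j, -, hj⟩ := exists_frob_pow hF σ
  refine ⟨j, ?_⟩
  ext x
  simp only [zpow_natCast]
  rw [hj]
  clear hj
  induction j with
  | zero => simp
  | succ j ih =>
    rw [pow_succ', RingAut.mul_apply, ih, pow_succ, pow_mul]
    rfl

theorem exists_gen_of_hom {S A : Type*} [Group S] [Group A] [IsCyclic A] (χ : S →* A) :
    ∃ s0 : S, ∀ s : S, ∃ j : ℤ, χ ((s0 ^ j)⁻¹ * s) = 1 := by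
  obtain ⟨⟨_, k, rfl⟩, hk⟩ := IsCyclic.exists_generator (α := χ.range)
  refine ⟨k, fun s => ?_⟩
  obtain ⟨j, hj⟩ := hk ⟨_, s, rfl⟩
  have hj' : χ k ^ j = χ s := congrArg Subtype.val hj
  exact ⟨j, by rw [map_mul, map_inv, map_zpow, hj', inv_mul_cancel]⟩

theorem eig_hom {K W : Type*} [Field K] [AddCommGroup W] [Module K W] {S : Type*} [Group S]
    (L : S →* Module.End K W) {u : W} (hu : u ≠ 0) (h : ∀ s, L s u ∈ Submodule.span K {u}) :
    ∃ α : S →* Kˣ, ∀ s, L s u = (α s : K) • u := by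
  have : ∀ s, ∃ a : Kˣ, L s u = (a : K) • u := fun s => by
    obtain ⟨a, ha⟩ := Submodule.mem_span_singleton.1 (h s)
    refine ⟨Units.mk0 a ?_, ha.symm⟩
    rintro rfl
    exact L_ne L s hu (by rw [← ha, zero_smul])
  choose α hα using this
  refine ⟨MonoidHom.mk' α fun a b => Units.ext (smul_left_injective K hu ?_), hα⟩
  simp only
  rw [← hα, map_mul, Module.End.mul_apply, hα b, map_smul, hα a, smul_smul, Units.val_mul,
    mul_comm]

theorem TSg.stab_cyc (h : TSg φ) (hφ : Function.Injective φ) (hs : Group.IsSolvable Y)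
    (hV : ∀ v : V, v ^ p = 1) (hcop : (Nat.card Y).Coprime p) {U : Subgroup V} (h1 : U ≠ ⊥)
    (h2 : U ≠ ⊤) {S : Subgroup Y} (hS : ∀ s ∈ S, ∀ u ∈ U, φ s u ∈ U) :
    ∃ s0 ∈ S, ∀ s ∈ S, ∃ j : ℤ, Pw φ ((s0 ^ j)⁻¹ * s) := by
  have hVp : IsPGroup p V := fun v => ⟨1, by rw [pow_one, hV]⟩
  obtain ⟨n, hn⟩ := hVp.exists_card_eq
  by_cases h3 : 3 ≤ n
  · obtain ⟨e, e1, e2, e3⟩ := h.exists_galois hφ hs hV hn h3
    choose c σ hc he using e3
    have hF := GaloisField.card p n (by omega)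
    haveI := isCyclic_ringAut hF
    have hmul : ∀ y z x, c (y * z) * σ (y * z) x = c y * σ y (c z) * σ y (σ z x) := by
      intro y z x
      obtain ⟨v, rfl⟩ := e1.2 x
      rw [← he, act_mul, he, he, map_mul, mul_assoc]
    let χ : Y →* (GaloisField p n ≃+* GaloisField p n) := MonoidHom.mk' σ fun y z => by
      ext x
      have a1 := hmul y z 1
      simp only [map_one, mul_one] at a1
      have a2 := hmul y z x
      rw [← a1] at a2
      exact mul_left_cancel₀ (hc _) a2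
    obtain ⟨s0, hs0⟩ := exists_gen_of_hom (χ.comp S.subtype)
    refine ⟨s0, s0.2, fun s hs => ?_⟩
    obtain ⟨j, hj⟩ := hs0 ⟨s, hs⟩
    refine ⟨j, ?_⟩
    have hm : ((s0 : Y) ^ j)⁻¹ * s ∈ S := mul_mem (inv_mem (zpow_mem s0.2 j)) hs
    have hj' : σ (((s0 : Y) ^ j)⁻¹ * s) = 1 := hj
    generalize ((s0 : Y) ^ j)⁻¹ * s = y at hm hj'
    have hy : ∀ v, e (φ y v) = c y * e v := fun v => by rw [he, hj']; rfl
    have hyk : ∀ (k : ℕ) v, e (φ (y ^ k) v) = c y ^ k * e v := by
      intro k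
      induction k with
      | zero => simp
      | succ k ih => intro v; rw [pow_succ', act_mul, hy, ih, pow_succ', mul_assoc]
    haveI : (zpowers y).Normal := by
      refine ⟨?_⟩
      rintro _ ⟨k, rfl⟩ g
      simp only
      rw [← conj_zpow]
      refine zpow_mem ?_ k
      obtain ⟨i, -, hi⟩ := exists_frob_pow hF (σ g)
      refine ⟨(p ^ i : ℕ), hφ ?_⟩
      ext v
      apply e1.1
      simp only [zpow_natCast]
      obtain ⟨w, rfl⟩ := (φ g).surjective v
      rw [hyk, act_mul, act_mul, act_inv_act, he g, he g, hy, map_mul, hi (c y)]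
      ring
    exact h.pw_of_inv hV h1 h2 (fun b hb => hS b (zpowers_le.2 hm hb)) y (mem_zpowers y)
  obtain ⟨W, hW, w1, w2⟩ := CopAut.maschke (φ := φ.comp S.subtype) hV
    (Nat.Coprime.coprime_dvd_left (card_subgroup_dvd_card S) hcop) (U := U)
    (fun a u hu => hS a a.2 u hu)
  have hcard : Nat.card U * Nat.card W = p ^ n := by
    rw [← hn]
    exact (isComplement'_of_disjoint_and_mul_eq_univ (disjoint_iff.2 w1) (by
      rw [← Subgroup.mul_normal, w2]; rfl)).card_mul_card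
  have hW1 : W ≠ ⊥ := fun e => h2 (by rw [← w2, e, sup_bot_eq])
  obtain ⟨a, ha⟩ := (hVp.to_subgroup U).exists_card_eq
  obtain ⟨b, hb⟩ := (hVp.to_subgroup W).exists_card_eq
  have ha0 : a ≠ 0 := by
    rintro rfl
    exact h1 (card_eq_one.1 ha)
  have hb0 : b ≠ 0 := by
    rintro rfl
    exact hW1 (card_eq_one.1 hb)
  rw [ha, hb, ← pow_add] at hcard
  have hab := Nat.pow_right_injective hp.out.two_le hcard
  have gen : ∀ X : Subgroup V, Nat.card X = p ^ 1 → ∃ x : V, x ≠ 1 ∧ zpowers x = X := by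
    intro X hX
    haveI := isCyclic_of_prime_card (α := X) (hX.trans (pow_one p))
    obtain ⟨x, hx⟩ := (Subgroup.isCyclic_iff_exists_zpowers_eq_top X).1 inferInstance
    refine ⟨x, ?_, hx⟩
    rintro rfl
    rw [← hx, zpowers_one_eq_bot, card_bot, pow_one] at hX
    exact hp.out.one_lt.ne hX
  obtain ⟨u, hu, rfl⟩ := gen U (by rw [ha]; congr 1; omega)
  obtain ⟨w, hw, rfl⟩ := gen W (by rw [hb]; congr 1; omega)
  obtain ⟨inst⟩ := BurnsideBasis.nonempty_elemAbModule hV
  have sp : ∀ x y : V, y ∈ zpowers x →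
      Additive.ofMul y ∈ Submodule.span (ZMod p) {Additive.ofMul x} := by
    intro x y hy
    rw [← Set.image_singleton, BurnsideBasis.elemAb_mem_span_iff, ← zpowers_eq_closure]
    exact hy
  obtain ⟨α, hα⟩ := eig_hom (lin p (φ.comp S.subtype)) (u := Additive.ofMul u) hu
    (fun s => sp _ _ (hS s s.2 u (mem_zpowers u)))
  obtain ⟨β, hβ⟩ := eig_hom (lin p (φ.comp S.subtype)) (u := Additive.ofMul w) hw
    (fun s => sp _ _ (hW s w (mem_zpowers w)))
  obtain ⟨s0, hs0⟩ := exists_gen_of_hom (α * β⁻¹)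
  refine ⟨s0, s0.2, fun s hs => ?_⟩
  obtain ⟨j, hj⟩ := hs0 ⟨s, hs⟩
  refine ⟨j, ?_⟩
  have : Pw (φ.comp S.subtype) ((s0 ^ j)⁻¹ * ⟨s, hs⟩) := by
    generalize (s0 ^ j)⁻¹ * ⟨s, hs⟩ = y at hj
    have hj' : α y = β y := mul_inv_eq_one.1 hj
    refine pw_of_sc (p := p) ⟨α y, ?_⟩
    ext v
    obtain ⟨_, ⟨i, rfl⟩, _, ⟨k, rfl⟩, e⟩ :=
      Subgroup.mem_sup.1 (w2 ▸ mem_top (Additive.toMul v) : Additive.toMul v ∈ zpowers u ⊔ zpowers w)
    have e' : v = i • Additive.ofMul u + k • Additive.ofMul w := (congrArg Additive.ofMul e).symm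
    rw [e', map_add, map_zsmul, map_zsmul, hα, hβ, ← hj']
    simp [smul_comm i, smul_comm k]
  exact this

/-- the field version of transitivity on planes -/
theorem field_eq_three {F : Type*} [Field F] [Finite F] [CharP F p] (hp2 : p ≠ 2) {n : ℕ}
    (hF : Nat.card F = p ^ n) (h3 : 3 ≤ n)
    (h : ∀ A B : AddSubgroup F, Nat.card A = Nat.card B →
      ∃ (c : F) (σ : F ≃+* F), ∀ b ∈ B, ∃ a ∈ A, b = c * σ a) : n = 3 := by
  letI : Algebra (ZMod p) F := ZMod.algebra F p
  have hp3 : 3 ≤ p := by have := hp.out.two_le; omega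
  let pl : F → (ZMod p × ZMod p →+ F) := fun x => AddMonoidHom.mk'
    (fun a => algebraMap _ F a.1 + algebraMap _ F a.2 * x) (fun a b => by
      simp only [Prod.fst_add, Prod.snd_add, map_add]; ring)
  have hpl : ∀ x a, pl x a = algebraMap _ F a.1 + algebraMap _ F a.2 * x := fun _ _ => rfl
  have hfix : ∀ a : ZMod p, algebraMap _ F a ^ p = algebraMap _ F a := fun a => by
    rw [← map_pow, ZMod.pow_card]
  have hcard : ∀ x, x ^ p ≠ x → Nat.card (pl x).range = p ^ 2 := by
    intro x hx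
    have : Function.Injective (pl x) := by
      rw [injective_iff_map_eq_zero]
      intro a ha
      rw [hpl] at ha
      by_cases h0 : a.2 = 0
      · rw [h0, map_zero, zero_mul, add_zero, map_eq_zero] at ha
        exact Prod.ext ha h0
      · exfalso
        apply hx
        have : x = algebraMap _ F (-a.1 * a.2⁻¹) := by
          have h1 : algebraMap _ F a.2 ≠ 0 := by simpa using h0
          rw [map_mul, map_neg, map_inv₀, eq_mul_inv_iff_mul_eq₀ h1]
          linear_combination ha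
        rw [this, hfix]
    rw [← Nat.card_congr (AddMonoidHom.ofInjective this).toEquiv, Nat.card_prod, Nat.card_zmod,
      pow_two]
  have key : ∀ x z : F, x ^ p ≠ x → z ^ p ≠ z →
      ∃ (σ : F ≃+* F) (a b : ZMod p × ZMod p), pl x a ≠ 0 ∧ z = σ (pl x b / pl x a) := by
    intro x z hx hz
    obtain ⟨c, σ, hc⟩ := h (pl x).range (pl z).range (by rw [hcard x hx, hcard z hz])
    obtain ⟨_, ⟨a, rfl⟩, e1⟩ := hc 1 ⟨(1, 0), by simp [hpl]⟩
    obtain ⟨_, ⟨b, rfl⟩, e2⟩ := hc z ⟨(0, 1), by simp [hpl]⟩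
    have h0 : σ (pl x a) ≠ 0 := fun e => by simp [e] at e1
    refine ⟨σ, a, b, fun e => h0 (by rw [e, map_zero]), ?_⟩
    rw [map_div₀, eq_div_iff h0, e2, mul_assoc, mul_comm (σ _), ← mul_assoc, ← e1, one_mul]
  obtain ⟨g, hg⟩ := IsCyclic.exists_generator (α := Fˣ)
  have hog : orderOf g = p ^ n - 1 := by
    rw [orderOf_eq_card_of_forall_mem_zpowers hg, Nat.card_units, hF]
  have hgd : ∀ a b : ℕ, ((g : F) ^ a) ^ (b + 1) = (g : F) ^ a → p ^ n - 1 ∣ a * b := by
    intro a b e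
    rw [← hog, orderOf_dvd_iff_pow_eq_one, pow_mul]
    ext
    rw [pow_succ] at e
    simpa using mul_right_cancel₀ (pow_ne_zero a g.ne_zero) (e.trans (one_mul _).symm)
  have hlt : ∀ m, m < n → p ^ m - 1 < p ^ n - 1 := fun m hm =>
    Nat.sub_lt_sub_right (Nat.one_le_pow _ _ hp.out.pos) (Nat.pow_lt_pow_right hp.out.one_lt hm)
  have hgp : (g : F) ^ p ≠ g := fun e => by
    have := hgd 1 (p - 1) (by rw [pow_one, Nat.sub_add_cancel hp.out.pos, e])
    have h1 := Nat.le_of_dvd (by omega) this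
    have h2 := hlt 1 (by omega)
    rw [pow_one] at h2
    omega
  by_contra hn
  by_cases h4 : n = 4
  · subst h4
    have e4 : p ^ 4 - 1 = (p ^ 2 + 1) * (p ^ 2 - 1) := by
      rw [← Nat.sq_sub_sq, ← pow_mul, one_pow]
    have hp2' : 0 < p ^ 2 - 1 := Nat.sub_pos_of_lt (Nat.one_lt_pow two_ne_zero hp.out.one_lt)
    have hx : ((g : F) ^ (p ^ 2 + 1)) ^ p ≠ (g : F) ^ (p ^ 2 + 1) := fun e => by
      have := hgd (p ^ 2 + 1) (p - 1) (by rw [Nat.sub_add_cancel hp.out.pos, e])
      rw [e4] at this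
      have h1 := Nat.le_of_dvd (by omega) (Nat.dvd_of_mul_dvd_mul_left (by positivity) this)
      have h2 : p < p ^ 2 := by nlinarith
      omega
    have hx2 : ((g : F) ^ (p ^ 2 + 1)) ^ p ^ 2 = (g : F) ^ (p ^ 2 + 1) := by
      have : ((g : F) ^ (p ^ 2 + 1)) ^ (p ^ 2 - 1) = 1 := by
        rw [← pow_mul, ← e4, ← hog, ← Units.val_pow_eq_pow_val, pow_orderOf_eq_one, Units.val_one]
      rw [show p ^ 2 = (p ^ 2 - 1) + 1 by omega, pow_succ _ (p ^ 2 - 1),
        show p ^ 2 - 1 + 1 = p ^ 2 by omega, this, one_mul]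
    generalize (g : F) ^ (p ^ 2 + 1) = x at hx hx2
    have hfix2 : ∀ a, pl x a ^ p ^ 2 = pl x a := fun a => by
      rw [hpl, add_pow_char_pow, mul_pow, hx2, pow_two, pow_mul, pow_mul, hfix, hfix, hfix, hfix]
    obtain ⟨σ, a, b, -, e⟩ := key x g hx hgp
    have e' : (g : F) ^ p ^ 2 = g := by rw [e, ← map_pow, div_pow, hfix2, hfix2]
    have := hgd 1 (p ^ 2 - 1) (by rw [pow_one, show p ^ 2 - 1 + 1 = p ^ 2 by omega, e'])
    have h1 := Nat.le_of_dvd (by omega) this
    have h2 := hlt 2 (by omega)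
    omega
  let Φ : (F ≃+* F) × (ZMod p × ZMod p) × Option (ZMod p) → F := fun t =>
    t.1 (pl g t.2.1 / t.2.2.elim 1 fun a => algebraMap _ F a + g)
  have hΦ : Function.Surjective Φ := by
    intro z
    by_cases hz : z ^ p = z
    · obtain ⟨a, ha⟩ : ∃ a : ZMod p, algebraMap _ F a = z := by
        have := (Subfield.mem_bot_iff_pow_eq_self F p (x := z)).2 hz
        obtain ⟨k, hk⟩ := (mem_bot_iff_intCast p F).1 this
        exact ⟨k, by simpa using hk⟩
      exact ⟨(1, (a, 0), none), by simp [Φ, hpl, ha]⟩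
    obtain ⟨σ, a, b, h0, e⟩ := key g z hgp hz
    by_cases h2 : a.2 = 0
    · refine ⟨(σ, (b.1 * a.1⁻¹, b.2 * a.1⁻¹), none), ?_⟩
      rw [e]
      simp only [Φ, hpl, h2, map_zero, zero_mul, add_zero, Option.elim, map_mul, map_inv₀, div_one]
      congr 1
      ring
    · refine ⟨(σ, (b.1 * a.2⁻¹, b.2 * a.2⁻¹), some (a.1 * a.2⁻¹)), ?_⟩
      rw [e]
      have h1 : algebraMap _ F a.2 ≠ 0 := by simpa using h2
      rw [hpl] at h0
      simp only [Φ, hpl, Option.elim, map_mul, map_inv₀]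
      congr 1
      field_simp
  haveI : Finite (F ≃+* F) := Finite.of_injective _ (DFunLike.coe_injective (F := F ≃+* F))
  have h5 := Nat.card_le_card_of_surjective Φ hΦ
  rw [hF, Nat.card_prod, Nat.card_prod, Nat.card_prod, card_ringAut hF, Finite.card_option,
    Nat.card_zmod] at h5
  obtain ⟨m, rfl⟩ : ∃ m, n = m + 5 := ⟨n - 5, by omega⟩
  have h6 : (m + 5) * (p + 1) < p ^ (m + 3) := by
    clear h5 hn h4 hlt hgd hog h3 hF
    induction m with
    | zero =>
      have : 9 * p ≤ p ^ 3 := by nlinarith [Nat.mul_le_mul hp3 hp3]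
      simp only [zero_add]
      omega
    | succ m ih =>
      rw [show m + 1 + 3 = m + 3 + 1 by ring, pow_succ]
      have := Nat.mul_le_mul_left (p ^ (m + 3)) hp3
      have h9 : (m + 1 + 5) * (p + 1) = (m + 5) * (p + 1) + (p + 1) := by ring
      have h10 : p + 1 ≤ (m + 5) * (p + 1) := Nat.le_mul_of_pos_left _ (by omega)
      omega
  have h7 : p ^ (m + 5) = p ^ (m + 3) * (p * p) := by ring
  have h8 := Nat.mul_lt_mul_of_pos_right h6 (show 0 < p * p by positivity)
  nlinarith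

theorem TSg.eq_three (h : TSg φ) (hp2 : p ≠ 2) {n : ℕ} (h3 : 3 ≤ n)
    {e : V → GaloisField p n} (e1 : Function.Bijective e) (e2 : ∀ v w, e (v * w) = e v + e w)
    (e3 : ∀ y, ∃ (c : GaloisField p n) (σ : GaloisField p n ≃+* GaloisField p n), c ≠ 0 ∧
        ∀ v, e (φ y v) = c * σ (e v)) : n = 3 := by
  refine field_eq_three hp2 (GaloisField.card p n (by omega)) h3 fun A B hAB => ?_
  let ε : V →* Multiplicative (GaloisField p n) :=
    MonoidHom.mk' (fun v => Multiplicative.ofAdd (e v)) (fun a b => by rw [e2, ofAdd_add])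
  have hε : Function.Bijective ε := Multiplicative.ofAdd.bijective.comp e1
  have hc : ∀ X : AddSubgroup (GaloisField p n),
      Nat.card ((AddSubgroup.toSubgroup X).comap ε) = Nat.card X := fun X => by
    rw [← card_map_of_injective hε.1, map_comap_eq_self_of_surjective hε.2]
    rfl
  obtain ⟨y, hy⟩ := h ((AddSubgroup.toSubgroup A).comap ε) ((AddSubgroup.toSubgroup B).comap ε)
    (by rw [hc, hc, hAB])
  obtain ⟨c, σ, -, h4⟩ := e3 y
  refine ⟨c, σ, fun b hb => ?_⟩
  obtain ⟨v, rfl⟩ := e1.2 b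
  have : v ∈ (AddSubgroup.toSubgroup B).comap ε := hb
  rw [← hy] at this
  obtain ⟨u, hu, rfl⟩ := this
  exact ⟨e u, hu, h4 u⟩

end CfsgLib.H6L
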