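import Cfsg.Agent.Lib.H9Free

/-! Modules for a Frobenius group `KR` on which the kernel `K` has norm zero. -/

set_option autoImplicit false

namespace CfsgLib.H8Fpf

open Subgroup CfsgLib.H9
open scoped commutatorElement

variable {k : Type*} [Field k] {W : Type*} [AddCommGroup W] [Module k W] {Y : Type*} [Group Y]
  [Finite Y] {ρ : Y →* Module.End k W} {K R : Subgroup Y}

/-- `R` acts semiregularly on `K` -/
structure Semi (K R : Subgroup Y) : Prop where
  norm : R ≤ normalizer (K : Set Y)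
  frob : ∀ r ∈ R, r ≠ 1 → ∀ f ∈ K, r * f = f * r → f = 1

omit [Finite Y] in
theorem Semi.conj (h : Semi K R) {r f : Y} (hr : r ∈ R) (hf : f ∈ K) : r * f * r⁻¹ ∈ K :=
  (mem_normalizer_iff.1 (h.norm hr) f).1 hf

omit [Finite Y] in
theorem Semi.inf (h : Semi K R) (S : Subgroup Y) : Semi (K ⊓ S) (R ⊓ S) :=
  ⟨fun _ hr => inf_normalizer_le_normalizer_inf ⟨h.norm hr.1, le_normalizer hr.2⟩,
    fun r hr h1 f hf => h.frob r hr.1 h1 f hf.1⟩

/-- the partition identity -/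
theorem Semi.card_smul_eq_zero (h : Semi K R) {v : W} (h1 : ∀ r ∈ R, normOp ρ K (ρ r v) = 0)
    (h2 : ∀ f ∈ K, normOp ρ R (ρ f v) = 0) : (Nat.card K : k) • v = 0 := by
  classical
  have := Fintype.ofFinite K
  have := Fintype.ofFinite R
  have e : ∑ f : K, ∑ r : R, ρ (f * r * (f : Y)⁻¹) v = 0 := Finset.sum_eq_zero fun f _ => by
    have := congrArg (ρ f) (h2 _ (inv_mem f.2))
    rw [normOp_eq, LinearMap.sum_apply, map_sum, map_zero] at this
    simpa only [rho_mul_apply] using this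
  rw [Finset.sum_comm, Finset.sum_eq_single 1 (fun r _ hr => ?_) (by simp)] at e
  · simpa [Nat.cast_smul_eq_nsmul] using e
  rw [← h1 r r.2, normOp_eq, LinearMap.sum_apply]
  refine Fintype.sum_bijective (fun f : K => (⟨f * (r * (f : Y)⁻¹ * (r : Y)⁻¹),
    mul_mem f.2 (h.conj r.2 (inv_mem f.2))⟩ : K)) (Finite.injective_iff_bijective.1 fun f g e => ?_)
    _ _ fun f => by rw [← rho_mul_apply]; congr 2; group
  have e' : (f : Y) * (r * (f : Y)⁻¹ * (r : Y)⁻¹) = g * (r * (g : Y)⁻¹ * (r : Y)⁻¹) :=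
    congrArg Subtype.val e
  refine Subtype.ext (inv_mul_eq_one.1 (h.frob r r.2 (fun e => hr (Subtype.ext e)) _
    (mul_mem (inv_mem g.2) f.2) ?_)).symm
  calc (r : Y) * ((g : Y)⁻¹ * f) = (g : Y)⁻¹ * (g * (r * (g : Y)⁻¹ * (r : Y)⁻¹)) * r * f := by group
    _ = _ := by rw [← e']; group

/-- a transversal for the orbits of `R` on `K#` -/
theorem Semi.exists_transversal (h : Semi K R) [Fintype K] [Fintype R] :
    ∃ T : Finset K, ∀ {A : Type _} [AddCommMonoid A] (φ : Y → A), φ 1 = 0 →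
      ∑ r : R, ∑ t ∈ T, φ (r * t * (r : Y)⁻¹) = ∑ f : K, φ f := by
  classical
  let rep : Y → Y := fun f => Classical.epsilon fun g => ∃ r ∈ R, r * f * r⁻¹ = g
  have h1 : ∀ f, ∃ r ∈ R, r * f * r⁻¹ = rep f := fun f =>
    Classical.epsilon_spec (p := fun g => ∃ r ∈ R, r * f * r⁻¹ = g) ⟨f, 1, one_mem _, by group⟩
  have h2 : ∀ r ∈ R, ∀ f, rep (r * f * r⁻¹) = rep f := fun r hr f => by
    refine congrArg Classical.epsilon (funext fun g => propext ⟨?_, ?_⟩)
    · rintro ⟨s, hs, rfl⟩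
      exact ⟨s * r, mul_mem hs hr, by group⟩
    · rintro ⟨s, hs, rfl⟩
      exact ⟨s * r⁻¹, mul_mem hs (inv_mem hr), by group⟩
  refine ⟨Finset.univ.filter fun t => rep t = t ∧ t ≠ 1, fun φ h0 => ?_⟩
  rw [← Finset.sum_product', ← Finset.sum_erase (a := (1 : K)) Finset.univ h0]
  refine Finset.sum_bij (fun x _ => ⟨x.1 * x.2 * (x.1 : Y)⁻¹, h.conj x.1.2 x.2.2⟩)
    (fun x hx => ?_) (fun x hx y hy e => ?_) (fun f hf => ?_) fun _ _ => rfl
  · refine Finset.mem_erase.2 ⟨fun e => (Finset.mem_filter.1 (Finset.mem_product.1 hx).2).2.2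
      (Subtype.ext ?_), Finset.mem_univ _⟩
    simpa using congrArg Subtype.val e
  · obtain ⟨a1, a2⟩ := (Finset.mem_filter.1 (Finset.mem_product.1 hx).2).2
    obtain ⟨b1, -⟩ := (Finset.mem_filter.1 (Finset.mem_product.1 hy).2).2
    have e' : (x.1 : Y) * x.2 * (x.1 : Y)⁻¹ = y.1 * y.2 * (y.1 : Y)⁻¹ := congrArg Subtype.val e
    have e2 : (x.2 : Y) = y.2 := by rw [← a1, ← b1, ← h2 _ x.1.2, e', h2 _ y.1.2]
    refine Prod.ext (Subtype.ext (inv_mul_eq_one.1 ?_).symm) (Subtype.ext e2)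
    by_contra hne
    refine a2 (Subtype.ext (h.frob _ (mul_mem (inv_mem y.1.2) x.1.2) hne _ x.2.2 ?_))
    calc (y.1 : Y)⁻¹ * x.1 * x.2 = (y.1 : Y)⁻¹ * (x.1 * x.2 * (x.1 : Y)⁻¹) * x.1 := by group
      _ = _ := by rw [e', e2]; group
  · obtain ⟨r, hr, e⟩ := h1 f
    refine ⟨(⟨r⁻¹, inv_mem hr⟩, ⟨r * f * r⁻¹, h.conj hr f.2⟩), Finset.mem_product.2
      ⟨Finset.mem_univ _, Finset.mem_filter.2 ⟨Finset.mem_univ _, (h2 r hr f).trans e.symm,
        fun e' => (Finset.mem_erase.1 hf).1 (Subtype.ext ?_)⟩⟩, Subtype.ext (by simp only; group)⟩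
    simpa using congrArg Subtype.val e'

/-- cocycles are coboundaries, up to `|K|` -/
theorem Semi.exists_cobdry (h : Semi K R) (h0 : normOp ρ K = 0) (A : AddSubgroup W)
    (hK : ∀ y ∈ K, ∀ v ∈ A, ρ y v ∈ A) (hR : ∀ y ∈ R, ∀ v ∈ A, ρ y v ∈ A) (c : R → W)
    (hc : ∀ r, c r ∈ A) (hcoc : ∀ a b, c (a * b) = c a + ρ a (c b)) :
    ∃ w ∈ A, ∀ r : R, ρ r w = w + Nat.card K • c r := by
  have := Fintype.ofFinite K
  have := Fintype.ofFinite R
  obtain ⟨T, hT⟩ := h.exists_transversal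
  refine ⟨∑ s : R, ∑ t ∈ T, ρ s (c s⁻¹ - ρ t (c s⁻¹)), sum_mem fun s _ => sum_mem fun t _ =>
    hR _ s.2 _ (sub_mem (hc _) (hK _ t.2 _ (hc _))), fun r => ?_⟩
  have e := hT (fun y => c r - ρ y (c r)) (by simp)
  rw [Finset.sum_sub_distrib, ← LinearMap.sum_apply, ← normOp_eq, h0, LinearMap.zero_apply,
    sub_zero, Finset.sum_const, Finset.card_univ, ← Nat.card_eq_fintype_card] at e
  rw [← e, ← Finset.sum_add_distrib, map_sum]
  refine Fintype.sum_equiv (Equiv.mulLeft r) _ _ fun s => ?_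
  rw [map_sum, ← Finset.sum_add_distrib]
  refine Finset.sum_congr rfl fun t _ => ?_
  have e2 : c s⁻¹ = c (r * s)⁻¹ + ρ ((r * s : R) : Y)⁻¹ (c r) := by
    rw [← coe_inv, ← hcoc]; congr 1; group
  rw [← rho_mul_apply, ← coe_mul, Equiv.coe_mulLeft, e2]
  simp only [map_sub, map_add, rho_apply_inv_apply, rho_mul_apply]
  abel

theorem normOp_inf_stab_weight {Z A : Subgroup Y} {ψ : Y → k} (hA : A ≤ normalizer (Z : Set Y))
    {u : Y} (hu : u ∈ Z) {t : k} (ht : ψ u ≠ t) {w : W} (hw : w ∈ weightSpace ρ Z ψ)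
    (h0 : ρ u (normOp ρ A w) = t • normOp ρ A w) :
    normOp ρ (A ⊓ stabSub ρ (weightSpace ρ Z ψ)) w = 0 := by
  classical
  set S := stabSub ρ (weightSpace ρ Z ψ)
  have := Fintype.ofFinite A
  have := Fintype.ofFinite (A ⊓ S : Subgroup Y)
  have hw' : normOp ρ (A ⊓ S) w ∈ weightSpace ρ Z ψ := by
    rw [normOp_eq, LinearMap.sum_apply]
    exact sum_mem fun a _ => a.2.2 w hw
  have e : normOp ρ A w = normOp ρ (A ⊓ S) w +
      ∑ a ∈ Finset.univ.filter fun a : A => ¬ (a : Y) ∈ S, ρ a w := by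
    rw [normOp_eq, normOp_eq, LinearMap.sum_apply, LinearMap.sum_apply,
      ← Finset.sum_filter_add_sum_filter_not Finset.univ fun a : A => (a : Y) ∈ S]
    congr 1
    symm
    exact Finset.sum_bij (fun a _ => ⟨a, a.2.1⟩) (fun a _ => by simpa using a.2.2)
      (fun a _ b _ h => Subtype.ext (congrArg (fun x : A => (x : Y)) h))
      (fun b hb => ⟨⟨b, b.2, (Finset.mem_filter.1 hb).2⟩, Finset.mem_univ _, rfl⟩)
      fun a _ => rfl
  have := eq_zero_of_sum_weight (ρ := ρ) (Z := Z)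
    (fun (i : Option A) z => i.elim (ψ z) fun a => ψ ((a : Y)⁻¹ * z * a)) none
    (Finset.insertNone (Finset.univ.filter fun a : A => ¬ (a : Y) ∈ S))
    (fun i => i.elim ((ψ u - t) • normOp ρ (A ⊓ S) w)
      fun a => (ψ ((a : Y)⁻¹ * u * a) - t) • ρ a w)
    (by
      rintro (_ | a) -
      · exact Submodule.smul_mem _ _ hw'
      · exact Submodule.smul_mem _ _ (rho_mem_weightSpace_conj hw (hA a.2)))
    Finset.none_mem_insertNone (by
      rintro (_ | a) ha hne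
      · exact absurd rfl hne
      by_contra hc
      push Not at hc
      refine (Finset.mem_filter.1 (Finset.some_mem_insertNone.1 ha)).2 fun v hv z hz => ?_
      rw [rho_mem_weightSpace_conj hv (hA a.2) z hz]
      exact congrArg (· • _) (hc z hz)) (by
      rw [Finset.sum_insertNone, ← sub_eq_zero.2 h0, e, map_add, hw' u hu, map_sum, smul_add,
        Finset.smul_sum, add_sub_add_comm, ← sub_smul, ← Finset.sum_sub_distrib]
      refine congrArg _ (Finset.sum_congr rfl fun a _ => ?_)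
      rw [rho_mem_weightSpace_conj hw (hA a.2) u hu, ← sub_smul]
      rfl)
  exact (smul_eq_zero.1 this).resolve_left (sub_ne_zero.2 ht)

/-- an element of an invariant group acting as an abelian group which fixes the norms of `R`
acts trivially -/
theorem Semi.rho_eq_one [IsAlgClosed k] [FiniteDimensional k W] (h : Semi K R)
    (hK : (Nat.card K : k) ≠ 0) (h0 : normOp ρ K = 0) {Z : Subgroup Y}
    (hKZ : K ≤ normalizer (Z : Set Y)) (hRZ : R ≤ normalizer (Z : Set Y))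
    (hc : ∀ g ∈ ⁅Z, Z⁆, ρ g = 1) {u : Y} (hu : u ∈ Z) (hu' : (Nat.card (zpowers u) : k) ≠ 0)
    (h1 : ∀ w, ρ u (normOp ρ R w) = normOp ρ R w) : ρ u = 1 := by
  by_contra hne
  obtain ⟨U, ψ, a1, a2, -, a4⟩ := exists_central_weight (ρ := ρ) (le_refl Z)
    (U₀ := LinearMap.range (ρ u - 1)) (fun e => hne (sub_eq_zero.1 (LinearMap.range_eq_bot.1 e)))
    (by
      rintro g hg _ ⟨v, rfl⟩
      refine ⟨ρ g v, ?_⟩
      have : ρ u * ρ g = ρ g * ρ u := by
        have := hc _ (commutator_mem_commutator hu hg)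
        rw [← map_mul, ← map_mul, ← one_mul (ρ (g * u)), ← this, ← map_mul,
          commutatorElement_def]
        congr 1; group
      have := LinearMap.congr_fun this v
      simp only [Module.End.mul_apply] at this
      simp [this]) fun g hg v _ => by rw [hc g hg]; rfl
  obtain ⟨v, hv, hv0⟩ := (Submodule.ne_bot_iff _).1 a2
  have hψ : ψ u ≠ 1 := fun e => by
    obtain ⟨x, rfl⟩ := a1 hv
    refine hv0 (eq_zero_of_mem_ker_normOp hu' (sub_mem_ker_normOp (mem_zpowers u) x) ?_)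
    refine fun g hg => zpowers_le_of_mem (H := fixSub ρ (Submodule.span k {(ρ u - 1) x}))
      (fun y hy => ?_) hg _ (Submodule.mem_span_singleton_self _)
    rw [(Submodule.span_singleton_le_iff_mem _ _).2 (a4 hv) hy u hu, e, one_smul]
  have hψ1 : ψ 1 ≠ 0 := fun e => hv0 (by simpa [e] using a4 hv 1 (one_mem _))
  have hK' : (Nat.card (K ⊓ stabSub ρ (weightSpace ρ Z ψ) : Subgroup Y) : k) ≠ 0 := fun e => by
    obtain ⟨m, hm⟩ := card_dvd_of_le (inf_le_left : K ⊓ stabSub ρ (weightSpace ρ Z ψ) ≤ K)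
    exact hK (by rw [hm, Nat.cast_mul, e, zero_mul])
  refine hv0 ((smul_eq_zero.1 ((h.inf _).card_smul_eq_zero (ρ := ρ) (fun r hr => ?_)
    fun f hf => ?_)).resolve_left hK')
  · exact normOp_inf_stab_weight hKZ (one_mem _) hψ1 (hr.2 v (a4 hv)) (by simp [h0])
  · exact normOp_inf_stab_weight hRZ hu hψ (hf.2 v (a4 hv)) (by rw [h1, one_smul])

end CfsgLib.H8Fpf
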