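import Cfsg.Agent.Lib.CoreFitting

/-! # The nilpotent residual and the lower Fitting series -/

set_option autoImplicit false

namespace CfsgLib.H9

open Subgroup Cfsg
open scoped commutatorElement

variable {G : Type*} [Group G]

/-- the nilpotent residual -/
def res (H : Subgroup G) : Subgroup G := ⨅ k, H.lowerCentralSeries k

theorem res_le_lcs (H : Subgroup G) (k : ℕ) : res H ≤ H.lowerCentralSeries k := iInf_le _ k

theorem res_le (H : Subgroup G) : res H ≤ H := res_le_lcs H 0

theorem lcs_mono {H K : Subgroup G} (h : H ≤ K) (k : ℕ) :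
    H.lowerCentralSeries k ≤ K.lowerCentralSeries k := by
  induction k with
  | zero => exact h
  | succ k ih => exact commutator_mono ih h

theorem res_mono {H K : Subgroup G} (h : H ≤ K) : res H ≤ res K :=
  iInf_mono fun k => lcs_mono h k

theorem exists_res_eq [Finite G] (H : Subgroup G) :
    ∃ k, ∀ l, k ≤ l → H.lowerCentralSeries l = res H := by
  obtain ⟨_, ⟨k, rfl⟩, hk⟩ := exists_minimal_of_wellFoundedLT
    (fun S : Subgroup G => ∃ k, H.lowerCentralSeries k = S) ⟨_, 0, rfl⟩
  have h : ∀ l, k ≤ l → H.lowerCentralSeries l = H.lowerCentralSeries k := fun l hl =>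
    le_antisymm (H.lowerCentralSeries_antitone hl)
      (hk ⟨l, rfl⟩ (H.lowerCentralSeries_antitone hl))
  refine ⟨k, fun l hl => le_antisymm (le_iInf fun j => ?_) (res_le_lcs H l)⟩
  rw [h l hl, ← h (max j k) (le_max_right _ _)]
  exact H.lowerCentralSeries_antitone (le_max_left _ _)

theorem map_res [Finite G] {G' : Type*} [Group G'] (f : G →* G') (H : Subgroup G) :
    (res H).map f = res (H.map f) := by
  obtain ⟨k, hk⟩ := exists_res_eq H
  refine le_antisymm (le_iInf fun j => ?_) ?_
  · rw [← map_lowerCentralSeries]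
    exact map_mono (res_le_lcs H j)
  · rw [← hk k le_rfl, map_lowerCentralSeries]
    exact res_le_lcs _ k

theorem res_le_iff [Finite G] {H N : Subgroup G} :
    res H ≤ N ↔ ∃ k, H.lowerCentralSeries k ≤ N := by
  refine ⟨fun h => ?_, fun ⟨k, h⟩ => (res_le_lcs H k).trans h⟩
  obtain ⟨k, hk⟩ := exists_res_eq H
  exact ⟨k, (hk k le_rfl).trans_le h⟩

theorem res_eq_bot_iff [Finite G] {H : Subgroup G} : res H = ⊥ ↔ Group.IsNilpotent H := by
  rw [isNilpotent_iff_lowerCentralSeries, ← le_bot_iff, res_le_iff]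
  simp only [le_bot_iff]

theorem commutator_res [Finite G] (H : Subgroup G) : ⁅res H, H⁆ = res H := by
  obtain ⟨k, hk⟩ := exists_res_eq H
  rw [← hk k le_rfl, ← Subgroup.lowerCentralSeries_succ, hk k le_rfl, hk (k + 1) (Nat.le_succ k)]

theorem le_res_of_le_commutator {H N : Subgroup G} (h1 : N ≤ H) (h2 : N ≤ ⁅N, H⁆) : N ≤ res H := by
  refine le_iInf fun k => ?_
  induction k with
  | zero => exact h1
  | succ k ih => exact h2.trans (commutator_mono ih le_rfl)

theorem normalizer_le_normalizer_res [Finite G] (H : Subgroup G) :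
    normalizer (H : Set G) ≤ normalizer (res H : Set G) := fun g hg =>
  mem_normalizer_of_map_conj_eq (by rw [map_res, map_conj_eq_of_mem_normalizer hg])

theorem res_normal [Finite G] (H : Subgroup G) [H.Normal] : (res H).Normal := by
  rw [← normalizer_eq_top_iff, ← top_le_iff]
  exact (normalizer_eq_top H).ge.trans (normalizer_le_normalizer_res H)

theorem res_le_iff_isNilpotent_map [Finite G] {H N : Subgroup G} [N.Normal] :
    res H ≤ N ↔ Group.IsNilpotent (H.map (QuotientGroup.mk' N)) := by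
  rw [← res_eq_bot_iff, ← map_res, Subgroup.map_eq_bot_iff, QuotientGroup.ker_mk']

/-- the lower Fitting series -/
def lfs (H : Subgroup G) : ℕ → Subgroup G
  | 0 => H
  | n + 1 => res (lfs H n)

@[simp] theorem lfs_zero (H : Subgroup G) : lfs H 0 = H := rfl

theorem lfs_succ (H : Subgroup G) (n : ℕ) : lfs H (n + 1) = res (lfs H n) := rfl

theorem lfs_add (H : Subgroup G) (a b : ℕ) : lfs H (a + b) = lfs (lfs H a) b := by
  induction b with
  | zero => rfl
  | succ b ih => rw [← add_assoc, lfs_succ, ih, lfs_succ]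

theorem lfs_succ' (H : Subgroup G) (n : ℕ) : lfs H (n + 1) = lfs (res H) n := by
  rw [add_comm, lfs_add]; rfl

theorem lfs_mono {H K : Subgroup G} (h : H ≤ K) (n : ℕ) : lfs H n ≤ lfs K n := by
  induction n with
  | zero => exact h
  | succ n ih => exact res_mono ih

theorem lfs_antitone (H : Subgroup G) : Antitone (lfs H) :=
  antitone_nat_of_succ_le fun n => res_le (lfs H n)

theorem lfs_le (H : Subgroup G) (n : ℕ) : lfs H n ≤ H := lfs_antitone H (Nat.zero_le n)

theorem map_lfs [Finite G] {G' : Type*} [Group G'] (f : G →* G') (H : Subgroup G) (n : ℕ) :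
    (lfs H n).map f = lfs (H.map f) n := by
  induction n with
  | zero => rfl
  | succ n ih => rw [lfs_succ, map_res, ih, lfs_succ]

theorem normalizer_le_normalizer_lfs [Finite G] (H : Subgroup G) (n : ℕ) :
    normalizer (H : Set G) ≤ normalizer (lfs H n : Set G) := by
  induction n with
  | zero => exact le_rfl
  | succ n ih => exact ih.trans (normalizer_le_normalizer_res _)

theorem lfs_normal [Finite G] (H : Subgroup G) [H.Normal] (n : ℕ) : (lfs H n).Normal := by
  rw [← normalizer_eq_top_iff, ← top_le_iff]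
  exact (normalizer_eq_top H).ge.trans (normalizer_le_normalizer_lfs H n)

theorem lfs_le_ker_iff [Finite G] {G' : Type*} [Group G'] (f : G →* G') {H : Subgroup G} {n : ℕ} :
    lfs H n ≤ f.ker ↔ lfs (H.map f) n = ⊥ := by
  rw [← map_lfs, Subgroup.map_eq_bot_iff]

theorem lfs_eq_bot_of_map [Finite G] {G' : Type*} [Group G'] {f : G →* G'}
    (hf : Function.Injective f) {H : Subgroup G} {n : ℕ} (h : lfs (H.map f) n = ⊥) :
    lfs H n = ⊥ := by
  rw [← lfs_le_ker_iff, (MonoidHom.ker_eq_bot_iff f).2 hf] at h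
  exact le_bot_iff.1 h

theorem chain_of_lfs [Finite G] {n : ℕ} (h : lfs (⊤ : Subgroup G) n = ⊥) :
    ∃ F : Fin (n + 1) → Subgroup G, F 0 = ⊥ ∧ F (Fin.last n) = ⊤ ∧ Monotone F ∧
      (∀ i, (F i).Normal) ∧ ∀ i : Fin n, ∃ k : ℕ, (F i.succ).lowerCentralSeries k ≤ F i.castSucc := by
  refine ⟨fun i => lfs ⊤ (n - i), by simpa using h, by simp,
    fun i j hij => lfs_antitone _ (Nat.sub_le_sub_left hij n), fun i => lfs_normal _ _, fun i => ?_⟩
  rw [← res_le_iff, ← lfs_succ]
  refine lfs_antitone _ ?_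
  have := i.2
  simp only [Fin.val_castSucc, Fin.val_succ]
  omega

theorem lfs_of_chain [Finite G] {n : ℕ} (h : ∃ F : Fin (n + 1) → Subgroup G, F 0 = ⊥ ∧
    F (Fin.last n) = ⊤ ∧ Monotone F ∧ (∀ i, (F i).Normal) ∧
      ∀ i : Fin n, ∃ k : ℕ, (F i.succ).lowerCentralSeries k ≤ F i.castSucc) :
    lfs (⊤ : Subgroup G) n = ⊥ := by
  obtain ⟨F, h0, h1, -, -, h2⟩ := h
  have key : ∀ i, ∀ hi : i ≤ n, lfs ⊤ i ≤ F ⟨n - i, by omega⟩ := by
    intro i
    induction i with
    | zero => exact fun _ => h1.ge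
    | succ i ih =>
      intro hi
      have h3 := res_le_iff.2 (h2 ⟨n - (i + 1), by omega⟩)
      refine (res_mono ((ih (by omega)).trans (le_of_eq (congrArg F (Fin.ext ?_))))).trans h3
      simp only [Fin.val_succ]
      omega
  refine le_bot_iff.1 ((key n le_rfl).trans (le_of_eq ((congrArg F (Fin.ext ?_)).trans h0)))
  simp

end CfsgLib.H9
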