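import Cfsg.Agent.Lib.H9Comp
import Cfsg.Agent.Lib.H9Fit
import Cfsg.Agent.Lib.H9Free
import Cfsg.Agent.Lib.CoreFitCrit

/-! # Fixed-point-free automorphisms of prime power order (Shult, Gross) -/

set_option autoImplicit false

namespace CfsgLib.H9

open Module Subgroup Polynomial CfsgLib.Fpf Cfsg
open scoped commutatorElement

universe u

section grp
variable {X : Type*} [Group X] [Finite X]

theorem exists_fitting_of_normal (H : Subgroup X) [H.Normal] (hs : Group.IsSolvable H) :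
    ∃ F : Subgroup X, F.Normal ∧ F ≤ H ∧ Group.IsNilpotent F ∧ H ⊓ centralizer (F : Set X) ≤ F ∧
      ∀ K : Subgroup X, K.Normal → K ≤ H → Group.IsNilpotent K → K ≤ F := by
  have := fitting_characteristic (G := H)
  refine ⟨(fittingSubgroup H).map H.subtype, inferInstance, map_subtype_le _,
    isNilpotent_map fitting_isNilpotent _, fun x hx => ⟨⟨x, hx.1⟩, centralizer_fitting_le
      fun y hy => Subtype.ext (hx.2 y ⟨y, hy, rfl⟩), rfl⟩, fun K hK hKH hKn => ?_⟩
  rw [← map_subgroupOf_eq_of_le hKH]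
  exact map_mono (le_fitting (isNilpotent_subgroupOf hKn H))

/-- if `[H, B]` is not nilpotent, there is a corresponding tower of height two -/
theorem exists_top {H A B : Subgroup X} [H.Normal] (hs : Group.IsSolvable H)
    (hcop : (Nat.card A).Coprime (Nat.card H)) (hBA : B ≤ A)
    (h : ¬ Group.IsNilpotent (⁅H, B⁆ : Subgroup X)) :
    ∃ (q s : ℕ) (Q S : Subgroup X), q.Prime ∧ s.Prime ∧ q ≠ s ∧ Q.Normal ∧ Q ≤ H ∧ IsPGroup q Q ∧
      S ≤ H ∧ IsPGroup s S ∧ A ≤ normalizer (S : Set X) ∧ ⁅Q, ⁅S, B⁆⁆ ≠ ⊥ := by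
  obtain ⟨F, hFn, hFH, hF, -, hmax⟩ := exists_fitting_of_normal H hs
  let π := QuotientGroup.mk' F
  have hπ : Function.Surjective π := QuotientGroup.mk'_surjective F
  have := (inferInstance : H.Normal).map π hπ
  obtain ⟨F₂, hF₂n, hF₂H, hF₂, hC, -⟩ := exists_fitting_of_normal (H.map π) (isSolvable_map hs π)
  have hker : ∀ T : Subgroup X, T ≤ F ↔ T.map π = ⊥ := fun T => by
    rw [Subgroup.map_eq_bot_iff, QuotientGroup.ker_mk']
  have hK : F₂.comap π ≤ H := (comap_mono hF₂H).trans (by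
    rw [comap_map_eq, QuotientGroup.ker_mk', sup_eq_left.2 hFH])
  have hcopB := hcop.coprime_dvd_left (card_dvd_of_le hBA)
  obtain ⟨s, hs', S, hS, hAS, hSB⟩ : ∃ (s : ℕ) (_ : Fact s.Prime) (S : Subgroup X),
      IsPiHallOf {s} S (F₂.comap π) ∧ A ≤ normalizer (S : Set X) ∧ ¬ ⁅S, B⁆ ≤ F := by
    by_contra hcon
    push Not at hcon
    refine h (isNilpotent_of_le hF ((hker _).2 ?_))
    rw [Subgroup.map_commutator]
    refine Cop.commutator_eq_bot_of_centralizer_le le_normalizer_of_normal le_normalizer_of_normal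
      hC ?_ ((hcopB.coprime_dvd_left (card_map_dvd _ _)).coprime_dvd_right
        ((card_dvd_of_le hF₂H).trans (card_map_dvd _ _)))
    rw [commutator_eq_bot_iff_le_centralizer, ← map_comap_eq_self_of_surjective hπ F₂,
      map_le_iff_le_comap]
    refine Cop.le_of_forall_invariant_sylowOf_le (A := A) le_normalizer_of_normal
      (hcop.coprime_dvd_right (card_dvd_of_le hK)) (Or.inr (isSolvable_of_le hs hK))
      fun q _ P _ hP hAP => ?_
    rw [← map_le_iff_le_comap, ← commutator_eq_bot_iff_le_centralizer, ← Subgroup.map_commutator,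
      ← hker]
    exact hcon q inferInstance P hP hAP
  have hSp := Cop.isPGroup_of_isPiHallOf hS
  have hSH := hS.1.trans hK
  by_contra hcon
  push Not at hcon
  let C : Subgroup X := (H ⊓ (pCore s (X ⧸ F)).comap π) ⊓
    ⨅ q ∈ {q : ℕ | q.Prime ∧ q ≠ s}, centralizer ((pCore q X ⊓ H : Subgroup X) : Set X)
  have hCn : C.Normal := by
    have : (⨅ q ∈ {q : ℕ | q.Prime ∧ q ≠ s},
        centralizer ((pCore q X ⊓ H : Subgroup X) : Set X)).Normal :=
      normal_iInf_normal fun q => normal_iInf_normal fun _ => inferInstance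
    infer_instance
  have hCH : C ≤ H := inf_le_left.trans inf_le_left
  have hSB' : ⁅S, B⁆ ≤ S := Cop.commutator_le_left_of_le_normalizer (hBA.trans hAS)
  have h1 : ⁅S, B⁆ ≤ C := by
    refine le_inf (hSB'.trans (le_inf hSH (map_le_iff_le_comap.1 (le_pCore_of_le_fitting
      ((map_le_iff_le_comap.2 hS.1).trans (le_fitting hF₂)) (hSp.map π))))) ?_
    refine le_iInf₂ fun q hq => Cop.commutator_eq_bot_iff_le_centralizer'.1 ?_
    have := Fact.mk hq.1
    exact hcon q s _ S hq.1 hs'.out hq.2 inferInstance inf_le_right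
      (pCore_isPGroup q).to_inf_left hSH hSp hAS
  have h2 : C ≤ fittingSubgroup X := by
    refine le_fitting_of_forall_commute (isSolvable_of_le hs hCH)
      fun p q hp hq hpq x hx y hy hyq ⟨a, ha⟩ => ?_
    by_cases hqs : q = s
    · subst hqs
      obtain ⟨b, hb⟩ := orderOf_eq_pow_of_mem_isPGroup (pCore_isPGroup q) hyq
      obtain ⟨e, he⟩ := orderOf_eq_pow_of_mem_isPGroup (pCore_isPGroup q) hx.1.2
      have hco : (p ^ a).Coprime q := ((Nat.coprime_primes hp.out hq.out).2 hpq).pow_left a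
      have hxF : x ∈ F := (QuotientGroup.eq_one_iff x).1 (orderOf_eq_one_iff.1
        (Nat.eq_one_of_dvd_coprimes (hco.pow_right e) (ha ▸ orderOf_map_dvd π x) he.dvd))
      refine commute_of_coprime_of_mem_isNilpotent hF hxF (hmax (pCore q X ⊓ H) inferInstance
        inf_le_right (pCore_isPGroup q).to_inf_left.isNilpotent ⟨hyq, hCH hy⟩) ?_
      rw [ha, hb]; exact hco.pow_right b
    · exact (mem_iInf.1 (mem_iInf.1 hx.2 q) ⟨hq.out, hqs⟩ y ⟨hyq, hCH hy⟩).symm
  exact hSB (h1.trans (hmax C hCn hCH (isNilpotent_of_le fitting_isNilpotent h2)))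

/-- two conjugate "bireflections" over `𝔽₃` -/
theorem prime_dvd_of_index_nine {Q R S B : Subgroup X} (hQ : IsPGroup 3 Q) {s : ℕ}
    [hs : Fact s.Prime] (hs3 : s ≠ 3) (hS : IsPGroup s S) (hRQ : R < Q) (h1 : ⁅Q, Q⁆ ≤ R)
    (hSQ : S ≤ normalizer (Q : Set X)) (hSR : S ≤ normalizer (R : Set X))
    (hBQ : B ≤ normalizer (Q : Set X)) (hSB : ⁅S, B⁆ = S) (hQS : ⁅Q, S⁆ = Q)
    (h9 : R.relIndex (⁅Q, B⁆ ⊔ R) = 9) : s = 2 ∨ s = 5 ∨ s = 13 := by
  have := Fact.mk Nat.prime_three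
  obtain ⟨g, hg, b, hb, hne⟩ : ∃ g ∈ S, ∃ b ∈ B, ¬ ⁅Q, zpowers ⁅g, b⁆⁆ ≤ R := by
    by_contra hcon
    push Not at hcon
    refine hRQ.not_ge (hQS.ge.trans ?_)
    rw [← hSB, Subgroup.commutator_def S]
    refine CommCalc.commutator_closure_right_le ?_ ?_
    · rintro _ ⟨g, hg, b, hb, rfl⟩
      exact hSR (hSB.le (commutator_mem_commutator hg hb))
    · rintro t ht _ ⟨g, hg, b, hb, rfl⟩
      exact hcon g hg b hb (commutator_mem_commutator ht (mem_zpowers _))
  have hu : zpowers ⁅g, b⁆ ≤ S := zpowers_le.2 (hSB.le (commutator_mem_commutator hg hb))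
  set E₁ := ⁅Q, B⁆ ⊔ R with hE₁
  have hE₁Q : E₁ ≤ Q := sup_le (Cop.commutator_le_left_of_le_normalizer hBQ) hRQ.le
  set E₂ := E₁.map (MulAut.conj g).toMonoidHom with hE₂
  have hE₂Q : E₂ ≤ Q := (map_mono hE₁Q).trans (map_conj_eq_of_mem_normalizer (hSQ hg)).le
  have hE₂' : E₂ = ⁅Q, B.map (MulAut.conj g).toMonoidHom⁆ ⊔ R := by
    rw [hE₂, hE₁, Subgroup.map_sup, Subgroup.map_commutator, map_conj_eq_of_mem_normalizer (hSQ hg),
      map_conj_eq_of_mem_normalizer (hSR hg)]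
  have h9' : R.relIndex E₂ = 9 := by
    rw [← h9]
    conv_lhs => rw [← map_conj_eq_of_mem_normalizer (hSR hg)]
    exact relIndex_map_map_of_injective _ _ (MulAut.conj _).injective
  have hT : E₁ ⊔ E₂ ≤ Q := sup_le hE₁Q hE₂Q
  have a1 : ⁅Q, B⁆ ≤ E₁ ⊔ E₂ := le_sup_left.trans le_sup_left
  have a2 : ⁅Q, B.map (MulAut.conj g).toMonoidHom⁆ ≤ E₁ ⊔ E₂ :=
    (le_sup_left.trans hE₂'.ge).trans le_sup_right
  have h2 : ⁅Q, zpowers ⁅g, b⁆⁆ ⊔ R ≤ E₁ ⊔ E₂ := by
    refine sup_le ((commutator_mono le_rfl (zpowers_le.2 ?_)).trans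
      (CommCalc.commutator_sup_right_le (Cop.le_normalizer_of_commutator_le a1 hT)
        (Cop.le_normalizer_of_commutator_le a2 hT) a1 a2)) (le_sup_right.trans le_sup_left)
    exact mul_mem (mem_sup_right (conj_mem_map_conj hb)) (mem_sup_left (inv_mem hb))
  have h3 : R.relIndex (E₁ ⊔ E₂) ≤ 81 := by
    rw [← relIndex_mul_relIndex R E₁ _ le_sup_right le_sup_left, h9,
      Cop.relIndex_sup_left_of_le_normalizer (hE₂Q.trans
        (Cop.le_normalizer_of_commutator_le (h1.trans le_sup_right) hE₁Q))]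
    have : E₁.relIndex E₂ ≤ R.relIndex E₂ :=
      relIndex_le_of_le_left le_sup_right index_ne_zero_of_finite
    exact Nat.mul_le_mul_left 9 (this.trans h9'.le)
  set E := ⁅Q, zpowers ⁅g, b⁆⁆ ⊔ R
  have hEQ : E ≤ Q := h2.trans hT
  have h4 : R.relIndex E ≤ 81 := (relIndex_le_of_le_right h2 index_ne_zero_of_finite).trans h3
  have hcop := Cop.coprime_card_of_isPGroup
    (coprime_card_of_isPGroup_of_ne hs.out Nat.prime_three hs3 (hS.to_le hu)) hQ
  have h5 := prime_dvd_relIndex_sub_one (hS.to_le hu) (M := E) (le_normalizer_sup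
    (normalizer_commutator_ge_right _ _) (hu.trans hSR)) (hu.trans hSR) le_sup_right
    (hEQ.trans (Cop.le_normalizer_of_commutator_le h1 hRQ.le)) fun a ha h =>
      Cop.mem_of_mem_commutator_sup_of_commutator_mem (hu.trans hSQ) (hu.trans hSR) hRQ.le h1
        hcop ha h
  obtain ⟨a, ha⟩ := IsPGroup.iff_card.1 (hQ.to_le hEQ)
  obtain ⟨t, -, ht⟩ := (Nat.dvd_prime_pow Nat.prime_three).1 (ha ▸ relIndex_dvd_card R E)
  have ht0 : t ≠ 0 := by
    rintro rfl
    exact hne (le_sup_left.trans (relIndex_eq_one.1 ht))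
  rw [ht] at h4 h5
  have ht4 : t ≤ 4 := (Nat.pow_le_pow_iff_right (by norm_num : 1 < 3)).1 h4
  have h6 : s ∣ 2 ^ 4 * (5 * 13) := by
    refine h5.trans ?_
    interval_cases t
    · exact absurd rfl ht0
    all_goals norm_num
  rcases (hs.out.dvd_mul).1 h6 with h | h
  · exact Or.inl ((Nat.prime_dvd_prime_iff_eq hs.out Nat.prime_two).1 (hs.out.dvd_of_dvd_pow h))
  · rcases (hs.out.dvd_mul).1 h with h | h
    · exact Or.inr (Or.inl ((Nat.prime_dvd_prime_iff_eq hs.out Nat.prime_five).1 h))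
    · exact Or.inr (Or.inr ((Nat.prime_dvd_prime_iff_eq hs.out (by norm_num)).1 h))

/-- a polynomial of small degree annihilating a fixed-point-free operator on a section -/
theorem SecRep.exists_poly_of_relIndex {ℓ : ℕ} (hℓ : 1 < ℓ) {G : Type*} [Group G] {j : G →* X}
    {M N : Subgroup X} {k : Type*} [Field k] {W : Type*} [AddCommGroup W]
    [Module k W] [FiniteDimensional k W] {ρ : G →* Module.End k W} {ι : X → W}
    (S : SecRep ℓ j M N ρ ι) (x : G) (hf : ∀ a ∈ M, ⁅j x, a⁆ ∈ N → a ∈ N) {h c : ℕ} (h0 : h ≠ 0)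
    (hc : N.relIndex (⁅M, zpowers (j x ^ h)⁆ ⊔ N) ≤ ℓ ^ c) :
    ∃ f : k[X], f.Monic ∧ aeval (ρ x) f = 0 ∧ f.natDegree ≤ c + (h - 1) := by
  set E := ⁅M, zpowers (j x ^ h)⁆ ⊔ N
  have hEM : E ≤ M := sup_le (Cop.commutator_le_left_of_le_normalizer
    (zpowers_le.2 (pow_mem (S.normM x) h))) S.le
  have hxE : j x ∈ normalizer (E : Set X) := zpowers_le.1 (le_normalizer_sup
    (Cop.le_normalizer_commutator (zpowers_le.2 (S.normM x)) (zpowers_le_normalizer_zpowers_pow _ _))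
    (zpowers_le.2 (S.normN x)))
  set U := Submodule.span k (ι '' E)
  have hU : ∀ v ∈ U, ρ x v ∈ U := fun v hv => by
    have : U.map (ρ x) ≤ U := by
      rw [Submodule.map_span, Submodule.span_le]
      rintro _ ⟨_, ⟨a, ha, rfl⟩, rfl⟩
      rw [← S.conj x a (hEM ha)]
      exact Submodule.subset_span ⟨_, conj_mem_of_mem_normalizer hxE ha, rfl⟩
    exact this ⟨v, hv, rfl⟩
  have hd : finrank k U ≤ c := by
    rw [← Nat.pow_le_pow_iff_right hℓ, S.rank E le_sup_right hEM]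
    exact hc
  have h1 : ∀ w, (ρ x ^ h - 1) w ∈ U := fun w => by
    have : (⊤ : Submodule k W).map (ρ x ^ h - 1) ≤ U := by
      rw [← S.span, Submodule.map_span, Submodule.span_le]
      rintro _ ⟨_, ⟨a, ha, rfl⟩, rfl⟩
      rw [LinearMap.sub_apply, Module.End.one_apply, ← _root_.map_pow, ← S.map_commutator _ ha]
      refine Submodule.subset_span ⟨_, mem_sup_left ?_, rfl⟩
      rw [commutator_comm, _root_.map_pow]
      exact commutator_mem_commutator (mem_zpowers _) ha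
    exact this ⟨w, trivial, rfl⟩
  obtain ⟨hm, hdeg⟩ := monic_geom k h0
  refine ⟨((ρ x).restrict hU).charpoly * _, (LinearMap.charpoly_monic _).mul hm, ?_, ?_⟩
  · ext v
    obtain ⟨w, rfl⟩ := S.surjective_sub_one x hf v
    rw [_root_.map_mul, Module.End.mul_apply, aeval_geom, ← Module.End.mul_apply (∑ _ ∈ _, _),
      geom_sum_mul, ← aeval_restrict_coe (ρ x) hU _ ⟨_, h1 w⟩, LinearMap.aeval_self_charpoly]
    rfl
  · rw [(LinearMap.charpoly_monic _).natDegree_mul hm, hdeg, LinearMap.charpoly_natDegree]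
    omega

end grp

section conf
variable {ℓ : ℕ} [Fact ℓ.Prime] {Y : Type*} [Group Y] [Finite Y] {k W : Type*} [Field k]
  [AddCommGroup W] [Module k W] {ρ : Y →* Module.End k W} {H : Subgroup Y} {x : Y}
  [IsAlgClosed k] [CharP k ℓ] [FiniteDimensional k W]

omit [IsAlgClosed k] [CharP k ℓ] [FiniteDimensional k W] [Fact ℓ.Prime] in
theorem conf_basic (c : Conf ℓ ρ H (zpowers x)) {p n : ℕ} (hp : p.Prime)
    (hx : x ^ p ^ (n + 1) = 1) (h : x ^ p ^ n ≠ 1) :
    orderOf x = p ^ (n + 1) ∧ (Nat.card H).Coprime p ∧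
      ∃ f : k[X], f.Monic ∧ aeval (ρ x) f = 0 ∧ f.natDegree < p ^ (n + 1) := by
  have := Fact.mk hp
  have h1 := orderOf_eq_prime_pow h hx
  refine ⟨h1, (c.cop.coprime_dvd_left ?_).symm, _,
    (monic_geom k (pow_pos hp.pos (n + 1)).ne').1, ?_, ?_⟩
  · rw [Nat.card_zpowers, h1]; exact dvd_pow_self p (Nat.succ_ne_zero n)
  · rw [aeval_geom, ← h1, ← normOp_zpowers, c.norm]
  · rw [(monic_geom k (pow_pos hp.pos _).ne').2]
    exact Nat.sub_one_lt (pow_pos hp.pos _).ne'

theorem conf_bot (c : Conf ℓ ρ H (zpowers x)) {p n : ℕ} (hp : p.Prime) (h2 : p = 2 → n ≤ 1)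
    (hx : x ^ p ^ (n + 1) = 1) : ⁅H, zpowers (x ^ p ^ n)⁆ = ⊥ := by
  by_contra hne
  have := c.normal
  obtain ⟨hord, hHp, f, hf, hfx, hdeg⟩ := conf_basic c hp hx (fun h => hne (by
    rw [h, zpowers_one_eq_bot, commutator_bot_right]))
  obtain ⟨F, hFn, hFH, hF, hC, -⟩ := c.exists_fitting
  have hτ : (x ^ p ^ n) ^ p ^ 1 = 1 := by rw [pow_one, ← pow_mul, ← pow_succ, hx]
  have hFp := hHp.coprime_dvd_left (card_dvd_of_le hFH)
  obtain ⟨q, Q, hq, hd, hQF, hQ, hxQ, hQne, hmin⟩ := exists_min_q (K := F) (B := zpowers x)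
    (A := zpowers (x ^ p ^ n)) le_normalizer_of_normal (card_zpowers_coprime hx hFp)
    (Or.inl inferInstance) fun h => hne (Cop.commutator_eq_bot_of_centralizer_le
      le_normalizer_of_normal le_normalizer_of_normal hC h (card_zpowers_coprime hτ hFp))
  have := Fact.mk hq
  have hQH := hQF.trans hFH
  have hQp := hHp.coprime_dvd_left (card_dvd_of_le hQH)
  obtain ⟨m1, -, -, m4, -⟩ := Cop.minimal_action hQ hxQ (zpowers_le.2 (pow_mem (mem_zpowers x) _))
    (zpowers_le_normalizer_zpowers_pow x _)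
    (card_zpowers_coprime hτ (hFp.coprime_dvd_left hd)) hQne hmin
  have hxQ' := hxQ (mem_zpowers x)
  obtain ⟨j, m, N, R, ψ, U, hjm, hm, P, hyU, hRQ, hN, hN2, -⟩ := hh_core ρ Q
    (natCast_ne_zero_of_coprime k ℓ
      ((c.coprime_of_isNilpotent hFH hF).coprime_dvd_left (card_dvd_of_le hQF))) hp hQp hx hxQ' m1
    m4 (by
      obtain ⟨g, hg⟩ := ne_bot_iff_exists_ne_one.1 (m1 ▸ hQne)
      exact ⟨g, g.2, fun h => hg (Subtype.ext (c.faithful g (hQH g.2) h))⟩) f hf hfx hdeg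
  have hfQ : Q ⊓ centralizer ((zpowers x : Subgroup Y) : Set Y) = ⊥ :=
    le_bot_iff.1 ((inf_le_inf_right _ hQH).trans c.fpf.le)
  have h3 := pack_commutator_le_ker P le_normalizer (pack_le_stab P)
  have h4 := pack_commutator_le_ker P (zpowers_le.2 (pow_mem hxQ' (p ^ j))) (zpowers_le.2 hyU)
  by_cases hp2 : p = 2
  · subst hp2
    obtain ⟨d, rfl⟩ := exists_pow_of_sq_eq_relIndex hQ hN2
    have hd : 1 ≤ d := by
      have := P.two_le_of_sq hRQ hN2
      rcases d with _ | d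
      · simp at this
      · omega
    obtain ⟨-, h5⟩ := eq_one_of_pow_add_one_eq_two_pow hq.two_le hd hN
    obtain rfl : j = 0 := by have := h2 rfl; omega
    rw [pow_zero, pow_one] at h4 hyU
    have h6 := Cop.commutator_sup_centralizer (zpowers_le.2 (P.mem_normalizer hxQ' hyU))
      (card_zpowers_coprime hx (hQp.coprime_dvd_left (card_dvd_of_le P.le))) (Or.inl inferInstance)
    refine hRQ (pack_eq_of_commutator_le P ((pack_commutator_le P).trans (h6.ge.trans
      (sup_le (h4.trans inf_le_right) (((inf_le_inf_right _ P.le).trans hfQ.le).trans bot_le)))))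
  · exact not_exceptional hQ hp hp2 hQp hord hxQ' m1 m4 hfQ hjm hm (pack_ker_le P)
      (lt_of_le_of_ne P.le hRQ) (pack_commutator_le P) h3
      (fun g hg h => pack_nondeg P hg fun a ha => (h a ha).2) h4 hN hN2

theorem conf_two (c : Conf ℓ ρ H (zpowers x)) {n : ℕ} (hx : x ^ 2 ^ (n + 1) = 1) :
    Group.IsNilpotent (⁅H, zpowers (x ^ 2 ^ n)⁆ : Subgroup Y) := by
  by_contra hne
  have := c.normal
  obtain ⟨hord, hHp, f, hf, hfx, hdeg⟩ := conf_basic c Nat.prime_two hx (fun h => hne (by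
    rw [h, zpowers_one_eq_bot, commutator_bot_right]; infer_instance))
  set A := zpowers x with hA
  set B := zpowers (x ^ 2 ^ n) with hB
  have hBA : B ≤ A := zpowers_le.2 (pow_mem (mem_zpowers x) _)
  have hAB : A ≤ normalizer (B : Set Y) := zpowers_le_normalizer_zpowers_pow x _
  obtain ⟨q, s, Q₀, S₀, hq, hs, hqs, hQ₀n, hQ₀H, hQ₀, hS₀H, hS₀, hAS₀, hne₀⟩ :=
    exists_top c.solv c.cop hBA hne
  have := Fact.mk hq
  have := Fact.mk hs
  have hcopB := c.cop.coprime_dvd_left (card_dvd_of_le hBA)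
  have hSS₀ : ⁅S₀, B⁆ ≤ S₀ := Cop.commutator_le_left_of_le_normalizer (hBA.trans hAS₀)
  have hSB := Cop.commutator_commutator_eq (hBA.trans hAS₀)
    (hcopB.coprime_dvd_right (card_dvd_of_le hS₀H))
  have hAS := Cop.le_normalizer_commutator hAS₀ hAB
  set S := ⁅S₀, B⁆
  have hS : IsPGroup s S := hS₀.to_le hSS₀
  have hSH := hSS₀.trans hS₀H
  obtain ⟨Q, hQQ₀, hSA, hQne, hmin⟩ := Cop.exists_minimal_action (B := S ⊔ A) (A := S) (P := Q₀)
    le_normalizer_of_normal hne₀
  have hQ := hQ₀.to_le hQQ₀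
  have hQH := hQQ₀.trans hQ₀H
  have hSq : (Nat.card S).Coprime q := coprime_card_of_isPGroup_of_ne hs hq hqs.symm hS
  obtain ⟨m1, m2, m3, m4, -, m6, -⟩ := Cop.minimal_action hQ hSA le_sup_left
    (sup_le le_normalizer hAS) hSq hQne hmin
  have hSQ : S ≤ normalizer (Q : Set Y) := le_sup_left.trans hSA
  have hAQ : A ≤ normalizer (Q : Set Y) := le_sup_right.trans hSA
  have hBQ := hBA.trans hAQ
  have hQB : ⁅Q, B⁆ ≤ Q := Cop.commutator_le_left_of_le_normalizer hBQ
  have hq' : (Nat.card Q : k) ≠ 0 := natCast_ne_zero_of_coprime k ℓ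
    ((c.coprime_of_isNilpotent hQ₀H hQ₀.isNilpotent).coprime_dvd_left (card_dvd_of_le hQQ₀))
  have hQp := hHp.coprime_dvd_left (card_dvd_of_le hQH)
  have key : ∀ R : Subgroup Y, R < Q → ⁅Q, Q⁆ ≤ R → S ≤ normalizer (R : Set Y) → ¬ ⁅Q, B⁆ ≤ R :=
    fun R h1 h2 h3 h4 => by
      refine h1.not_ge (m1.ge.trans ?_)
      rw [← hSB, commutator_comm]
      refine CommCalc.three_subgroups h3 (Cop.le_normalizer_of_commutator_le h4 h1.le)
        (Cop.le_normalizer_of_commutator_le h2 h1.le) ?_ (m1.symm ▸ h4)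
      rw [commutator_comm B]
      exact (commutator_mono h4 le_rfl).trans (Cop.commutator_le_left_of_le_normalizer h3)
  have hQ'lt : ⁅Q, Q⁆ < Q := m3 ▸ Cop.frattini_map_lt (m1 ▸ hQne)
  have hQBne := key _ hQ'lt le_rfl (Cop.le_normalizer_commutator hSQ hSQ)
  obtain ⟨j, m, R, ψ, U, hjm, hm, P, hU, hyU, hcase⟩ := hh_comp ρ Q hq' (isSolvable_of_isPGroup hQ)
    Nat.prime_two hQp hx (hAQ (mem_zpowers x)) m4 (LinearMap.ker (normOp ρ ⁅Q, B⁆))
    (ker_normOp_ne_bot (by
      obtain ⟨g, hg, h⟩ := SetLike.not_le_iff_exists.1 hQBne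
      exact ⟨g, hg, fun h' => h (c.faithful g (hQH (hQB hg)) h' ▸ one_mem _)⟩))
    (fun g hg => ker_normOp_invariant (normalizer_commutator_ge_left _ _ hg))
    (ker_normOp_invariant (Cop.le_normalizer_commutator hAQ hAB (mem_zpowers x))) f hf
    (fun v _ => by rw [hfx]; rfl) hdeg
  set B' := zpowers (x ^ 2 ^ j)
  have hB'A : B' ≤ A := zpowers_le.2 (pow_mem (mem_zpowers x) _)
  have hBB' : B ≤ B' := zpowers_le.2 (pow_pow_mem_zpowers Nat.prime_two hx fun h => by
    have := (Nat.pow_dvd_pow_iff_le_right one_lt_two).1 h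
    omega)
  have hB'U : B' ≤ stabSub ρ U := zpowers_le.2 hyU
  have hRQ : R < Q := lt_of_le_of_ne P.le fun h => P.ne (eq_bot_iff.2 fun v hv =>
    eq_zero_of_mem_ker_normOp (fun h0 => hq' (by
      obtain ⟨c, hc⟩ := card_dvd_of_le hQB
      rw [hc, Nat.cast_mul, h0, zero_mul])) (hU.le hv).1 fun g hg =>
        (pack_commutator_le_ker P hBQ (hBB'.trans hB'U) (h.symm ▸ hg)).2 v hv)
  have hfix : ∀ y ∈ S, ∀ z ∈ ⁅Q, Q⁆, y * z * y⁻¹ = z := fun y hy z hz => by
    rw [(m2.ge hz).2 y hy, mul_inv_cancel_right]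
  have hSR : S ≤ normalizer (R : Set Y) := fun y hy => mem_normalizer_of_conj_mem fun g hg =>
    pack_nondeg P (conj_mem_of_mem_normalizer (hSQ hy) (P.le hg)) fun a ha => by
      have h1 := conj_mem_of_mem_normalizer' (hSQ hy) ha
      have h2 : ⁅y * g * y⁻¹, a⁆ = y * ⁅g, y⁻¹ * a * y⁆ * y⁻¹ := by
        simp only [commutatorElement_def]; group
      rw [h2, hfix y hy _ (commutator_mem_commutator (P.le hg) h1)]
      exact (pack_commutator_le_ker P le_normalizer (pack_le_stab P)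
        (commutator_mem_commutator hg h1)).2
  have hQ'R := pack_commutator_le P
  have hnle := key R hRQ hQ'R hSR
  obtain ⟨N, hN, hN2, -⟩ := hcase.resolve_left hnle
  obtain ⟨d, rfl⟩ := exists_pow_of_sq_eq_relIndex (hQ.to_le (sup_le hQB P.le)) hN2
  obtain ⟨rfl, hm2⟩ := eq_one_of_pow_add_one_eq_two_pow hq.two_le (Nat.pos_of_ne_zero (by
    rintro rfl
    exact hnle (le_sup_left.trans (relIndex_eq_one.1 hN2.symm)))) hN
  rw [pow_one] at hN hN2
  have hB'R := pack_le_normalizer P (hB'A.trans hAQ) hB'U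
  have hM : R ⊓ conjInf R A B' ≤ ⁅Q, Q⁆ := m6 _ (inf_le_left.trans_lt hRQ) (sup_le
    (fun y hy => mem_normalizer_of_conj_mem fun g hg =>
      ⟨conj_mem_of_mem_normalizer (hSR hy) hg.1, mem_conjInf.2 fun a ha haB => by
        simpa [mul_assoc] using conj_mem_of_mem_normalizer
          (hSR (conj_mem_of_mem_normalizer' (hAS ha) hy)) (mem_conjInf.1 hg.2 a ha haB)⟩)
    (le_normalizer_inf_conjInf hB'R))
  have hidx : (⁅Q, Q⁆ : Subgroup Y).relIndex (⁅Q, B⁆ ⊔ ⁅Q, Q⁆) ≤ q ^ 2 ^ (j + 1) := by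
    refine (relIndex_le_of_le_left hM index_ne_zero_of_finite).trans
      ((relIndex_inf_conjInf_le hB'R (le_normalizer_sup (Cop.le_normalizer_commutator hAQ hAB)
        (Cop.le_normalizer_commutator hAQ hAQ))).trans ?_)
    rw [relIndex_zpowers_pow Nat.prime_two (hjm ▸ hord), pow_succ', pow_mul, hN2]
    exact Nat.pow_le_pow_left (relIndex_le_of_le_right (sup_le_sup_left hQ'R _)
      index_ne_zero_of_finite) _
  obtain ⟨W', _, _, _, ρ', ι, T⟩ := exists_secRep q (normalizer (Q : Set Y)).subtype Q ⁅Q, Q⁆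
    hQ'lt.le (fun g => g.2) (fun g => zpowers_le.1 (Cop.le_normalizer_commutator (zpowers_le.2 g.2)
      (zpowers_le.2 g.2))) le_rfl fun a ha => m3.le (Cop.pow_mem_frattini_map hQ ha)
  let x' : normalizer (Q : Set Y) := ⟨x, hAQ (mem_zpowers x)⟩
  obtain ⟨f', hf', hfx', hd'⟩ := T.exists_poly_of_relIndex hq.one_lt x' (fun a ha h =>
    mem_of_fpf_of_commutator_mem hQ'lt.le (Cop.le_normalizer_commutator hAQ hAQ (mem_zpowers x))
      (fun g hg h => mem_bot.1 (c.fpf.le ⟨hQH hg, mem_centralizer_zpowers_iff.2 h⟩)) ha (by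
        rw [← inv_mem_iff, commutatorElement_inv]; exact h)) (pow_pos two_pos n).ne' hidx
  have hcard : Nat.card (S.subgroupOf (normalizer (Q : Set Y))) = Nat.card S :=
    card_subgroupOf_of_le hSQ
  have h2j : 2 ^ (j + 1) ≤ 2 ^ n := Nat.pow_le_pow_right two_pos (by omega)
  have h2n : 0 < 2 ^ n := pow_pos two_pos n
  obtain ⟨s', d', j', m', hs', hd1, hjm', -, hN', hle, Q', hQ'S, hQ', hnc⟩ := hh_general ρ'
    (S.subgroupOf (normalizer (Q : Set Y))) (natCast_ne_zero_of_coprime _ q (hcard ▸ hSq))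
    Nat.prime_two (hcard ▸ hHp.coprime_dvd_left (card_dvd_of_le hSH)) (x := x') (n := n)
    (by rw [show x' ^ 2 ^ (n + 1) = 1 from Subtype.ext hx, map_one])
    (by rw [← subgroupOf_normalizer_eq hSQ]; exact hAS (mem_zpowers x)) (by
      by_contra hcon
      push Not at hcon
      have hSN := Cop.le_normalizer_commutator hSQ hSQ
      refine hQ'lt.not_ge (m1.ge.trans ?_)
      rw [commutator_comm]
      refine commutator_le.2 fun y hy => ?_
      have h1 : S ≤ (CommCalc.relCent ⁅Q, Q⁆ Q).map (MulAut.conj (1 : Y)).toMonoidHom ⊓ S := by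
        refine hSB.ge.trans ?_
        rw [map_conj_one, hB, zpowers_eq_closure]
        refine CommCalc.commutator_closure_right_le (Set.singleton_subset_iff.2 ?_) ?_
        · refine mem_normalizer_of_conj_mem fun g hg => ⟨⟨hSN (conj_mem_of_mem_normalizer
            (hAS (hBA (mem_zpowers _))) hg.2), fun t ht => ?_⟩,
            conj_mem_of_mem_normalizer (hAS (hBA (mem_zpowers _))) hg.2⟩
          have h2 := conj_mem_of_mem_normalizer (Cop.le_normalizer_commutator hBQ hBQ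
            (mem_zpowers _)) (hg.1.2 _ (conj_mem_of_mem_normalizer' (hBQ (mem_zpowers _)) ht))
          convert h2 using 1
          simp only [commutatorElement_def]; group
        · intro t ht b hb
          rw [Set.mem_singleton_iff.1 hb]
          have h2 : ⁅t, x ^ 2 ^ n⁆ ∈ S := hSB.le (commutator_mem_commutator ht (mem_zpowers _))
          exact ⟨⟨hSN h2, (T.rho_eq_one_iff _).1 (hcon ⟨t, hSQ ht⟩ ht)⟩, h2⟩
      rw [map_conj_one] at h1
      exact (h1 hy).1.2) f' hf' hfx' (by rw [pow_succ]; omega)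
  obtain rfl : s' = s := eq_of_isPGroup_of_dvd hs hs' hS
    (hcard ▸ prime_dvd_card_of_not_comm hs' hQ'S hQ' hnc)
  obtain ⟨rfl, hm2'⟩ := eq_one_of_pow_add_one_eq_two_pow hs.two_le hd1 hN'
  rw [pow_one] at hN' hle
  have h3 : 2 ^ j' * (s' + 1) = 2 * 2 ^ n := by rw [hN', ← pow_add, hjm', pow_succ']
  have h4 : 2 * 2 ^ j' ≤ 2 ^ n := by
    rw [← pow_succ']; exact Nat.pow_le_pow_right two_pos (by omega)
  obtain rfl : m = 2 := by
    by_contra h
    have h5 : 2 * 2 ^ (j + 1) ≤ 2 ^ n := by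
      rw [← pow_succ']; exact Nat.pow_le_pow_right two_pos (by omega)
    rw [mul_add, mul_one] at h3
    omega
  obtain rfl : q = 3 := by omega
  have h5 : 4 ∣ s' + 1 := hN' ▸ pow_dvd_pow 2 hm2'
  rcases prime_dvd_of_index_nine hQ hqs.symm hS hRQ hQ'R hSQ hSR hBQ hSB m1 hN2.symm with
    h | h | h <;> omega

end conf

section ind

theorem normal_commutator_zpowers_pow {X : Type*} [Group X] {G : Subgroup X} [G.Normal] {x : X}
    (h : G ⊔ zpowers x = ⊤) (i : ℕ) : (⁅G, zpowers (x ^ i)⁆ : Subgroup X).Normal := by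
  rw [← normalizer_eq_top_iff, ← top_le_iff, ← h]
  exact sup_le (normalizer_commutator_ge_left _ _)
    (Cop.le_normalizer_commutator le_normalizer_of_normal (zpowers_le_normalizer_zpowers_pow x i))

theorem lfs_eq_bot_of_step {p : ℕ} (c : ℕ → ℕ)
    (step : ∀ (n : ℕ) (X : Type u) [Group X] [Finite X] (G : Subgroup X) [G.Normal] (x : X),
      Group.IsSolvable G → (Nat.card G).Coprime p → G ⊔ zpowers x = ⊤ → x ^ p ^ (n + 1) = 1 →
      G ⊓ centralizer ((zpowers x : Subgroup X) : Set X) = ⊥ →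
      lfs ⁅G, zpowers (x ^ p ^ n)⁆ (c n) = ⊥) (n : ℕ) :
    ∀ (X : Type u) [Group X] [Finite X] (G : Subgroup X) [G.Normal] (x : X),
      Group.IsSolvable G → (Nat.card G).Coprime p → G ⊔ zpowers x = ⊤ → x ^ p ^ n = 1 →
      G ⊓ centralizer ((zpowers x : Subgroup X) : Set X) = ⊥ →
      lfs G (∑ i ∈ Finset.range n, c i) = ⊥ := by
  induction n with
  | zero =>
    intro X _ _ G _ x _ _ _ hx hf
    rw [pow_zero, pow_one] at hx
    rw [hx, zpowers_one_eq_bot, coe_bot, centralizer_eq_top_iff_subset.2 (by simp), inf_top_eq] at hf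
    exact hf
  | succ n ih =>
    intro X _ _ G _ x hs hcop hG hx hf
    have hT := normal_commutator_zpowers_pow hG (p ^ n)
    set B := zpowers (x ^ p ^ n)
    have hTG : ⁅G, B⁆ ≤ G := commutator_le_left _ _
    have hN : (⁅G, B⁆ ⊔ B).Normal := by
      rw [← normalizer_eq_top_iff, ← top_le_iff, ← hG]
      refine sup_le ?_ (le_normalizer_sup le_normalizer_of_normal
        (zpowers_le_normalizer_zpowers_pow x _))
      refine Cop.le_normalizer_of_commutator_le (G := ⁅G, B⁆ ⊔ B) ?_ le_rfl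
      refine CommCalc.commutator_sup_left_le (le_sup_left.trans le_normalizer)
        (le_sup_right.trans le_normalizer) ((commutator_le_left _ _).trans le_sup_left) ?_
      rw [commutator_comm]; exact le_sup_left
    let π := QuotientGroup.mk' (⁅G, B⁆ ⊔ B)
    have hπ : Function.Surjective π := QuotientGroup.mk'_surjective _
    have := (inferInstance : G.Normal).map π hπ
    have hxc := card_zpowers_coprime hx hcop
    have h1 := ih _ (G.map π) (π x) (isSolvable_map hs π) (hcop.coprime_dvd_left (card_map_dvd _ _))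
      (by rw [← MonoidHom.map_zpowers, ← Subgroup.map_sup, hG, map_top_of_surjective π hπ])
      (by rw [← map_pow]; exact (QuotientGroup.eq_one_iff _).2 (mem_sup_right (mem_zpowers _)))
      (by
        rw [← MonoidHom.map_zpowers, Cop.map_inf_centralizer_map π le_normalizer_of_normal
          (hxc.coprime_dvd_right (card_dvd_of_le inf_le_left)) (Or.inl inferInstance), hf,
          Subgroup.map_bot])
    rw [← lfs_le_ker_iff, QuotientGroup.ker_mk'] at h1
    rw [Finset.sum_range_succ, lfs_add, eq_bot_iff, ← step n X G x hs hcop hG hx hf]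
    refine lfs_mono (fun g hg => ?_) _
    obtain ⟨t, ht, b, hb, rfl⟩ := (mem_sup_iff_of_le_normalizer' le_normalizer_of_normal).1 (h1 hg)
    have h2 : b ∈ zpowers x ⊓ G := ⟨zpowers_le.2 (pow_mem (mem_zpowers x) _) hb,
      (G.mul_mem_cancel_left (hTG ht)).1 (lfs_le _ _ hg)⟩
    rw [inf_eq_bot_of_coprime hxc, mem_bot] at h2
    rwa [h2, mul_one]

theorem step_one {p : ℕ} (hp : p.Prime) {n : ℕ} (h2 : p = 2 → n ≤ 1) (X : Type u) [Group X]
    [Finite X] (G : Subgroup X) [G.Normal] (x : X) (hs : Group.IsSolvable G)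
    (hcop : (Nat.card G).Coprime p) (hG : G ⊔ zpowers x = ⊤) (hx : x ^ p ^ (n + 1) = 1)
    (hf : G ⊓ centralizer ((zpowers x : Subgroup X) : Set X) = ⊥) :
    lfs ⁅G, zpowers (x ^ p ^ n)⁆ 1 = ⊥ := by
  have hT := normal_commutator_zpowers_pow hG (p ^ n)
  refine res_eq_bot_iff.2 (reduce (N := ⁅G, zpowers (x ^ p ^ n)⁆) (commutator_le_left _ _) hs (card_zpowers_coprime hx hcop) hf
    fun Y _ _ π ℓ _ W _ _ _ ρ c _ => ?_)
  rw [MonoidHom.map_zpowers] at c
  rw [Subgroup.map_commutator, MonoidHom.map_zpowers, map_pow]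
  exact conf_bot c hp h2 (by rw [← map_pow, hx, map_one])

theorem step_two {n : ℕ} (X : Type u) [Group X]
    [Finite X] (G : Subgroup X) [G.Normal] (x : X) (hs : Group.IsSolvable G)
    (hcop : (Nat.card G).Coprime 2) (hG : G ⊔ zpowers x = ⊤) (hx : x ^ 2 ^ (n + 1) = 1)
    (hf : G ⊓ centralizer ((zpowers x : Subgroup X) : Set X) = ⊥) :
    lfs ⁅G, zpowers (x ^ 2 ^ n)⁆ 2 = ⊥ := by
  have hT := normal_commutator_zpowers_pow hG (2 ^ n)
  have := res_normal ⁅G, zpowers (x ^ 2 ^ n)⁆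
  refine res_eq_bot_iff.2 (reduce (N := res ⁅G, zpowers (x ^ 2 ^ n)⁆)
    ((res_le _).trans (commutator_le_left _ _)) hs (card_zpowers_coprime hx hcop) hf
    fun Y _ _ π ℓ _ W _ _ _ ρ c _ => ?_)
  rw [MonoidHom.map_zpowers] at c
  rw [map_res, res_eq_bot_iff, Subgroup.map_commutator, MonoidHom.map_zpowers, map_pow]
  exact conf_two c (by rw [← map_pow, hx, map_one])

open CopAut SemidirectProduct in
theorem lfs_eq_bot_of_aut {G : Type u} [Group G] [Finite G] (hG : Group.IsSolvable G) {p n m : ℕ}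
    (hp : p.Prime) (σ : MulAut G) (hσ : orderOf σ = p ^ n) (hfpf : ∀ g : G, σ g = g → g = 1)
    (h : ∀ (X : Type u) [Group X] [Finite X] (G : Subgroup X) [G.Normal] (x : X),
      Group.IsSolvable G → (Nat.card G).Coprime p → G ⊔ zpowers x = ⊤ → x ^ p ^ n = 1 →
      G ⊓ centralizer ((zpowers x : Subgroup X) : Set X) = ⊥ → lfs G m = ⊥) :
    lfs (⊤ : Subgroup G) m = ⊥ := by
  have := Fact.mk hp
  let φ := (zpowers σ).subtype
  have := finite_semidirect (φ := φ)
  have := normal_L (φ := φ) ⊤ inv_top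
  let a : zpowers σ := ⟨σ, mem_zpowers σ⟩
  have ha : zpowers a = ⊤ := by
    rw [eq_top_iff]
    rintro ⟨_, i, rfl⟩ -
    exact ⟨i, rfl⟩
  have hR : zpowers (inr a : G ⋊[φ] zpowers σ) = R φ ⊤ := by
    rw [← MonoidHom.map_zpowers, ha]
  refine lfs_eq_bot_of_map (f := inl) inl_injective (h _ (L φ ⊤) (inr a)
    (solvable_L (solvable_top_of hG)) ?_ ?_ ?_ ?_)
  · rw [card_L_top]
    have h1 := (IsPGroup.of_card ((Nat.card_zpowers σ).trans hσ)).card_modEq_card_fixedPoints G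
    have h2 : MulAction.fixedPoints (zpowers σ) G = {1} := Set.eq_singleton_iff_unique_mem.2
      ⟨fun a => map_one (a : MulAut G), fun g hg => hfpf g (hg a)⟩
    rw [h2, Nat.card_unique (α := ({1} : Set G))] at h1
    exact Nat.coprime_of_mul_modEq_one 1 (by rwa [mul_one])
  · rw [hR, eq_top_iff]
    intro y _
    rw [← inl_left_mul_inr_right y]
    exact mul_mem (mem_sup_left ⟨_, trivial, rfl⟩) (mem_sup_right ⟨_, trivial, rfl⟩)
  · rw [← map_pow, show a ^ p ^ n = 1 from Subtype.ext (by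
      rw [← hσ]; exact pow_orderOf_eq_one σ), map_one]
  · rw [hR, L_inf_centralizer, top_inf_eq, ← L_bot (φ := φ), L_inj, eq_bot_iff]
    exact fun g hg => hfpf g (mem_fixed.1 hg a)

end ind

end CfsgLib.H9
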