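import Cfsg.Agent.S3815
import Cfsg.Agent.Lib.H1DStar
import Cfsg.Agent.Lib.H8FT
import Cfsg.Agent.Lib.H5Kegel
import Cfsg.Agent.Lib.CharBurnside
import Cfsg.Agent.Lib.PGroupCyclicMax

/-! Thompson's theorem (proof in the spirit of Flavell): a finite group in which any two elements
generate a solvable subgroup is solvable. -/

set_option autoImplicit false

namespace CfsgLib.H8TwoGen

open Subgroup Cfsg CfsgLib.H1
open scoped commutatorElement

variable {G : Type*} [Group G] [Finite G] {p : ℕ} [hp : Fact p.Prime]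

/-- `O_{p'}(H)` -/
abbrev Kp (p : ℕ) (H : Subgroup G) : Subgroup G := piCoreOf {p}ᶜ H

theorem exists_frattini {H R : Subgroup G} (hH : Group.IsSolvable H) (hR : IsSylowIn p R H)
    (h0 : R ≠ ⊥) : ∃ T : Subgroup G, T ≠ ⊥ ∧ T ≤ R ∧ H ≤ Kp p H ⊔ (H ⊓ normalizer (T : Set G)) := by
  have := FT.pPrimePCore_normal' (p := p) (G := H)
  let L := (pPrimePCore p H).map H.subtype
  have hLH : L ≤ H := map_subtype_le _
  have hHL : H ≤ normalizer (L : Set G) := FT.le_normalizer_map_subtype' _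
  have hT := hR.inf_of_le_normalizer hLH (hR.le.trans hHL)
  refine ⟨R ⊓ L, fun h1 => h0 ?_, inf_le_left, (hT.frattini_le hLH hHL).trans (sup_le ?_ le_sup_right)⟩
  · have h2 := FT.cent_le_pPrimePCore_of hH hT
    rw [h1] at h2
    have h3 : R ≤ L := fun r hr => h2 ⟨hR.le hr, by simp [mem_centralizer_iff]⟩
    rwa [inf_eq_left.mpr h3] at h1
  · have h1 : HasNormalPComplement p L := PCompl.hnpc_map FT.hnpc_pPrimePCore _
    obtain ⟨P, hP⟩ := hT.exists_sylow_map
    have h2 := congrArg (Subgroup.map L.subtype) (PRes.pResidual_sup_sylow P)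
    rw [Subgroup.map_sup, hP, ← MonoidHom.range_eq_map, range_subtype] at h2
    refine h2.ge.trans (sup_le_sup ?_ (le_inf (inf_le_right.trans hLH) le_normalizer))
    rw [Kp, ← map_pPrimeCore_eq_piCoreOf]
    exact FT.le_p'core_of_le_p'pcore (map_subtype_le _)
      (by rw [card_map_subtype]; exact PCompl.hnpc_iff_coprime_pResidual.mp h1)

theorem coprime_mul_of_mem_Kp {H : Subgroup G} {d g : G} (hd : d ∈ Kp p H) (hg : g ∈ H)
    (hc : (orderOf g).Coprime p) : (orderOf (d * g)).Coprime p := by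
  have h1 : ∀ n : ℕ, (d * g) ^ n * (g ^ n)⁻¹ ∈ Kp p H := by
    intro n
    induction n with
    | zero => simp
    | succ n ih =>
      have := mul_mem hd (conj_mem_of_mem_normalizer (le_normalizer_piCoreOf H hg) ih)
      convert this using 1
      rw [pow_succ', pow_succ' g]; group
  have h2 := h1 (orderOf g)
  rw [pow_orderOf_eq_one, inv_one, mul_one] at h2
  have h3 : orderOf (d * g) ∣ orderOf g * Nat.card (Kp p H) := by
    rw [orderOf_dvd_iff_pow_eq_one, pow_mul, ← orderOf_dvd_iff_pow_eq_one]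
    exact orderOf_dvd_natCard _ h2
  exact Nat.Coprime.coprime_dvd_left h3 (Nat.Coprime.mul_left hc (piCoreOf_compl_coprime p H))

theorem isPGroup_zpowers {x : G} (hx : orderOf x = p) : IsPGroup p (zpowers x) :=
  IsPGroup.of_card (n := 1) (by rw [Nat.card_zpowers, hx, pow_one])

omit [Finite G] in
theorem ne_one_of_orderOf {x : G} (hx : orderOf x = p) : x ≠ 1 := fun h => by
  rw [h, orderOf_one] at hx; exact hp.out.one_lt.ne hx

omit [Finite G] hp in
theorem cent1_le_normalizer (z : G) : centralizer {z} ≤ normalizer (zpowers z : Set G) :=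
  fun g hg => centralizer_le_normalizer _ (by
    rintro _ ⟨n, rfl⟩
    exact (Commute.zpow_left (mem_centralizer_singleton_iff.mp hg).symm n).eq)

theorem exists_orderOf {X : Subgroup G} (hX : IsPGroup p X) (h0 : X ≠ ⊥) :
    ∃ z ∈ X, orderOf z = p := by
  obtain ⟨k, hk⟩ := IsPGroup.iff_card.mp hX
  have hk0 : k ≠ 0 := fun h1 => h0 (card_eq_one.mp (by rw [hk, h1, pow_zero]))
  obtain ⟨⟨z, hz⟩, hz'⟩ := exists_prime_orderOf_dvd_card' (G := X) p (hk ▸ dvd_pow_self p hk0)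
  exact ⟨z, hz, by rwa [orderOf_mk] at hz'⟩

theorem uniq_of_commute {R : Subgroup G} (hR : IsPGroup p R)
    (h : ∀ a ∈ R, ∀ b ∈ R, orderOf a = p → orderOf b = p → Commute a b → b ∈ zpowers a)
    {a b : G} (ha : a ∈ R) (hb : b ∈ R) (ha' : orderOf a = p) (hb' : orderOf b = p) :
    b ∈ zpowers a := by
  have h0 : R ≠ ⊥ := fun h0 => ne_one_of_orderOf ha' (by simpa [h0] using ha)
  obtain ⟨z, hz, hz'⟩ := exists_orderOf (hR.to_le (H5.centerOf_le R)) (H5.centerOf_ne_bot hR h0)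
  exact zpowers_le.mpr (h a ha z hz.1 ha' hz' (hz.2 a ha))
    (h z hz.1 b hb hz' hb' (hz.2 b hb).symm)

omit [Finite G] hp in
theorem mem_closure_ext {x x' a h : G} (ha : a ∈ closure {x, x'}) (hax : a * x' * a⁻¹ ∈ zpowers x)
    (hh : h ∈ normalizer (zpowers x : Set G)) :
    x ∈ closure {x, a⁻¹ * h} ∧ x' ∈ closure {x, a⁻¹ * h} ∧ h ∈ closure {x, a⁻¹ * h} := by
  have h1 : x ∈ closure {x, a⁻¹ * h} := subset_closure (by simp)
  have h2 : a⁻¹ * h ∈ closure {x, a⁻¹ * h} := subset_closure (by simp)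
  have h3 : x' ∈ closure {x, a⁻¹ * h} := by
    have := mul_mem (mul_mem h2 (zpowers_le.mpr h1 (conj_mem_of_mem_normalizer' hh hax)))
      (inv_mem h2)
    convert this using 1; group
  have h4 : closure {x, x'} ≤ closure {x, a⁻¹ * h} := (closure_le _).mpr (by
    rintro _ (rfl | rfl); exacts [h1, h3])
  exact ⟨h1, h3, by simpa using mul_mem (h4 ha) h2⟩

theorem mem_of_coprime_of_mem_sup {K : Subgroup G} {x u : G} (hx : orderOf x = p)
    (hxK : x ∈ normalizer (K : Set G)) (hu : u ∈ zpowers x ⊔ K) (hc : (orderOf u).Coprime p) :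
    u ∈ K := by
  refine zpowers_le.mp (Cop.le_of_coprime_relIndex (zpowers_le.mpr hu)
    (sup_le (zpowers_le.mpr hxK) le_normalizer) ?_)
  rw [relIndex_sup_of_le_normalizer (zpowers_le.mpr hxK), Nat.card_zpowers]
  refine Nat.Coprime.coprime_dvd_right ?_ hc
  rw [← hx, ← Nat.card_zpowers]
  exact relIndex_dvd_card _ _

/-- `Y` is a `p'`-subgroup normalized by `x` -/
def Iv (p : ℕ) (x : G) (Y : Subgroup G) : Prop :=
  x ∈ normalizer (Y : Set G) ∧ (Nat.card Y).Coprime p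

omit [Finite G] hp in
theorem Iv.coprime {x y : G} {Y : Subgroup G} (h : Iv p x Y) (hy : y ∈ Y) :
    (orderOf y).Coprime p := Nat.Coprime.coprime_dvd_left (orderOf_dvd_natCard _ hy) h.2

omit [Finite G] hp in
theorem Iv.comm_mem {x y : G} {Y : Subgroup G} (h : Iv p x Y) (hy : y ∈ Y) : ⁅y, x⁆ ∈ Y := by
  simpa [commutatorElement_def, mul_assoc] using
    mul_mem hy (conj_mem_of_mem_normalizer h.1 (inv_mem hy))

omit [Finite G] hp in
theorem Iv.inf {x : G} {Y Z : Subgroup G} (h : Iv p x Y) (hZ : x ∈ normalizer (Z : Set G)) :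
    Iv p x (Y ⊓ Z) :=
  ⟨H1.le_normalizer_inf (zpowers_le.mpr h.1) (zpowers_le.mpr hZ) (mem_zpowers x),
    Nat.Coprime.coprime_dvd_left (card_dvd_of_le inf_le_left) h.2⟩

theorem iv_Kp {x : G} {H : Subgroup G} (hx : x ∈ H) : Iv p x (Kp p H) :=
  ⟨le_normalizer_piCoreOf H hx, piCoreOf_compl_coprime p H⟩

omit hp in
theorem exists_maximal_ge {x : G} {Y : Subgroup G} (h : Iv p x Y) :
    ∃ W, Y ≤ W ∧ Maximal (Iv p x) W := Finite.exists_le_maximal h

omit [Finite G] hp in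
theorem Iv.conj {x x' g : G} {Y : Subgroup G} (h : Iv p x Y)
    (hx : (zpowers x).map (MulAut.conj g).toMonoidHom = zpowers x') :
    Iv p x' (Y.map (MulAut.conj g).toMonoidHom) := by
  refine ⟨?_, by rw [card_map_conj]; exact h.2⟩
  rw [normalizer_map_conj]
  exact map_mono (zpowers_le.mpr h.1) (hx ▸ mem_zpowers x')

omit [Finite G] hp in
theorem maximal_conj {x x' g : G} {Y : Subgroup G} (h : Maximal (Iv p x) Y)
    (hx : (zpowers x).map (MulAut.conj g).toMonoidHom = zpowers x') :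
    Maximal (Iv p x') (Y.map (MulAut.conj g).toMonoidHom) := by
  refine ⟨h.1.conj hx, fun W hW hle => ?_⟩
  have h1 := h.2 (hW.conj (g := g⁻¹) (x' := x) (by rw [← hx, map_conj_inv_map_conj]))
    ((map_conj_inv_map_conj g Y).ge.trans (map_mono hle))
  exact (map_conj_map_conj_inv g W).ge.trans (map_mono h1)

/-- minimal counterexample -/
structure Hyp (G : Type*) [Group G] : Prop where
  solv : ∀ H : Subgroup G, H ≠ ⊤ → Group.IsSolvable H
  simple : ∀ N : Subgroup G, N.Normal → N = ⊥ ∨ N = ⊤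
  nsolv : ¬ Group.IsSolvable G
  two : ∀ x y : G, closure {x, y} ≠ ⊤

namespace Hyp

variable (h : Hyp G)
include h

omit [Finite G] hp in
theorem normalizer_ne_top {X : Subgroup G} (h0 : X ≠ ⊥) (hX : Group.IsSolvable X) :
    normalizer (X : Set G) ≠ ⊤ := fun h1 => by
  rcases h.simple X (normalizer_eq_top_iff.mp h1) with h2 | h2
  · exact h0 h2
  · exact h.nsolv (isSolvable_top_iff.mp (h2 ▸ hX))

theorem Kp_centralizer {z : G} (hz : orderOf z = p) : Kp p (centralizer {z}) = ⊥ := by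
  rw [eq_bot_iff]
  intro d hd
  have hdp : (orderOf d).Coprime p :=
    Nat.Coprime.coprime_dvd_left (orderOf_dvd_natCard _ hd) (piCoreOf_compl_coprime p _)
  have hc : Commute z d := (mem_centralizer_singleton_iff.mp (piCoreOf_le _ hd)).symm
  have h1 := Cfsg.Agent.S3815.result (p := p) d hdp fun g hg => by
    have h2 : zpowers (z * d) ≤ closure {z * d, g} := zpowers_le.mpr (subset_closure (by simp))
    have hz' := h2 (mem_zpowers_mul_of_coprime hc (hz ▸ hdp.symm))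
    have hd' := h2 (mem_zpowers_mul_of_coprime' hc (hz ▸ hdp.symm))
    refine coprime_mul_of_mem_Kp (H := closure {z * d, g}) ?_ (subset_closure (by simp)) hg
    rw [Kp, ← map_pPrimeCore_eq_piCoreOf] at hd ⊢
    exact FT.p'core_cent1_inf_le (h.solv _ (h.two _ _)) (isPGroup_zpowers hz) (mem_zpowers z) hz'
      ⟨hd, hd'⟩
  rcases h.simple (pPrimeCore p G) (pPrimeCore_normal p G) with h2 | h2
  · rwa [h2] at h1
  · have h3 := pPrimeCore_coprime (p := p) (G := G)
    rw [h2, card_top] at h3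
    exact absurd (hz ▸ orderOf_dvd_natCard (G := G) z)
      ((Nat.Prime.coprime_iff_not_dvd hp.out).mp h3.symm)

theorem Kp_normalizer {X : Subgroup G} (hX : IsPGroup p X) (h0 : X ≠ ⊥) :
    Kp p (normalizer (X : Set G)) = ⊥ := by
  obtain ⟨z, hz, hz'⟩ := exists_orderOf (hX.to_le (H5.centerOf_le X)) (H5.centerOf_ne_bot hX h0)
  obtain ⟨D, hD⟩ : ∃ D, D = Kp p (normalizer (X : Set G)) := ⟨_, rfl⟩
  have hD1 : D ≤ normalizer (X : Set G) := hD ▸ piCoreOf_le _
  have hD2 : normalizer (X : Set G) ≤ normalizer (D : Set G) := hD ▸ le_normalizer_piCoreOf _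
  have hD3 : (Nat.card D).Coprime p := hD ▸ piCoreOf_compl_coprime p _
  have h1 : D ≤ centralizer (X : Set G) := by
    rw [← commutator_eq_bot_iff_le_centralizer]
    obtain ⟨k, hk⟩ := IsPGroup.iff_card.mp hX
    refine commutator_eq_bot_of_coprime hD1 (le_normalizer.trans hD2) ?_
    rw [hk]
    exact hD3.pow_right k
  have h2 : centralizer {z} ≠ ⊤ := fun h2 => h.normalizer_ne_top (X := zpowers z)
    (zpowers_ne_bot.mpr (ne_one_of_orderOf hz')) (isSolvable_of_isPGroup (isPGroup_zpowers hz'))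
    (top_le_iff.mp (h2.ge.trans (cent1_le_normalizer z)))
  rw [← hD, eq_bot_iff, ← h.Kp_centralizer hz', Kp, ← map_pPrimeCore_eq_piCoreOf]
  exact FT.le_p'core_of_cent_pgroup (h.solv _ h2) hX
    (fun x hx => mem_centralizer_singleton_iff.mpr (hz.2 x hx))
    (fun x hx => mem_centralizer_singleton_iff.mpr (h1 hx z hz.1).symm) hD3 h1
    (inf_le_right.trans ((centralizer_le_normalizer _).trans hD2))

theorem charIn_normalizer {X : Subgroup G} (hX : IsPGroup p X) (h0 : X ≠ ⊥) :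
    CharIn p (normalizer (X : Set G)) := by
  have hs := h.solv _ (h.normalizer_ne_top h0 (isSolvable_of_isPGroup hX))
  have h1 := h.Kp_normalizer hX h0
  rw [Kp, ← map_pPrimeCore_eq_piCoreOf, map_eq_bot_iff_of_injective _ (subtype_injective _)] at h1
  exact charIn_iff.mpr (centralizer_pCore_le (isPSolvable_of_isSolvable hs) h1)

theorem rank_one (hp5 : 5 ≤ p) {x y : G} (hx : orderOf x = p) (hy : orderOf y = p)
    (hc : Commute x y) : y ∈ zpowers x := by
  by_contra hxy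
  have hB : ∀ {a b : G}, orderOf a = p → orderOf b = p → Commute a b →
      IsPGroup p (zpowers a ⊔ zpowers b : Subgroup G) ∧
        IsMulCommutative (zpowers a ⊔ zpowers b : Subgroup G) := by
    intro a b ha hb hab
    have h1 : zpowers a ≤ centralizer (zpowers b : Set G) := zpowers_le.mpr (by
      rintro _ ⟨n, rfl⟩; exact (hab.symm.zpow_left n).eq)
    refine ⟨(isPGroup_zpowers ha).to_sup_of_normal_right' (isPGroup_zpowers hb)
      (h1.trans (centralizer_le_normalizer _)), ?_⟩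
    rw [← le_centralizer_iff_isMulCommutative, centralizer_sup']
    exact sup_le (le_inf (le_centralizer _) h1) (le_inf (le_centralizer_iff.mp h1) (le_centralizer _))
  obtain ⟨S, hS⟩ := (hB hx hy hc).1.exists_le_sylow
  have hxS : x ∈ (S : Subgroup G) := hS (mem_sup_left (mem_zpowers x))
  have hS0 : (S : Subgroup G) ≠ ⊥ := fun h0 => ne_one_of_orderOf hx (by simpa [h0] using hxS)
  obtain ⟨M, hM, hSM⟩ := exists_maxLocal_ge (p := p)
    (N := normalizer ((S : Subgroup G) : Set G)) ⟨S, S.isPGroup', hS0, rfl⟩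
  have hSM' : (S : Subgroup G) ≤ M := le_normalizer.trans hSM
  have hloc : ∀ L : Subgroup G, IsPLocal p L → L ≠ ⊤ ∧ CharIn p L := by
    rintro _ ⟨Q, hQ, hQ0, rfl⟩
    exact ⟨h.normalizer_ne_top hQ0 (isSolvable_of_isPGroup hQ), h.charIn_normalizer hQ hQ0⟩
  have SE : ∀ X : Subgroup G, IsPGroup p X → X ≠ ⊥ → X ≤ M → ∀ g : G,
      X.map (MulAut.conj g).toMonoidHom ≤ M → g ∈ M := by
    intro X hX hX0 hXM g hg
    by_contra hgM
    obtain ⟨z, hz, hz'⟩ := exists_orderOf hX hX0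
    obtain ⟨M₁, M₂, T, h1, h2, h3, h4, h5⟩ := exists_maxLocal_common_sylow hM hgM (by
      rw [← hz', ← H5.orderOf_conj' g]
      exact orderOf_dvd_natCard _ (show g * z * g⁻¹ ∈ M ⊓ M.map (MulAut.conj g).toMonoidHom from
        ⟨hg (conj_mem_map_conj hz), conj_mem_map_conj (hXM hz)⟩))
    have key : ∀ L : Subgroup G, IsMaximalPLocal p L → IsSylowIn p T L →
        normalizer (dSub T : Set G) = L := fun L hL hT =>
      maxLocal_normalizer_eq hL (hT.isPGroup.to_le (dSub_le T))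
        (dSub_ne_bot hT.isPGroup fun h0 => IsPLocal.pCoreOf_ne_bot hL.1
          (le_bot_iff.mp (h0 ▸ pCoreOf_le_sylow hT)))
        ((stableIn_of_isPSolvable (isPSolvable_of_isSolvable (h.solv L (hloc L hL.1).1))
          ⟨by omega, fun h3 => by omega⟩).le_normalizer_dSub (hloc L hL.1).2 hT)
    exact h3 ((key M₁ h1 h4).symm.trans (key M₂ h2 h5))
  have SE1 : ∀ X : Subgroup G, IsPGroup p X → X ≠ ⊥ → X ≤ M → normalizer (X : Set G) ≤ M :=
    fun X hX hX0 hXM g hg => SE X hX hX0 hXM g ((map_conj_eq_of_mem_normalizer hg).le.trans hXM)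
  have SE2 : ∀ R : Subgroup G, IsPGroup p R → ∀ a ∈ R, a ∈ M → orderOf a = p → R ≤ M := by
    intro R hR a haR haM ha
    obtain ⟨g, -, hg⟩ := (IsSylowIn.sylow_top S).exists_conj_le hR le_top
    have hgM := SE _ (isPGroup_zpowers ha) (zpowers_ne_bot.mpr (ne_one_of_orderOf ha))
      (zpowers_le.mpr haM) g ((map_mono (zpowers_le.mpr haR)).trans (hg.trans hSM'))
    intro r hr
    simpa [mul_assoc] using mul_mem (mul_mem (inv_mem hgM) (hSM' (hg (conj_mem_map_conj hr)))) hgM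
  have C1 : ∀ H : Subgroup G, H ≠ ⊤ → ∀ a ∈ H, ∀ b ∈ H, a ∈ M → orderOf a = p → orderOf b = p →
      Commute a b → b ∉ zpowers a → H ≤ M := by
    intro H hH a haH b hbH haM ha hb hab hba
    obtain ⟨hBp, hBc⟩ := hB ha hb hab
    have hBH : zpowers a ⊔ zpowers b ≤ H := sup_le (zpowers_le.mpr haH) (zpowers_le.mpr hbH)
    obtain ⟨R, hBR, hR⟩ := IsSylowIn.exists_ge hBp hBH
    have haR : a ∈ R := hBR (mem_sup_left (mem_zpowers a))
    have hRM := SE2 R hR.isPGroup a haR haM ha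
    obtain ⟨T, hT0, hTR, hT⟩ := exists_frattini (h.solv H hH) hR
      (fun h0 => ne_one_of_orderOf ha (by simpa [h0] using haR))
    refine hT.trans (sup_le ?_ (inf_le_right.trans (SE1 T (hR.isPGroup.to_le hTR) hT0
      (hTR.trans hRM))))
    obtain ⟨k, hk⟩ := IsPGroup.iff_card.mp hBp
    refine Cop.le_of_centralizer_le_of_not_isCyclic hBc (fun hcyc => hba
      (PGrp.mem_zpowers_of_orderOf_dvd (C := zpowers a ⊔ zpowers b) (mem_sup_right (mem_zpowers b))
        (mem_sup_left (mem_zpowers a)) (by rw [ha, hb])))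
      (hBH.trans (le_normalizer_piCoreOf H)) (hk ▸ (piCoreOf_compl_coprime p H).symm.pow_left k)
      fun c hc hc1 => inf_le_right.trans ((cent1_le_normalizer c).trans (SE1 (zpowers c)
        (hBp.to_le (zpowers_le.mpr hc)) (zpowers_ne_bot.mpr hc1)
        (zpowers_le.mpr (hRM (hBR hc)))))
  obtain ⟨g, -, hg⟩ := SetLike.exists_of_lt (lt_top_iff_ne_top.mpr (hloc M hM.1).1)
  have hxM := hSM' hxS
  have hx' : g * x * g⁻¹ ∉ M := fun h1 => hg (SE _ (isPGroup_zpowers hx)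
    (zpowers_ne_bot.mpr (ne_one_of_orderOf hx)) (zpowers_le.mpr hxM) g (by
      rw [MonoidHom.map_zpowers]; exact zpowers_le.mpr h1))
  have hx'p : orderOf (g * x * g⁻¹) = p := by rw [H5.orderOf_conj', hx]
  have hxA : x ∈ closure {x, g * x * g⁻¹} := subset_closure (by simp)
  have hx'A : g * x * g⁻¹ ∈ closure {x, g * x * g⁻¹} := subset_closure (by simp)
  obtain ⟨R, hxR, hR⟩ := IsSylowIn.exists_ge (isPGroup_zpowers hx) (zpowers_le.mpr hxA)
  have hRM := SE2 R hR.isPGroup x (hxR (mem_zpowers x)) hxM hx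
  obtain ⟨a, ha, ha'⟩ := hR.exists_conj_le (isPGroup_zpowers hx'p) (zpowers_le.mpr hx'A)
  have h1 : a * (g * x * g⁻¹) * a⁻¹ ∈ zpowers x := uniq_of_commute hR.isPGroup
    (fun u hu v hv hu' hv' huv => by
      by_contra h2
      exact hx' (C1 _ (h.two _ _) u (hR.le hu) v (hR.le hv) (hRM hu) hu' hv' huv h2 hx'A))
    (hxR (mem_zpowers x)) (ha' (conj_mem_map_conj (mem_zpowers _))) hx
    (by rw [H5.orderOf_conj', hx'p])
  obtain ⟨h2, h3, h4⟩ := mem_closure_ext ha h1 (h := y)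
    (cent1_le_normalizer x (mem_centralizer_singleton_iff.mpr hc.symm.eq))
  exact hx' (C1 _ (h.two _ _) x h2 y h4 hxM hx hy hc hxy h3)

section

variable (hp5 : 5 ≤ p)
include hp5

theorem uniq {R : Subgroup G} (hR : IsPGroup p R) {a b : G} (ha : a ∈ R) (hb : b ∈ R)
    (ha' : orderOf a = p) (hb' : orderOf b = p) : b ∈ zpowers a :=
  uniq_of_commute hR (fun _ _ _ _ h1 h2 h3 => h.rank_one hp5 h1 h2 h3) ha hb ha' hb'

theorem normalizer_le {T : Subgroup G} (hT : IsPGroup p T) {x : G} (hx : orderOf x = p)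
    (hxT : x ∈ T) : normalizer (T : Set G) ≤ normalizer (zpowers x : Set G) := fun g hg =>
  mem_normalizer_of_conj_mem (by
    rintro _ ⟨n, rfl⟩
    have := zpow_mem (h.uniq hp5 hT hxT (conj_mem_of_mem_normalizer hg hxT) hx
      (by rw [H5.orderOf_conj', hx])) n
    rwa [conj_zpow] at this)

theorem eq_one_of_commute {x c : G} (hx : orderOf x = p) (hc : Commute x c)
    (hcp : (orderOf c).Coprime p) : c = 1 := by
  have hP := isPGroup_zpowers hx
  have hN := h.charIn_normalizer hP (zpowers_ne_bot.mpr (ne_one_of_orderOf hx))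
  have hcN : c ∈ normalizer (zpowers x : Set G) :=
    cent1_le_normalizer x (mem_centralizer_singleton_iff.mpr hc.symm.eq)
  have hxO : x ∈ pCoreOf p (normalizer (zpowers x : Set G)) :=
    le_pCoreOf le_normalizer le_rfl hP (mem_zpowers x)
  have h1 := Cop.commutator_eq_bot_of_centralizes_omega_odd (p := p) (by omega) (A := zpowers c)
    (pCoreOf_isPGroup (normalizer (zpowers x : Set G)))
    (zpowers_le.mpr (le_normalizer_pCoreOf _ hcN)) (by rwa [Nat.card_zpowers]) fun y hy hyp => by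
      by_cases hy1 : y = 1
      · rw [hy1]; exact one_mem _
      obtain ⟨n, rfl⟩ := h.uniq hp5 (pCoreOf_isPGroup _) hxO hy hx (orderOf_eq_prime hyp hy1)
      rintro _ ⟨m, rfl⟩
      exact ((hc.zpow_zpow n m).symm).eq
  rw [commutator_eq_bot_iff_le_centralizer, le_centralizer_iff] at h1
  exact H5.eq_one_of_mem_of_coprime (pCoreOf_isPGroup _) (hN ⟨hcN, h1 (mem_zpowers c)⟩) hcp

theorem le_Kp_sup {H : Subgroup G} (hH : H ≠ ⊤) {x : G} (hx : orderOf x = p) (hxH : x ∈ H) :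
    H ≤ Kp p H ⊔ (H ⊓ normalizer (zpowers x : Set G)) := by
  obtain ⟨R, hxR, hR⟩ := IsSylowIn.exists_ge (isPGroup_zpowers hx) (zpowers_le.mpr hxH)
  have hxR' := hxR (mem_zpowers x)
  obtain ⟨T, hT0, hTR, hT⟩ := exists_frattini (h.solv H hH) hR
    (fun h0 => ne_one_of_orderOf hx (by simpa [h0] using hxR'))
  obtain ⟨t, ht, ht'⟩ := exists_orderOf (hR.isPGroup.to_le hTR) hT0
  exact hT.trans (sup_le_sup_left (inf_le_inf_left _ (h.normalizer_le hp5 (hR.isPGroup.to_le hTR)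
    hx (zpowers_le.mpr ht (h.uniq hp5 hR.isPGroup (hTR ht) hxR' ht' hx)))) _)

theorem le_normalizer_sup_Kp {H : Subgroup G} (hH : H ≠ ⊤) {x : G} (hx : orderOf x = p)
    (hxH : x ∈ H) : H ≤ normalizer ((zpowers x ⊔ Kp p H : Subgroup G) : Set G) :=
  (h.le_Kp_sup hp5 hH hx hxH).trans (sup_le (le_sup_right.trans le_normalizer)
    (H1.le_normalizer_sup inf_le_right (inf_le_left.trans (le_normalizer_piCoreOf H))))

theorem exists_conj {H : Subgroup G} {x x' : G} (hx : orderOf x = p) (hx' : orderOf x' = p)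
    (hxH : x ∈ H) (hx'H : x' ∈ H) : ∃ a ∈ H, a * x' * a⁻¹ ∈ zpowers x := by
  obtain ⟨R, hxR, hR⟩ := IsSylowIn.exists_ge (isPGroup_zpowers hx) (zpowers_le.mpr hxH)
  obtain ⟨a, ha, ha'⟩ := hR.exists_conj_le (isPGroup_zpowers hx') (zpowers_le.mpr hx'H)
  exact ⟨a, ha, h.uniq hp5 hR.isPGroup (hxR (mem_zpowers x))
    (ha' (conj_mem_map_conj (mem_zpowers _))) hx (by rw [H5.orderOf_conj', hx'])⟩

theorem exists_ext {x x' d : G} (hx : orderOf x = p) (hx' : orderOf x' = p)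
    (hd : d ∈ normalizer (zpowers x : Set G)) :
    ∃ B : Subgroup G, B ≠ ⊤ ∧ x ∈ B ∧ x' ∈ B ∧ d ∈ B := by
  obtain ⟨a, ha, ha'⟩ := h.exists_conj hp5 (H := closure {x, x'}) hx hx' (subset_closure (by simp))
    (subset_closure (by simp))
  exact ⟨_, h.two _ _, mem_closure_ext ha ha' hd⟩

theorem le_Kp {H Y : Subgroup G} (hH : H ≠ ⊤) {x : G} (hx : orderOf x = p) (hxH : x ∈ H)
    (hYH : Y ≤ H) (hY : Iv p x Y) : Y ≤ Kp p H := by
  intro y hy
  refine (H9.mem_of_fpf_of_commutator_mem (K := Y) (N := Y ⊓ Kp p H) (x := x) inf_le_left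
    (H1.le_normalizer_inf (zpowers_le.mpr hY.1) (zpowers_le.mpr (le_normalizer_piCoreOf H hxH))
      (mem_zpowers x))
    (fun g hg hc => h.eq_one_of_commute hp5 hx hc (hY.coprime hg)) hy ?_).2
  have h1 : ⁅y, x⁆ ∈ Y := hY.comm_mem hy
  refine ⟨h1, mem_of_coprime_of_mem_sup hx (le_normalizer_piCoreOf H hxH) ?_ (hY.coprime h1)⟩
  exact mul_mem (conj_mem_of_mem_normalizer (h.le_normalizer_sup_Kp hp5 hH hx hxH (hYH hy))
    (mem_sup_left (mem_zpowers x))) (inv_mem (mem_sup_left (mem_zpowers x)))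

theorem eq_one_of_mem_normalizer {Y : Subgroup G} {x y : G} (hx : orderOf x = p) (hY : Iv p x Y)
    (hy : y ∈ Y) (hyN : y ∈ normalizer (zpowers x : Set G)) : y = 1 := by
  refine h.eq_one_of_commute hp5 hx (commutatorElement_eq_one_iff_commute.mp ?_).symm
    (hY.coprime hy)
  exact H5.eq_one_of_mem_of_coprime (isPGroup_zpowers hx)
    (mul_mem (conj_mem_of_mem_normalizer hyN (mem_zpowers x)) (inv_mem (mem_zpowers x)))
    (hY.coprime (hY.comm_mem hy))

theorem normalizer_ne_top' {Y : Subgroup G} {x : G} (hx : orderOf x = p) (hY : Iv p x Y)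
    (h0 : Y ≠ ⊥) : normalizer (Y : Set G) ≠ ⊤ :=
  h.normalizer_ne_top h0 (h.solv Y fun h1 =>
    (Nat.Prime.coprime_iff_not_dvd hp.out).mp (hY.coprime (h1 ▸ mem_top x)).symm (hx ▸ dvd_rfl))

theorem maximal_eq {x : G} (hx : orderOf x = p) {Y₁ Y₂ : Subgroup G} (h1 : Maximal (Iv p x) Y₁)
    (h2 : Maximal (Iv p x) Y₂) (h0 : Y₁ ⊓ Y₂ ≠ ⊥) : Y₁ = Y₂ := by
  by_contra hne
  obtain ⟨⟨Y₁, Y₂⟩, ⟨h1, h2, h0, hne⟩, hmax⟩ := Set.Finite.exists_maximalFor
    (fun t : Subgroup G × Subgroup G => t.1 ⊓ t.2)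
    {t | Maximal (Iv p x) t.1 ∧ Maximal (Iv p x) t.2 ∧ t.1 ⊓ t.2 ≠ ⊥ ∧ t.1 ≠ t.2} (Set.toFinite _)
    ⟨(Y₁, Y₂), h1, h2, h0, hne⟩
  simp only at h1 h2 h0 hne
  have hD : Iv p x (Y₁ ⊓ Y₂) := h1.1.inf h2.1.1
  have hN := h.normalizer_ne_top' hp5 hx hD h0
  obtain ⟨Y₃, h3, h4⟩ := exists_maximal_ge (iv_Kp (p := p) hD.1)
  have key : ∀ Y : Subgroup G, Maximal (Iv p x) Y → Y₁ ⊓ Y₂ < Y → Y = Y₃ := by
    intro Y hY hlt
    by_contra h5
    have hnil : Group.IsNilpotent Y := H5.isNilpotent_of_fpf hp.out hY.1.1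
      (hx ▸ pow_orderOf_eq_one x) fun k hk hc => h.eq_one_of_commute hp5 hx hc (hY.1.coprime hk)
    have h6 := lt_inf_normalizer_of_isNilpotent hnil hlt
    have h7 := h.le_Kp hp5 hN hx hD.1 inf_le_right
      (hY.1.inf (le_normalizer (H := normalizer ((Y₁ ⊓ Y₂ : Subgroup G) : Set G)) hD.1))
    have h8 : Y₁ ⊓ Y₂ < Y ⊓ Y₃ := h6.trans_le (le_inf inf_le_left (h7.trans h3))
    exact h8.not_ge (hmax (j := (Y, Y₃)) ⟨hY, h4, h8.ne_bot, h5⟩ h8.le)
  exact hne ((key Y₁ h1 (lt_of_le_of_ne inf_le_left fun h5 =>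
      hne (h1.eq_of_le h2.1 (inf_eq_left.mp h5)))).trans
    (key Y₂ h2 (lt_of_le_of_ne inf_le_right fun h5 =>
      hne (h2.eq_of_le h1.1 (inf_eq_right.mp h5)).symm)).symm)

theorem Kp_le_of_mem {B Y : Subgroup G} (hB : B ≠ ⊤) {x w : G} (hx : orderOf x = p) (hxB : x ∈ B)
    (hY : Maximal (Iv p x) Y) (hwB : w ∈ B) (hwY : w ∈ Y) (hw : w ≠ 1) :
    w ∈ Kp p B ∧ Kp p B ≤ Y := by
  have h1 : w ∈ Kp p B := h.le_Kp hp5 hB hx hxB inf_le_right
    (hY.1.inf (le_normalizer hxB)) ⟨hwY, hwB⟩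
  obtain ⟨W, h2, h3⟩ := exists_maximal_ge (iv_Kp (p := p) hxB)
  refine ⟨h1, h2.trans (h.maximal_eq hp5 hx h3 hY fun h0 => hw ?_).le⟩
  simpa [h0] using (show w ∈ W ⊓ Y from ⟨h2 h1, hwY⟩)

theorem normalizer_le_normalizer {x : G} (hx : orderOf x = p) {Y : Subgroup G}
    (hY : Maximal (Iv p x) Y) (h0 : Y ≠ ⊥) :
    normalizer (zpowers x : Set G) ≤ normalizer (Y : Set G) := by
  intro d hd
  obtain ⟨⟨u, hu⟩, hu1⟩ := ne_bot_iff_exists_ne_one.mp h0
  have hu1' : u ≠ 1 := fun h1 => hu1 (Subtype.ext h1)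
  obtain ⟨B, hB, h1, h2, h3⟩ := h.exists_ext hp5 hx
    (x' := u * x * u⁻¹) (by rw [H5.orderOf_conj', hx]) hd
  have hw : ⁅u, x⁆ ≠ 1 := fun h4 => hu1' (h.eq_one_of_commute hp5 hx
    (commutatorElement_eq_one_iff_commute.mp h4).symm (hY.1.coprime hu))
  obtain ⟨h4, h5⟩ := h.Kp_le_of_mem hp5 hB hx h1 hY (w := ⁅u, x⁆) (mul_mem h2 (inv_mem h1))
    (hY.1.comm_mem hu) hw
  refine mem_normalizer_of_map_conj_eq (h.maximal_eq hp5 hx
    (maximal_conj hY (map_conj_eq_of_mem_normalizer hd)) hY fun h6 => hw ?_)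
  have h7 : d * ⁅u, x⁆ * d⁻¹ ∈ Y.map (MulAut.conj d).toMonoidHom ⊓ Y :=
    ⟨conj_mem_map_conj (hY.1.comm_mem hu),
      h5 (conj_mem_of_mem_normalizer (le_normalizer_piCoreOf B h3) h4)⟩
  rw [h6, mem_bot] at h7
  simpa using h7

theorem exists_elem (hpG : p ∣ Nat.card G) : ∃ x d : G, orderOf x = p ∧
    d ∈ normalizer (zpowers x : Set G) ∧ (orderOf d).Prime ∧ (orderOf d).Coprime p := by
  by_contra h1
  push Not at h1
  have h2 : HasNormalPComplement p G := FrobNPC.hnpc_of_pAutomizer fun H hH h0 =>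
    FrobNPC.pAutomizer_of_primePow fun g hg q k hq hqp hgo => by
      obtain ⟨z, hz, hz'⟩ := exists_orderOf hH h0
      rcases k with _ | k
      · rw [pow_zero, orderOf_eq_one_iff] at hgo
        rw [hgo]; exact one_mem _
      have h3 : orderOf (g ^ q ^ k) = q := by
        rw [orderOf_pow_of_dvd (pow_ne_zero _ hq.ne_zero) (hgo ▸ pow_dvd_pow q (Nat.le_succ k)),
          hgo, pow_succ, Nat.mul_div_cancel_left _ (pow_pos hq.pos k)]
      exact absurd (h3.symm ▸ (Nat.coprime_primes hq hp.out).mpr hqp)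
        (h1 z (g ^ q ^ k) hz' (pow_mem (h.normalizer_le hp5 hH hz' hz hg) _) (h3.symm ▸ hq))
  rcases h.simple _ (PRes.pResidual_normal (p := p) (G := G)) with h3 | h3
  · exact h.nsolv (isSolvable_of_isPGroup (PRes.pResidual_eq_bot_iff.mp h3))
  · have h4 := PCompl.hnpc_iff_not_dvd_pResidual.mp h2
    rw [h3, card_top] at h4
    exact h4 hpG

theorem false (hpG : p ∣ Nat.card G) : False := by
  obtain ⟨x, d, hx, hd, hdr, hdp⟩ := h.exists_elem hp5 hpG
  have hd1 : d ≠ 1 := fun h1 => by rw [h1, orderOf_one] at hdr; exact Nat.not_prime_one hdr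
  have hxg : ∀ g : G, x ∈ closure {x, g} := fun g => subset_closure (by simp)
  have hgx : ∀ g : G, g ∈ closure {x, g} := fun g => subset_closure (by simp)
  have hP := isPGroup_zpowers hx
  have hmax : ∀ N : Subgroup G, N ≠ ⊤ → normalizer (zpowers x : Set G) ≤ N →
      ∃ Y : Subgroup G, Maximal (Iv p x) Y ∧ ¬ Y ≤ N := by
    intro N hN hN'
    obtain ⟨g, -, hg⟩ := SetLike.exists_of_lt (lt_top_iff_ne_top.mpr hN)
    obtain ⟨Y, h1, h2⟩ := exists_maximal_ge (iv_Kp (p := p) (hxg g))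
    exact ⟨Y, h2, fun h3 => hg ((h.le_Kp_sup hp5 (h.two x g) hx (hxg g)).trans
      (sup_le (h1.trans h3) (inf_le_right.trans hN')) (hgx g))⟩
  obtain ⟨Y₁, hY₁, h1⟩ := hmax _ (h.normalizer_ne_top (zpowers_ne_bot.mpr (ne_one_of_orderOf hx))
    (isSolvable_of_isPGroup hP)) le_rfl
  have hY₁0 : Y₁ ≠ ⊥ := fun h0 => h1 (h0 ▸ bot_le)
  obtain ⟨Y₂, hY₂, h2⟩ := hmax _ (h.normalizer_ne_top' hp5 hx hY₁.1 hY₁0)
    (h.normalizer_le_normalizer hp5 hx hY₁ hY₁0)
  have hY₂0 : Y₂ ≠ ⊥ := fun h0 => h2 (h0 ▸ bot_le)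
  have h12 : Y₁ ⊓ Y₂ = ⊥ := by
    by_contra h0
    exact h2 (h.maximal_eq hp5 hx hY₁ hY₂ h0 ▸ le_normalizer)
  have hd₁ := h.normalizer_le_normalizer hp5 hx hY₁ hY₁0 hd
  have hd₂ := h.normalizer_le_normalizer hp5 hx hY₂ hY₂0 hd
  have hPd : ∀ w ∈ zpowers x, Commute w d → w = 1 := fun w hw hc => by
    by_contra hw1
    exact hd1 (h.eq_one_of_commute hp5 (orderOf_eq_prime (by
      obtain ⟨n, rfl⟩ := hw
      simp only
      rw [← zpow_natCast, ← zpow_mul, mul_comm, zpow_mul, zpow_natCast, ← hx, pow_orderOf_eq_one,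
        one_zpow]) hw1) hc hdp)
  obtain ⟨c, hc, hc1, hcd⟩ : ∃ c ∈ Y₁, c ≠ 1 ∧ d * c = c * d := by
    by_contra h3
    push Not at h3
    have hnil : Group.IsNilpotent (Y₁ ⊔ zpowers x : Subgroup G) := by
      refine H5.isNilpotent_of_fpf hdr (H1.le_normalizer_sup (zpowers_le.mpr hd₁)
        (zpowers_le.mpr hd) (mem_zpowers d)) (pow_orderOf_eq_one d) fun k hk hkd => ?_
      obtain ⟨y, hy, w, hw, rfl⟩ := (mem_sup_iff_of_le_normalizer' (zpowers_le.mpr hY₁.1.1)).mp hk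
      have h4 : y⁻¹ * (d * y * d⁻¹) = w * (d * w * d⁻¹)⁻¹ := by
        calc y⁻¹ * (d * y * d⁻¹) = y⁻¹ * (d * (y * w)) * w⁻¹ * d⁻¹ := by group
          _ = _ := by rw [hkd]; group
      have h5 : y⁻¹ * (d * y * d⁻¹) = 1 := H5.eq_one_of_mem_of_coprime hP
        (h4 ▸ mul_mem hw (inv_mem (conj_mem_of_mem_normalizer hd hw)))
        (hY₁.1.coprime (mul_mem (inv_mem hy) (conj_mem_of_mem_normalizer hd₁ hy)))
      have h6 : y = 1 := by
        by_contra h6
        refine h3 y hy h6 ?_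
        calc d * y = y * (y⁻¹ * (d * y * d⁻¹)) * d := by group
          _ = _ := by rw [h5, mul_one]
      subst h6
      rw [one_mul] at hkd ⊢
      exact hPd w hw hkd.symm
    obtain ⟨⟨u, hu⟩, hu1⟩ := ne_bot_iff_exists_ne_one.mp hY₁0
    exact hu1 (Subtype.ext (h.eq_one_of_commute hp5 hx (commute_of_coprime_of_mem_isNilpotent hnil
      (mem_sup_right (mem_zpowers x)) (mem_sup_left hu) (hx ▸ (hY₁.1.coprime hu).symm))
      (hY₁.1.coprime hu)))
  have hx₁ : orderOf (c * x * c⁻¹) = p := by rw [H5.orderOf_conj', hx]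
  have hzc : ∀ g : G, (zpowers x).map (MulAut.conj g).toMonoidHom = zpowers (g * x * g⁻¹) :=
    fun g => by rw [MonoidHom.map_zpowers]; rfl
  have hdx₁ : d ∈ normalizer (zpowers (c * x * c⁻¹) : Set G) := by
    rw [← hzc, normalizer_map_conj, mem_map_conj_iff, mul_assoc, hcd]
    simpa using hd
  have hcent : ∀ u ∈ Y₂, u * d = d * u := by
    intro u hu
    obtain ⟨x₂, hx₂⟩ : ∃ x₂, x₂ = u * x * u⁻¹ := ⟨_, rfl⟩
    have hx₂p : orderOf x₂ = p := by rw [hx₂, H5.orderOf_conj', hx]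
    have hY₂' : Maximal (Iv p x₂) Y₂ := by
      have := maximal_conj (g := u) hY₂ ((hzc u).trans (hx₂ ▸ rfl : _ = zpowers x₂))
      rwa [map_conj_eq_of_mem_normalizer (le_normalizer hu)] at this
    have hxx₂ : x₂ ∈ zpowers x ⊔ Y₂ := hx₂ ▸ mul_mem (mul_mem (mem_sup_right hu)
      (mem_sup_left (mem_zpowers x))) (inv_mem (mem_sup_right hu))
    have hx₂x : x ∈ zpowers x₂ ⊔ Y₂ := by
      have := mul_mem (mul_mem (inv_mem (mem_sup_right hu))
        (mem_sup_left (mem_zpowers x₂) : x₂ ∈ zpowers x₂ ⊔ Y₂)) (mem_sup_right hu)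
      simpa [hx₂, mul_assoc] using this
    have hsup : zpowers x₂ ⊔ Y₂ = zpowers x ⊔ Y₂ := le_antisymm
      (sup_le (zpowers_le.mpr hxx₂) le_sup_right) (sup_le (zpowers_le.mpr hx₂x) le_sup_right)
    have h3 : d * x₂ * d⁻¹ ∈ zpowers x₂ := by
      obtain ⟨B, hB, h3, h4, h5⟩ := h.exists_ext hp5 hx₁ hx₂p hdx₁
      have h6 : d * x₂ * d⁻¹ ∈ Y₂ ⊔ zpowers x₂ := by
        rw [sup_comm, hsup]
        exact conj_mem_of_mem_normalizer (H1.le_normalizer_sup (zpowers_le.mpr hd)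
          (zpowers_le.mpr hd₂) (mem_zpowers d)) hxx₂
      obtain ⟨y, hy, w, hw, h7⟩ := (mem_sup_iff_of_le_normalizer' (zpowers_le.mpr hY₂'.1.1)).mp h6
      by_cases hy1 : y = 1
      · rw [← h7, hy1, one_mul]; exact hw
      exfalso
      have hyB : y ∈ B := by
        rw [eq_mul_inv_of_mul_eq h7]
        exact mul_mem (mul_mem (mul_mem h5 h4) (inv_mem h5)) (inv_mem (zpowers_le.mpr h4 hw))
      have h8 := (h.Kp_le_of_mem hp5 hB hx₂p h4 hY₂' hyB hy hy1).2
      obtain ⟨a, ha, ha'⟩ := h.exists_conj hp5 hx₂p hx₁ h4 h3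
      have h9 := conj_mem_of_mem_normalizer' (h.le_normalizer_sup_Kp hp5 hB hx₂p h4 ha)
        (mem_sup_left ha')
      have h10 : c * x * c⁻¹ ∈ zpowers x ⊔ Y₂ := by
        rw [← hsup]
        simpa [mul_assoc] using sup_le_sup_left h8 _ h9
      have h11 : ⁅c, x⁆ ∈ Y₁ ⊓ Y₂ := ⟨hY₁.1.comm_mem hc, mem_of_coprime_of_mem_sup hx hY₂.1.1
        (mul_mem h10 (inv_mem (mem_sup_left (mem_zpowers x)))) (hY₁.1.coprime (hY₁.1.comm_mem hc))⟩
      rw [h12, mem_bot] at h11
      exact hc1 (h.eq_one_of_commute hp5 hx (commutatorElement_eq_one_iff_commute.mp h11).symm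
        (hY₁.1.coprime hc))
    have h4 : d ∈ normalizer (zpowers x₂ : Set G) := mem_normalizer_of_conj_mem (by
      rintro _ ⟨n, rfl⟩
      have := zpow_mem h3 n
      rwa [conj_zpow] at this)
    rw [hx₂, ← hzc, normalizer_map_conj, mem_map_conj_iff] at h4
    have h5 := h.eq_one_of_mem_normalizer hp5 hx hY₂.1 (y := u⁻¹ * (d * u * d⁻¹))
      (mul_mem (inv_mem hu) (conj_mem_of_mem_normalizer hd₂ hu))
      (by simpa [mul_assoc] using mul_mem h4 (inv_mem hd))
    calc u * d = u * (u⁻¹ * (d * u * d⁻¹)) * d := by rw [h5, mul_one]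
      _ = _ := by group
  have hdC : d ∈ centralizer (Y₂ : Set G) := hcent
  have hw : ⁅x, d⁆ ∈ centralizer (Y₂ : Set G) := mul_mem (conj_mem_of_mem_normalizer
    (H1.le_normalizer_centralizer (zpowers_le.mpr hY₂.1.1) (mem_zpowers x)) hdC) (inv_mem hdC)
  have hwP : ⁅x, d⁆ ∈ zpowers x := by
    simpa [commutatorElement_def, mul_assoc] using mul_mem (mem_zpowers x)
      (conj_mem_of_mem_normalizer hd (inv_mem (mem_zpowers x)))
  have hw1 : ⁅x, d⁆ ≠ 1 := fun h3 => ne_one_of_orderOf hx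
    (hPd x (mem_zpowers x) (commutatorElement_eq_one_iff_commute.mp h3))
  obtain ⟨⟨u, hu⟩, hu1⟩ := ne_bot_iff_exists_ne_one.mp hY₂0
  obtain ⟨z, hz, hz'⟩ := exists_orderOf (hP.to_le (zpowers_le.mpr hwP)) (zpowers_ne_bot.mpr hw1)
  exact hu1 (Subtype.ext (h.eq_one_of_commute hp5 hz' (zpowers_le.mpr hw hz u hu).symm
    (hY₂.1.coprime hu)))

end

omit hp in
theorem false' : False := by
  by_cases h1 : ∃ p : ℕ, p.Prime ∧ 5 ≤ p ∧ p ∣ Nat.card G
  · obtain ⟨p, hp, hp5, hpG⟩ := h1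
    have : Fact p.Prime := ⟨hp⟩
    exact h.false hp5 hpG
  push Not at h1
  have h2 := Nat.eq_prime_pow_of_unique_prime_dvd (n := ordCompl[2] (Nat.card G)) (p := 3)
      (Nat.ordCompl_pos 2 Nat.card_pos.ne').ne' fun {r} hr hrd => by
    have h3 : r ≠ 2 := by
      rintro rfl
      exact Nat.not_dvd_ordCompl Nat.prime_two Nat.card_pos.ne' hrd
    have h4 : r < 5 := by
      by_contra h4
      exact h1 r hr (by omega) (hrd.trans (Nat.ordCompl_dvd _ _))
    have := hr.two_le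
    interval_cases r
    · omega
    · rfl
    · exact absurd hr (by norm_num)
  refine h.nsolv (isSolvable_of_card_eq_pow_mul_pow Nat.prime_two Nat.prime_three
    (a := (Nat.card G).factorization 2) (b := (ordCompl[2] (Nat.card G)).primeFactorsList.length) ?_)
  rw [← h2]
  exact (Nat.ordProj_mul_ordCompl_eq_self _ 2).symm

end Hyp

universe u

theorem solvable_of_hereditary (P : ∀ (X : Type u) [Group X], Prop)
    (hsub : ∀ (X : Type u) [Group X] [Finite X], P X → ∀ H : Subgroup X, P H)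
    (hquot : ∀ (X : Type u) [Group X] [Finite X], P X → ∀ (N : Subgroup X) [N.Normal],
      Group.IsSolvable N → P (X ⧸ N))
    (hsimple : ∀ (X : Type u) [Group X] [Finite X], P X →
      (∀ H : Subgroup X, H ≠ ⊤ → Group.IsSolvable H) →
      (∀ N : Subgroup X, N.Normal → N = ⊥ ∨ N = ⊤) → Group.IsSolvable X)
    (X : Type u) [Group X] [Finite X] : P X → Group.IsSolvable X := by
  revert X
  refine card_induction fun X _ _ IH hX => ?_
  have h1 : ∀ H : Subgroup X, H ≠ ⊤ → Group.IsSolvable H := fun H hH =>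
    IH H (card_lt_of_ne_top hH) (hsub X hX H)
  by_contra hns
  refine hns (hsimple X hX h1 fun N hN => ?_)
  by_contra h2
  push Not at h2
  exact hns (isSolvable_of_normal_of_quotient N (h1 N h2.2)
    (IH _ (card_quotient_lt h2.1) (hquot X hX N (h1 N h2.2))))

/-- a minimal simple group is generated by two elements -/
theorem solvable_of_min {X : Type*} [Group X] [Finite X]
    (h1 : ∀ H : Subgroup X, H ≠ ⊤ → Group.IsSolvable H)
    (h2 : ∀ N : Subgroup X, N.Normal → N = ⊥ ∨ N = ⊤)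
    (h3 : ∀ x y : X, Group.IsSolvable (closure {x, y})) : Group.IsSolvable X := by
  by_contra hns
  exact Hyp.false' ⟨h1, h2, hns, fun x y h0 => hns (isSolvable_top_iff.mp (h0 ▸ h3 x y))⟩

theorem isSolvable_closure_pair_coe {X : Type*} [Group X] {H : Subgroup X} (x y : H) :
    Group.IsSolvable (closure {x, y}) ↔ Group.IsSolvable (closure {(x : X), (y : X)}) := by
  rw [← isSolvable_map_subtype_iff, MonoidHom.map_closure, Set.image_pair]
  rfl

theorem isSolvable_closure_pair_mk {X : Type*} [Group X] {N : Subgroup X} [N.Normal]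
    (hN : Group.IsSolvable N) (x y : X) :
    Group.IsSolvable (closure {(x : X ⧸ N), (y : X ⧸ N)}) ↔ Group.IsSolvable (closure {x, y}) := by
  have h1 : (closure {x, y}).map (QuotientGroup.mk' N) = closure {(x : X ⧸ N), (y : X ⧸ N)} := by
    rw [MonoidHom.map_closure, Set.image_pair]; rfl
  rw [← h1]
  exact ⟨isSolvable_of_map_mk' hN, fun h => isSolvable_map h _⟩

/-- **Thompson**: if any two elements generate a solvable subgroup, the group is solvable. -/
theorem solvable_of_two_generated (X : Type u) [Group X] [Finite X]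
    (h : ∀ x y : X, Group.IsSolvable (closure {x, y})) : Group.IsSolvable X := by
  refine solvable_of_hereditary (fun X _ => ∀ x y : X, Group.IsSolvable (closure {x, y}))
    (fun X _ _ hX H x y => (isSolvable_closure_pair_coe x y).mpr (hX x y))
    (fun X _ _ hX N _ hN x y => ?_) (fun X _ _ hX h1 h2 => solvable_of_min h1 h2 hX) X h
  obtain ⟨x, rfl⟩ := QuotientGroup.mk_surjective x
  obtain ⟨y, rfl⟩ := QuotientGroup.mk_surjective y
  exact (isSolvable_closure_pair_mk hN x y).mpr (hX x y)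

end CfsgLib.H8TwoGen
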