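import Cfsg.Agent.Lib.BSW.Friend
import Cfsg.Agent.Lib.BSW.MaxCl
import Cfsg.Agent.Lib.H8TwoGen
import Cfsg.Agent.Lib.ClassSize2
import Cfsg.Agent.Lib.CoreSimpleInd

/-! Groups with cyclic Sylow `p`-subgroups all of whose `p'`-subgroups are abelian. -/

namespace CfsgLib.CycAb

open Subgroup Cfsg CfsgLib.BSW
open scoped commutatorElement

universe u

structure Hyp (p : ℕ) (G : Type u) [Group G] : Prop where
  cyc : ∀ Q : Subgroup G, IsPGroup p Q → IsCyclic Q
  ab : ∀ H : Subgroup G, ¬ p ∣ Nat.card H → ∀ a ∈ H, ∀ b ∈ H, a * b = b * a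

variable {G : Type u} [Group G] [Finite G] {p : ℕ} [hp : Fact p.Prime]

namespace Hyp

omit hp in
theorem subgroup (h : Hyp p G) (H : Subgroup G) : Hyp p H where
  cyc Q hQ := by
    have := h.cyc _ (hQ.map H.subtype)
    exact isCyclic_of_surjective _ (equivMapOfInjective Q _ H.subtype_injective).symm.surjective
  ab K hK a ha b hb := by
    have := h.ab (K.map H.subtype) (by rwa [card_subtype]) a ⟨a, ha, rfl⟩ b ⟨b, hb, rfl⟩
    exact Subtype.ext this

theorem quotient (h : Hyp p G) (N : Subgroup G) [N.Normal] : Hyp p (G ⧸ N) where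
  cyc Q hQ := by
    obtain ⟨R, hR⟩ := hQ.exists_le_sylow
    obtain ⟨R', rfl⟩ := Sylow.mapSurjective_surjective (QuotientGroup.mk'_surjective N) p R
    have := h.cyc R' R'.isPGroup'
    have : IsCyclic (R'.mapSurjective (QuotientGroup.mk'_surjective N) : Subgroup (G ⧸ N)) :=
      isCyclic_of_surjective _ ((QuotientGroup.mk' N).subgroupMap_surjective R')
    exact isCyclic_of_le hR
  ab K hK a ha b hb := by
    set L := K.comap (QuotientGroup.mk' N) with hL
    have hNL : N ≤ L := QuotientGroup.le_comap_mk' N K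
    obtain ⟨H, hH, hq⟩ := Frob.exists_supplement_primes_dvd_index (N.subgroupOf L)
    have hi : (N.subgroupOf L).index = Nat.card K := by
      have h1 : N.relIndex L = Nat.card (L.map (QuotientGroup.mk' N)) := by
        rw [← relIndex_ker, QuotientGroup.ker_mk']
      rw [hL, map_comap_eq_self_of_surjective (QuotientGroup.mk'_surjective N)] at h1
      exact h1
    have hpH : ¬ p ∣ Nat.card (H.map L.subtype) := by
      rw [card_subtype]
      exact fun e => hK (hi ▸ hq p hp.out e)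
    have key : ∀ c ∈ K, ∃ x ∈ H.map L.subtype, (x : G ⧸ N) = c := fun c hc => by
      obtain ⟨g, rfl⟩ := QuotientGroup.mk_surjective c
      have hg : (⟨g, hc⟩ : L) ∈ H ⊔ N.subgroupOf L := hH ▸ mem_top _
      obtain ⟨x, hx, n, hn, e⟩ := (mem_sup_iff_of_le_normalizer
        (by rw [normalizer_eq_top]; exact le_top)).mp hg
      refine ⟨x, ⟨x, hx, rfl⟩, ?_⟩
      have e' : (x : G) * n = g := congrArg Subtype.val e
      rw [← e', QuotientGroup.mk_mul, (QuotientGroup.eq_one_iff (n : G)).mpr hn, mul_one]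
    obtain ⟨x, hx, rfl⟩ := key a ha
    obtain ⟨y, hy, rfl⟩ := key b hb
    rw [← QuotientGroup.mk_mul, h.ab _ hpH x hx y hy, QuotientGroup.mk_mul]

theorem comm_of_norm (h : Hyp p G) {N : Subgroup G} (hN : ¬ p ∣ Nat.card N) {g : G}
    (hg : g ∈ normalizer (N : Set G)) (hc : (orderOf g).Coprime p) {x : G} (hx : x ∈ N) :
    g * x = x * g := by
  refine h.ab (zpowers g ⊔ N) (fun e => ?_) g (mem_sup_left (mem_zpowers g)) x (mem_sup_right hx)
  rcases (Nat.Prime.dvd_mul hp.out).mp (e.trans (card_sup_dvd_mul (zpowers_le.mpr hg))) with e | e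
  · rw [Nat.card_zpowers] at e
    exact hp.out.coprime_iff_not_dvd.mp hc.symm e
  · exact hN e

omit [Finite G] hp in
theorem pcomm (h : Hyp p G) {Q : Subgroup G} (hQ : IsPGroup p Q) {a b : G} (ha : a ∈ Q)
    (hb : b ∈ Q) : a * b = b * a := by
  have := h.cyc Q hQ
  exact BSW.isMulCommutative_iff'.mp inferInstance a ha b hb

theorem dichotomy (h : Hyp p G) (hs : Group.IsSolvable G) (P : Sylow p G) :
    HasNormalPComplement p G ∨ (P : Subgroup G).Normal := by
  have := h.cyc P P.isPGroup'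
  rcases P.normalizer_le_centralizer_or_le_commutator with h1 | h1
  · exact Or.inl (PCompl.hnpc_of_normalizer_le_centralizer P h1)
  right
  set K := pPrimeCore p G with hK
  set C := centralizer (K : Set G) with hC
  have hCp : IsPGroup p (G ⧸ C) := fun c => by
    obtain ⟨g, rfl⟩ := QuotientGroup.mk_surjective c
    obtain ⟨u, -, v, -, rfl, -, ⟨k, hk⟩, hv⟩ := exists_p_part hp.out g
    have hvC : v ∈ C := mem_centralizer_iff.mpr fun x hx =>
      (h.comm_of_norm (not_dvd_card_pPrimeCore p) (by rw [normalizer_eq_top]; trivial) hv hx).symm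
    refine ⟨k, ?_⟩
    rw [QuotientGroup.mk_mul, (QuotientGroup.eq_one_iff v).mpr hvC, mul_one,
      ← QuotientGroup.mk_pow, ← hk, pow_orderOf_eq_one, QuotientGroup.mk_one]
  have hPC : (P : Subgroup G) ≤ C := by
    refine h1.trans (Normal.quotient_commutative_iff_commutator_le.mp ⟨⟨fun a b => ?_⟩⟩)
    exact (h.quotient C).pcomm (hCp.to_subgroup ⊤) (mem_top a) (mem_top b)
  have h2 := centralizer_pCore_le (p := p) (G := G ⧸ K)
    (isPSolvable_of_isSolvable inferInstance) (pPrimeCore_quotient_pPrimeCore p)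
  set R := P.mapSurjective (QuotientGroup.mk'_surjective K) with hR
  have h3 : (R : Subgroup (G ⧸ K)) = pCore p (G ⧸ K) := by
    refine le_antisymm (le_trans (fun x hx => mem_centralizer_iff.mpr fun y hy => ?_) h2)
      (pCore_le_sylow R)
    exact (h.quotient K).pcomm R.isPGroup' (pCore_le_sylow R hy) hx
  have h4 : ((P : Subgroup G) ⊔ K).Normal := by
    have : (P : Subgroup G) ⊔ K = (pCore p (G ⧸ K)).comap (QuotientGroup.mk' K) := by
      rw [← h3, hR, Sylow.coe_mapSurjective, comap_map_eq, QuotientGroup.ker_mk']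
    rw [this]
    infer_instance
  have h5 := P.normalizer_sup_eq_top' (N := (P : Subgroup G) ⊔ K) le_sup_left
  have h6 : (P : Subgroup G) ⊔ K ≤ normalizer ((P : Subgroup G) : Set G) :=
    sup_le le_normalizer ((le_centralizer_iff.mp hPC).trans (centralizer_le_normalizer _))
  rw [← normalizer_eq_top_iff, ← h5]
  exact (sup_eq_left.mpr h6).symm

theorem dih (h : Hyp p G) {s x : G} (hs : s ^ 2 = 1) {r : ℕ} (hr : r.Prime) (hr2 : r ≠ 2)
    (hp2 : p ≠ 2) (hx : orderOf x = r) (hi : s * x * s⁻¹ = x⁻¹) : r = p := by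
  by_contra hne
  have h1 : s * x = x * s := by
    refine h.comm_of_norm (N := zpowers x) ?_ ?_ ?_ (mem_zpowers x)
    · rw [Nat.card_zpowers, hx]
      exact fun e => hne ((Nat.prime_dvd_prime_iff_eq hp.out hr).mp e).symm
    · refine mem_normalizer_of_conj_mem ?_
      rintro _ ⟨n, rfl⟩
      simp only
      rw [← conj_zpow, hi]
      exact zpow_mem (inv_mem (mem_zpowers x)) n
    · exact Nat.Coprime.coprime_dvd_left (orderOf_dvd_of_pow_eq_one hs)
        ((Nat.coprime_primes Nat.prime_two hp.out).mpr hp2.symm)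
  rw [h1, mul_inv_cancel_right] at hi
  have h2 : x ^ 2 = 1 := by rw [pow_two]; nth_rewrite 1 [hi]; simp
  exact hr2 ((Nat.prime_dvd_prime_iff_eq hr Nat.prime_two).mp (hx ▸ orderOf_dvd_of_pow_eq_one h2))

end Hyp

theorem zpowers_norm {P : Subgroup G} [IsCyclic P] {a : G} (ha : a ∈ P) {g : G}
    (hg : g ∈ normalizer (P : Set G)) : g ∈ normalizer ((zpowers a : Subgroup G) : Set G) := by
  obtain ⟨m, hm⟩ := MonoidHom.map_cyclic (P.normalizerMonoidHom ⟨g, hg⟩).toMonoidHom
  have h1 : g * a * g⁻¹ = a ^ m := congrArg Subtype.val (hm ⟨a, ha⟩)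
  refine mem_normalizer_of_conj_mem ?_
  rintro _ ⟨n, rfl⟩
  simp only
  rw [← conj_zpow, h1]
  exact zpow_mem (zpow_mem (mem_zpowers a) m) n

structure Min (p : ℕ) (G : Type u) [Group G] : Prop extends Hyp p G where
  simple : IsSimpleGroup G
  hna : ¬ IsMulCommutative G
  sol : ∀ H : Subgroup G, H ≠ ⊤ → Group.IsSolvable H
  odd : p ≠ 2

namespace Min

variable (h : Min p G)
include h

omit [Finite G] hp in
theorem norm_ne_top {D : Subgroup G} (h1 : D ≠ ⊥) (h2 : D ≠ ⊤) : normalizer (D : Set G) ≠ ⊤ := by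
  have := h.simple
  intro e
  rcases (normalizer_eq_top_iff.mp e).eq_bot_or_eq_top with e | e
  exacts [h1 e, h2 e]

omit [Finite G] hp in
theorem ne_top_of_comm {D : Subgroup G} (hD : ∀ a ∈ D, ∀ b ∈ D, a * b = b * a) : D ≠ ⊤ :=
  fun e => h.hna ⟨⟨fun a b => hD a (e ▸ mem_top a) b (e ▸ mem_top b)⟩⟩

omit hp in
theorem not_hnpc {q : ℕ} [hq : Fact q.Prime] (hd : q ∣ Nat.card G) :
    ¬ HasNormalPComplement q G := fun hc => by
  have := h.simple
  obtain ⟨N, hN, h1, k, h2⟩ := PCompl.hnpc_exists_normal hc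
  rcases hN.eq_bot_or_eq_top with rfl | rfl
  · rw [index_bot] at h2
    exact not_isSolvable_of_simple h.hna (isSolvable_of_isPGroup (IsPGroup.of_card h2))
  · rw [card_top] at h1
    exact hq.out.coprime_iff_not_dvd.mp h1.symm hd

omit hp in
theorem p_dvd : p ∣ Nat.card G := by
  by_contra e
  exact h.ne_top_of_comm (h.ab ⊤ (by rwa [card_top])) rfl

theorem L1 (P : Sylow p G) :
    ¬ normalizer ((P : Subgroup G) : Set G) ≤ centralizer ((P : Subgroup G) : Set G) :=
  fun e => h.not_hnpc h.p_dvd (PCompl.hnpc_of_normalizer_le_centralizer P e)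

omit h in
theorem mem_sylow (P : Sylow p G) {u : G} (hu : u ∈ normalizer ((P : Subgroup G) : Set G))
    (hk : ∃ k, orderOf u = p ^ k) : u ∈ (P : Subgroup G) := by
  have h1 := (isPGroup_zpowers_iff.mpr hk).inf_normalizer_sylow P
  have h2 : u ∈ zpowers u ⊓ normalizer ((P : Subgroup G) : Set G) := ⟨mem_zpowers u, hu⟩
  exact (h1.le h2).2

omit [Finite G] hp in
theorem P_le_C (P : Sylow p G) : (P : Subgroup G) ≤ centralizer ((P : Subgroup G) : Set G) :=
  fun _ ha => mem_centralizer_iff.mpr fun _ hb => h.pcomm P.isPGroup' hb ha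

theorem L2 (P : Sylow p G) {H : Subgroup G} (hH : H ≠ ⊤)
    (hle : normalizer ((P : Subgroup G) : Set G) ≤ H) :
    H ≤ normalizer ((P : Subgroup G) : Set G) := by
  have hPH : (P : Subgroup G) ≤ H := le_normalizer.trans hle
  rcases (h.toHyp.subgroup H).dichotomy (h.sol H hH) (P.subtype hPH) with h1 | h1
  · refine absurd (fun g hg => ?_) (h.L1 P)
    obtain ⟨u, hu, v, hv, rfl, -, hk, hc⟩ := exists_p_part hp.out g
    have hu' := zpowers_le.mpr hg hu
    have hv' := zpowers_le.mpr hg hv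
    exact mul_mem (h.P_le_C P (mem_sylow P hu' hk))
      (PCompl.hnpc_mem_centralizer_of_le h1 hPH P.isPGroup' (hle hv') hv' hc)
  · exact (normal_subgroupOf_iff_le_normalizer hPH).mp h1

theorem L3 (P : Sylow p G) {a : G} (ha : a ∈ (P : Subgroup G)) (ha1 : a ≠ 1) {g : G}
    (hg : g * a = a * g) : g ∈ centralizer ((P : Subgroup G) : Set G) := by
  have := h.cyc P P.isPGroup'
  have h1 : normalizer ((zpowers a : Subgroup G) : Set G) ≤
      normalizer ((P : Subgroup G) : Set G) := by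
    refine h.L2 P (h.norm_ne_top (zpowers_ne_bot.mpr ha1) (h.ne_top_of_comm fun x hx y hy =>
      (commute_of_mem_zpowers hx hy).eq)) fun g hg => zpowers_norm ha hg
  have h2 : centralizer ({a} : Set G) ≤ normalizer ((P : Subgroup G) : Set G) := by
    refine le_trans ?_ h1
    rw [← centralizer_zpowers']
    exact centralizer_le_normalizer _
  have hg' : g ∈ centralizer ({a} : Set G) := mem_cent.mpr hg
  obtain ⟨u, hu, v, hv, rfl, -, hk, hc⟩ := exists_p_part hp.out g
  have hu' := zpowers_le.mpr hg' hu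
  have hv' := zpowers_le.mpr hg' hv
  refine mul_mem (h.P_le_C P (mem_sylow P (h2 hu') hk)) ?_
  have hn : zpowers v ≤ normalizer ((P : Subgroup G) : Set G) := zpowers_le.mpr (h2 hv')
  have hcop : (Nat.card (P : Subgroup G)).Coprime (Nat.card (zpowers v)) := by
    obtain ⟨k, e⟩ := P.isPGroup'.exists_card_eq
    rw [e, Nat.card_zpowers]
    exact hc.symm.pow_left k
  rcases P.isPGroup'.commutator_eq_bot_or_commutator_eq_self hn hcop with e | e
  · exact commutator_eq_bot_iff_le_centralizer.mp e (mem_zpowers v)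
  · have h3 := Cop.commutator_inf_centralizer_eq_bot hn hcop.symm inferInstance
    rw [commutator_comm, e, centralizer_zpowers'] at h3
    exact absurd (h3.le ⟨ha, mem_cent_comm hv'⟩) ha1

theorem L4 (P : Sylow p G) {x : G} (hx : x ∈ centralizer ((P : Subgroup G) : Set G))
    (hx1 : x ≠ 1) (hc : (orderOf x).Coprime p) :
    centralizer ({x} : Set G) = normalizer ((P : Subgroup G) : Set G) := by
  set C := centralizer ((P : Subgroup G) : Set G) with hC
  have hle : normalizer ((P : Subgroup G) : Set G) ≤ centralizer ({x} : Set G) := fun g hg => by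
    obtain ⟨u, hu, v, hv, rfl, -, hk, hcv⟩ := exists_p_part hp.out g
    have hu' := zpowers_le.mpr hg hu
    have hv' := zpowers_le.mpr hg hv
    refine mul_mem (mem_cent.mpr (mem_centralizer_iff.mp hx u (mem_sylow P hu' hk))) ?_
    have hn : HasNormalPComplement p C := by
      refine PCompl.hnpc_of_sylow_le_center (P.subtype (h.P_le_C P)) fun a ha => ?_
      exact mem_center_iff.mpr fun b => Subtype.ext (mem_centralizer_iff.mp b.2 a ha).symm
    have hO : ¬ p ∣ Nat.card ((pResidual p C).map C.subtype) := by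
      rw [card_subtype]
      exact PCompl.hnpc_iff_not_dvd_pResidual.mp hn
    refine mem_cent.mpr (h.comm_of_norm hO ?_ hcv ⟨⟨x, hx⟩, ?_, rfl⟩)
    · exact normalizer_le_normalizer_map_subtype_of_characteristic C _
        (hC := PRes.pResidual_characteristic) (Cop.normalizer_le_normalizer_centralizer _ hv')
    · exact (PCompl.hnpc_mem_pResidual_iff hn).mpr (by rwa [← orderOf_coe])
  refine le_antisymm (h.L2 P (fun e => ?_) hle) hle
  have := h.simple
  have hz : x ∈ center G := mem_center_iff.mpr fun g => mem_cent.mp (e ▸ mem_top g)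
  rcases (inferInstance : (center G).Normal).eq_bot_or_eq_top with e' | e'
  · exact hx1 (e'.le hz)
  · exact h.hna ⟨⟨fun a b => (mem_center_iff.mp (e' ▸ mem_top b) a)⟩⟩

theorem inverts (P : Sylow p G) {s : G} (hs : s * s = 1)
    (hn : s ∈ normalizer ((P : Subgroup G) : Set G))
    (hc : s ∉ centralizer ((P : Subgroup G) : Set G)) {a : G} (ha : a ∈ (P : Subgroup G)) :
    s * a * s⁻¹ = a⁻¹ := by
  have h1 := conj_mem_of_mem_normalizer hn ha
  have hs' : s⁻¹ = s := inv_eq_of_mul_eq_one_right hs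
  by_contra hne
  refine hc (h.L3 P (mul_mem ha h1) (fun e => hne (eq_inv_of_mul_eq_one_right e)) ?_)
  rw [h.pcomm P.isPGroup' ha h1, hs']
  rw [hs'] at h1
  calc s * (s * a * s * a) = (s * s) * a * s * a := by group
    _ = a * (s * a * s) * s := by rw [hs, mul_assoc a, mul_assoc _ s s, hs]; group
    _ = s * a * s * a * s := by rw [h.pcomm P.isPGroup' ha h1]

omit h in
theorem exists_sylow_mem {y : G} (hy : orderOf y = p) : ∃ P : Sylow p G, y ∈ (P : Subgroup G) := by
  obtain ⟨P, hP⟩ := (isPGroup_zpowers_iff.mpr ⟨1, by rw [hy, pow_one]⟩).exists_le_sylow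
  exact ⟨P, hP (mem_zpowers y)⟩

omit h in
theorem exists_of_dvd {H : Subgroup G} (hd : p ∣ Nat.card H) : ∃ y ∈ H, orderOf y = p := by
  obtain ⟨y, hy⟩ := exists_prime_orderOf_dvd_card' p hd
  exact ⟨y, y.2, by rwa [orderOf_coe]⟩

omit h [Finite G] in
theorem ne_one_of_orderOf {y : G} (hy : orderOf y = p) : y ≠ 1 := fun e => by
  rw [e, orderOf_one] at hy
  exact hp.out.one_lt.ne hy

omit hp in
theorem two_dvd : 2 ∣ Nat.card G := by
  have := h.simple
  by_contra e
  exact not_isSolvable_of_simple h.hna (FT.feit_thompson (Nat.odd_iff.mpr (by omega)))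

theorem caseA (hA : ∀ t : G, orderOf t = 2 → ¬ p ∣ Nat.card (centralizer ({t} : Set G))) :
    False := by
  have := h.simple
  have := Fact.mk Nat.prime_two
  obtain ⟨t, ht⟩ := exists_prime_orderOf_dvd_card' 2 h.two_dvd
  obtain ⟨htt, ht1⟩ := orderOf_eq_two_iff'.mp ht
  have hK := h.ab _ (hA t ht)
  have hti : CentTI (centralizer ({t} : Set G)) := by
    refine centTI_of_cent_le (fun w hw hw1 g hg => ?_) ht1
    by_cases hd : p ∣ Nat.card (centralizer ({w} : Set G))
    swap
    · exact mem_cent.mpr (h.ab _ hd g hg t (mem_cent_comm hw))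
    exfalso
    obtain ⟨y, hy, hyp⟩ := exists_of_dvd hd
    obtain ⟨P, hP⟩ := exists_sylow_mem hyp
    have hy1 := ne_one_of_orderOf hyp
    have hwC := h.L3 P hP hy1 (mem_cent.mp hy).symm
    have hwp : (orderOf w).Coprime p := (hp.out.coprime_iff_not_dvd.mpr fun e =>
      hA t ht (e.trans (orderOf_dvd_natCard _ hw))).symm
    have h4 := h.L4 P hwC hw1 hwp
    obtain ⟨u, huu, hu1, hut, hc⟩ := exists_other_involution h.hna ht
    have key : ∀ v, orderOf v = 2 → y * v ≠ v * y := fun v hv e =>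
      hA v hv (hyp ▸ orderOf_dvd_natCard _ (mem_cent.mpr e))
    have inv : ∀ v, orderOf v = 2 → v * t = t * v → v * y * v⁻¹ = y⁻¹ := fun v hv e =>
      h.inverts P (orderOf_eq_two_iff'.mp hv).1
        (h4 ▸ mem_cent.mpr (hK v (mem_cent.mpr e) w hw))
        (fun e' => key v hv (mem_centralizer_iff.mp e' y hP)) hP
    have h1 := inv t ht rfl
    have h2 := inv u (orderOf_eq_two_iff'.mpr ⟨huu, hu1⟩) hc
    refine key (u * t) (orderOf_eq_two_iff'.mpr ⟨?_, fun e => hut ?_⟩) ?_
    · calc u * t * (u * t) = u * (t * u) * t := by group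
        _ = (u * u) * (t * t) := by rw [← hc]; group
        _ = 1 := by rw [huu, htt, one_mul]
    · rw [eq_inv_of_mul_eq_one_left e, inv_eq_of_mul_eq_one_right htt]
    · have h3 : u * t * y * (u * t)⁻¹ = y := by
        calc u * t * y * (u * t)⁻¹ = u * (t * y * t⁻¹) * u⁻¹ := by group
          _ = (u * y * u⁻¹)⁻¹ := by rw [h1]; group
          _ = y := by rw [h2, inv_inv]
      rw [← h3, inv_mul_cancel_right, h3]
  rcases hti.solvable_or_psl (BSW.isMulCommutative_iff'.mpr hK) ht (self_mem_cent t) with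
    hs | ⟨n, hn, ⟨e⟩⟩
  · exact not_isSolvable_of_simple h.hna hs
  have h4 : 4 ≤ 2 ^ n := by
    calc 4 = 2 ^ 2 := rfl
      _ ≤ 2 ^ n := Nat.pow_le_pow_right (by norm_num) hn
  have hev : 2 ∣ 2 ^ n := dvd_pow_self 2 (by omega)
  obtain ⟨q, hq⟩ : ∃ q, 2 ^ n = q + 1 := ⟨2 ^ n - 1, by omega⟩
  have hsq : (2 ^ n) ^ 2 - 1 = q * (q + 2) := by
    rw [hq]
    exact Nat.sub_eq_of_eq_add (by ring)
  have key : ∀ r : ℕ, r.Prime → r ≠ 2 → r ∣ q * (q + 2) → r = p := fun r hr hr2 hd => by
    obtain ⟨s, x, hs, hx, hi⟩ := psl_even_exists_inverted (by omega) e hr (hsq ▸ hd)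
    exact h.dih hs hr hr2 h.odd hx hi
  obtain ⟨r, hr, hd⟩ := Nat.exists_prime_and_dvd (n := q) (by omega)
  obtain ⟨r', hr', hd'⟩ := Nat.exists_prime_and_dvd (n := q + 2) (by omega)
  have e1 := key r hr (by rintro rfl; omega) (hd.mul_right _)
  have e2 := key r' hr' (by rintro rfl; omega) (hd'.mul_left _)
  subst e1 e2
  exact h.odd ((Nat.prime_dvd_prime_iff_eq hr Nat.prime_two).mp ((Nat.dvd_add_right hd).mp hd'))

theorem caseB {t y : G} (ht : orderOf t = 2) (hy : orderOf y = p) (hty : t * y = y * t) :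
    False := by
  classical
  have := h.simple
  have := Fact.mk Nat.prime_two
  have hp2 : Nat.Coprime 2 p := (Nat.coprime_primes Nat.prime_two hp.out).mpr h.odd.symm
  obtain ⟨htt, ht1⟩ := orderOf_eq_two_iff'.mp ht
  have hy1 := ne_one_of_orderOf hy
  obtain ⟨P, hP⟩ := exists_sylow_mem hy
  have htC := h.L3 P hP hy1 hty
  have hCt := h.L4 P htC ht1 (ht ▸ hp2)
  obtain ⟨S, htS⟩ := exists_sylow_mem ht
  have hSp : ¬ p ∣ Nat.card (S : Subgroup G) := by
    obtain ⟨k, e⟩ := S.isPGroup'.exists_card_eq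
    rw [e]
    exact hp.out.coprime_iff_not_dvd.mp (hp2.symm.pow_right k)
  have hSE : (S : Subgroup G) ≤ centralizer ((S : Subgroup G) : Set G) := fun a ha =>
    mem_centralizer_iff.mpr fun b hb => h.ab _ hSp b hb a ha
  set E := centralizer ((S : Subgroup G) : Set G) with hE
  set C := centralizer ((P : Subgroup G) : Set G) with hC
  set N := normalizer ((P : Subgroup G) : Set G) with hN
  have hEN : E ≤ N := fun a ha => hCt ▸ mem_cent.mpr (mem_centralizer_iff.mp ha t htS).symm
  have hNS : ¬ normalizer ((S : Subgroup G) : Set G) ≤ E := fun e =>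
    h.not_hnpc h.two_dvd (PCompl.hnpc_of_normalizer_le_centralizer S e)
  have hSc : ∀ x ∈ (S : Subgroup G), (orderOf x).Coprime p := fun x hx =>
    (hp.out.coprime_iff_not_dvd.mpr fun e => hSp (e.trans (orderOf_dvd_natCard _ hx))).symm
  have hEp : ¬ p ∣ Nat.card E := fun hd => by
    obtain ⟨z, hz, hzp⟩ := exists_of_dvd hd
    have hzP := mem_sylow P (hEN hz) ⟨1, by rw [hzp, pow_one]⟩
    have h1 : ∀ x ∈ (S : Subgroup G), x ≠ 1 → centralizer ({x} : Set G) = N := fun x hx hx1 =>
      h.L4 P (h.L3 P hzP (ne_one_of_orderOf hzp) (mem_centralizer_iff.mp hz x hx)) hx1 (hSc x hx)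
    refine hNS fun g hg => mem_centralizer_iff.mpr fun x hx => ?_
    by_cases hx1 : x = 1
    · simp [hx1]
    have hgN : g ∈ N := by
      refine P.normalizer_normalizer.le (mem_normalizer_of_conj_mem (H := N) fun n hn => ?_)
      rw [← h1 _ (conj_mem_of_mem_normalizer hg htS) (by simpa using ht1)]
      rw [← hCt] at hn
      refine mem_cent.mpr ?_
      calc g * n * g⁻¹ * (g * t * g⁻¹) = g * (n * t) * g⁻¹ := by group
        _ = _ := by rw [mem_cent.mp hn]; group
    exact (mem_cent.mp (h1 x hx hx1 ▸ hgN)).symm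
  have hEc : ∀ x ∈ E, (orderOf x).Coprime p := fun x hx =>
    (hp.out.coprime_iff_not_dvd.mpr fun e => hEp (e.trans (orderOf_dvd_natCard _ hx))).symm
  have hEab := h.ab _ hEp
  obtain ⟨b, hbN, hbp⟩ : ∃ b ∈ normalizer ((S : Subgroup G) : Set G), orderOf b = p := by
    refine exists_of_dvd (by_contra fun e => hNS fun g hg => mem_centralizer_iff.mpr fun x hx => ?_)
    exact h.ab _ e x (le_normalizer hx) g hg
  have hbE : b ∉ E := fun e => hEp (hbp ▸ orderOf_dvd_natCard _ e)
  have hb1 := ne_one_of_orderOf hbp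
  have fpf : ∀ e ∈ E, b * e = e * b → e = 1 := fun e he hc => by
    by_contra he1
    obtain ⟨Q, hQ⟩ := exists_sylow_mem hbp
    have h1 := h.L4 Q (h.L3 Q hQ hb1 hc.symm) he1 (hEc e he)
    refine hbE (mem_centralizer_iff.mpr fun x hx => ?_)
    have hxN : x ∈ normalizer ((Q : Subgroup G) : Set G) :=
      h1 ▸ mem_cent.mpr (mem_centralizer_iff.mp he x hx)
    have h2 : x * b * x⁻¹ * b⁻¹ ∈ (Q : Subgroup G) :=
      mul_mem (conj_mem_of_mem_normalizer hxN hQ) (inv_mem hQ)
    have h3 : x * b * x⁻¹ * b⁻¹ ∈ (S : Subgroup G) := by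
      rw [mul_assoc, mul_assoc, ← mul_assoc b]
      exact mul_mem hx (conj_mem_of_mem_normalizer hbN (inv_mem hx))
    have h4 := IsPGroup.disjoint_of_ne p 2 h.odd _ _ Q.isPGroup' S.isPGroup'
    have h5 := disjoint_def.mp h4 h2 h3
    rw [mul_inv_eq_one, mul_inv_eq_iff_eq_mul] at h5
    exact h5
  have hconjE : ∀ c ∈ zpowers b, ∀ e ∈ E, c * e * c⁻¹ ∈ E := fun c hc e he =>
    conj_mem_of_mem_normalizer (Cop.normalizer_le_normalizer_centralizer _
      (zpowers_le.mpr hbN hc)) he
  have hgen : ∀ c ∈ zpowers b, c ≠ 1 → orderOf c = p ∧ b ∈ zpowers c := fun c hc hc1 => by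
    have h1 : orderOf c ∣ p := by
      rw [← hbp, ← Nat.card_zpowers b]
      exact orderOf_dvd_natCard _ hc
    have h2 : orderOf c = p := ((Nat.dvd_prime hp.out).mp h1).resolve_left
      fun e => hc1 (orderOf_eq_one_iff.mp e)
    refine ⟨h2, ?_⟩
    rw [eq_of_le_of_card_le (zpowers_le.mpr hc) (by simp [Nat.card_zpowers, h2, hbp])]
    exact mem_zpowers b
  have TI : ∀ z ∈ E, z ∈ C → ∀ c ∈ zpowers b, c ≠ 1 → c * z * c⁻¹ ∈ C → z = 1 :=
      fun z hzE hzC c hc hc1 hcz => by
    by_contra hz1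
    have h1 := h.L4 P hzC hz1 (hEc z hzE)
    have h2 := h.L4 P hcz (by simpa using hz1) (hEc _ (hconjE c hc z hzE))
    have hcN : c ∈ N := by
      refine P.normalizer_normalizer.le (mem_normalizer_of_conj_mem (H := N) fun n hn => ?_)
      rw [hN, ← h2]
      rw [hN, ← h1] at hn
      refine mem_cent.mpr ?_
      calc c * n * c⁻¹ * (c * z * c⁻¹) = c * (n * z) * c⁻¹ := by group
        _ = _ := by rw [mem_cent.mp hn]; group
    obtain ⟨h3, h4⟩ := hgen c hc hc1
    have hcP := mem_sylow P hcN ⟨1, by rw [h3, pow_one]⟩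
    have h5 : c ∈ centralizer ({z} : Set G) := mem_cent.mpr (mem_centralizer_iff.mp hzC c hcP)
    exact hz1 (fpf z hzE (mem_cent.mp (zpowers_le.mpr h5 h4)))
  have htE := hSE htS
  have hinv : ∀ c ∈ zpowers b, c ≠ 1 → ∀ a ∈ (P : Subgroup G),
      (c * t * c⁻¹) * a * (c * t * c⁻¹)⁻¹ = a⁻¹ := fun c hc hc1 a ha =>
    h.inverts P (by rw [conj_mul, htt]; simp) (hEN (hconjE c hc t htE))
      (fun e => ht1 (TI t htE htC c hc hc1 e)) ha
  have two_inv : ∀ u v : G, u * y * u⁻¹ = y⁻¹ → v * y * v⁻¹ = y⁻¹ → u * v ∈ C := fun u v hu hv => by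
    refine h.L3 P hP hy1 ?_
    have h3 : u * v * y * (u * v)⁻¹ = y := by
      calc u * v * y * (u * v)⁻¹ = u * (v * y * v⁻¹) * u⁻¹ := by group
        _ = (u * y * u⁻¹)⁻¹ := by rw [hv]; group
        _ = y := by rw [hu, inv_inv]
    rw [← h3, inv_mul_cancel_right, h3]
  have hpow : ∀ k : ℕ, ¬ p ∣ k → b ^ k ≠ 1 := fun k hk e =>
    hk (hbp ▸ orderOf_dvd_of_pow_eq_one e)
  have hb2 : b ^ 2 ≠ 1 := hpow 2 fun e =>
    h.odd ((Nat.prime_dvd_prime_iff_eq hp.out Nat.prime_two).mp e)
  set s := b * t * b⁻¹ with hs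
  set s' := b ^ 2 * t * (b ^ 2)⁻¹ with hs'
  have hsE : s ∈ E := hconjE b (mem_zpowers b) t htE
  have hsE' : s' ∈ E := hconjE _ (npow_mem_zpowers b 2) t htE
  have hss : s * s = 1 := by rw [hs, conj_mul, htt]; simp
  have hsy := hinv b (mem_zpowers b) hb1
  have hsy' := hinv _ (npow_mem_zpowers b 2) hb2
  have hss1 : s * s' ≠ 1 := fun e => by
    have h1 : s' = s := by rw [eq_inv_of_mul_eq_one_right e, inv_eq_of_mul_eq_one_right hss]
    refine ht1 (fpf t htE ?_)
    calc b * t = b⁻¹ * s' * b * b := by rw [hs', pow_two]; group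
      _ = t * b := by rw [h1, hs]; group
  have hssC := two_inv s s' (hsy y hP) (hsy' y hP)
  have hp3 : p = 3 := by
    by_contra hp3
    have hb3 : b ^ 3 ≠ 1 := hpow 3 fun e =>
      hp3 ((Nat.prime_dvd_prime_iff_eq hp.out Nat.prime_three).mp e)
    refine hss1 (TI _ (mul_mem hsE hsE') hssC b (mem_zpowers b) hb1 ?_)
    have := two_inv _ _ (hsy' y hP) (hinv _ (npow_mem_zpowers b 3) hb3 y hP)
    convert this using 1
    simp only [hs, hs', pow_succ, pow_zero, one_mul, mul_inv_rev, mul_assoc, inv_mul_cancel_left]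
  have hdich : ∀ g ∈ N, g ∈ C ∨ g * y * g⁻¹ = y⁻¹ := fun g hg => by
    have := h.cyc P P.isPGroup'
    have h1 := conj_mem_of_mem_normalizer (zpowers_norm hP hg) (mem_zpowers y)
    have hy3 : y ^ 3 = 1 := by rw [← hp3, ← hy, pow_orderOf_eq_one]
    rw [mem_zpowers_iff_mem_range_orderOf, hy, hp3] at h1
    simp only [Finset.mem_image, Finset.mem_range] at h1
    obtain ⟨k, hk, e⟩ := h1
    interval_cases k
    · exact absurd (by simpa using e.symm) hy1
    · left
      refine h.L3 P hP hy1 ?_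
      rw [pow_one] at e
      rw [eq_comm, mul_inv_eq_iff_eq_mul] at e
      exact e
    · right
      rw [← e]
      exact eq_inv_of_mul_eq_one_left (by rw [← pow_succ, hy3])
  have hE0 : ∀ z ∈ E, z ∈ C → z = 1 ∨ z = t := fun z hz hzC => by
    refine or_iff_not_imp_left.mpr fun hz1 => ?_
    have h1 := (hdich _ (hEN (hconjE b (mem_zpowers b) z hz))).resolve_left
      fun e => hz1 (TI z hz hzC b (mem_zpowers b) hb1 e)
    have h2 := TI (z * t) (mul_mem hz htE) (mul_mem hzC htC) b (mem_zpowers b) hb1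
      (by rw [← conj_mul (a := z)]; exact two_inv _ _ h1 (hsy y hP))
    rw [eq_inv_of_mul_eq_one_left h2, inv_eq_of_mul_eq_one_right htt]
  have hO : ∀ z ∈ C, (orderOf z).Coprime p → z = 1 ∨ z = t := fun z hz hc => by
    by_cases hz1 : z = 1
    · exact Or.inl hz1
    refine hE0 z (mem_centralizer_iff.mpr fun x hx => ?_) hz
    exact mem_cent.mp (h.L4 P hz hz1 hc ▸ hEN (hSE hx))
  have hCN : C ≤ N := centralizer_le_normalizer _
  have hdec : ∀ k ∈ C, ∃ a ∈ zpowers k, ∃ v ∈ zpowers k, k = a * v ∧ a ∈ (P : Subgroup G) ∧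
      (v = 1 ∨ v = t) := fun k hk => by
    obtain ⟨u, hu, v, hv, e, -, hk', hc⟩ := exists_p_part hp.out k
    exact ⟨u, hu, v, hv, e, mem_sylow P (hCN (zpowers_le.mpr hk hu)) hk',
      hO v (zpowers_le.mpr hk hv) hc⟩
  have hst : s * t = t * s := hEab s hsE t htE
  have hsetup : Setup C t s := by
    refine ⟨ht, htC, fun x hx => mem_cent.mp (hCt ▸ hCN hx), fun x hx hxx => hO x hx ?_, ?_, hst,
      fun e => ht1 (TI t htE htC b (mem_zpowers b) hb1 e), fun u hu huC => ?_,
      fun x hx hx1 g hg => ?_, fun u hu => ?_⟩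
    · exact Nat.Coprime.coprime_dvd_left (orderOf_dvd_of_pow_eq_one (by rwa [pow_two])) hp2
    · have h1 : 2 ∣ Nat.card C := ht ▸ orderOf_dvd_natCard _ htC
      have h2 : 3 ∣ Nat.card C := hp3 ▸ hy ▸ orderOf_dvd_natCard _ (h.P_le_C P hP)
      have h3 : 0 < Nat.card C := Nat.card_pos
      omega
    · have h1 := (hdich u (hCt ▸ mem_cent.mpr hu)).resolve_left huC
      obtain ⟨a, -, v, -, e, ha, hv⟩ := hdec _ (two_inv u s h1 (hsy y hP))
      have h2 : u = a * v * s := by rw [← e, mul_assoc, hss, mul_one]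
      have h3 : s * a = a⁻¹ * s := by rw [← hsy a ha, inv_mul_cancel_right]
      have h4 : t * a = a * t := (mem_centralizer_iff.mp htC a ha).symm
      rcases hv with rfl | rfl
      · rw [h2]
        calc a * 1 * s * (a * 1 * s) = a * (s * a) * s := by group
          _ = s * s := by rw [h3]; group
          _ = 1 := hss
      · rw [h2]
        calc a * v * s * (a * v * s) = a * v * (s * a) * v * s := by group
          _ = a * (v * a⁻¹) * (s * v) * s := by rw [h3]; group
          _ = (v * v) * (s * s) := by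
            rw [hst, (show v * a⁻¹ = a⁻¹ * v from (Commute.inv_right h4).eq)]; group
          _ = 1 := by rw [htt, hss, one_mul]
    · obtain ⟨a, ha', v, hv', e, ha, hv⟩ := hdec x hx
      have hg' : zpowers x ≤ centralizer ({g} : Set G) := zpowers_le.mpr (mem_cent.mpr hg.symm)
      by_cases ha1 : a = 1
      · rcases hv with rfl | rfl
        · exact absurd (by rw [e, ha1, one_mul]) hx1
        · exact (mem_cent.mp (hg' hv')).symm
      · exact mem_cent.mp (hCt ▸ hCN (h.L3 P ha ha1 (mem_cent.mp (hg' ha')).symm))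
    · obtain ⟨g, hg⟩ := exists_conj_mem_sylow S (u := u) (k := 1) (by rw [hu, pow_one])
      have hgE := hSE hg
      have hg1 : g * u * g⁻¹ ≠ 1 := by simpa using (orderOf_eq_two_iff'.mp hu).2
      have hss' : s * s' = t := (hE0 _ (mul_mem hsE hsE') hssC).resolve_left hss1
      rcases hdich _ (hEN hgE) with h1 | h1
      · refine ⟨g⁻¹, ?_⟩
        rw [← (hE0 _ hgE h1).resolve_left hg1]
        group
      · rcases hE0 _ (mul_mem hsE hgE) (two_inv _ _ (hsy y hP) h1) with h2 | h2
        · refine ⟨g⁻¹ * b, ?_⟩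
          have h3 : g * u * g⁻¹ = s := by
            rw [eq_inv_of_mul_eq_one_right h2, inv_eq_of_mul_eq_one_right hss]
          calc g⁻¹ * b * t * (g⁻¹ * b)⁻¹ = g⁻¹ * s * g := by rw [hs]; group
            _ = u := by rw [← h3]; group
        · refine ⟨g⁻¹ * b ^ 2, ?_⟩
          have h3 : g * u * g⁻¹ = s' := mul_left_cancel (h2.trans hss'.symm)
          calc g⁻¹ * b ^ 2 * t * (g⁻¹ * b ^ 2)⁻¹ = g⁻¹ * s' * g := by rw [hs']; group
            _ = u := by rw [← h3]; group
  obtain ⟨u, v, hu, hv, hn⟩ := hsetup.exists_not_inK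
  have huu := (orderOf_eq_two_iff'.mp hu).1
  have hvv := (orderOf_eq_two_iff'.mp hv).1
  have hw1 : u * v ≠ 1 := fun e => hn (e ▸ inK_one C)
  have hw : u * (u * v) * u⁻¹ = (u * v)⁻¹ := by
    rw [← mul_assoc, huu, one_mul, mul_inv_rev, inv_eq_of_mul_eq_one_right hvv]
  obtain ⟨r, hr, hd⟩ := Nat.exists_prime_and_dvd (mt orderOf_eq_one_iff.mp hw1)
  set x := (u * v) ^ (orderOf (u * v) / r) with hx
  have hxr : orderOf x = r := orderOf_pow_orderOf_div (orderOf_pos _).ne' hd
  have hx1 : x ≠ 1 := fun e => by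
    rw [e, orderOf_one] at hxr
    exact hr.one_lt.ne hxr
  refine hn (hsetup.inK_of_comm (x := x) ?_ hx1 (Commute.self_pow _ _).eq)
  by_cases hr2 : r = 2
  · exact hsetup.inK_of_orderOf (hxr.trans hr2)
  have hrp := h.dih (s := u) (by rwa [pow_two]) hr hr2 h.odd hxr
    (by rw [hx, ← conj_pow, hw, inv_pow])
  obtain ⟨g, hg⟩ := exists_conj_mem_sylow P (u := x) (k := 1) (by rw [hxr, hrp, pow_one])
  exact ⟨g, h.P_le_C P hg⟩

theorem false : False := by
  refine h.caseA fun t ht hd => ?_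
  obtain ⟨y, hy, hyp⟩ := exists_of_dvd hd
  exact h.caseB ht hyp (mem_cent.mp hy).symm

end Min

theorem Hyp.isSolvable (h : Hyp p G) : Group.IsSolvable G := by
  refine H8TwoGen.solvable_of_hereditary (fun X _ => Hyp p X) (fun X _ _ hX H => hX.subgroup H)
    (fun X _ _ hX N _ _ => hX.quotient N) (fun X _ _ hX h1 h2 => ?_) G h
  by_contra hns
  have hna : ¬ IsMulCommutative X := fun e => hns (isSolvable_of_comm e.is_comm.comm)
  have : Nontrivial X := by
    by_contra e
    rw [not_nontrivial_iff_subsingleton] at e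
    exact hns inferInstance
  refine Min.false ⟨hX, ⟨h2⟩, hna, h1, fun e => hns ?_⟩
  subst e
  exact isSolvable_of_isCyclic_sylow_two default (hX.cyc _ (default : Sylow 2 X).isPGroup')

end CfsgLib.CycAb
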