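import Mathlib
import Cfsg.Agent.Lib.ClassCount

/-!
# Orbits of vectors of coprime lengths in linear representations
-/

set_option autoImplicit false

namespace CfsgLib.OrbitRep

open Subgroup

variable {k V H : Type*} [Field k] [AddCommGroup V] [Module k V] [Group H]

/-- stabilizer of a vector -/
def stab (ρ : Representation k H V) (a : V) : Subgroup H where
  carrier := {h | ρ h a = a}
  one_mem' := by simp
  mul_mem' := fun {x y} hx hy => by
    simp only [Set.mem_ofPred_eq, map_mul, Module.End.mul_apply] at hx hy ⊢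
    rw [hy, hx]
  inv_mem' := fun {x} hx => by
    simp only [Set.mem_ofPred_eq] at hx ⊢
    rw [Representation.inv_apply_eq_iff, hx]

theorem mem_stab {ρ : Representation k H V} {a : V} {h : H} : h ∈ stab ρ a ↔ ρ h a = a := Iff.rfl

theorem card_orbit (ρ : Representation k H V) (a : V) :
    Nat.card {u : V | ∃ h : H, ρ h a = u} = (stab ρ a).index := by
  let _ : MulAction H V :=
    { smul := fun h v => ρ h v
      one_smul := fun v => by change ρ 1 v = v; simp
      mul_smul := fun x y v => by change ρ (x * y) v = ρ x (ρ y v); simp }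
  have : stab ρ a = MulAction.stabilizer H a := by ext; rfl
  rw [this, MulAction.index_stabilizer, Nat.card_coe_set_eq]
  rfl

theorem index_stab_apply (ρ : Representation k H V) (a : V) (h : H) :
    (stab ρ (ρ h a)).index = (stab ρ a).index := by
  rw [← card_orbit, ← card_orbit]
  congr 2
  ext u
  constructor
  · rintro ⟨g, rfl⟩; exact ⟨g * h, by simp⟩
  · rintro ⟨g, rfl⟩; exact ⟨g * h⁻¹, by simp⟩

theorem relIndex_dvd_index_of_normal_right [Finite H] (S N : Subgroup H) [N.Normal] :
    S.relIndex N ∣ S.index := by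
  have e3 := relIndex_mul_index (inf_le_left : S ⊓ N ≤ S)
  have e4 := relIndex_mul_index (inf_le_right : S ⊓ N ≤ N)
  rw [inf_relIndex_left] at e3
  rw [inf_relIndex_right] at e4
  obtain ⟨c, hc⟩ := relIndex_dvd_index_of_normal N S
  refine ⟨c, ?_⟩
  have hpos : 0 < N.relIndex S := Nat.pos_of_ne_zero index_ne_zero_of_finite
  apply Nat.eq_of_mul_eq_mul_left hpos
  rw [e3, ← e4, hc]; ring

/-- sum over a subgroup -/
noncomputable def subSum [Finite H] (ρ : Representation k H V) (S : Subgroup H) : V →ₗ[k] V :=
  have := Fintype.ofFinite S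
  Representation.norm (ρ.comp S.subtype)

theorem subSum_apply_mem [Finite H] (ρ : Representation k H V) (S : Subgroup H) {s : H}
    (hs : s ∈ S) (v : V) : subSum ρ S (ρ s v) = subSum ρ S v :=
  have := Fintype.ofFinite S
  by
    have h := Representation.norm_self_apply (ρ.comp S.subtype) ⟨s, hs⟩ v
    unfold subSum
    convert h; rfl

theorem apply_subSum [Finite H] (ρ : Representation k H V) (S : Subgroup H) {s : H}
    (hs : s ∈ S) (v : V) : ρ s (subSum ρ S v) = subSum ρ S v :=
  have := Fintype.ofFinite S
  by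
    have h := Representation.self_norm_apply (ρ.comp S.subtype) ⟨s, hs⟩ v
    unfold subSum
    convert h; rfl

theorem subSum_eq_sum [Finite H] (ρ : Representation k H V) (S : Subgroup H) [Fintype S] (v : V) :
    subSum ρ S v = ∑ s : S, ρ s v := by
  unfold subSum Representation.norm
  rw [LinearMap.sum_apply]
  convert rfl
  rfl

theorem subSum_of_fixed [Finite H] (ρ : Representation k H V) (S : Subgroup H) {v : V}
    (hv : ∀ s ∈ S, ρ s v = v) : subSum ρ S v = (Nat.card S : k) • v := by
  have := Fintype.ofFinite S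
  rw [subSum_eq_sum, Finset.sum_congr rfl fun s _ => hv s.1 s.2, Finset.sum_const,
    Finset.card_univ, Nat.card_eq_fintype_card, Nat.cast_smul_eq_nsmul]

theorem subSum_comm [Finite H] (ρ : Representation k H V) (N : Subgroup H) [hN : N.Normal]
    (h : H) (v : V) : subSum ρ N (ρ h v) = ρ h (subSum ρ N v) := by
  have := Fintype.ofFinite N
  rw [subSum_eq_sum, subSum_eq_sum, map_sum]
  refine (Fintype.sum_equiv (MulAut.conjNormal h).toEquiv _ _ fun n => ?_).symm
  simp [← Module.End.mul_apply, ← map_mul]

theorem cast_card_ne_zero_of_le [Finite H] {S N : Subgroup H} (h : S ≤ N)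
    (hN : (Nat.card N : k) ≠ 0) : (Nat.card S : k) ≠ 0 := by
  obtain ⟨c, hc⟩ := card_dvd_of_le h
  intro h0
  apply hN
  rw [hc, Nat.cast_mul, h0, zero_mul]

/-- If the orbit of `a` spans, `N` is normal of invertible order and `b` has orbit length coprime
to that of `a`, then `N` fixes `b`. -/
theorem fixed_of_coprime [Finite H] (ρ : Representation k H V) (N : Subgroup H) [N.Normal]
    (hN : (Nat.card N : k) ≠ 0) {a : V}
    (hspan : Submodule.span k {u : V | ∃ h : H, ρ h a = u} = ⊤) {b : V}
    (hab : (stab ρ a).index.Coprime (stab ρ b).index) : ∀ n ∈ N, ρ n b = b := by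
  have := Fintype.ofFinite N
  set B := N ⊓ stab ρ b with hB
  have hBc : (Nat.card B : k) ≠ 0 := cast_card_ne_zero_of_le inf_le_left hN
  have h1 : ∀ h : H, ∀ n ∈ N, subSum ρ B (ρ n (ρ h a)) = subSum ρ B (ρ h a) := by
    intro h n hn
    have hc : ((stab ρ b).subgroupOf N).index.Coprime ((stab ρ (ρ h a)).subgroupOf N).index := by
      have key : ∀ S : Subgroup H, (S.subgroupOf N).index ∣ S.index := fun S =>
        relIndex_dvd_index_of_normal_right S N
      refine Nat.Coprime.coprime_dvd_left (key _) (Nat.Coprime.coprime_dvd_right (key _) ?_)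
      rw [index_stab_apply]; exact hab.symm
    obtain ⟨x, hx, y, hy, e⟩ := ClassCount.exists_mul_of_coprime_index hc ⟨n, hn⟩
    have e' : n = x * y := congrArg Subtype.val e
    rw [e', map_mul, Module.End.mul_apply, mem_stab.mp (mem_subgroupOf.mp hy)]
    exact subSum_apply_mem ρ B ⟨x.2, mem_subgroupOf.mp hx⟩ _
  have h2 : (Nat.card N : k) • subSum ρ B = (Nat.card B : k) • subSum ρ N := by
    apply LinearMap.ext_on hspan
    rintro _ ⟨h, rfl⟩
    rw [LinearMap.smul_apply, LinearMap.smul_apply,
      ← subSum_of_fixed ρ B fun s hs => apply_subSum ρ N hs.1 _, subSum_eq_sum ρ N, map_sum,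
      Finset.sum_congr rfl fun n _ => h1 h n.1 n.2, Finset.sum_const,
      Finset.card_univ, Nat.card_eq_fintype_card, Nat.cast_smul_eq_nsmul]
  have h3 : (Nat.card N : k) • b = subSum ρ N b := by
    have := LinearMap.congr_fun h2 b
    rw [LinearMap.smul_apply, LinearMap.smul_apply, subSum_of_fixed ρ B fun s hs => hs.2,
      smul_comm] at this
    exact smul_right_injective V hBc this
  intro n hn
  apply smul_right_injective V hN
  simp only
  rw [← map_smul, h3, apply_subSum ρ N hn]

theorem finrank_le_one_of_le_span {W : Submodule k V} {v : V} (h : W ≤ Submodule.span k {v}) :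
    Module.finrank k W ≤ 1 :=
  (Submodule.finrank_mono h).trans (by simpa using finrank_span_le_card (R := k) ({v} : Set V))

theorem invariants_le_span [Finite H] (ρ : Representation k H V) (hN : (Nat.card H : k) ≠ 0)
    {a : V} (hspan : Submodule.span k {u : V | ∃ h : H, ρ h a = u} = ⊤) :
    ρ.invariants ≤ Submodule.span k {subSum ρ ⊤ a} := by
  have h1 : Submodule.span k {u : V | ∃ h : H, ρ h a = u} ≤
      (Submodule.span k {subSum ρ ⊤ a}).comap (subSum ρ ⊤) := by
    rw [Submodule.span_le]
    rintro _ ⟨h, rfl⟩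
    rw [SetLike.mem_coe, Submodule.mem_comap, subSum_apply_mem ρ ⊤ (mem_top h)]
    exact Submodule.mem_span_singleton_self _
  intro v hv
  have h2 : subSum ρ ⊤ v ∈ Submodule.span k {subSum ρ ⊤ a} := h1 (hspan ▸ Submodule.mem_top)
  rw [subSum_of_fixed ρ ⊤ fun s _ => hv s, card_top] at h2
  exact (Submodule.smul_mem_iff _ hN).mp h2

end CfsgLib.OrbitRep
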