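import Cfsg.Agent.Lib.SE.Main
import Cfsg.Agent.Lib.SE.Free
import Cfsg.Agent.Lib.Suz.Main
import Cfsg.Agent.Lib.CoreSimpleInd
import Cfsg.Agent.Lib.H5SL2Tori
import Cfsg.Agent.Lib.H5ClassGraph
import Cfsg.Agent.Lib.SL2Card
import Cfsg.Agent.Lib.OrbitRep
import Cfsg.Agent.Lib.BSW.SelfNorm
import Cfsg.Agent.Lib.CharFrobenius

/-!
# Groups with abelian Sylow `2`-subgroups and a `2`-complement are solvable
-/

set_option autoImplicit false

namespace CfsgLib.AbTI

open Subgroup Cfsg MatrixGroups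

universe u

/-- A non-solvable simple group has `2`-rank at least two. -/
theorem rk2_of_simple {G : Type u} [Group G] [Finite G] [IsSimpleGroup G]
    (hns : ¬ Group.IsSolvable G) : SE.Rk2 (⊤ : Subgroup G) := by
  by_contra h
  have : Fact (Nat.Prime 2) := ⟨Nat.prime_two⟩
  obtain ⟨z, hz⟩ := exists_prime_orderOf_dvd_card' 2
    (even_iff_two_dvd.1 (even_card_of_not_isSolvable hns))
  have hi : SE.IsInv z := ⟨by rw [← pow_two, ← hz, pow_orderOf_eq_one], by
    rintro rfl; simp at hz⟩
  have hO : pPrimeCore 2 G = ⊥ := by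
    refine (IsSimpleGroup.eq_bot_or_eq_top_of_normal (pPrimeCore 2 G) inferInstance).resolve_right
      fun e => ?_
    have := not_dvd_card_pPrimeCore (G := G) 2
    rw [e, card_top] at this
    exact this (even_iff_two_dvd.1 (even_card_of_not_isSolvable hns))
  have hc : z ∈ center G := mem_center_iff.2 fun g => by
    have h1 := SE.zstar_of_not_rk2 h hi trivial (g := g) trivial
    have h2 : piCoreOf {2}ᶜ (⊤ : Subgroup G) ≤ pPrimeCore 2 G := by
      have : (piCoreOf {2}ᶜ (⊤ : Subgroup G)).Normal :=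
        normalizer_eq_top_iff.1 (top_le_iff.1 (FT.le_norm_piCoreOf _ _))
      exact le_pPrimeCore (Nat.coprime_two_right.2 (SE.odd_piCoreOf _))
    have h3 := h2 h1
    rw [hO, mem_bot] at h3
    calc g * z = g * z * g⁻¹ * z⁻¹ * (z * g) := by group
      _ = z * g := by rw [h3, one_mul]
  rcases IsSimpleGroup.eq_bot_or_eq_top_of_normal (center G) inferInstance with e | e
  · rw [e] at hc; exact hi.2 hc
  · refine hns (Group.isSolvable_of_comm fun a b => ?_)
    exact (mem_center_iff.1 (e ▸ mem_top b : b ∈ center G) a)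

/-- Simple groups with abelian Sylow `2`-subgroups which are normal in the centralizers of their
involutions. -/
theorem sl2_of_ti {G : Type u} [Group G] [Finite G] [IsSimpleGroup G]
    (hns : ¬ Group.IsSolvable G) (hA : H1.AbTwo G) (P : Sylow 2 G)
    (hC : ∀ t ∈ (P : Subgroup G), SE.IsInv t →
      centralizer ({t} : Set G) ≤ normalizer ((P : Subgroup G) : Set G)) :
    ∃ n : ℕ, 2 ≤ n ∧ Nonempty (G ≃* SL(2, GaloisField 2 n)) := by
  have : Fact (Nat.Prime 2) := ⟨Nat.prime_two⟩
  have hs : Group.IsSolvable (normalizer ((P : Subgroup G) : Set G)) :=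
    @isSolvable_of_normal_sylow_two _ _ _ (P.subtype (le_normalizer (H := (P : Subgroup G))))
      (normal_subgroupOf_of_le_normalizer (H := normalizer ((P : Subgroup G) : Set G)) (N := P)
        le_rfl)
  have hne : normalizer ((P : Subgroup G) : Set G) ≠ ⊤ := fun h => hns (by
    rw [h] at hs
    exact Group.isSolvable_of_surjective (f := (topEquiv (G := G)).toMonoidHom) topEquiv.surjective)
  -- `2`-subgroups of the normalizer lie in `P`
  have hin : ∀ X : Subgroup G, IsPGroup 2 X → X ≤ normalizer ((P : Subgroup G) : Set G) →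
      X ≤ P := fun X hX h => by
    have := P.is_maximal' (IsPGroup.to_sup_of_normal_left' P.2 hX h) le_sup_left
    exact le_sup_right.trans this.le
  have hinv : ∀ u, SE.IsInv u → u ∈ normalizer ((P : Subgroup G) : Set G) →
      u ∈ (P : Subgroup G) := fun u hu h =>
    hin (zpowers u) (IsPGroup.of_card (n := 1) (by rw [Nat.card_zpowers, hu.orderOf, pow_one]))
      (zpowers_le.2 h) (mem_zpowers u)
  have hr := rk2_of_simple hns
  obtain ⟨a, -, -, -, ha, -⟩ := id hr
  obtain ⟨Q, hQ⟩ := (IsPGroup.of_card (p := 2) (G := zpowers a) (n := 1)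
    (by rw [Nat.card_zpowers, ha.orderOf, pow_one])).exists_le_sylow
  obtain ⟨x, rfl⟩ := MulAction.exists_smul_eq G P Q
  have hax : x⁻¹ * a * x ∈ (P : Subgroup G) := by
    have := hQ (mem_zpowers a)
    rw [Sylow.coe_subgroup_smul, mem_pointwise_smul_iff_inv_smul_mem] at this
    simpa using this
  have hse : IsStronglyEmbedded (normalizer ((P : Subgroup G) : Set G)) := by
    refine SE.isStronglyEmbedded_of hne (a := x⁻¹ * a * x) (by simpa using ha.conj x⁻¹)
      (le_normalizer hax) fun u g hu h1 h2 => ?_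
    have h3 := hinv u hu h1
    have h4 := hinv _ (hu.conj g) h2
    have h5 : ((g⁻¹ • P : Sylow 2 G) : Subgroup G) ≤ centralizer ({u} : Set G) := fun y hy => by
      rw [Sylow.coe_subgroup_smul, mem_pointwise_smul_iff_inv_smul_mem] at hy
      have hy' : g * y * g⁻¹ ∈ (P : Subgroup G) := by simpa using hy
      have := congrArg Subtype.val ((hA P P.2).is_comm.comm ⟨_, hy'⟩ ⟨_, h4⟩)
      rw [mem_centralizer_singleton_iff]
      simp only [coe_mul] at this
      have e : g * (y * u) * g⁻¹ = g * (u * y) * g⁻¹ := by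
        calc g * (y * u) * g⁻¹ = g * y * g⁻¹ * (g * u * g⁻¹) := by group
          _ = g * u * g⁻¹ * (g * y * g⁻¹) := this
          _ = g * (u * y) * g⁻¹ := by group
      simpa using e
    have h6 := hin _ (g⁻¹ • P : Sylow 2 G).2 (h5.trans (hC u h3 hu))
    have h7 : g⁻¹ • P = P := Sylow.ext ((g⁻¹ • P : Sylow 2 G).is_maximal' P.2 h6).symm
    simpa using inv_mem (Sylow.smul_eq_iff_mem_normalizer.1 h7)
  obtain ⟨Q, t, R, hQ⟩ := SE.bender_solvable hse hs (SE.normalCore_eq_bot_of_simple hne) hr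
    (Or.inl hA)
  obtain ⟨n, h3, -, -, h4, -⟩ := R.simple_of_comm hQ fun x hx y hy =>
    congrArg Subtype.val ((hA Q (R.isPGroup_two hQ)).is_comm.comm ⟨x, hx⟩ ⟨y, hy⟩)
  exact ⟨n, h3, h4⟩

/-- `SL₂(2ⁿ)`, `n ≥ 2`, has no `2`-complement. -/
theorem sl2_no_compl {n k : ℕ} (hn : 2 ≤ n) (D : Subgroup SL(2, GaloisField 2 n))
    (hD : Odd (Nat.card D)) (hk : D.index = 2 ^ k) : False := by
  have hq : Nat.card (GaloisField 2 n) = 2 ^ n := GaloisField.card 2 n (by omega)
  have hq4 : 4 ≤ 2 ^ n := (Nat.pow_le_pow_right (n := 2) (by norm_num) hn)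
  have h1 := D.card_mul_index
  rw [SL2C.card_SL2, hq, hk] at h1
  have hodd : Odd ((2 ^ n) ^ 2 - 1) :=
    Nat.Even.sub_odd (Nat.one_le_iff_ne_zero.2 (by positivity))
      (Even.pow_of_ne_zero (Even.pow_of_ne_zero even_two (by omega)) (by norm_num)) odd_one
  have hdvd : (2 ^ n) ^ 2 - 1 ∣ Nat.card D :=
    (Nat.Coprime.pow_right k (Nat.coprime_two_right.2 hodd)).dvd_of_dvd_mul_right
      ⟨2 ^ n, by rw [h1, mul_comm]⟩
  have hle := Nat.le_of_dvd Nat.card_pos hdvd
  have hs : Group.IsSolvable D := FT.feit_thompson hD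
  have hnt : Nontrivial D := Finite.one_lt_card_iff_nontrivial.1 (by
    generalize 2 ^ n = q at *
    have : 4 * 4 ≤ q * q := Nat.mul_le_mul hq4 hq4
    rw [sq] at hle; omega)
  obtain ⟨M, hM, -⟩ := exists_isMinNormal_le (N := (⊤ : Subgroup D)) top_ne_bot
  have hc := hM.isMulCommutative_of_isSolvable inferInstance
  obtain ⟨y, hy, hy1⟩ := (M.bot_or_exists_ne_one).resolve_left hM.2.1
  have hyo : Odd (orderOf y) := hD.of_dvd_nat (orderOf_dvd_natCard y)
  have htr : ((y : SL(2, GaloisField 2 n)) 0 0 + (y : SL(2, GaloisField 2 n)) 1 1) ^ 2 ≠ 4 :=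
    fun h => by
      have h2 := H5.SL2_pow_of_trace_sq (r := 2) h
      have h3 : y ^ 4 = 1 := Subtype.ext (by rw [← pow_mul] at h2; exact h2)
      have h4 := orderOf_dvd_of_pow_eq_one h3
      exact hy1 (orderOf_eq_one_iff.1 (Nat.Coprime.eq_one_of_dvd
        (Nat.Coprime.pow_right 2 (Nat.coprime_two_right.2 hyo)) h4))
  have hcent : D ≤ centralizer ({(y : SL(2, GaloisField 2 n))} : Set _) := fun d hd => by
    let d' : D := ⟨d, hd⟩
    have h2 : d' * y * d'⁻¹ ∈ M := hM.1.conj_mem y hy d'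
    have h3 := congrArg (fun z : M => ((z : D) : SL(2, GaloisField 2 n)))
      (hc.is_comm.comm ⟨y, hy⟩ ⟨_, h2⟩)
    rw [mem_centralizer_singleton_iff]
    rcases H5.SL2_eq_or_eq_inv htr h3 (H5.SL2_trace_conj d y) with h | h
    · exact mul_inv_eq_iff_eq_mul.1 h
    · have h4 : d' * y * d'⁻¹ = y⁻¹ := Subtype.ext h
      have h5 : d' ^ 2 * y = y * d' ^ 2 := by
        have : d' * (d' * y * d'⁻¹) * d'⁻¹ = y := by
          rw [h4, show d' * y⁻¹ * d'⁻¹ = (d' * y * d'⁻¹)⁻¹ by group, h4, inv_inv]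
        calc d' ^ 2 * y = d' * (d' * y * d'⁻¹) * d'⁻¹ * d' ^ 2 := by rw [sq]; group
          _ = y * d' ^ 2 := by rw [this]
      obtain ⟨j, hj⟩ := hD.of_dvd_nat (orderOf_dvd_natCard d')
      have h6 : d' = (d' ^ 2) ^ (j + 1) := by
        rw [← pow_mul, show 2 * (j + 1) = orderOf d' + 1 by omega, pow_succ, pow_orderOf_eq_one,
          one_mul]
      have h7 : d' * y = y * d' := by
        rw [h6]; exact (Commute.pow_left h5 _).eq
      exact congrArg Subtype.val h7
  have h8 := card_le_of_le hcent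
  have h9 := (H5.SL2_centralizer htr).2
  rw [hq] at h9
  generalize 2 ^ n = q at *
  have : 4 * q ≤ q * q := Nat.mul_le_mul_right _ hq4
  rw [sq] at hle
  omega

/-- A group with abelian Sylow `2`-subgroups and a `2`-complement is solvable. -/
theorem solvable_of_compl (G : Type u) [Group G] [Finite G] :
    H1.AbTwo G → ∀ D : Subgroup G, Odd (Nat.card D) → (∃ k, D.index = 2 ^ k) →
      Group.IsSolvable G := by
  refine card_induction (P := fun X _ _ => H1.AbTwo X → ∀ D : Subgroup X, Odd (Nat.card D) →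
    (∃ k, D.index = 2 ^ k) → Group.IsSolvable X) (fun X _ _ ih hA D hD hk => ?_) G
  have : Fact (Nat.Prime 2) := ⟨Nat.prime_two⟩
  obtain ⟨k, hk⟩ := hk
  have hsub : ∀ C : Subgroup X, Odd (Nat.card (D.subgroupOf C)) := fun C =>
    hD.of_dvd_nat (card_comap_dvd_of_injective _ _ C.subtype_injective)
  rcases subsingleton_or_nontrivial X with h0 | h0
  · infer_instance
  by_cases hs : IsSimpleGroup X
  swap
  · obtain ⟨N, hN, h1, h2⟩ : ∃ N : Subgroup X, N.Normal ∧ N ≠ ⊥ ∧ N ≠ ⊤ := by
      by_contra hc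
      push Not at hc
      exact hs ⟨fun N hN => by by_cases h : N = ⊥; exacts [Or.inl h, Or.inr (hc N hN h)]⟩
    refine isSolvable_of_normal_of_quotient N
      (ih N (card_lt_of_ne_top h2) (hA.of_injective _ N.subtype_injective) _ (hsub N) ?_)
      (ih _ (card_quotient_lt h1) (hA.of_surjective _ (QuotientGroup.mk'_surjective N))
        (D.map (QuotientGroup.mk' N)) (hD.of_dvd_nat (card_map_dvd _ _)) ?_)
    · obtain ⟨j, -, hj⟩ := (Nat.dvd_prime_pow Nat.prime_two).1
        (hk ▸ OrbitRep.relIndex_dvd_index_of_normal_right D N)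
      exact ⟨j, hj⟩
    · obtain ⟨j, -, hj⟩ := (Nat.dvd_prime_pow Nat.prime_two).1
        (hk ▸ D.index_map_dvd (QuotientGroup.mk'_surjective N))
      exact ⟨j, hj⟩
  by_contra hns
  obtain ⟨P⟩ : Nonempty (Sylow 2 X) := inferInstance
  have hDt : D ≠ ⊤ := fun h => by
    rw [h, card_top] at hD
    exact hns (FT.feit_thompson hD)
  have hPk : 2 ^ k ∣ Nat.card (P : Subgroup X) := by
    refine (Nat.Coprime.pow_left k ((Nat.Prime.coprime_iff_not_dvd Nat.prime_two).2
      P.not_dvd_index)).dvd_of_dvd_mul_right ?_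
    rw [card_mul_index, ← hk]
    exact D.index_dvd_card
  obtain ⟨n, hn, ⟨e⟩⟩ := sl2_of_ti hns hA P fun t ht hi => by
    set C := centralizer ({t} : Set X) with hCdef
    have hPC : (P : Subgroup X) ≤ C := fun y hy => mem_centralizer_singleton_iff.2
      (congrArg Subtype.val ((hA P P.2).is_comm.comm ⟨y, hy⟩ ⟨t, ht⟩))
    have hCt : C ≠ ⊤ := fun h => by
      have hc : t ∈ center X := mem_center_iff.2 fun g =>
        mem_centralizer_singleton_iff.1 (show g ∈ C from h ▸ mem_top g)
      rcases IsSimpleGroup.eq_bot_or_eq_top_of_normal (center X) inferInstance with e | e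
      · rw [e] at hc; exact hi.2 hc
      · refine hns (Group.isSolvable_of_comm fun a b => ?_)
        exact (mem_center_iff.1 (e ▸ mem_top b : b ∈ center X) a)
    have hidx : (D.subgroupOf C).index = 2 ^ k := by
      have h1 : D.relIndex C ≤ 2 ^ k := by
        rw [← hk, ← relIndex_top_right]
        exact relIndex_le_of_le_right le_top (by
          rw [relIndex_top_right]; exact D.index_ne_zero_of_finite)
      have h2 : 2 ^ k ∣ D.relIndex C := by
        refine (Nat.Coprime.pow_left k (Nat.coprime_two_left.2 (hsub C))).dvd_of_dvd_mul_left ?_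
        rw [relIndex, card_mul_index]
        exact hPk.trans (card_dvd_of_le hPC)
      exact le_antisymm h1 (Nat.le_of_dvd (Nat.pos_of_ne_zero
        (D.subgroupOf C).index_ne_zero_of_finite) h2)
    have hCs : Group.IsSolvable C := ih C (card_lt_of_ne_top hCt)
      (hA.of_injective _ C.subtype_injective) _ (hsub C) ⟨k, hidx⟩
    have hO : pPrimeCore 2 C = ⊥ := by
      have h1 : pPrimeCore 2 C ≤ D.subgroupOf C := H5.le_of_normal_of_coprime_index (by
        rw [hidx]; exact Nat.Coprime.pow_right k (pPrimeCore_coprime 2))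
      have h2 : (pPrimeCore 2 C).map C.subtype ≤ D.normalCore := by
        rintro _ ⟨o, ho, rfl⟩ g
        obtain ⟨d, hd, c, hc, rfl⟩ := ClassCount.exists_mul_of_coprime_index (K := D)
          (H := (P : Subgroup X)) (by
            rw [hk]
            exact Nat.Coprime.pow_left k ((Nat.Prime.coprime_iff_not_dvd Nat.prime_two).2
              P.not_dvd_index)) g
        have h3 : ((⟨c, hPC hc⟩ * o * (⟨c, hPC hc⟩ : C)⁻¹ : C) : X) ∈ D :=
          h1 ((inferInstance : (pPrimeCore 2 C).Normal).conj_mem o ho _)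
        have h4 := D.mul_mem (D.mul_mem hd h3) (D.inv_mem hd)
        simpa [mul_assoc] using h4
      rw [SE.normalCore_eq_bot_of_simple hDt, le_bot_iff, map_eq_bot_iff_of_injective _
        C.subtype_injective] at h2
      exact h2
    have h3 := centralizer_pCore_le (isPSolvable_of_isSolvable hCs) hO
    have h4 : pCore 2 C ≤ (P.subtype hPC : Sylow 2 C) := pCore_le_sylow _
    have h5 : ((P.subtype hPC : Sylow 2 C) : Subgroup C) = pCore 2 C :=
      le_antisymm (fun (y : C) hy => h3 fun (z : C) hz => Subtype.ext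
        (congrArg (fun w : (P : Subgroup X) => (w : X))
          ((hA P P.2).is_comm.comm ⟨z, h4 hz⟩ ⟨y, hy⟩))) h4
    have h6 : ((P : Subgroup X).subgroupOf C).Normal := by
      have : (pCore 2 C).Normal := inferInstance
      rwa [← h5] at this
    exact (normal_subgroupOf_iff_le_normalizer hPC).1 h6
  exact sl2_no_compl hn (D.map e.toMonoidHom) (hD.of_dvd_nat (card_map_dvd _ _))
    (k := k) (by rw [← hk]; exact index_map_of_bijective e.bijective D)

/-- With abelian Sylow `2`-subgroups, a subgroup of `2`-power index has a core with solvable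
quotient. -/
theorem solvable_quot_core {G : Type u} [Group G] [Finite G] (hA : H1.AbTwo G) {D : Subgroup G}
    {k : ℕ} (hk : D.index = 2 ^ k) : Group.IsSolvable (G ⧸ D.normalCore) := by
  have : Fact (Nat.Prime 2) := ⟨Nat.prime_two⟩
  have hs := QuotientGroup.mk'_surjective D.normalCore
  refine solvable_of_compl _ (hA.of_surjective _ hs) (D.map (QuotientGroup.mk' _)) ?_ ?_
  · rw [← Nat.not_even_iff_odd, even_iff_two_dvd]
    intro h2
    obtain ⟨S, hS, h1, h3⟩ := H9.exists_lift_isPGroup (QuotientGroup.mk' D.normalCore) (K := D)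
      (Q := ((default : Sylow 2 (D.map (QuotientGroup.mk' D.normalCore))) : Subgroup _).map
        (D.map (QuotientGroup.mk' D.normalCore)).subtype) (map_subtype_le _)
      ((default : Sylow 2 (D.map (QuotientGroup.mk' D.normalCore))).2.map _)
    obtain ⟨P, hP⟩ := h1.exists_le_sylow
    have h4 : S ≤ D.normalCore := fun s hs' g => by
      obtain ⟨d, hd, c, hc, rfl⟩ := ClassCount.exists_mul_of_coprime_index (K := D)
        (H := (P : Subgroup G)) (by
          rw [hk]
          exact Nat.Coprime.pow_left k ((Nat.Prime.coprime_iff_not_dvd Nat.prime_two).2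
            P.not_dvd_index)) g
      have h5 : c * s = s * c := congrArg Subtype.val
        ((hA P P.2).is_comm.comm ⟨c, hc⟩ ⟨s, hP hs'⟩)
      have : d * c * s * (d * c)⁻¹ = d * s * d⁻¹ := by rw [mul_assoc d, h5]; group
      rw [this]
      exact D.mul_mem (D.mul_mem hd (hS hs')) (D.inv_mem hd)
    have h5 : S.map (QuotientGroup.mk' D.normalCore) = ⊥ := by
      rwa [Subgroup.map_eq_bot_iff, QuotientGroup.ker_mk']
    rw [h3, map_eq_bot_iff_of_injective _ (subtype_injective _)] at h5
    have h6 := (default : Sylow 2 (D.map (QuotientGroup.mk' D.normalCore))).not_dvd_index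
    rw [h5, index_bot] at h6
    exact h6 h2
  · obtain ⟨j, -, hj⟩ := (Nat.dvd_prime_pow Nat.prime_two).1 (hk ▸ D.index_map_dvd hs)
    exact ⟨j, hj⟩

/-- A perfect normal subgroup of an `A`-group has trivial centre. -/
theorem eq_one_of_cent_perfect {G : Type u} [Group G] [Finite G]
    (hA : ∀ (p : ℕ) [Fact p.Prime] (P : Sylow p G), IsMulCommutative (P : Subgroup G))
    {E : Subgroup G} (hE : ⁅E, E⁆ = E) {z : G} (hz : z ∈ E) (hc : ∀ e ∈ E, e * z = z * e) :
    z = 1 := by
  by_contra h1
  obtain ⟨p, hp, hd⟩ := Nat.exists_prime_and_dvd (fun h => h1 (orderOf_eq_one_iff.1 h))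
  have : Fact p.Prime := ⟨hp⟩
  set y := z ^ (orderOf z / p) with hy
  have hyo : orderOf y = p := orderOf_pow_orderOf_div (orderOf_pos z).ne' hd
  let y' : E := ⟨y, E.pow_mem hz _⟩
  have hyo' : orderOf y' = p := by rw [← orderOf_coe]; exact hyo
  obtain ⟨Q, hQ⟩ := (IsPGroup.of_card (p := p) (G := zpowers y') (n := 1)
    (by rw [Nat.card_zpowers, hyo', pow_one])).exists_le_sylow
  obtain ⟨P, hP⟩ := (Q.2.map E.subtype).exists_le_sylow
  have hQc : IsMulCommutative (Q : Subgroup E) := ⟨⟨fun a b => Subtype.ext (Subtype.ext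
    (congrArg (fun w : (P : Subgroup G) => (w : G)) ((hA p P).is_comm.comm
      ⟨a, hP ⟨a, a.2, rfl⟩⟩ ⟨b, hP ⟨b, b.2, rfl⟩⟩)))⟩⟩
  have h2 := BSW.eq_one_of_mem_commutator_of_abelian_sylow Q hQc (hQ (mem_zpowers y'))
    (fun n _ => Subtype.ext ((Commute.pow_right (hc n n.2) _).eq)) (by
      have : (commutator E).map E.subtype = E := by
        rw [_root_.commutator_def, map_commutator, ← MonoidHom.range_eq_map, range_subtype, hE]
      obtain ⟨w, hw, e⟩ := this.ge y'.2
      rwa [show w = y' from Subtype.ext e] at hw)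
  rw [h2, orderOf_one] at hyo'
  exact hp.one_lt.ne hyo'

/-- If all class sizes are prime to `p`, the Sylow `p`-subgroups are central. -/
theorem cent_sylow_eq_top {E : Type u} [Group E] [Finite E] {p : ℕ} [hp : Fact p.Prime]
    (T : Sylow p E) (hc : ∀ w : E, ¬ p ∣ (centralizer ({w} : Set E)).index) :
    centralizer ((T : Subgroup E) : Set E) = ⊤ := by
  refine eq_top_of_forall_conj_mem _ fun w => ?_
  obtain ⟨S⟩ : Nonempty (Sylow p (centralizer ({w} : Set E))) := inferInstance
  obtain ⟨Q, hQ⟩ := (S.2.map (centralizer ({w} : Set E)).subtype).exists_le_sylow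
  have hQ' : (Q : Subgroup E) ≤ centralizer ({w} : Set E) := by
    have h5 : ¬ p ∣ ((S : Subgroup (centralizer ({w} : Set E))).map
        (centralizer ({w} : Set E)).subtype).index := by
      rw [index_map_subtype, hp.out.dvd_mul, not_or]
      exact ⟨S.not_dvd_index, hc w⟩
    have h6 := ((S.2.map _).toSylow h5).is_maximal' Q.2 hQ
    exact h6.le.trans (map_subtype_le _)
  obtain ⟨g, rfl⟩ := MulAction.exists_smul_eq E T Q
  refine ⟨g, fun s hs => ?_⟩
  have h7 : g * s * g⁻¹ ∈ ((g • T : Sylow p E) : Subgroup E) := by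
    rw [Sylow.coe_subgroup_smul]
    exact smul_mem_pointwise_smul _ _ _ hs
  have h8 := mem_centralizer_singleton_iff.1 (hQ' h7)
  calc s * (g⁻¹ * w * g) = g⁻¹ * (g * s * g⁻¹ * w) * g := by group
    _ = g⁻¹ * w * g * s := by rw [h8]; group

theorem main {G : Type u} [Group G] [Finite G]
    (hA : ∀ (p : ℕ) [Fact p.Prime] (P : Sylow p G), IsMulCommutative (P : Subgroup G))
    (a : ℕ) (hmax : ∀ y : G, ¬ 2 ^ (a + 1) ∣ (centralizer ({y} : Set G)).index) {x : G}
    (hx : (centralizer ({x} : Set G)).index = 2 ^ a) : Group.IsSolvable G := by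
  have : Fact (Nat.Prime 2) := ⟨Nat.prime_two⟩
  by_contra hns
  have h2 : H1.AbTwo G := H1.abTwo_of_sylow (hA 2)
  set D := centralizer ({x} : Set G) with hD
  obtain ⟨n, hn⟩ := WellFoundedLT.antitone_chain_condition (derivedSeries_antitone G)
  set E := derivedSeries G n with hE
  have hEE : ⁅E, E⁆ = E := (hn (n + 1) n.le_succ).symm
  have hED : E ≤ D.normalCore := by
    obtain ⟨m, hm⟩ := (solvable_quot_core h2 hx).solvable
    rw [hn (n + m) (Nat.le_add_right _ _)]
    refine (derivedSeries_antitone G (Nat.le_add_left m n)).trans ?_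
    rw [← QuotientGroup.ker_mk' D.normalCore, ← Subgroup.map_eq_bot_iff, eq_bot_iff, ← hm]
    exact map_derivedSeries_le_derivedSeries _ _
  have hcx : ∀ e ∈ E, ∀ g : G, e * (g * x * g⁻¹) = g * x * g⁻¹ * e := fun e he g => by
    have h1 := mem_centralizer_singleton_iff.1 (show g⁻¹ * e * g⁻¹⁻¹ ∈ D from hED he g⁻¹)
    calc e * (g * x * g⁻¹) = g * (g⁻¹ * e * g⁻¹⁻¹ * x) * g⁻¹ := by group
      _ = g * x * g⁻¹ * e := by rw [h1]; group
  -- an element of `E` with a class of even size
  obtain ⟨w, hw⟩ : ∃ w : E, Even (centralizer ({w} : Set E)).index := by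
    by_contra hc
    push Not at hc
    obtain ⟨T⟩ : Nonempty (Sylow 2 E) := inferInstance
    have h3 := cent_sylow_eq_top T fun w h => hc w (even_iff_two_dvd.2 h)
    have h4 : (T : Subgroup E) = ⊥ := eq_bot_iff.2 fun s hs => Subtype.ext
      (eq_one_of_cent_perfect hA hEE s.2 fun e he => congrArg Subtype.val
        ((show (⟨e, he⟩ : E) ∈ centralizer ((T : Subgroup E) : Set E) from h3 ▸ mem_top _) s hs).symm)
    have h5 := T.not_dvd_index
    rw [h4, index_bot] at h5
    have h6 : Group.IsSolvable E :=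
      FT.feit_thompson (Nat.not_even_iff_odd.1 fun h => h5 (even_iff_two_dvd.1 h))
    refine hns (isSolvable_of_normal_of_quotient E h6 ⟨⟨n, ?_⟩⟩)
    rw [← map_derivedSeries_eq (QuotientGroup.mk'_surjective E), Subgroup.map_eq_bot_iff,
      QuotientGroup.ker_mk']
  have hEn : E.Normal := derivedSeries_normal G n
  have hC : centralizer ({x * w} : Set G) ≤ centralizer ({(w : G)} : Set G) ⊓ D := fun g hg => by
    have h1 := mem_centralizer_singleton_iff.1 hg
    have h3 : x⁻¹ * (g * x * g⁻¹) = w * (g * w * g⁻¹)⁻¹ := by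
      calc x⁻¹ * (g * x * g⁻¹) = x⁻¹ * (g * (x * w)) * g⁻¹ * (g * w * g⁻¹)⁻¹ := by group
        _ = w * (g * w * g⁻¹)⁻¹ := by rw [h1]; group
    have h4 : x⁻¹ * (g * x * g⁻¹) = 1 := eq_one_of_cent_perfect hA hEE
      (h3 ▸ E.mul_mem w.2 (E.inv_mem (hEn.conj_mem _ w.2 g))) fun e he => by
        have h5 : Commute e x := show e * x = x * e by simpa using hcx e he 1
        exact (h5.inv_right.mul_right (hcx e he g)).eq
    refine ⟨mem_centralizer_singleton_iff.2 ?_, mem_centralizer_singleton_iff.2 ?_⟩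
    · rw [h4, eq_comm, mul_inv_eq_one, eq_mul_inv_iff_mul_eq] at h3
      exact h3.symm
    · rw [inv_mul_eq_one, eq_mul_inv_iff_mul_eq] at h4
      exact h4.symm
  refine hmax (x * w) (Dvd.dvd.trans ?_ (index_dvd_of_le hC))
  rw [← relIndex_mul_index (inf_le_right : _ ⊓ D ≤ D), hx, pow_succ', inf_relIndex_right]
  refine Nat.mul_dvd_mul_right ?_ _
  have hle : E ≤ D := hED.trans D.normalCore_le
  have h1 := OrbitRep.relIndex_dvd_index_of_normal_right
    ((centralizer ({(w : G)} : Set G)).subgroupOf D) (E.subgroupOf D)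
  rw [relIndex_subgroupOf hle] at h1
  refine Dvd.dvd.trans ?_ h1
  have h3 : (centralizer ({(w : G)} : Set G)).subgroupOf E = centralizer ({w} : Set E) := by
    ext e
    rw [mem_subgroupOf, mem_centralizer_singleton_iff, mem_centralizer_singleton_iff]
    exact ⟨fun h => Subtype.ext h, fun h => congrArg Subtype.val h⟩
  rw [relIndex, h3]
  exact even_iff_two_dvd.1 hw

end CfsgLib.AbTI
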