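import Cfsg.Agent.Lib.FT.BG10T3
import Cfsg.Agent.Lib.H1Amb

/-! A nilpotent group `F` acting without fixed points on an arbitrary finite group `G`:
every supplement to `G` in `GF` contains a conjugate of `F`. -/

set_option autoImplicit false

namespace CfsgLib.H8Fpf

open Subgroup Cfsg CfsgLib.FT CfsgLib.FT.BGN CfsgLib.Cop
open scoped commutatorElement

universe u

variable {X : Type u} [Group X] [Finite X] {G F : Subgroup X}

structure Cfg (G F : Subgroup X) : Prop where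
  norm : F ≤ 𝐍(G)
  nil : Group.IsNilpotent F
  disj : G ⊓ F = ⊥
  fpf : G ⊓ 𝐂(F) = ⊥

/-- supplements -/
structure Sup (G F T : Subgroup X) : Prop where
  le : T ≤ G ⊔ F
  ge : F ≤ G ⊔ T

/-- the conclusion -/
def Gl (G F : Subgroup X) : Prop := ∀ T, Sup G F T → ∃ g ∈ G, g •ᶜ F ≤ T

omit [Finite X] in
theorem commutator_sup_le {N L K : Subgroup X} (hL : L ≤ 𝐍(N)) (hK : K ≤ 𝐍(N)) :
    ⁅N ⊔ L, N ⊔ K⁆ ≤ N ⊔ ⁅L, K⁆ := by
  refine commutator_le.2 fun x hx y hy => ?_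
  obtain ⟨n, hn, l, hl, rfl⟩ := mem_sup_norm hL hx
  obtain ⟨m, hm, f, hf, rfl⟩ := mem_sup_norm hK hy
  have h1 := hL hl
  have h2 := hK hf
  have h3 := mul_mem (mul_mem h1 h2) (inv_mem h1)
  have : ⁅n * l, m * f⁆ = n * (l * m * l⁻¹) * ((l * f * l⁻¹) * n⁻¹ * (l * f * l⁻¹)⁻¹) *
      ((l * f * l⁻¹ * f⁻¹) * m⁻¹ * (l * f * l⁻¹ * f⁻¹)⁻¹) * ⁅l, f⁆ := by
    simp only [commutatorElement_def]; group
  rw [this]
  exact mul_mem (mem_sup_left (mul_mem (mul_mem (mul_mem hn (conj_mem_of_mem_normalizer h1 hm))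
    (conj_mem_of_mem_normalizer h3 (inv_mem hn)))
    (conj_mem_of_mem_normalizer (mul_mem h3 (inv_mem h2)) (inv_mem hm))))
    (mem_sup_right (commutator_mem_commutator hl hf))

omit [Finite X] in
theorem nilMod_sup {N K : Subgroup X} (hK : K ≤ 𝐍(N)) (h : Group.IsNilpotent K) :
    NilMod (N ⊔ K) N := by
  obtain ⟨n, hn⟩ := nilMod_bot_iff.2 h
  have : ∀ i, (N ⊔ K).lowerCentralSeries i ≤ N ⊔ K.lowerCentralSeries i := fun i => by
    induction i with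
    | zero => exact le_rfl
    | succ i ih =>
      rw [Subgroup.lowerCentralSeries_succ, Subgroup.lowerCentralSeries_succ]
      exact (commutator_mono ih le_rfl).trans
        (commutator_sup_le ((lowerCentralSeries_le_self K i).trans hK) hK)
  exact ⟨n, (this n).trans (sup_le le_rfl (hn.trans bot_le))⟩

omit [Finite X] in
theorem dedekind {N U K : Subgroup X} (hn : U ≤ 𝐍(N)) (h : U ≤ K) (h' : K ≤ N ⊔ U) :
    K ≤ (N ⊓ K) ⊔ U :=
  (le_inf h' le_rfl).trans (sup_inf_of_le' hn h).le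

omit [Finite X] in
theorem dedekind' {N U K : Subgroup X} (hn : U ≤ 𝐍(N)) (h : N ≤ K) (h' : K ≤ N ⊔ U) :
    K ≤ N ⊔ (U ⊓ K) :=
  (le_inf h' le_rfl).trans (sup_inf_of_le hn h).le

namespace Cfg
variable (h : Cfg G F)
include h

omit [Finite X] in
theorem sub {N : Subgroup X} (h1 : N ≤ G) (h2 : F ≤ 𝐍(N)) : Cfg N F :=
  ⟨h2, h.nil, le_bot_iff.1 ((inf_le_inf_right _ h1).trans h.disj.le),
    le_bot_iff.1 ((inf_le_inf_right _ h1).trans h.fpf.le)⟩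

omit [Finite X] in
theorem sub' {K : Subgroup X} (hK : F ≤ K) : Cfg (G ⊓ K) F :=
  h.sub inf_le_left (H1.le_normalizer_inf h.norm (hK.trans le_normalizer))

omit [Finite X] in
theorem sup_le_norm : G ⊔ F ≤ 𝐍(G) := sup_le le_normalizer h.norm

omit [Finite X] in
theorem eq_one {g : X} (hg : g ∈ G) (hn : g ∈ 𝐍(F)) : g = 1 :=
  mem_bot.1 (h.fpf ▸ (⟨hg, le_cent_of_norm_of_inf (X := G ⊓ 𝐍(F)) inf_le_right
    (H1.le_normalizer_inf h.norm (le_normalizer.trans le_normalizer))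
    (le_bot_iff.1 ((inf_le_inf_right _ inf_le_left).trans h.disj.le)) ⟨hg, hn⟩⟩ : g ∈ G ⊓ 𝐂(F)))

theorem eq_of_le {g n : X} (hg : g ∈ G) (hn : n ∈ G) (e : n •ᶜ F ≤ g •ᶜ F) : n = g := by
  have e2 := eq_of_le_of_card_le e (by rw [card_map_conj, card_map_conj])
  refine (inv_mul_eq_one.1 (h.eq_one (mul_mem (inv_mem hg) hn)
    (mem_normalizer_of_map_conj_eq ?_))).symm
  rw [← cj_cj, e2, map_conj_inv_map_conj]

theorem inf_eq_bot {K : Subgroup X} (h1 : F ≤ K) (h2 : K ≤ 𝐍(G)) (hK : Group.IsNilpotent K) :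
    G ⊓ K = ⊥ := by
  by_contra h0
  exact inf_centralizer_ne_bot_of_isNilpotent hK inf_le_right
    (H1.le_normalizer_inf h2 le_normalizer) h0
    (le_bot_iff.1 ((inf_le_inf inf_le_left (centralizer_le h1)).trans h.fpf.le))

omit [Finite X] in
theorem sup_cj {T : Subgroup X} (hT : Sup G F T) {g : X} (hg : g ∈ G) : Sup G F (g •ᶜ T) := by
  have e : g •ᶜ (G ⊔ F) = G ⊔ F := cj_eq_of_mem (mem_sup_left hg)
  refine ⟨e ▸ map_mono hT.le, hT.ge.trans (sup_le le_sup_left ?_)⟩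
  exact (map_conj_inv_map_conj g T).ge.trans
    (cj_le_of_norm le_sup_right (le_normalizer (mem_sup_left (inv_mem hg))))

omit [Finite X] in
theorem subgroupOf {L : Subgroup X} (h1 : F ≤ L) : Cfg (G.subgroupOf L) (F.subgroupOf L) := by
  refine ⟨fun a ha => mem_normalizer_iff.2 fun x => mem_normalizer_iff.1 (h.norm ha) x,
    haveI := h.nil; Group.nilpotent_of_mulEquiv (subgroupOfEquivOfLe h1).symm,
    eq_bot_iff.2 fun x hx => Subtype.ext (h.disj.le ⟨hx.1, hx.2⟩),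
    eq_bot_iff.2 fun x hx => Subtype.ext (h.fpf.le ⟨hx.1, fun y hy => ?_⟩)⟩
  exact congrArg Subtype.val (hx.2 ⟨y, h1 hy⟩ hy)

/-- passage to a quotient -/
theorem exists_quot {N : Subgroup X} (hG : G ≤ 𝐍(N)) (hF : F ≤ 𝐍(N))
    (h1 : ∀ g ∈ G, ∀ f ∈ F, g * f ∈ N → g ∈ N) (h2 : ∀ g ∈ G, (∀ f ∈ F, ⁅g, f⁆ ∈ N) → g ∈ N) :
    ∃ (Y : Type u) (_ : Group Y) (_ : Finite Y) (f : 𝐍(N) →* Y), f.ker = N.subgroupOf 𝐍(N) ∧
      Cfg ((G.subgroupOf 𝐍(N)).map f) ((F.subgroupOf 𝐍(N)).map f) := by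
  have := normal_subgroupOf_of_le_normalizer (le_refl 𝐍(N))
  have c := h.subgroupOf hF
  refine ⟨_, inferInstance, inferInstance, QuotientGroup.mk' (N.subgroupOf 𝐍(N)),
    QuotientGroup.ker_mk' _, H1.map_normalizer_le' c.norm _, isNilpotent_map c.nil _,
    eq_bot_iff.2 ?_, eq_bot_iff.2 ?_⟩
  · rintro _ ⟨⟨g, hg, rfl⟩, f, hf, e⟩
    exact (QuotientGroup.eq_one_iff g).2 (h1 g hg f⁻¹ (inv_mem hf)
      ((QuotientGroup.eq_one_iff (N := N.subgroupOf 𝐍(N)) (g * f⁻¹)).1 (by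
        rw [QuotientGroup.mk_mul, QuotientGroup.mk_inv, mul_inv_eq_one]; exact e.symm)))
  · rintro _ ⟨⟨g, hg, rfl⟩, e⟩
    refine (QuotientGroup.eq_one_iff g).2 (h2 g hg fun f hf =>
      (QuotientGroup.eq_one_iff (N := N.subgroupOf 𝐍(N)) ⁅g, ⟨f, hF hf⟩⁆).1 ?_)
    change QuotientGroup.mk' _ _ = 1
    rw [map_commutatorElement, commutatorElement_eq_one_iff_mul_comm]
    exact (e _ (mem_map_of_mem _ (show (⟨f, hF hf⟩ : 𝐍(N)) ∈ F.subgroupOf 𝐍(N) from hf))).symm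

end Cfg

omit [Finite X] in
theorem of_quot {N : Subgroup X} (hG : G ≤ 𝐍(N)) (hF : F ≤ 𝐍(N)) {Y : Type u} [Group Y]
    {f : 𝐍(N) →* Y} (hf : f.ker = N.subgroupOf 𝐍(N))
    (hq : Gl ((G.subgroupOf 𝐍(N)).map f) ((F.subgroupOf 𝐍(N)).map f)) {T : Subgroup X}
    (hT : Sup G F T) : ∃ g ∈ G, g •ᶜ F ≤ N ⊔ T := by
  have hTN := hT.le.trans (sup_le hG hF)
  obtain ⟨_, ⟨g, hg, rfl⟩, e⟩ := hq ((T.subgroupOf 𝐍(N)).map f) ⟨by
    rw [← Subgroup.map_sup, ← subgroupOf_sup hG hF]; exact map_mono (comap_mono hT.le), by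
    rw [← Subgroup.map_sup, ← subgroupOf_sup hG hTN]; exact map_mono (comap_mono hT.ge)⟩
  refine ⟨g, hg, ?_⟩
  rintro _ ⟨x, hx, rfl⟩
  obtain ⟨t, ht, e'⟩ := e (conj_mem_map_conj (g := f g)
    (mem_map_of_mem f (show (⟨x, hF hx⟩ : 𝐍(N)) ∈ F.subgroupOf 𝐍(N) from hx)))
  have : g * ⟨x, hF hx⟩ * g⁻¹ * t⁻¹ ∈ N.subgroupOf 𝐍(N) := by
    rw [← hf, MonoidHom.mem_ker]
    simp only [map_mul, map_inv, e', mul_inv_cancel]
  have := mul_mem (mem_sup_left this : _ ∈ N ⊔ T) (mem_sup_right ht)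
  simpa using this

theorem card_quot_lt {N K : Subgroup X} (hK : K ≤ 𝐍(N)) {Y : Type u} [Group Y]
    {f : 𝐍(N) →* Y} (hf : f.ker = N.subgroupOf 𝐍(N)) :
    Nat.card ((K.subgroupOf 𝐍(N)).map f) ≤ Nat.card K ∧
      (N ≠ ⊥ → N ≤ K → Nat.card ((K.subgroupOf 𝐍(N)).map f) < Nat.card K) := by
  have e := card_inf_mul_relIndex N K
  rw [← relIndex_ker, hf, relIndex_subgroupOf hK, ← e]
  refine ⟨Nat.le_mul_of_pos_left _ Nat.card_pos, fun h0 h1 => ?_⟩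
  rw [inf_eq_left.2 h1]
  exact lt_mul_of_one_lt_left (Nat.pos_of_ne_zero index_ne_zero_of_finite)
    ((one_lt_card_iff_ne_bot _).2 h0)

/-- the induction hypothesis -/
def IH (G F : Subgroup X) : Prop :=
  ∀ (Y : Type u) [Group Y] [Finite Y] (G' F' : Subgroup Y),
    Nat.card G' * Nat.card F' < Nat.card G * Nat.card F → Cfg G' F' → Gl G' F'

namespace Cfg
variable (h : Cfg G F) (ih : IH G F)
include h ih

theorem gl_lt {N : Subgroup X} (h1 : N < G) (h2 : F ≤ 𝐍(N)) : Gl N F :=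
  ih X N F (Nat.mul_lt_mul_of_pos_right (card_lt_card_of_lt h1) Nat.card_pos) (h.sub h1.le h2)

theorem gl_in {K T : Subgroup X} (hK : F ≤ K) (hG : ¬ G ≤ K) (hT : Sup G F T) (hTK : T ≤ K) :
    ∃ g ∈ G ⊓ K, g •ᶜ F ≤ T := by
  refine h.gl_lt ih (inf_lt_left.2 hG) (h.sub' hK).norm T
    ⟨(le_inf hT.le hTK).trans (sup_inf_of_le' h.norm hK).le,
      (le_inf hT.ge hK).trans (sup_inf_of_le' (hT.le.trans h.sup_le_norm) hTK).le⟩

theorem gl_in' {K T : Subgroup X} {g : X} (hg : g ∈ G) (hK : g •ᶜ F ≤ K) (hG : ¬ G ≤ K)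
    (hT : Sup G F T) (hTK : T ≤ K) : ∃ g ∈ G, g •ᶜ F ≤ T := by
  obtain ⟨x, hx, e⟩ := h.gl_in ih (le_cj_iff.2 (by rwa [inv_inv]) : F ≤ g⁻¹ •ᶜ K)
    (fun e => hG (by rwa [le_cj_iff, inv_inv, cj_eq_of_mem hg] at e))
    (h.sup_cj hT (inv_mem hg)) (map_mono hTK)
  exact ⟨g * x, mul_mem hg hx.1, by rwa [← cj_cj, cj_le_iff]⟩

theorem gl_of_normal {N : Subgroup X} (h0 : N ≠ ⊥) (h1 : N < G) (hG : G ≤ 𝐍(N)) (hF : F ≤ 𝐍(N)) :
    Gl G F := by
  intro T hT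
  have hN := h.gl_lt ih h1 hF
  obtain ⟨Y, _, _, f, hf, c⟩ := h.exists_quot hG hF (fun g hg f hf e => by
    have : f ∈ G ⊓ F := ⟨by simpa using mul_mem (inv_mem hg) (h1.le e), hf⟩
    rw [h.disj, mem_bot] at this
    rwa [this, mul_one] at e) fun g hg e => by
    obtain ⟨n, hn, e'⟩ := hN (g •ᶜ F) ⟨by
      rintro _ ⟨f, hf, rfl⟩
      have := mul_mem (mem_sup_left (e f hf) : _ ∈ N ⊔ F) (mem_sup_right hf)
      simpa [commutatorElement_def] using this, fun f hf => by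
      have := mul_mem (mem_sup_left (inv_mem (e f hf)) : _ ∈ N ⊔ g •ᶜ F)
        (mem_sup_right (conj_mem_map_conj (g := g) hf))
      simpa [commutatorElement_def, mul_assoc] using this⟩
    exact h.eq_of_le hg (h1.le hn) e' ▸ hn
  obtain ⟨g, hg, e⟩ := of_quot hG hF hf (ih _ _ _ (Nat.mul_lt_mul_of_lt_of_le
    ((card_quot_lt hG hf).2 h0 h1.le) (card_quot_lt hF hf).1 Nat.card_pos) c) hT
  have hT' := h.sup_cj hT (inv_mem hg)
  have e2 : F ≤ N ⊔ g⁻¹ •ᶜ T := by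
    rw [← map_conj_eq_of_mem_normalizer (hG (inv_mem hg)), ← cj_sup]
    exact cj_le_iff.1 e
  obtain ⟨x, hx, e3⟩ := hN (g⁻¹ •ᶜ T ⊓ (N ⊔ F)) ⟨inf_le_right, le_sup_right.trans
    (dedekind' (hT'.le.trans (sup_le hG hF)) le_sup_left (sup_le le_sup_left e2))⟩
  exact ⟨g * x, mul_mem hg (h1.le hx), by rw [← cj_cj, cj_le_iff]; exact e3.trans inf_le_left⟩

theorem gl_of_le {N T : Subgroup X} (h0 : N ≠ ⊥) (h1 : N ≤ F) (hG : G ≤ 𝐍(N)) (hF : F ≤ 𝐍(N))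
    (hT : Sup G F T) (hNT : N ≤ T) : ∃ g ∈ G, g •ᶜ F ≤ T := by
  obtain ⟨Y, _, _, f, hf, c⟩ := h.exists_quot hG hF (fun g hg f hf e => by
    have : g ∈ G ⊓ F := ⟨hg, by simpa using mul_mem (h1 e) (inv_mem hf)⟩
    rw [h.disj, mem_bot] at this
    exact this ▸ one_mem _) fun g hg e => by
    have : g ∈ G ⊓ 𝐂(F) := ⟨hg, fun f hf => (commutatorElement_eq_one_iff_mul_comm.1
      (mem_bot.1 (h.disj ▸ (⟨commutator_le_left_of_le_normalizer h.norm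
        (commutator_mem_commutator hg hf), h1 (e f hf)⟩ : _ ∈ G ⊓ F)))).symm⟩
    rw [h.fpf, mem_bot] at this
    exact this ▸ one_mem _
  obtain ⟨g, hg, e⟩ := of_quot hG hF hf (ih _ _ _ (Nat.mul_lt_mul_of_le_of_lt
    (card_quot_lt hG hf).1 ((card_quot_lt hF hf).2 h0 h1) Nat.card_pos) c) hT
  exact ⟨g, hg, e.trans (sup_le hNT le_rfl)⟩

end Cfg

section main
variable {r : ℕ} [hr : Fact r.Prime]

/-- `r`-supplements -/
structure Good (r : ℕ) (G F U : Subgroup X) : Prop where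
  pg : IsPGroup r U
  le : U ≤ G ⊔ pCoreOf r F
  ge : pCoreOf r F ≤ G ⊔ U

namespace Cfg
variable (h : Cfg G F)
include h

omit [Finite X] hr in
theorem normM : G ⊔ F ≤ 𝐍(G ⊔ pCoreOf r F) :=
  sup_le (le_sup_left.trans le_normalizer)
    (H1.le_normalizer_sup h.norm (H1.le_normalizer_pCoreOf F))

theorem frat {T U : Subgroup X} (hT : Sup G F T) (hU : IsSylowIn r U (T ⊓ (G ⊔ pCoreOf r F))) :
    Good r G F U ∧ Sup G F (T ⊓ 𝐍(U)) := by
  have hR := (H1.pCoreOf_le (p := r) F).trans h.norm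
  have hTG := hT.le.trans h.sup_le_norm
  have h1 : T ⊓ (G ⊔ pCoreOf r F) ≤ G ⊔ U := by
    obtain ⟨k, hk⟩ := (H1.pCoreOf_isPGroup (p := r) F).exists_card_eq
    have h2 : G.relIndex (T ⊓ (G ⊔ pCoreOf r F)) ∣ r ^ k := by
      rw [← hk]
      exact (relIndex_dvd_relIndex_of_norm le_sup_left inf_le_right
        (Or.inr (inf_le_left.trans hTG))).trans (relIndex_dvd_card_of_sup hR rfl).2
    obtain ⟨i, -, hi⟩ := (Nat.dvd_prime_pow hr.1).1 h2
    rw [← inf_relIndex_right] at hi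
    rw [← hU.sup_eq_of_relIndex_eq_pow inf_le_right hi]
    exact sup_le_sup_right inf_le_left _
  have h2 := hU.frattini_le inf_le_left (H1.le_normalizer_inf le_normalizer (hT.le.trans h.normM))
  have h3 : G ⊔ U ≤ G ⊔ (T ⊓ 𝐍(U)) :=
    sup_le_sup_left (le_inf (hU.le.trans inf_le_left) le_normalizer) _
  refine ⟨⟨hU.isPGroup, hU.le.trans inf_le_right, le_sup_right.trans
    ((dedekind' hTG le_sup_left (sup_le le_sup_left ((H1.pCoreOf_le F).trans hT.ge))).trans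
      (sup_le le_sup_left h1))⟩, inf_le_left.trans hT.le, hT.ge.trans (sup_le le_sup_left
    (h2.trans (sup_le (h1.trans h3) le_sup_right)))⟩

theorem degen (h0 : pCoreOf r G = ⊥) {T U : Subgroup X} (hU : Good r G F U) (hT : Sup G F T)
    (hTU : T ≤ 𝐍(U)) (hG : G ≤ 𝐍(U)) : U = pCoreOf r F := by
  have hF : F ≤ 𝐍(U) := hT.ge.trans (sup_le hG hTU)
  have hRF := H1.pCoreOf_le (p := r) F
  have hUG : U ≤ G ⊔ F := hU.le.trans (sup_le_sup_left hRF _)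
  have h1 : G ⊓ U = ⊥ := le_bot_iff.1 (h0 ▸ H1.le_pCoreOf inf_le_left
    (H1.le_normalizer_inf le_normalizer hG) (hU.pg.to_le inf_le_right))
  have h2 : Group.IsNilpotent ↥(U ⊔ F) := by
    obtain ⟨a, ha⟩ := (nilMod_sup h.norm h.nil).mono (sup_le hUG le_sup_right) le_rfl
    obtain ⟨b, hb⟩ := nilMod_sup hF h.nil
    exact nilMod_bot_iff.1 ⟨max a b, h1 ▸ le_inf
      ((Subgroup.lowerCentralSeries_antitone _ (le_max_left a b)).trans ha)
      ((Subgroup.lowerCentralSeries_antitone _ (le_max_right a b)).trans hb)⟩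
  have h3 := h.inf_eq_bot le_sup_right ((sup_le hUG le_sup_right).trans h.sup_le_norm) h2
  have h4 : U ≤ F := by
    have := dedekind h.norm le_sup_right (sup_le hUG le_sup_right)
    rw [h3, bot_sup_eq] at this
    exact le_sup_left.trans this
  refine le_antisymm (H1.le_pCoreOf h4 hF hU.pg) ?_
  have := (le_inf hU.ge hRF).trans (sup_inf_of_le' (h4.trans h.norm) h4).le
  rwa [h.disj, bot_sup_eq] at this

variable (ih : IH G F) (h0 : pCoreOf r G = ⊥) (h1 : pCoreOf r F ≠ ⊥)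
include ih h0 h1

theorem exists_base : ∃ U, IsSylowIn r U (G ⊔ pCoreOf r F) ∧ F ≤ 𝐍(U) := by
  obtain ⟨U, -, hU⟩ := Finite.exists_le_maximal (p := fun U : Subgroup X => IsPGroup r U ∧
    U ≤ G ⊔ pCoreOf r F ∧ pCoreOf r F ≤ U ∧ F ≤ 𝐍(U))
    ⟨H1.pCoreOf_isPGroup F, le_sup_right, le_rfl, H1.le_normalizer_pCoreOf F⟩
  obtain ⟨⟨a1, a2, a3, a4⟩, hmax⟩ := hU
  have hM : G ⊔ pCoreOf r F ≤ G ⊔ F := sup_le_sup_left (H1.pCoreOf_le F) _
  have hN : Sup G F ((G ⊔ F) ⊓ 𝐍(U)) :=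
    ⟨inf_le_left, (le_inf le_sup_right a4).trans le_sup_right⟩
  obtain ⟨V, v1, v2⟩ := IsSylowIn.exists_ge a1
    (le_inf (le_inf (a2.trans hM) le_normalizer) a2)
  obtain ⟨b1, b2⟩ := h.frat hN v2
  have : ∃ g ∈ G ⊓ 𝐍(U), g •ᶜ F ≤ (G ⊔ F) ⊓ 𝐍(U) ⊓ 𝐍(V) := by
    by_cases hG : G ≤ 𝐍(U)
    · have e := h.degen h0 ⟨a1, a2, a3.trans le_sup_right⟩ hN inf_le_right hG
      obtain ⟨g, hg, e'⟩ := h.gl_of_le ih h1 (H1.pCoreOf_le F) (e ▸ hG)
        (H1.le_normalizer_pCoreOf F) b2 (le_inf (le_inf (le_sup_right.trans hM)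
          (a3.trans le_normalizer)) ((a3.trans v1).trans le_normalizer))
      exact ⟨g, ⟨hg, hG hg⟩, e'⟩
    · exact h.gl_in ih a4 hG b2 (inf_le_left.trans inf_le_right)
  obtain ⟨g, hg, e⟩ := this
  have hUV : U ≤ g⁻¹ •ᶜ V := by
    rw [← map_conj_eq_of_mem_normalizer (inv_mem hg.2)]
    exact map_mono v1
  have := hmax ⟨b1.pg.map _, cj_le_of_norm b1.le (le_normalizer (mem_sup_left (inv_mem hg.1))),
    a3.trans hUV, by
      rw [normalizer_map_conj]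
      exact cj_le_iff.1 (e.trans inf_le_right)⟩ hUV
  have e2 : U = V := eq_of_le_of_card_le v1 (by
    rw [← card_map_conj g⁻¹ V]; exact card_le_of_le this)
  subst e2
  exact ⟨U, sylow_of_norm' v2 a2 (le_inf (inf_le_inf_right _ hM) inf_le_left), a4⟩

theorem exists_norm (U : Subgroup X) :
    Good r G F U → Sup G F ((G ⊔ F) ⊓ 𝐍(U)) → ∃ g ∈ G, g •ᶜ F ≤ 𝐍(U) := by
  induction U using WellFoundedGT.induction with
  | ind U ih2 =>
  intro hU hN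
  have hM : G ⊔ pCoreOf r F ≤ G ⊔ F := sup_le_sup_left (H1.pCoreOf_le F) _
  obtain ⟨V, v1, v2⟩ := IsSylowIn.exists_ge hU.pg
    (le_inf (le_inf (hU.le.trans hM) le_normalizer) hU.le)
  obtain ⟨b1, b2⟩ := h.frat hN v2
  rcases v1.eq_or_lt with rfl | hlt
  · obtain ⟨U0, u1, u2⟩ := h.exists_base ih h0 h1
    have hS := sylow_of_norm' v2 hU.le (le_inf (inf_le_inf_right _ hM) inf_le_left)
    obtain ⟨x, hx, rfl⟩ := hS.exists_conj_eq u1
    obtain ⟨g, hg, y, hy, rfl⟩ := mem_sup_norm ((H1.pCoreOf_le F).trans h.norm) hx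
    refine ⟨g, hg, ?_⟩
    rw [← cj_cj, map_conj_eq_of_mem_normalizer (u2 (H1.pCoreOf_le F hy))]
    exact le_norm_cj u2
  obtain ⟨g, hg, e⟩ := ih2 V hlt b1 ⟨inf_le_left, b2.ge.trans
    (sup_le_sup_left (inf_le_inf_right _ inf_le_left) _)⟩
  obtain ⟨x, hx, e'⟩ := h.gl_in' ih hg e (fun hG => by
    have e := h.degen h0 b1 b2 inf_le_right hG
    have hUF := (hlt.le.trans e.le).trans (H1.pCoreOf_le F)
    have := (le_inf hU.ge (H1.pCoreOf_le F)).trans (sup_inf_of_le' (hUF.trans h.norm) hUF).le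
    rw [h.disj, bot_sup_eq, ← e] at this
    exact hlt.not_ge this) b2 inf_le_right
  exact ⟨x, hx, e'.trans (inf_le_left.trans inf_le_right)⟩

theorem gl_main : Gl G F := by
  intro T hT
  obtain ⟨U, hU⟩ := IsSylowIn.exists_in (p := r) (T ⊓ (G ⊔ pCoreOf r F))
  obtain ⟨b1, b2⟩ := h.frat hT hU
  obtain ⟨g, hg, e⟩ := h.exists_norm ih h0 h1 U b1 ⟨inf_le_left, b2.ge.trans
    (sup_le_sup_left (inf_le_inf_right _ hT.le) _)⟩
  by_cases hG : G ≤ 𝐍(U)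
  · have e := h.degen h0 b1 b2 inf_le_right hG
    exact h.gl_of_le ih h1 (H1.pCoreOf_le F) (e ▸ hG) (H1.le_normalizer_pCoreOf F) hT
      (e ▸ hU.le.trans inf_le_left)
  · obtain ⟨x, hx, e'⟩ := h.gl_in' ih hg e hG b2 inf_le_right
    exact ⟨x, hx, e'.trans inf_le_left⟩

end Cfg

end main

theorem gl_aux (n : ℕ) : ∀ (X : Type u) [Group X] [Finite X] (G F : Subgroup X),
    Nat.card G * Nat.card F = n → Cfg G F → Gl G F := by
  induction n using Nat.strong_induction_on with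
  | _ n ih =>
  intro X _ _ G F hn h
  have ih' : IH G F := fun Y _ _ G' F' hlt c => ih _ (hn ▸ hlt) Y G' F' rfl c
  by_cases hG : G = ⊥
  · exact fun T hT => ⟨1, one_mem _, by
      have := hT.ge
      rwa [hG, bot_sup_eq, ← map_conj_one F] at this⟩
  by_cases hc : ∃ (r : ℕ) (_ : Fact r.Prime), pCoreOf r G = ⊥ ∧ pCoreOf r F ≠ ⊥
  · obtain ⟨r, _, h0, h1⟩ := hc
    exact h.gl_main ih' h0 h1
  push Not at hc
  have hF : F ≠ ⊥ := fun e => hG (by rw [← h.fpf, e, cent_bot, inf_top_eq])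
  obtain ⟨r, _, hr⟩ := exists_pCore_ne_bot' (haveI := h.nil; inferInstance) hF
  rw [← H1.pCoreOf_eq_piCoreOf] at hr
  by_cases e : pCoreOf r G = G
  · exfalso
    have hGr : IsPGroup r G := e ▸ H1.pCoreOf_isPGroup G
    have hFr : IsPGroup r F := by
      have : F ≤ pCoreOf r F := (H1.fittingOf_eq_self h.nil).ge.trans
        (H1.fittingOf_le_of_forall fun q _ => by
          by_cases e' : q = r
          · subst e'; exact le_rfl
          · refine (hc q ‹_› ?_).le.trans bot_le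
            exact le_bot_iff.1 ((le_inf le_rfl (H1.pCoreOf_le G)).trans (inf_eq_bot_of_cop
              (coprime_of_isPGroup_ne (H1.pCoreOf_isPGroup G) hGr e')).le))
      exact (H1.pCoreOf_isPGroup F).to_le this
    have := h.inf_eq_bot le_sup_right h.sup_le_norm (isPGroup_sup' h.norm hGr hFr).isNilpotent
    exact hG (by rwa [inf_eq_left.2 le_sup_left] at this)
  exact h.gl_of_normal ih' (fun e' => hr (hc r ‹_› e')) (lt_of_le_of_ne (H1.pCoreOf_le G) e)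
    (H1.le_normalizer_pCoreOf G) (h.norm.trans (H1.normalizer_le_normalizer_pCoreOf G))

theorem Cfg.gl (h : Cfg G F) : Gl G F := gl_aux _ X G F rfl h

namespace Cfg
variable (h : Cfg G F)
include h

theorem mem_of_cj_le {K : Subgroup X} (hK : F ≤ K) {g : X} (hg : g ∈ G) (e : g •ᶜ F ≤ K) :
    g ∈ K := by
  have s := h.sup_cj (T := F) ⟨le_sup_right, le_sup_right⟩ hg
  obtain ⟨n, hn, e'⟩ := (h.sub' hK).gl (g •ᶜ F)
    ⟨(le_inf s.le e).trans (sup_inf_of_le' h.norm hK).le,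
      (le_inf s.ge hK).trans (sup_inf_of_le' (s.le.trans h.sup_le_norm) e).le⟩
  exact h.eq_of_le hg hn.1 e' ▸ hn.2

theorem mem_of_comm {N : Subgroup X} (h1 : N ≤ G) (hF : F ≤ 𝐍(N)) {g : X} (hg : g ∈ G)
    (e : ∀ f ∈ F, ⁅g, f⁆ ∈ N) : g ∈ N := by
  have : g ∈ N ⊔ F := h.mem_of_cj_le le_sup_right hg (by
    rintro _ ⟨f, hf, rfl⟩
    have := mul_mem (mem_sup_left (e f hf) : _ ∈ N ⊔ F) (mem_sup_right hf)
    simpa [commutatorElement_def] using this)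
  have := (sup_inf_of_le hF h1).le ⟨this, hg⟩
  rwa [inf_comm, h.disj, sup_bot_eq] at this

variable {p : ℕ} [Fact p.Prime]

theorem exists_sylow (p : ℕ) [Fact p.Prime] : ∃ P, IsSylowIn p P G ∧ F ≤ 𝐍(P) := by
  obtain ⟨P, hP⟩ := IsSylowIn.exists_in (p := p) G
  obtain ⟨g, hg, e⟩ := h.gl ((G ⊔ F) ⊓ 𝐍(P))
    ⟨inf_le_left, le_sup_right.trans (hP.frattini_le le_sup_left h.sup_le_norm)⟩
  refine ⟨g⁻¹ •ᶜ P, hP.map_conj_of_mem_normalizer (le_normalizer (inv_mem hg)), ?_⟩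
  rw [normalizer_map_conj]
  exact cj_le_iff.1 (e.trans inf_le_right)

theorem sylow_unique {P Q : Subgroup X} (hP : IsSylowIn p P G) (hQ : IsSylowIn p Q G)
    (h1 : F ≤ 𝐍(P)) (h2 : F ≤ 𝐍(Q)) : P = Q := by
  obtain ⟨x, hx, e⟩ := hP.exists_conj_eq hQ
  have := h.mem_of_cj_le h1 hx (e ▸ le_norm_cj h2)
  rw [← map_conj_inv_map_conj x Q, e, map_conj_eq_of_mem_normalizer (inv_mem this)]

theorem le_sylow {P Q : Subgroup X} (hP : IsSylowIn p P G) (h1 : F ≤ 𝐍(P)) (hQ : IsPGroup p Q)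
    (hQG : Q ≤ G) (h2 : F ≤ 𝐍(Q)) : Q ≤ P := by
  obtain ⟨U, hQU, ⟨a1, a2, a3⟩, hmax⟩ := Finite.exists_le_maximal
    (p := fun U : Subgroup X => IsPGroup p U ∧ U ≤ G ∧ F ≤ 𝐍(U)) ⟨hQ, hQG, h2⟩
  obtain ⟨V, v1, v2⟩ := (h.sub' a3).exists_sylow p
  have e := le_sylow_of_norm' v1 a1 (le_inf a2 le_normalizer) (v1.le.trans inf_le_right)
  have e2 := le_antisymm e (hmax ⟨v1.isPGroup, v1.le.trans inf_le_left, v2⟩ e)
  subst e2
  exact hQU.trans (h.sylow_unique (sylow_of_norm v1) hP a3 h1).le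

/-- an `F`-invariant Sylow subgroup is invariant under everything normalizing `G` and `F` -/
theorem norm_sylow {P : Subgroup X} (hP : IsSylowIn p P G) (h1 : F ≤ 𝐍(P)) {x : X}
    (hx : x ∈ 𝐍(G)) (hx' : x ∈ 𝐍(F)) : x ∈ 𝐍(P) :=
  mem_normalizer_of_map_conj_eq (h.sylow_unique (hP.map_conj_of_mem_normalizer hx) hP
    (map_conj_eq_of_mem_normalizer hx' ▸ le_norm_cj h1) h1)

end Cfg

end CfsgLib.H8Fpf
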