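import Cfsg.Agent.Lib.H9Comp
import Cfsg.Agent.Lib.H9Free
import Cfsg.Agent.Lib.H9PLenHH
import Cfsg.Agent.Lib.PGroupBasic

/-! # Exceptional elements in the Hall–Higman theorem -/

set_option autoImplicit false

namespace CfsgLib.H9

open Module Subgroup Polynomial CfsgLib.Fpf Cfsg
open scoped commutatorElement

universe u v w

section free
variable {k : Type*} [Field k] {W : Type*} [AddCommGroup W] [Module k W]

open scoped IsMulCommutative in
open FrobDim in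
/-- If `B` permutes the weights of the abelian group `L` freely, `dim W = |B| dim C_W(B)`. -/
theorem finrank_eq_card_mul_of_free [IsAlgClosed k] [FiniteDimensional k W] {F : Type*} [Group F]
    [Finite F] (σ : F →* Module.End k W) {L B : Subgroup F} [IsMulCommutative L]
    (hL : (Nat.card L : k) ≠ 0) (hBL : B ≤ normalizer (L : Set F))
    (hf : ∀ b ∈ B, b ≠ 1 → ∀ v, (∀ g ∈ ⁅L, zpowers b⁆, σ g v = v) → v = 0) :
    finrank k W = Nat.card B * finrank k (fixSpace σ B) := by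
  classical
  have := Fintype.ofFinite L
  have := Fintype.ofFinite B
  rw [Nat.card_eq_fintype_card] at hL ⊢
  have : NeZero ((Monoid.exponent L : ℕ) : k) := ⟨fun h => hL (by
    obtain ⟨c, hc⟩ := Group.exponent_dvd_card (G := L)
    rw [hc, Nat.cast_mul, h, zero_mul])⟩
  have : Finite (L →* kˣ) := Nat.finite_of_card_ne_zero (by
    rw [CommGroup.card_monoidHom_of_hasEnoughRootsOfUnity]; exact Nat.card_pos.ne')
  have := Fintype.ofFinite (L →* kˣ)
  let c : B →* MulAut L := L.normalizerMonoidHom.comp (inclusion hBL)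
  have hc : ∀ (b : B) (x : L), (c b x : F) = b * x * (b : F)⁻¹ := fun _ _ => rfl
  letI : MulAction B (L →* kˣ) :=
    { smul := fun b l => l.comp (c b⁻¹).toMonoidHom
      one_smul := fun l => MonoidHom.ext fun x => by
        change l (c 1⁻¹ x) = l x; rw [inv_one, map_one]; rfl
      mul_smul := fun a b l => MonoidHom.ext fun x => by
        change l (c (a * b)⁻¹ x) = l (c b⁻¹ (c a⁻¹ x)); rw [mul_inv_rev, map_mul]; rfl }
  have hs : ∀ (b : B) (l : L →* kˣ) (x : L), (b • l) x = l (c b⁻¹ x) := fun _ _ _ => rfl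
  let τ := σ.comp L.subtype
  have hconj : ∀ (b : B) (l : L →* kˣ), σ b * idem τ l * σ (b⁻¹ : B) = idem τ (b • l) := by
    intro b l
    simp only [idem, mul_smul_comm, smul_mul_assoc, Finset.mul_sum, Finset.sum_mul]
    congr 1
    refine Fintype.sum_equiv (c b).toEquiv _ _ fun x => ?_
    change _ = ((b • l) (c b x)⁻¹ : k) • σ (c b x)
    rw [hs, hc, ← map_inv (c b), ← MulAut.mul_apply, ← map_mul, inv_mul_cancel, map_one, map_mul,
      map_mul]
    rfl
  have hcomm : ∀ (l : L →* kˣ) (y : L), τ y * idem τ l = idem τ l * τ y := fun l y => by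
    simp only [idem, mul_smul_comm, smul_mul_assoc, Finset.mul_sum, Finset.sum_mul, ← map_mul,
      mul_comm y]
  have hsemi : ∀ (b : B) (l : L →* kˣ), b • l = l → idem τ l ≠ 0 → b = 1 := by
    intro b l h hl
    by_contra hb
    refine hl (LinearMap.ext fun v => hf b b.2 (fun h => hb (Subtype.ext h)) _ fun g hg => ?_)
    have h1 : ⁅L, zpowers (b : F)⁆ ≤ l.ker.map L.subtype := by
      refine commutator_le.2 fun x hx _ ⟨i, hi⟩ => ?_
      have h2 : b ^ (-i) ∈ MulAction.stabilizer B l := zpow_mem h _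
      refine ⟨⟨x, hx⟩ * (c (b ^ i) ⟨x, hx⟩)⁻¹, ?_, by
        rw [← hi, map_mul, map_inv, coe_subtype, hc]; simp [commutatorElement_def, mul_assoc]⟩
      have h3 := DFunLike.congr_fun (MulAction.mem_stabilizer_iff.1 h2) ⟨x, hx⟩
      rw [hs, zpow_neg, inv_inv] at h3
      rw [SetLike.mem_coe, MonoidHom.mem_ker, map_mul, map_inv, h3, mul_inv_cancel]
    obtain ⟨y, hy, rfl⟩ := h1 hg
    change (τ y * idem τ l) v = _
    rw [hcomm, idem_mul_rho, MonoidHom.mem_ker.1 hy, Units.val_one, one_smul]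
  have hz : ∀ (b : B) (l : L →* kˣ), idem τ l = 0 → idem τ (b • l) = 0 := fun b l h => by
    rw [← hconj, h, mul_zero, zero_mul]
  let S : Finset (L →* kˣ) := Finset.univ.filter fun l =>
    idem τ l ≠ 0 ∧ (Quotient.mk (MulAction.orbitRel B _) l).out = l
  have hS : ∀ l ∈ S, ∀ m ∈ S, ∀ b : B, l = b • m → l = m ∧ b = 1 := by
    intro l hl m hm b h
    simp only [S, Finset.mem_filter, Finset.mem_univ, true_and] at hl hm
    have h2 : l = m := by
      rw [← hl.2, ← hm.2, Quotient.sound (show (MulAction.orbitRel B _) l m from ⟨b, h.symm⟩)]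
    exact ⟨h2, hsemi b m (h.symm.trans h2) hm.1⟩
  refine finrank_eq_of_proj (σ.comp B.subtype) (∑ l ∈ S, idem τ l) ?_ (fun b hb => ?_) ?_ _
    (fun v => ⟨fun h b => h b b.2, fun h b hb => h ⟨b, hb⟩⟩)
  · rw [Finset.sum_mul]
    refine Finset.sum_congr rfl fun l hl => ?_
    rw [Finset.mul_sum, Finset.sum_eq_single l (fun m _ h => idem_mul_of_ne τ h.symm)
      (fun h => absurd hl h), idem_mul_self τ hL]
  · simp only [Finset.sum_mul, Finset.mul_sum]
    refine Finset.sum_eq_zero fun m hm => Finset.sum_eq_zero fun l hl => ?_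
    have : (σ.comp B.subtype) b * idem τ m = idem τ (b • m) * σ b := by
      rw [← hconj, mul_assoc, ← map_mul, ← Subgroup.coe_mul, inv_mul_cancel, Subgroup.coe_one,
        map_one, mul_one]; rfl
    rw [mul_assoc, this, ← mul_assoc, idem_mul_of_ne τ fun h => hb (hS l hl m hm b h).2, zero_mul]
  · rw [← sum_idem τ hL, ← Finset.sum_filter_ne_zero (f := idem τ) Finset.univ]
    simp only [Finset.sum_mul, Finset.mul_sum]
    rw [← Finset.sum_product']
    refine Finset.sum_bij (fun x _ => x.1 • x.2) ?_ ?_ ?_ fun x _ => hconj x.1 x.2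
    · rintro ⟨b, l⟩ h
      simp only [S, Finset.mem_product, Finset.mem_filter, Finset.mem_univ, true_and] at h
      refine Finset.mem_filter.2 ⟨Finset.mem_univ _, fun h' => h.1 ?_⟩
      rw [← inv_smul_smul b l]
      exact hz _ _ h'
    · rintro ⟨b, l⟩ h ⟨b', l'⟩ h' e
      have := hS l (Finset.mem_product.1 h).2 l' (Finset.mem_product.1 h').2 (b⁻¹ * b')
        (by rw [mul_smul, eq_inv_smul_iff]; exact e)
      exact Prod.ext (inv_mul_eq_one.1 this.2) this.1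
    · intro l hl
      obtain ⟨m, hm, hm'⟩ : ∃ m, (MulAction.orbitRel B _) l m ∧
          (Quotient.mk (MulAction.orbitRel B _) m).out = m :=
        ⟨_, Quotient.exact (Quotient.out_eq (Quotient.mk (MulAction.orbitRel B _) l)).symm,
          by rw [Quotient.out_eq]⟩
      obtain ⟨b, rfl⟩ := hm
      exact ⟨(b, m), Finset.mem_product.2 ⟨Finset.mem_univ _, Finset.mem_filter.2
        ⟨Finset.mem_univ _, fun h => (Finset.mem_filter.1 hl).2 (hz _ _ h), hm'⟩⟩, rfl⟩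

theorem finrank_eq_card_mul_of_free' [IsAlgClosed k] [FiniteDimensional k W] {F : Type*} [Group F]
    [Finite F] (σ : F →* Module.End k W) {L B : Subgroup F} (hc : ∀ g ∈ ⁅L, L⁆, σ g = 1)
    (hL : (Nat.card L : k) ≠ 0) (hBL : B ≤ normalizer (L : Set F))
    (hf : ∀ b ∈ B, b ≠ 1 → ∀ v, (∀ g ∈ ⁅L, zpowers b⁆, σ g v = v) → v = 0) :
    finrank k W = Nat.card B * finrank k (fixSpace σ B) := by
  rcases subsingleton_or_nontrivial W with hV | hV
  · rw [finrank_zero_of_subsingleton, finrank_zero_of_subsingleton, mul_zero]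
  obtain ⟨G', _, _, π, ρ', hinj, -, hρ⟩ := exists_faithful σ
  have hZ' : (Nat.card (L.map π) : k) ≠ 0 := fun h => by
    obtain ⟨c, hc⟩ := card_map_dvd L π
    exact hL (by rw [hc, Nat.cast_mul, h, zero_mul])
  have key : ∀ b ∈ B, b ≠ 1 → ∀ v, (∀ g ∈ ⁅L.map π, zpowers (π b)⁆, ρ' g v = v) → v = 0 :=
    fun b hb h1 v hv => hf b hb h1 v fun g hg => by
      rw [← hρ]
      refine hv _ ?_
      rw [← MonoidHom.map_zpowers, ← Subgroup.map_commutator]
      exact mem_map_of_mem π hg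
  have hinjR : ∀ x ∈ B, π x = 1 → x = 1 := by
    intro x hx h1
    by_contra hx1
    obtain ⟨v, hv⟩ := exists_ne (0 : W)
    refine hv (key x hx hx1 v fun g hg => ?_)
    rw [h1, zpowers_one_eq_bot, commutator_bot_right, mem_bot] at hg
    rw [hg, map_one]; rfl
  have hcR : Nat.card (B.map π) = Nat.card B := by
    refine (Nat.card_congr (Equiv.ofBijective (π.subgroupMap B)
      ⟨?_, π.subgroupMap_surjective B⟩)).symm
    rw [injective_iff_map_eq_one]
    intro x hx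
    exact Subtype.ext (hinjR x x.2 (congrArg Subtype.val hx))
  have : IsMulCommutative (L.map π) := ⟨⟨by
    rintro ⟨_, a, ha, rfl⟩ ⟨_, b, hb, rfl⟩
    refine Subtype.ext (commutatorElement_eq_one_iff_mul_comm.1 (hinj ?_))
    rw [← map_commutatorElement, hρ, hc _ (commutator_mem_commutator ha hb), map_one]⟩⟩
  have e : fixSpace ρ' (B.map π) = fixSpace σ B := by
    ext v
    refine ⟨fun h g hg => by rw [← hρ]; exact h _ (mem_map_of_mem π hg), ?_⟩
    rintro h _ ⟨g, hg, rfl⟩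
    rw [hρ]; exact h g hg
  rw [← hcR, ← e]
  refine finrank_eq_card_mul_of_free ρ' hZ' (le_normalizer_map π |>.trans' (map_mono hBL)) ?_
  rintro _ ⟨x, hx, rfl⟩ hx1
  exact key x hx fun h => hx1 (by rw [h, map_one])

end free

section grp
variable {X : Type*} [Group X] [Finite X]

theorem relIndex_eq_pow_of_free (ℓ : ℕ) [hℓ : Fact ℓ.Prime] {M N A B D : Subgroup X} (hle : N ≤ M)
    (hcomm : ⁅M, M⁆ ≤ N) (hpow : ∀ a ∈ M, a ^ ℓ ∈ N) (hAM : A ≤ normalizer (M : Set X))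
    (hAN : A ≤ normalizer (N : Set X)) (hBM : B ≤ normalizer (M : Set X))
    (hBN : B ≤ normalizer (N : Set X)) (hBA : B ≤ normalizer (A : Set X))
    (hA : (Nat.card A).Coprime ℓ) (hB : (Nat.card B).Coprime ℓ) (hab : ⁅M, ⁅A, A⁆⁆ ≤ N)
    (hf : ∀ b ∈ B, b ≠ 1 → ∀ g ∈ M, (∀ c ∈ ⁅A, zpowers b⁆, ⁅c, g⁆ ∈ N) → g ∈ N)
    (h1 : N ≤ D) (h2 : D ≤ M) (hD : ∀ m ∈ M, m ∈ D ↔ ∀ b ∈ B, ⁅b, m⁆ ∈ N) :
    N.relIndex M = N.relIndex D ^ Nat.card B := by
  set L := normalizer (M : Set X) ⊓ normalizer (N : Set X)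
  obtain ⟨W, _, _, _, ρ, ι, S⟩ := exists_secRep ℓ L.subtype M N hle (fun g => g.2.1)
    (fun g => g.2.2) hcomm hpow
  have hAL : A ≤ L := le_inf hAM hAN
  have hBL : B ≤ L := le_inf hBM hBN
  have hA' := natCast_ne_zero_of_coprime (AlgebraicClosure (ZMod ℓ)) ℓ
    (card_subgroupOf_of_le hAL ▸ hA : (Nat.card (A.subgroupOf L)).Coprime ℓ)
  have hmap : ∀ T : Subgroup L, ∀ c ∈ ⁅A.subgroupOf L, T⁆, (c : X) ∈ ⁅A, T.map L.subtype⁆ :=
    fun T c hc => by
      rw [← map_subgroupOf_eq_of_le hAL, ← Subgroup.map_commutator]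
      exact ⟨c, hc, rfl⟩
  have hn : B.subgroupOf L ≤ normalizer (A.subgroupOf L : Set L) := fun b hb => by
    rw [← subgroupOf_normalizer_eq hAL]; exact hBA hb
  have h3 := finrank_eq_card_mul_of_free' ρ (L := A.subgroupOf L) (B := B.subgroupOf L)
    (fun g hg => (S.rho_eq_one_iff g).2 fun a ha => by
      have := hmap _ g hg
      rw [map_subgroupOf_eq_of_le hAL] at this
      rw [← inv_mem_iff, commutatorElement_inv]
      exact hab (commutator_mem_commutator ha this)) hA' hn fun b hb hb1 => by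
      refine (normOp_eq_zero_iff fun h => hA' ?_).1 (S.normOp_eq_zero _ fun m hm h =>
        hf b hb (fun h => hb1 (Subtype.ext h)) m hm fun c hc => ?_)
      · obtain ⟨c, hc⟩ := card_dvd_of_le (Cop.commutator_le_left_of_le_normalizer
          ((zpowers_le.2 hb).trans hn))
        rw [hc, Nat.cast_mul, h, zero_mul]
      · rw [← map_subgroupOf_eq_of_le hAL, show zpowers (b : X) = (zpowers b).map L.subtype from
          (MonoidHom.map_zpowers L.subtype b).symm, ← Subgroup.map_commutator] at hc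
        obtain ⟨c, hc, rfl⟩ := hc
        exact h c hc
  rw [← S.pow_finrank, h3, ← S.pow_finrank_fixSpace (B := B.subgroupOf L)
    (natCast_ne_zero_of_coprime _ ℓ (card_subgroupOf_of_le hBL ▸ hB)) h1 h2 fun m hm =>
      (hD m hm).trans ⟨fun h b hb => h b hb, fun h b hb => h ⟨b, hBL hb⟩ hb⟩,
    card_subgroupOf_of_le hBL, ← pow_mul, mul_comm]

theorem exists_scn_mod {S D : Subgroup X} (hS : Group.IsNilpotent S) (hD : D ≤ S)
    (hn : S ≤ normalizer (D : Set X)) : ∃ A : Subgroup X, D ≤ A ∧ A ≤ S ∧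
      S ≤ normalizer (A : Set X) ∧ ⁅A, A⁆ ≤ D ∧ ∀ s ∈ S, ⁅A, zpowers s⁆ ≤ D → s ∈ A := by
  have : (D.subgroupOf S).Normal := (normal_subgroupOf_iff_le_normalizer hD).2 hn
  let π := QuotientGroup.mk' (D.subgroupOf S)
  obtain ⟨A, -, hAn, hAc, hA⟩ := PGrp.exists_scn_ge (⊥ : Subgroup (S ⧸ D.subgroupOf S)) inferInstance
  refine ⟨(A.comap π).map S.subtype, fun d hd => ⟨⟨d, hD hd⟩, ?_, rfl⟩, map_subtype_le _, ?_, ?_,
    fun s hs h => ⟨⟨s, hs⟩, hA.le fun a ha => ?_, rfl⟩⟩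
  · change π _ ∈ A
    rw [show π ⟨d, hD hd⟩ = 1 from (QuotientGroup.eq_one_iff _).2 hd]
    exact one_mem _
  · refine fun s hs => mem_normalizer_of_conj_mem ?_
    rintro _ ⟨a, ha, rfl⟩
    exact ⟨_, (hAn.comap π).conj_mem a ha ⟨s, hs⟩, rfl⟩
  · refine commutator_le.2 ?_
    rintro _ ⟨a, ha, rfl⟩ _ ⟨b, hb, rfl⟩
    have : π ⁅a, b⁆ = 1 := by
      rw [map_commutatorElement, commutatorElement_eq_one_iff_mul_comm]
      exact congrArg Subtype.val (hAc.is_comm.comm (⟨π a, ha⟩ : A) ⟨π b, hb⟩)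
    exact (QuotientGroup.eq_one_iff ⁅a, b⁆).1 this
  · obtain ⟨a, rfl⟩ := QuotientGroup.mk'_surjective _ a
    rw [← commutatorElement_eq_one_iff_mul_comm, ← map_commutatorElement]
    exact (QuotientGroup.eq_one_iff _).2
      (h (commutator_mem_commutator ⟨a, ha, rfl⟩ (mem_zpowers s)))

theorem mem_fix_iff {Q R D : Subgroup X} (hR : D ≤ normalizer (R : Set X)) (hRQ : R ≤ Q)
    (hn : Q ≤ normalizer (R : Set X)) (hcop : (Nat.card D).Coprime (Nat.card R)) (hs : Group.IsSolvable R) {m : X} (hm : m ∈ Q) :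
    m ∈ Q ⊓ centralizer (D : Set X) ⊔ R ↔ ∀ b ∈ D, ⁅b, m⁆ ∈ R := by
  constructor
  · intro h b hb
    rw [sup_comm] at h
    obtain ⟨n, hn, c, hc, rfl⟩ := (mem_sup_iff_of_le_normalizer' (inf_le_left.trans hn)).1 h
    rw [CommCalc.comm_mul_right, commutatorElement_eq_one_iff_mul_comm.2 (hc.2 b hb), mul_one,
      mul_inv_cancel, mul_one]
    exact mul_mem (conj_mem_of_mem_normalizer (hR hb) hn) (inv_mem hn)
  · intro h
    obtain ⟨n, hn, c, hc, rfl⟩ := Cop.exists_mul_centralizer_of_commutator_mem hR hcop (Or.inr hs)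
      (g := m) fun a ha => by rw [← inv_mem_iff, commutatorElement_inv]; exact h a ha
    exact mul_mem (mem_sup_right hn) (mem_sup_left ⟨(Q.mul_mem_cancel_left (hRQ hn)).1 hm, hc⟩)

omit [Finite X] in
theorem le_relCent_iff {Q R T : Subgroup X} (hT : T ≤ normalizer (R : Set X)) :
    T ≤ CommCalc.relCent R Q ↔ ⁅Q, T⁆ ≤ R := by
  rw [commutator_comm]
  exact ⟨fun h => commutator_le.2 fun a ha b hb => (h ha).2 b hb,
    fun h a ha => ⟨hT ha, fun b hb => h (commutator_mem_commutator ha hb)⟩⟩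

omit [Finite X] in
theorem le_normalizer_relCent [Finite X] {Q R T : Subgroup X} (h1 : T ≤ normalizer (R : Set X))
    (h2 : T ≤ normalizer (Q : Set X)) : T ≤ normalizer (CommCalc.relCent R Q : Set X) :=
  fun t ht => mem_normalizer_of_conj_mem fun g hg =>
    ⟨mul_mem (mul_mem (h1 ht) hg.1) (inv_mem (h1 ht)), fun a ha => by
      have := conj_mem_of_mem_normalizer (h1 ht) (hg.2 _ (conj_mem_of_mem_normalizer' (h2 ht) ha))
      convert this using 1
      simp only [commutatorElement_def]; group⟩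

/-- the index of the fixed points in an abelian section -/
theorem relIndex_fix_le {Q R D : Subgroup X} (hQ : D ≤ normalizer (Q : Set X)) (hRQ : R ≤ Q)
    (hc : ⁅Q, Q⁆ ≤ R) (hcop : (Nat.card D).Coprime (Nat.card Q)) (hs : Group.IsSolvable Q) :
    R.relIndex Q ≤ R.relIndex (Q ⊓ centralizer (D : Set X) ⊔ R) * R.relIndex (⁅Q, D⁆ ⊔ R) := by
  set C := Q ⊓ centralizer (D : Set X) ⊔ R
  have hCQ : C ≤ Q := sup_le inf_le_left hRQ
  have hE : ⁅Q, D⁆ ⊔ R ≤ Q := sup_le (Cop.commutator_le_left_of_le_normalizer hQ) hRQ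
  have h1 : C ⊔ (⁅Q, D⁆ ⊔ R) = Q := le_antisymm (sup_le hCQ hE)
    ((Cop.commutator_sup_centralizer hQ hcop (Or.inr hs)).ge.trans
      (sup_le (le_sup_left.trans le_sup_right) (le_sup_left.trans le_sup_left)))
  rw [← relIndex_mul_relIndex R C Q le_sup_right hCQ]
  refine Nat.mul_le_mul_left _ ?_
  conv_lhs => rw [← h1]
  rw [Cop.relIndex_sup_left_of_le_normalizer (hE.trans
    (Cop.le_normalizer_of_commutator_le (hc.trans le_sup_right) hCQ))]
  exact relIndex_le_of_le_left le_sup_right index_ne_zero_of_finite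

end grp

section pack
variable {k : Type u} [Field k] {V : Type v} [AddCommGroup V] [Module k V]
variable {G : Type w} [Group G] [Finite G] {ρ : G →* Module.End k V} {Q R : Subgroup G}
  {ψ : G → k} {U : Submodule k V}

theorem pack_commutator_centralizer_le (P : Pack ρ Q R ψ U) {D : Subgroup G}
    (h1 : D ≤ normalizer (Q : Set G)) (h2 : D ≤ stabSub ρ U) :
    ⁅⁅Q, D⁆ ⊔ R, Q ⊓ centralizer (D : Set G)⁆ ≤ Q ⊓ fixSub ρ U := by
  have hle : ⁅Q, D⁆ ⊔ R ≤ Q := sup_le (Cop.commutator_le_left_of_le_normalizer h1) P.le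
  have hQ : Q ≤ normalizer ((Q ⊓ fixSub ρ U : Subgroup G) : Set G) :=
    le_normalizer_ker le_normalizer (pack_le_stab P)
  refine CommCalc.commutator_sup_left_le ((le_sup_left.trans hle).trans hQ) (P.le.trans hQ) ?_
    (pack_commutator_le_ker P (inf_le_left.trans le_normalizer)
      (inf_le_left.trans (pack_le_stab P)))
  refine CommCalc.three_subgroups hQ (le_normalizer_ker h1 h2) (inf_le_left.trans hQ) ?_ ?_
  · rw [Cop.commutator_eq_bot_iff_le_centralizer'.2 inf_le_right, commutator_bot_left]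
    exact bot_le
  · exact (commutator_mono ((commutator_mono inf_le_left le_rfl).trans (pack_commutator_le P))
      le_rfl).trans (pack_commutator_le_ker P h1 h2)

theorem fix_pack (P : Pack ρ Q R ψ U) {D : Subgroup G} (h1 : D ≤ normalizer (Q : Set G))
    (h2 : D ≤ stabSub ρ U) (hcop : (Nat.card D).Coprime (Nat.card Q)) (hs : Group.IsSolvable Q) :
    Pack ρ (Q ⊓ centralizer (D : Set G) ⊔ R) R ψ U := by
  have hle : Q ⊓ centralizer (D : Set G) ⊔ R ≤ Q := sup_le inf_le_left P.le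
  refine ⟨le_sup_right, P.ne, fun g hg => P.inv g (hle hg), P.scal,
    fun g hg h hh => P.comm g (hle hg) h (hle hh), fun g hg h => ?_⟩
  have hQ : Q ≤ normalizer ((Q ⊓ fixSub ρ U : Subgroup G) : Set G) :=
    le_normalizer_ker le_normalizer (pack_le_stab P)
  have hC : ⁅Q ⊓ centralizer (D : Set G) ⊔ R, ⁅Q, D⁆⁆ ≤ Q ⊓ fixSub ρ U := by
    refine CommCalc.commutator_sup_left_le (inf_le_left.trans hQ) (P.le.trans hQ) ?_
      (pack_commutator_le_ker P ((Cop.commutator_le_left_of_le_normalizer h1).trans le_normalizer)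
        ((Cop.commutator_le_left_of_le_normalizer h1).trans (pack_le_stab P)))
    rw [commutator_comm]
    exact (commutator_mono le_sup_left le_rfl).trans (pack_commutator_centralizer_le P h1 h2)
  refine pack_nondeg P (hle hg) fun x hx => ?_
  obtain ⟨n, hn, c, hc, rfl⟩ := Cop.exists_commutator_mul_centralizer h1 hcop (Or.inr hs) hx
  have hc' : c ∈ Q ⊓ centralizer (D : Set G) ⊔ R := mem_sup_left hc
  rw [CommCalc.comm_mul_right]
  refine mul_mem (hC (commutator_mem_commutator hg hn)).2 (conj_mem_of_mem_normalizer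
    (hQ (Cop.commutator_le_left_of_le_normalizer h1 hn)) ⟨P.le (P.comm g (hle hg) c hc.1), ?_⟩).2
  exact (P.psi_eq_one_iff (P.comm g (hle hg) c hc.1)).1 (h c hc')

theorem num_scn {p m q d r t : ℕ} (hp : 2 ≤ p) (hq : 2 ≤ q) (hr : 1 ≤ r)
    (h1 : q ^ d + 1 = p ^ (m + 1)) (h2 : t * p = 2 * r * p ^ (m + 1)) (h3 : t * p ≤ t + 2 * d) :
    False := by
  have h4 : t = 2 * r * p ^ m := Nat.eq_of_mul_eq_mul_right (by omega : 0 < p) (by rw [h2]; ring)
  have h5 : 2 * d ≤ q ^ d := by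
    rcases d with _ | d
    · simp
    · calc 2 * (d + 1) ≤ 2 * 2 ^ d := Nat.mul_le_mul_left 2 Nat.lt_two_pow_self
        _ = 2 ^ (d + 1) := (pow_succ' 2 d).symm
        _ ≤ _ := Nat.pow_le_pow_left hq _
  rw [pow_succ] at h1
  have h6 : 0 < p ^ m := by positivity
  generalize p ^ m = P at *
  generalize q ^ d = N at *
  subst h4
  obtain ⟨p, rfl⟩ := Nat.exists_eq_add_of_le hp
  obtain ⟨r, rfl⟩ := Nat.exists_eq_add_of_le hr
  nlinarith [Nat.zero_le (r * P), Nat.zero_le (r * P * p), Nat.zero_le (P * p)]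

/-- An exceptional element lies in every self-centralizing abelian normal subgroup. -/
theorem pack_mem_scn [IsAlgClosed k] [FiniteDimensional k V] (P : Pack ρ Q R ψ U)
    (hq : (Nat.card Q : k) ≠ 0) {q p : ℕ} [hq' : Fact q.Prime] [hp : Fact p.Prime] (hpq : p ≠ q)
    (hQ : IsPGroup q Q) (hpow : ∀ g ∈ Q, g ^ q ∈ R) {S A : Subgroup G} (hS : IsPGroup p S)
    (hSQ : S ≤ normalizer (Q : Set G)) (hSU : S ≤ stabSub ρ U) (hAS : A ≤ S)
    (hSA : S ≤ normalizer (A : Set G)) (hab : ⁅Q, ⁅A, A⁆⁆ ≤ R)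
    (hscn : ∀ s ∈ S, ⁅Q, ⁅A, zpowers s⁆⁆ ≤ R → s ∈ A) {x : G} (hx : x ∈ S) {m N : ℕ}
    (hx1 : x ^ p ^ (m + 1) = 1) (hN : N + 1 = p ^ (m + 1))
    (hN2 : N ^ 2 = R.relIndex (⁅Q, zpowers (x ^ p ^ m)⁆ ⊔ R)) : x ^ p ^ m ∈ A := by
  by_contra hy
  set Y := zpowers (x ^ p ^ m) with hY
  have hYx : Y ≤ zpowers x := zpowers_le.2 (pow_mem (mem_zpowers x) _)
  have hxS : zpowers x ≤ S := zpowers_le.2 hx
  have hYS := hYx.trans hxS
  have hBA : ⁅A, Y⁆ ≤ A := Cop.commutator_le_left_of_le_normalizer (hYS.trans hSA)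
  have hBS := hBA.trans hAS
  have hne : ¬ ⁅Q, ⁅A, Y⁆⁆ ≤ R := fun h => hy (hscn _ (hYS (mem_zpowers _)) h)
  have hxB : zpowers x ≤ normalizer ((⁅A, Y⁆ : Subgroup G) : Set G) :=
    Cop.le_normalizer_commutator (hxS.trans hSA) (zpowers_le_normalizer_zpowers_pow x _)
  have hAB : A ≤ normalizer ((⁅A, Y⁆ : Subgroup G) : Set G) := normalizer_commutator_ge_left _ _
  set B := ⁅A, Y⁆
  have hSq : ∀ T : Subgroup G, T ≤ S → (Nat.card T).Coprime q := fun T hT =>
    coprime_card_of_isPGroup_of_ne hp.out hq'.out hpq (hS.to_le hT)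
  have hs := isSolvable_of_isPGroup hQ
  have hSR := pack_le_normalizer P hSQ hSU
  have P₁ := sub_pack P (hBS.trans hSQ) (hBS.trans hSU)
    (Cop.coprime_card_of_isPGroup (hSq B hBS) hQ) hs
  have hle : ⁅Q, B⁆ ⊔ R ≤ Q :=
    sup_le (Cop.commutator_le_left_of_le_normalizer (hBS.trans hSQ)) P.le
  have hn : ∀ T : Subgroup G, T ≤ S → T ≤ normalizer (B : Set G) →
      T ≤ normalizer ((⁅Q, B⁆ ⊔ R : Subgroup G) : Set G) := fun T h1 h2 =>
    le_normalizer_sup (Cop.le_normalizer_commutator (h1.trans hSQ) h2) (h1.trans hSR)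
  have hfix : ∀ g ∈ ⁅Q, B⁆ ⊔ R, (∀ c ∈ B, ⁅c, g⁆ ∈ R) → g ∈ R := fun g hg h =>
    sub_fpf P (hBS.trans hSQ) (hBS.trans hSU) (Cop.coprime_card_of_isPGroup (hSq B hBS) hQ) hg
      fun d hd => by rw [← inv_mem_iff, commutatorElement_inv]; exact h d hd
  set Q₁ := ⁅Q, B⁆ ⊔ R
  have hQ₁ := hQ.to_le hle
  have hc₁ := pack_commutator_le P₁
  have key : ∀ T : Subgroup G, T ≤ zpowers x → R.relIndex Q₁ =
      R.relIndex (Q₁ ⊓ centralizer (T : Set G) ⊔ R) ^ Nat.card T := fun T hT =>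
    relIndex_eq_pow_of_free q P₁.le hc₁ (fun a ha => hpow a (hle ha)) (hn A hAS hAB)
      (hAS.trans hSR) (hn T (hT.trans hxS) (hT.trans hxB)) ((hT.trans hxS).trans hSR)
      ((hT.trans hxS).trans hSA) (hSq A hAS) (hSq T (hT.trans hxS))
      ((commutator_mono hle le_rfl).trans hab)
      (fun b hb hb1 g hg h => hfix g hg fun c hc => h c (commutator_mono le_rfl
        (zpowers_le.2 (pow_mem_zpowers_of_ne_one hp.out hx1 (hT hb) hb1)) hc))
      le_sup_right (sup_le inf_le_left P₁.le) fun m hm => mem_fix_iff ((hT.trans hxS).trans hSR)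
        P₁.le (Cop.le_normalizer_of_commutator_le hc₁ P₁.le) (Cop.coprime_card_of_isPGroup
          (hSq T (hT.trans hxS)) (hQ.to_le P.le)) (isSolvable_of_le hs P.le) hm
  have hy1 : x ^ p ^ m ≠ 1 := fun h => hy (h ▸ one_mem _)
  have k1 := key _ le_rfl
  have k2 := key Y hYx
  rw [Nat.card_zpowers, orderOf_eq_prime_pow hy1 hx1] at k1
  rw [Nat.card_zpowers, orderOf_eq_prime (by rw [← pow_mul, ← pow_succ, hx1]) hy1] at k2
  have hcast : ∀ T : Subgroup G, T ≤ Q → (Nat.card T : k) ≠ 0 := fun T hT h => hq (by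
    obtain ⟨c, hc⟩ := card_dvd_of_le hT
    rw [hc, Nat.cast_mul, h, zero_mul])
  have hC : ∀ T : Subgroup G, Q₁ ⊓ centralizer (T : Set G) ⊔ R ≤ Q := fun T =>
    sup_le (inf_le_left.trans hle) P.le
  obtain ⟨M, hM⟩ := (fix_pack P₁ (hn _ hxS hxB) (hxS.trans hSU) (Cop.coprime_card_of_isPGroup
    (hSq _ hxS) hQ₁) (isSolvable_of_le hs hle)).exists_sq (hcast _ (hC _))
  obtain ⟨r, rfl⟩ := exists_pow_of_sq_eq_relIndex (hQ.to_le (hC _)) hM
  obtain ⟨d, rfl⟩ := exists_pow_of_sq_eq_relIndex (hQ.to_le (sup_le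
    (Cop.commutator_le_left_of_le_normalizer (hYS.trans hSQ)) P.le)) hN2
  obtain ⟨t, ht⟩ : ∃ t, R.relIndex (Q₁ ⊓ centralizer (Y : Set G) ⊔ R) = q ^ t := by
    obtain ⟨a, ha⟩ := IsPGroup.iff_card.1 (hQ.to_le (hC Y))
    obtain ⟨s, -, hs⟩ := (Nat.dvd_prime_pow hq'.out).1 (ha ▸ relIndex_dvd_card R _)
    exact ⟨s, hs⟩
  have h1 := (relIndex_fix_le (hn Y hYS (hYx.trans hxB)) P₁.le hc₁ (Cop.coprime_card_of_isPGroup
    (hSq Y hYS) hQ₁) (isSolvable_of_le hs hle)).trans (Nat.mul_le_mul_left _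
      (relIndex_le_of_le_right (sup_le_sup_right (commutator_mono hle le_rfl) R)
        index_ne_zero_of_finite))
  rw [← hN2, k2, ht, ← pow_mul, ← pow_mul, ← pow_add,
    Nat.pow_le_pow_iff_right hq'.out.one_lt] at h1
  have hr : 1 ≤ r := Nat.pos_of_ne_zero (by
    rintro rfl
    rw [← hM] at k1
    exact hne (le_sup_left.trans (relIndex_eq_one.1 (k1.trans (by simp)))))
  rw [← hM, k2, ht, ← pow_mul, ← pow_mul, ← pow_mul] at k1
  exact num_scn hp.out.two_le hq'.out.two_le hr hN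
    ((Nat.pow_right_injective hq'.out.two_le k1).trans (by ring)) (by omega)

/-- Hall–Higman at a given component -/
theorem hh_at_comp [IsAlgClosed k] [FiniteDimensional k V] (P : Pack ρ Q R ψ U)
    (hq : (Nat.card Q : k) ≠ 0) (hs : Group.IsSolvable Q) {p : ℕ} (hp : p.Prime)
    (hQp : (Nat.card Q).Coprime p) {x : G} {n : ℕ} (hx : x ^ p ^ (n + 1) = 1)
    (hxQ : x ∈ normalizer (Q : Set G)) {e : Module.End k V} (he1 : ∀ v ∈ U, e v = v)
    (he0 : ∀ y ∈ zpowers x, y ∉ stabSub ρ U → ∀ v ∈ U, e (ρ y v) = 0)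
    (f : k[X]) (hf : f.Monic) (hfx : ∀ v ∈ U, aeval (ρ x) f v = 0)
    (hdeg : f.natDegree < p ^ (n + 1)) :
    ∃ j m : ℕ, j + m = n ∧ (∀ i : ℤ, x ^ i ∈ stabSub ρ U ↔ ((p ^ j : ℕ) : ℤ) ∣ i) ∧
      x ^ p ^ j ∈ stabSub ρ U ∧ x ^ p ^ n ∈ stabSub ρ U ∧
      (⁅Q, zpowers (x ^ p ^ n)⁆ ≤ R ∨ ∃ N, N + 1 = p ^ (m + 1) ∧
        N ^ 2 = R.relIndex (⁅Q, zpowers (x ^ p ^ n)⁆ ⊔ R) ∧ p ^ j * N ≤ f.natDegree) := by
  obtain ⟨t, ht⟩ := exists_zpow_mem_iff (stabSub ρ U) x
  have htd : t ∣ p ^ (n + 1) := by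
    have := (ht (p ^ (n + 1) : ℕ)).1 (by rw [zpow_natCast, hx]; exact one_mem _)
    exact_mod_cast this
  obtain ⟨j, hj, rfl⟩ := (Nat.dvd_prime_pow hp).1 htd
  obtain ⟨m, hm⟩ := Nat.exists_eq_add_of_le hj
  have hyU : x ^ p ^ j ∈ stabSub ρ U := by
    rw [← zpow_natCast]; exact (ht _).2 dvd_rfl
  obtain ⟨g, hg, hgd, hgx⟩ := exists_contract ρ U e he1 x (pow_pos hp.pos j) hyU
    (fun i hi v hv => he0 _ (zpow_mem (mem_zpowers x) i) (fun h => hi ((ht i).1 h)) v hv) f hf hfx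
  have hglt : g.natDegree < p ^ m := by
    rw [hgd, Nat.div_lt_iff_lt_mul (pow_pos hp.pos j), ← pow_add, add_comm, ← hm]
    exact hdeg
  obtain ⟨m, rfl⟩ : ∃ m', m = m' + 1 := Nat.exists_eq_succ_of_ne_zero (by
    rintro rfl
    have : g = 1 := hg.natDegree_eq_zero.1 (by simpa using hglt)
    apply P.ne
    rw [eq_bot_iff]
    intro v hv
    simpa [this] using hgx v hv)
  have hyQ : x ^ p ^ j ∈ normalizer (Q : Set G) := pow_mem hxQ _
  have hτy : x ^ p ^ n ∈ zpowers (x ^ p ^ j) :=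
    pow_pow_mem_zpowers hp hx (fun h => by
      have := (Nat.pow_dvd_pow_iff_le_right hp.one_lt).1 h
      omega)
  have hA : zpowers (x ^ p ^ n) ≤ stabSub ρ U := zpowers_le.2 (zpowers_le.2 hyU hτy)
  refine ⟨j, m, by omega, ht, hyU, hA (mem_zpowers _), or_iff_not_imp_left.2 fun hne => ?_⟩
  have hAQ : zpowers (x ^ p ^ n) ≤ normalizer (Q : Set G) := zpowers_le.2 (pow_mem hxQ _)
  have hcop : (Nat.card (zpowers (x ^ p ^ n))).Coprime (Nat.card Q) :=
    card_zpowers_coprime (n := 1) (by rw [pow_one, ← pow_mul, ← pow_succ, hx]) hQp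
  have P' := sub_pack P hAQ hA hcop hs
  have hle : ⁅Q, zpowers (x ^ p ^ n)⁆ ⊔ R ≤ Q :=
    sup_le (Cop.commutator_le_left_of_le_normalizer hAQ) P.le
  have hne' : R ≠ ⁅Q, zpowers (x ^ p ^ n)⁆ ⊔ R := fun h => hne (le_sup_left.trans h.ge)
  have hyR := P.mem_normalizer hyQ hyU
  obtain ⟨N, hN, -, hnum⟩ := P'.numerics (fun h => hq (by
      obtain ⟨c, hc⟩ := card_dvd_of_le hle
      rw [hc, Nat.cast_mul, h, zero_mul]))
    (zpowers_le.1 (le_normalizer_sup (Cop.le_normalizer_commutator (zpowers_le.2 hyQ)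
      ((zpowers_le.2 (pow_mem (mem_zpowers x) _)).trans (zpowers_le_normalizer_zpowers_pow x _)))
      (zpowers_le.2 hyR))) hyU (h := p ^ (m + 1)) (Nat.one_lt_pow (by omega) hp.one_lt)
    (fun i hi0 hi a ha hc => by
      have hz : x ^ p ^ n ∈ zpowers ((x ^ p ^ j) ^ i) := by
        rw [← pow_mul]
        refine pow_pow_mem_zpowers hp hx fun h => ?_
        rw [hm, pow_add, Nat.mul_dvd_mul_iff_left (pow_pos hp.pos j)] at h
        exact absurd (Nat.le_of_dvd hi0 h) (by omega)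
      exact sub_fpf P hAQ hA hcop ha fun b hb =>
        commutator_mem_of_mem_zpowers (pow_mem hyR _) hc (zpowers_le.2 hz hb))
  obtain ⟨h1, h2⟩ := (hnum g hg hgx).1 hne' hglt
  refine ⟨N, h1, hN, ?_⟩
  have : N = f.natDegree / p ^ j := by omega
  rw [this]
  exact Nat.mul_div_le _ _

/-- The standard configuration for a `p`-group `S` normalizing the `p'`-group `K` with a normal
subgroup `A` acting nontrivially. -/
theorem exists_config [IsAlgClosed k] [FiniteDimensional k V] (hρ : Function.Injective ρ)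
    {p : ℕ} [hp : Fact p.Prime] {K S A : Subgroup G} (hK : (Nat.card K : k) ≠ 0)
    (hKp : (Nat.card K).Coprime p) (hS : IsPGroup p S) (hSK : S ≤ normalizer (K : Set G))
    (hAS : A ≤ S) (hSA : S ≤ normalizer (A : Set G)) (hne : ⁅K, A⁆ ≠ ⊥) :
    ∃ (q : ℕ) (Q R : Subgroup G) (ψ : G → k) (U : Submodule k V) (e : Module.End k V),
      q.Prime ∧ p ≠ q ∧ Q ≤ K ∧ IsPGroup q Q ∧ (Nat.card Q : k) ≠ 0 ∧
      S ≤ normalizer (Q : Set G) ∧ ⁅Q, A⁆ = Q ∧ Q ⊓ centralizer (A : Set G) = ⁅Q, Q⁆ ∧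
      ⁅Q, Q⁆ ≤ centralizer (Q : Set G) ∧ (∀ g ∈ Q, g ^ q ∈ ⁅Q, Q⁆) ∧
      (∀ T : Subgroup G, T < Q → S ≤ normalizer (T : Set G) → T ≤ ⁅Q, Q⁆) ∧
      Pack ρ Q R ψ U ∧ ¬ Q ≤ fixSub ρ U ∧ (∀ v ∈ U, e v = v) ∧
      (∀ y ∈ normalizer (Q : Set G), y ∉ stabSub ρ U → ∀ v ∈ U, e (ρ y v) = 0) ∧
      U = LinearMap.ker (normOp ρ Q) ⊓ weightSpace ρ R ψ := by
  obtain ⟨q, Q, hq, hd, hQK, hQ, hSQ, hQne, hmin⟩ := exists_min_q hSK
    (Cop.coprime_card_of_isPGroup hKp hS).symm (Or.inl (isSolvable_of_isPGroup hS)) hne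
  have := Fact.mk hq
  have hpq : p ≠ q := by
    rintro rfl
    exact hp.out.ne_one (Nat.eq_one_of_dvd_coprimes hKp hd dvd_rfl)
  obtain ⟨m1, m2, m3, m4, -, m6, -⟩ := Cop.minimal_action hQ hSQ hAS hSA
    (coprime_card_of_isPGroup_of_ne hp.out hq hpq (hS.to_le hAS)) hQne hmin
  have hq' : (Nat.card Q : k) ≠ 0 := fun h => hK (by
    obtain ⟨c, hc⟩ := card_dvd_of_le hQK
    rw [hc, Nat.cast_mul, h, zero_mul])
  obtain ⟨R, ψ, U, e, P, hU, he, h0, -⟩ := exists_component ρ Q hq' (LinearMap.ker (normOp ρ Q))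
    (ker_normOp_ne_bot (by
      obtain ⟨g, hg⟩ := ne_bot_iff_exists_ne_one.1 (m1 ▸ hQne)
      exact ⟨g, g.2, fun h => hg (Subtype.ext (hρ (h.trans (map_one ρ).symm)))⟩))
    (fun g hg => ker_normOp_invariant (le_normalizer hg)) fun g hg h hh a ha v _ => by
      rw [← rho_mul_apply, ← rho_mul_apply, m4 (commutator_mem_commutator hg hh) a ha]
  exact ⟨q, Q, R, ψ, U, e, hq, hpq, hQK, hQ, hq', hSQ, m1, m2, m4,
    fun g hg => m3.le (Cop.pow_mem_frattini_map hQ hg), m6, P,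
    fun h => P.ne (eq_bot_iff.2 fun v hv =>
      eq_zero_of_mem_ker_normOp hq' (hU.le hv).1 fun g hg => h hg v hv), he,
    fun y hy => h0 y hy (ker_normOp_invariant hy), hU⟩

theorem pack_not_le (P : Pack ρ Q R ψ U) (hK : ¬ Q ≤ fixSub ρ U) {A : Subgroup G}
    (hA : ⁅Q, A⁆ = Q) (h1 : A ≤ normalizer (Q : Set G)) (h2 : A ≤ stabSub ρ U) : ¬ Q ≤ R :=
  fun h => hK (hA.ge.trans ((commutator_mono h le_rfl).trans
    ((pack_commutator_le_ker P h1 h2).trans inf_le_right)))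

/-- the `p ^ e`-th powers of exceptional elements commute -/
theorem commute_pow_of_exceptional [IsAlgClosed k] [FiniteDimensional k V]
    (hρ : Function.Injective ρ) {p : ℕ} [hp : Fact p.Prime] {K S : Subgroup G}
    (hK : (Nat.card K : k) ≠ 0) (hKp : (Nat.card K).Coprime p) (hS : IsPGroup p S)
    (hSK : S ≤ normalizer (K : Set G)) (hC : S ⊓ centralizer (K : Set G) = ⊥) {n : ℕ}
    (h : ∀ g ∈ S, g ^ p ^ (n + 1) = 1 ∧
      ∃ f : k[X], f.Monic ∧ aeval (ρ g) f = 0 ∧ f.natDegree < p ^ (n + 1))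
    {a b : G} (ha : a ∈ S) (hb : b ∈ S) : Commute (a ^ p ^ n) (b ^ p ^ n) := by
  set N := closure {y | ∃ g ∈ S, g ^ p ^ n = y}
  have hNS : N ≤ S := (closure_le _).2 (by rintro _ ⟨g, hg, rfl⟩; exact pow_mem hg _)
  have hSN : S ≤ normalizer (N : Set G) := fun s hs => mem_normalizer_of_map_conj_eq
    (eq_of_le_of_card_le (by
      rw [MonoidHom.map_closure, closure_le]
      rintro _ ⟨_, ⟨g, hg, rfl⟩, rfl⟩
      exact subset_closure ⟨_, mul_mem (mul_mem hs hg) (inv_mem hs), conj_pow⟩)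
      (card_map_conj _ _).ge)
  have hN' : ⁅N, N⁆ ≤ N := Cop.commutator_le_left_of_le_normalizer le_normalizer
  suffices ⁅N, N⁆ = ⊥ from commutatorElement_eq_one_iff_commute.1 (mem_bot.1 (this.le
    (commutator_mem_commutator (subset_closure ⟨a, ha, rfl⟩) (subset_closure ⟨b, hb, rfl⟩))))
  by_contra hne
  obtain ⟨q, Q, R, ψ, U, e, hq, hpq, hQK, hQ, hq', hSQ, m1, -, -, m4, -, P, hU, he, h0, -⟩ :=
    exists_config hρ hK hKp hS hSK (hN'.trans hNS) (Cop.le_normalizer_commutator hSN hSN)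
      fun h => hne (le_bot_iff.1 ((le_inf (hN'.trans hNS)
        (Cop.commutator_eq_bot_iff_le_centralizer'.1 h)).trans hC.le))
  have := Fact.mk hq
  have key := fun g (hg : g ∈ S) => (h g hg).2.elim fun f hf => hh_at_comp P hq'
    (isSolvable_of_isPGroup hQ) hp.out (hKp.coprime_dvd_left (card_dvd_of_le hQK)) (h g hg).1
    (hSQ hg) he (fun y hy => h0 y (zpowers_le.2 (hSQ hg) hy)) f hf.1
    (fun v _ => by rw [hf.2.1]; rfl) hf.2.2 |>.imp fun j h => h.imp fun m h =>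
      And.intro h.1 (And.intro h.2.2.1 (And.intro h.2.2.2.1 (h.2.2.2.2.imp_right fun h =>
        h.imp fun N h => And.intro h.1 h.2.1)))
  have hNU : N ≤ stabSub ρ U := (closure_le _).2 (by
    rintro _ ⟨g, hg, rfl⟩
    obtain ⟨j, m, -, -, h1, -⟩ := key g hg
    exact h1)
  set S₀ := S ⊓ stabSub ρ U
  have hS₀Q : S₀ ≤ normalizer (Q : Set G) := inf_le_left.trans hSQ
  have hS₀R := pack_le_normalizer P hS₀Q inf_le_right
  obtain ⟨A, hDA, hAS, hSA, hab, hscn⟩ := exists_scn_mod (S := S₀) (D := S₀ ⊓ CommCalc.relCent R Q)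
    hS.to_inf_left.isNilpotent inf_le_left fun s hs => inf_normalizer_le_normalizer_inf
      ⟨le_normalizer hs, le_normalizer_relCent hS₀R hS₀Q hs⟩
  have hab' : ⁅Q, ⁅A, A⁆⁆ ≤ R :=
    (le_relCent_iff ((hab.trans inf_le_left).trans hS₀R)).1 (hab.trans inf_le_right)
  have hNA : N ≤ A := (closure_le _).2 (by
    rintro _ ⟨g, hg, rfl⟩
    obtain ⟨j, m, rfl, h1, h2, h3 | ⟨M, h3, h4⟩⟩ := key g hg
    · have h4 : zpowers (g ^ p ^ (j + m)) ≤ S₀ := zpowers_le.2 ⟨pow_mem hg _, h2⟩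
      exact hDA (le_inf h4 ((le_relCent_iff (h4.trans hS₀R)).2 h3) (mem_zpowers _))
    · rw [pow_add, pow_mul] at h4 ⊢
      refine pack_mem_scn P hq' hpq hQ (fun g hg => pack_commutator_le P (m4 g hg))
        hS.to_inf_left hS₀Q inf_le_right hAS hSA hab' (fun s hs h => hscn s hs ?_)
        ⟨pow_mem hg _, h1⟩ (by rw [← pow_mul, ← pow_add, ← add_assoc, (h g hg).1]) h3 h4
      have h5 : ⁅A, zpowers s⁆ ≤ S₀ :=
        (Cop.commutator_le_left_of_le_normalizer ((zpowers_le.2 hs).trans hSA)).trans hAS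
      exact le_inf h5 ((le_relCent_iff (h5.trans hS₀R)).2 h))
  exact pack_not_le P hU m1 ((hN'.trans hNS).trans hSQ) (hN'.trans hNU)
    (m1.ge.trans ((commutator_mono le_rfl (commutator_mono hNA hNA)).trans hab'))

end pack

end CfsgLib.H9
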