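import Cfsg.Agent.Lib.H8FrobBase
import Cfsg.Agent.Lib.H8FrobMod
import Cfsg.Agent.Lib.H9Exc
import Cfsg.Agent.Lib.H5Thompson

/-! A Frobenius group `FH` acting on `G` with `C_G(F) = 1`: covering of fixed points, generation
by the fixed points of the complements, nilpotency. -/

set_option autoImplicit false

namespace CfsgLib.H8Fpf

open Subgroup Cfsg CfsgLib.FT CfsgLib.FT.BGN CfsgLib.Cop CfsgLib.H9 CfsgLib.CommCalc
open scoped commutatorElement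

universe u

variable {X : Type u} [Group X] [Finite X] {G F H : Subgroup X}

theorem mem_of_pow_mem {N : Subgroup X} {x : X} {n : ℕ} (h : x ^ n ∈ N)
    (hc : n.Coprime (orderOf x)) : x ∈ N :=
  zpowers_le_of_mem h (mem_zpowers_pow_iff.2 hc)

theorem Cfg.fpf_hall (h : Cfg G F) {M N : Subgroup X} (hMG : M ≤ G) (hNM : N ≤ M)
    (hM : F ≤ 𝐍(M)) (hN : F ≤ 𝐍(N)) (hMN : M ≤ 𝐍(N)) {ℓ : ℕ} [hℓ : Fact ℓ.Prime]
    (hp : ∀ a ∈ M, a ^ ℓ ∈ N) {m : X} (hm : m ∈ M) (e : ∀ f ∈ piCoreOf {ℓ}ᶜ F, ⁅f, m⁆ ∈ N) :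
    m ∈ N := by
  have hD : F ≤ 𝐍(M ⊓ relCent N (piCoreOf {ℓ}ᶜ F)) :=
    H1.le_normalizer_inf hM (H9.le_normalizer_relCent hN (H1.le_normalizer_piCoreOf F))
  refine le_of_forall_sylow (H := M ⊓ relCent N (piCoreOf {ℓ}ᶜ F)) (fun q hq _ => ?_)
    ⟨hm, hMN hm, fun t ht => by rw [← commutatorElement_inv]; exact inv_mem (e t ht)⟩
  obtain ⟨S, hS, hS'⟩ := (h.sub (inf_le_left.trans hMG) hD).exists_sylow q
  have hSM := hS.le.trans inf_le_left
  refine ⟨S, hS, ?_⟩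
  by_cases hne : q = ℓ
  swap
  · intro x hx
    obtain ⟨i, hi⟩ := hS.isPGroup.exists_card_eq
    exact mem_of_pow_mem (hp x (hSM hx)) (Nat.Coprime.coprime_dvd_right
      (hi ▸ orderOf_dvd_natCard _ hx) (((Nat.coprime_primes hℓ.1 hq.1).2 (Ne.symm hne)).pow_right _))
  subst hne
  by_contra hc
  have h1 := H1.pCoreOf_le (p := q) F
  obtain ⟨x, hx, hx', e⟩ := exists_commutator_mem_of_lt (isPGroup_sup' (h1.trans hS') hS.isPGroup
    (H1.pCoreOf_isPGroup F)).isNilpotent le_sup_left (sup_le (hSM.trans hMN) (h1.trans hN))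
    (sup_le le_normalizer (h1.trans hS')) hc
  have : F ≤ relCent N {x} := by
    rw [← H1.pCoreOf_sup_piCoreOf_of_isNilpotent q h.nil]
    refine sup_le (fun f hf => ⟨hN (h1 hf), ?_⟩) fun f hf => ⟨hN (H1.piCoreOf_le F hf), ?_⟩ <;>
      rintro _ rfl <;> rw [← commutatorElement_inv]
    · exact inv_mem (e f (mem_sup_right hf))
    · exact inv_mem ((hS.le hx).2.2 f hf)
  exact hx' (h.mem_of_comm (hNM.trans hMG) hN (hMG (hSM hx)) fun f hf => by
    rw [← commutatorElement_inv]; exact inv_mem ((this hf).2 x rfl))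

namespace FCfg
variable (h : FCfg G F H)
include h

omit [Finite X] in
theorem sub {N : Subgroup X} (h1 : N ≤ G) (h2 : F ≤ 𝐍(N)) (h3 : H ≤ 𝐍(N)) : FCfg N F H :=
  ⟨h.toCfg.sub h1 h2, h3, h.hF, h.frob⟩

theorem semi (π : Set ℕ) (L : Subgroup X) :
    Semi ((piCoreOf π F).subgroupOf L) (H.subgroupOf L) :=
  ⟨fun _ hr => mem_normalizer_iff.2 fun x =>
    mem_normalizer_iff.1 (H1.normalizer_le_normalizer_piCoreOf F (h.hF hr)) x,
   fun r hr h1 f hf e => Subtype.ext ((h.frob r hr fun e => h1 (Subtype.ext e)).le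
    ⟨H1.piCoreOf_le F hf, fun _ hy => hy ▸ congrArg Subtype.val e⟩)⟩

/-- the section representation -/
theorem exists_sec {M N L : Subgroup X} (hMG : M ≤ G) (hNM : N ≤ M) (hM : L ≤ 𝐍(M))
    (hN : L ≤ 𝐍(N)) (hF : F ≤ L) (hc : ⁅M, M⁆ ≤ N) {ℓ : ℕ} [hℓ : Fact ℓ.Prime]
    (hp : ∀ a ∈ M, a ^ ℓ ∈ N) :
    ∃ (W : Type u) (_ : AddCommGroup W) (_ : Module (AlgebraicClosure (ZMod ℓ)) W)
      (_ : FiniteDimensional (AlgebraicClosure (ZMod ℓ)) W)
      (ρ : L →* Module.End (AlgebraicClosure (ZMod ℓ)) W) (ι : X → W),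
      SecRep ℓ L.subtype M N ρ ι ∧ normOp ρ ((piCoreOf {ℓ}ᶜ F).subgroupOf L) = 0 ∧
      (Nat.card ((piCoreOf {ℓ}ᶜ F).subgroupOf L)).Coprime ℓ := by
  obtain ⟨W, _, _, _, ρ, ι, S⟩ := exists_secRep ℓ L.subtype M N hNM (fun g => hM g.2)
    (fun g => hN g.2) hc hp
  have h1 := (H1.piCoreOf_le (π := {ℓ}ᶜ) F).trans hF
  refine ⟨W, _, _, ‹_›, ρ, ι, S, S.normOp_eq_zero _ fun m hm e => h.fpf_hall hMG hNM (hF.trans hM)
    (hF.trans hN) (le_normalizer_of_commutator_le hc hNM) hp hm fun f hf => e ⟨f, h1 hf⟩ hf, ?_⟩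
  rw [Nat.card_congr (subgroupOfEquivOfLe h1).toEquiv]
  exact H1.piCoreOf_compl_coprime ℓ F

/-- covering of the fixed points of `H` -/
theorem cover (N : Subgroup X) : N ≤ G → Group.IsSolvable N → F ≤ 𝐍(N) → H ≤ 𝐍(N) →
    ∀ g : X, (∀ x ∈ H, g⁻¹ * x * g * x⁻¹ ∈ N) → ∃ n ∈ N, g * n ∈ 𝐂(H) := by
  induction N using WellFoundedLT.induction with
  | ind M ih =>
  intro hMG hs hF hH g hg
  by_cases h0 : M = ⊥
  · refine ⟨1, one_mem _, fun x hx => ?_⟩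
    have := hg x hx
    rw [h0, mem_bot, mul_inv_eq_one, mul_assoc, inv_mul_eq_iff_eq_mul] at this
    rwa [mul_one]
  obtain ⟨N, ℓ, hℓ, -, hlt, hN, hc, hp, -⟩ := exists_chief_sec hs h0 (sup_le hF hH)
  have := Fact.mk hℓ
  obtain ⟨W, _, _, _, ρ, ι, S, h1, h2⟩ := h.exists_sec hMG hlt.le (sup_le hF hH) hN le_sup_left hc hp
  let A : AddSubgroup W :=
    { carrier := ι '' M
      zero_mem' := ⟨1, one_mem _, S.map_one⟩
      add_mem' := by
        rintro _ _ ⟨a, ha, rfl⟩ ⟨b, hb, rfl⟩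
        exact ⟨_, mul_mem ha hb, S.map_mul a ha b hb⟩
      neg_mem' := by
        rintro _ ⟨a, ha, rfl⟩
        exact ⟨_, inv_mem ha, S.map_inv ha⟩ }
  have hA : ∀ y, ∀ v ∈ A, ρ y v ∈ A := by
    rintro y _ ⟨a, ha, rfl⟩
    exact ⟨_, S.conj_mem y ha, S.conj y a ha⟩
  obtain ⟨w, hw, e⟩ := (h.semi _ _).exists_cobdry h1 A (fun y _ => hA y) (fun y _ => hA y)
    (fun r => ι (g⁻¹ * r.1 * g * (r.1 : X)⁻¹)) (fun r => ⟨_, hg _ r.2, rfl⟩) fun a b => by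
      have ha := hg a.1 a.2
      have hb := hg b.1 b.2
      rw [← S.conj _ _ hb, ← S.map_mul _ ha _ (S.conj_mem _ hb)]
      congr 1
      simp only [coe_mul, coe_subtype]
      group
  obtain ⟨a, b, hab⟩ := Nat.isCoprime_iff_coprime.2 h2
  obtain ⟨n, hn, e2⟩ : -a • w ∈ A := zsmul_mem hw _
  obtain ⟨n', hn', e3⟩ := ih N hlt (hlt.le.trans hMG) (isSolvable_of_le hs hlt.le)
    (le_sup_left.trans hN) (le_sup_right.trans hN) (g * n) fun x hx => by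
      let r : H.subgroupOf (F ⊔ H) := ⟨⟨x, mem_sup_right hx⟩, hx⟩
      have h3 : x * n * x⁻¹ ∈ M := S.conj_mem r hn
      have h6 : ι (x * n * x⁻¹) = _ := S.conj r n hn
      have h4 : ℓ • ι (g⁻¹ * x * g * x⁻¹) = 0 := by
        rw [← S.map_pow (hg x hx), S.eq_zero_iff _ (pow_mem (hg x hx) _)]
        exact hp _ (hg x hx)
      have : (g * n)⁻¹ * x * (g * n) * x⁻¹ = n⁻¹ * (g⁻¹ * x * g * x⁻¹) * (x * n * x⁻¹) := by group
      rw [this, ← S.eq_zero_iff _ (mul_mem (mul_mem (inv_mem hn) (hg x hx)) h3),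
        S.map_mul _ (mul_mem (inv_mem hn) (hg x hx)) _ h3, S.map_mul _ (inv_mem hn) _ (hg x hx),
        S.map_inv hn, h6, e2, map_zsmul, e r]
      change _ + ι (g⁻¹ * x * g * x⁻¹) + -a • (w + _ • ι (g⁻¹ * x * g * x⁻¹)) = 0
      generalize ι (g⁻¹ * x * g * x⁻¹) = c at h4 ⊢
      have h5 := congrArg (· • c) hab
      simp only [add_smul, mul_smul, natCast_zsmul, h4, smul_zero, add_zero, one_smul] at h5
      rw [smul_add, neg_smul a (_ • c), h5]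
      abel
  exact ⟨n * n', mul_mem hn (hlt.le hn'), mul_assoc g n n' ▸ e3⟩

theorem cover' {N : Subgroup X} (h1 : N ≤ G) (hs : Group.IsSolvable N) (hF : F ≤ 𝐍(N))
    (hH : H ≤ 𝐍(N)) {g : X} (hg : ∀ x ∈ H, ⁅x, g⁆ ∈ N) : ∃ n ∈ N, n * g ∈ 𝐂(H) := by
  obtain ⟨n, hn, e⟩ := h.cover N h1 hs hF hH g⁻¹ fun x hx => by
    simpa [commutatorElement_def, mul_assoc] using inv_mem (hg x hx)
  exact ⟨n⁻¹, inv_mem hn, by simpa using inv_mem e⟩

/-- generation by the fixed points of the complements, solvable case -/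
theorem le_of_cent' {B : Subgroup X} (hF : F ≤ 𝐍(B)) (hH : H ≤ 𝐍(B)) (N : Subgroup X) :
    N ≤ G → Group.IsSolvable N → F ≤ 𝐍(N) → H ≤ 𝐍(N) → N ⊓ 𝐂(H) ≤ B → N ≤ B := by
  induction N using WellFoundedLT.induction with
  | ind M ih =>
  intro hMG hs hF' hH' hB
  by_cases h0 : M = ⊥
  · exact h0.le.trans bot_le
  obtain ⟨N, ℓ, hℓ, -, hlt, hN, hc, hp, hmin⟩ := exists_chief_sec hs h0 (sup_le hF' hH')
  have := Fact.mk hℓ
  have hs' := isSolvable_of_le hs hlt.le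
  have h3 := ih N hlt (hlt.le.trans hMG) hs' (le_sup_left.trans hN) (le_sup_right.trans hN)
    ((inf_le_inf_right _ hlt.le).trans hB)
  refine inf_eq_left.1 ((hmin (M ⊓ B) (le_inf hlt.le h3) inf_le_left
    (H1.le_normalizer_inf (sup_le hF' hH') (sup_le hF hH))).resolve_left fun e => ?_)
  obtain ⟨W, _, _, _, ρ, ι, S, h1, h2⟩ :=
    h.exists_sec hMG hlt.le (sup_le hF' hH') hN le_sup_left hc hp
  have h4 := S.normOp_eq_zero (H.subgroupOf (F ⊔ H)) fun m hm e' => by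
    obtain ⟨n, hn, e2⟩ := h.cover' (hlt.le.trans hMG) hs' (le_sup_left.trans hN)
      (le_sup_right.trans hN) fun x hx => e' ⟨x, mem_sup_right hx⟩ hx
    have h5 := mul_mem (hlt.le hn) hm
    exact (mul_mem_cancel_left hn).1 (e.le ⟨h5, hB ⟨h5, e2⟩⟩)
  refine hlt.not_ge fun m hm => (S.eq_zero_iff m hm).1 ((smul_eq_zero.1
    ((h.semi {ℓ}ᶜ (F ⊔ H)).card_smul_eq_zero (ρ := ρ) (by simp [h1]) (by simp [h4]))).resolve_left
    fun e => ?_)
  exact hℓ.coprime_iff_not_dvd.1 h2.symm ((CharP.cast_eq_zero_iff _ ℓ _).1 e)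

theorem exists_sylow' (p : ℕ) [Fact p.Prime] : ∃ P, IsSylowIn p P G ∧ F ≤ 𝐍(P) ∧ H ≤ 𝐍(P) :=
  let ⟨P, h1, h2⟩ := h.exists_sylow p
  ⟨P, h1, h2, fun _ hx => h.norm_sylow h1 h2 (h.hG hx) (h.hF hx)⟩

/-- generation by the fixed points of the complements -/
theorem le_of_cent {B : Subgroup X} (hF : F ≤ 𝐍(B)) (hH : H ≤ 𝐍(B)) (hB : G ⊓ 𝐂(H) ≤ B) :
    G ≤ B :=
  le_of_forall_sylow fun q _ _ =>
    let ⟨P, h1, h2, h3⟩ := h.exists_sylow' q
    ⟨P, h1, h.le_of_cent' hF hH P h1.le (solvable_of_isPGroup h1.isPGroup) h2 h3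
      ((inf_le_inf_right _ h1.le).trans hB)⟩

theorem comm_eq_bot (hnil : Group.IsNilpotent ↥(G ⊓ 𝐂(H))) {Q : Subgroup X} (hQG : Q ≤ G)
    (hQ : Group.IsNilpotent Q) (hF : F ≤ 𝐍(Q)) (hH : H ≤ 𝐍(Q)) (M : Subgroup X) :
    M ≤ G → Group.IsSolvable M → Q ⊔ F ⊔ H ≤ 𝐍(M) → (Nat.card Q).Coprime (Nat.card M) →
      ⁅M, Q⁆ = ⊥ := by
  induction M using WellFoundedLT.induction with
  | ind M ih =>
  intro hMG hs hM hcop
  by_cases h0 : M = ⊥
  · rw [h0, commutator_bot_left]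
  obtain ⟨N, ℓ, hℓ, hd, hlt, hN, hc, hp, -⟩ := exists_chief_sec hs h0 hM
  have := Fact.mk hℓ
  have hs' := isSolvable_of_le hs hlt.le
  have hcop' := hcop.coprime_dvd_right (card_dvd_of_le hlt.le)
  have lQ : Q ≤ Q ⊔ F ⊔ H := le_sup_left.trans le_sup_left
  have lF : F ≤ Q ⊔ F ⊔ H := le_sup_right.trans le_sup_left
  refine commutator_eq_bot_of_le_of_centralizes ((H9.le_relCent_iff (lQ.trans hN)).1 ?_)
    (ih N hlt (hlt.le.trans hMG) hs' hN hcop') hcop'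
  by_contra hne
  obtain ⟨Z, z1, z2, z3, z4, z5⟩ := exists_central_sec hQ (sup_le hF hH) hne
  have hD := H9.le_normalizer_relCent hN hM
  refine z4 ((h.sub (z1.trans hQG) (le_sup_left.trans z2) (le_sup_right.trans z2)).le_of_cent
    (lF.trans hD) (le_sup_right.trans hD) fun u hu => ?_)
  obtain ⟨W, _, _, _, ρ, ι, S, h1, h2⟩ := h.exists_sec hMG hlt.le hM hN lF hc hp
  have hZ : Q ⊔ F ⊔ H ≤ 𝐍(Z) := by rw [sup_assoc]; exact sup_le z3 z2
  have hZn := normal_subgroupOf_of_le_normalizer hZ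
  have ho := orderOf_dvd_natCard _ (z1 hu.1)
  refine ⟨hN (lQ (z1 hu.1)), (S.rho_eq_one_iff ⟨u, lQ (z1 hu.1)⟩).1 ((h.semi {ℓ}ᶜ _).rho_eq_one
    (Z := Z.subgroupOf (Q ⊔ F ⊔ H)) (fun e => hℓ.coprime_iff_not_dvd.1 h2.symm
      ((CharP.cast_eq_zero_iff _ ℓ _).1 e)) h1 le_normalizer_of_normal le_normalizer_of_normal
    (fun g hg => (S.rho_eq_one_iff g).2 (z5 ?_).2) hu.1 (fun e => ?_) fun w => ?_)⟩
  · exact commutator_mono (map_comap_le ..) ((map_comap_le ..).trans z1)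
      (map_commutator _ _ (Q ⊔ F ⊔ H).subtype ▸ mem_map_of_mem _ hg)
  · rw [CharP.cast_eq_zero_iff _ ℓ, Nat.card_zpowers, orderOf_mk] at e
    exact hℓ.one_lt.ne' (Nat.eq_one_of_dvd_coprimes hcop (e.trans ho) hd)
  refine LinearMap.congr_fun (S.ext (T := ρ _ ∘ₗ normOp ρ _) fun a ha => ?_) w
  obtain ⟨m, hm, e1, e2⟩ := S.exists_normOp_eq (H.subgroupOf (Q ⊔ F ⊔ H)) ha
  obtain ⟨n, hn, e3⟩ := h.cover' (hlt.le.trans hMG) hs' (lF.trans hN) (le_sup_right.trans hN)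
    fun x hx => e1 ⟨x, mem_sup_right hx⟩ hx
  have h5 := mul_mem (hlt.le hn) hm
  have e4 : ι (n * m) = ι m := by
    rw [S.map_mul _ (hlt.le hn) _ hm, (S.eq_zero_iff _ (hlt.le hn)).2 hn, zero_add]
  rw [LinearMap.comp_apply, ← e2, ← e4, ← S.conj _ _ h5]
  have := commute_of_coprime_of_mem_isNilpotent hnil ⟨hQG (z1 hu.1), hu.2⟩ ⟨hMG h5, e3⟩
    ((hcop.coprime_dvd_left ho).coprime_dvd_right (orderOf_dvd_natCard _ h5))
  exact congrArg ι (mul_inv_eq_iff_eq_mul.2 this.eq)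

/-- passage to a quotient -/
theorem exists_quot {N : Subgroup X} (h1 : N ≤ G) (hs : Group.IsSolvable N) (hG : G ≤ 𝐍(N))
    (hF : F ≤ 𝐍(N)) (hH : H ≤ 𝐍(N)) :
    ∃ (Y : Type u) (_ : Group Y) (_ : Finite Y) (f : 𝐍(N) →* Y), f.ker = N.subgroupOf 𝐍(N) ∧
      FCfg ((G.subgroupOf 𝐍(N)).map f) ((F.subgroupOf 𝐍(N)).map f) ((H.subgroupOf 𝐍(N)).map f) ∧
      (G.subgroupOf 𝐍(N)).map f ⊓ 𝐂((H.subgroupOf 𝐍(N)).map f) ≤
        ((G ⊓ 𝐂(H)).subgroupOf 𝐍(N)).map f := by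
  obtain ⟨Y, _, _, f, hf, c⟩ := h.toCfg.exists_quot hG hF (fun g hg f hf e => by
    have : f ∈ G ⊓ F := ⟨by simpa using mul_mem (inv_mem hg) (h1 e), hf⟩
    rw [h.disj, mem_bot] at this
    rwa [this, mul_one] at e) fun g hg e => h.mem_of_comm h1 hF hg e
  have key : ∀ a b : 𝐍(N), f a * f b = f b * f a → ⁅(a : X), (b : X)⁆ ∈ N := fun a b e => by
    have : ⁅a, b⁆ ∈ f.ker := by
      rw [MonoidHom.mem_ker, map_commutatorElement, commutatorElement_eq_one_iff_mul_comm, e]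
    rwa [hf] at this
  have key2 : ∀ K : Subgroup X, H ≤ 𝐍(K) →
      (H.subgroupOf 𝐍(N)).map f ≤ 𝐍((K.subgroupOf 𝐍(N)).map f) := fun K hK => by
    refine H1.map_normalizer_le' (fun a ha => mem_normalizer_iff.2 fun x => ?_) _
    exact mem_normalizer_iff.1 (hK ha) x
  refine ⟨Y, _, ‹_›, f, hf, ⟨c, key2 G h.hG, key2 F h.hF, ?_⟩, ?_⟩
  · rintro _ ⟨x, hx, rfl⟩ h0
    refine eq_bot_iff.2 ?_
    rintro _ ⟨⟨a, ha, rfl⟩, e⟩
    have h2 : ⁅(a : X), (x : X)⁆ ∈ G ⊓ F := ⟨h1 (key a x (e _ rfl).symm),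
      commutator_le_left_of_le_normalizer h.hF (commutator_mem_commutator ha hx)⟩
    rw [h.disj, mem_bot, commutatorElement_eq_one_iff_mul_comm] at h2
    have : a = 1 := Subtype.ext ((h.frob x hx fun e => h0 (by
      rw [show x = 1 from Subtype.ext e, map_one])).le ⟨ha, fun _ hy => hy ▸ h2.symm⟩)
    rw [this, map_one]
    exact one_mem _
  · rintro _ ⟨⟨g, hg, rfl⟩, e⟩
    obtain ⟨n, hn, e'⟩ := h.cover' h1 hs hF hH (g := g) fun x hx =>
      key ⟨x, hH hx⟩ g (e _ (mem_map_of_mem f (show (⟨x, hH hx⟩ : 𝐍(N)) ∈ H.subgroupOf _ from hx)))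
    refine ⟨⟨n, le_normalizer hn⟩ * g, ⟨mul_mem (h1 hn) hg, e'⟩, ?_⟩
    rw [map_mul, (show (⟨n, le_normalizer hn⟩ : 𝐍(N)) ∈ f.ker from hf ▸ hn), one_mul]

end FCfg

theorem nil_aux (n : ℕ) : ∀ (X : Type u) [Group X] [Finite X] (G F H : Subgroup X),
    Nat.card G = n → FCfg G F H → Group.IsNilpotent ↥(G ⊓ 𝐂(H)) → Group.IsNilpotent G := by
  induction n using Nat.strong_induction_on with
  | _ n ih =>
  intro X _ _ G F H hn h hnil
  by_cases hc : ∃ (r : ℕ) (_ : Fact r.Prime), pCoreOf r G ≠ ⊥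
  · obtain ⟨r, _, hr⟩ := hc
    have h1 := H1.pCoreOf_le (p := r) G
    have h2 := H1.pCoreOf_isPGroup (p := r) G
    have h3 := H1.normalizer_le_normalizer_pCoreOf (p := r) G
    have h4 := le_normalizer.trans h3
    obtain ⟨Y, _, _, f, hf, c, e⟩ := h.exists_quot h1 (solvable_of_isPGroup h2) h4
      (h.norm.trans h3) (h.hG.trans h3)
    obtain ⟨m, hm⟩ := nilMod_bot_iff.2 (ih _ (hn ▸ (card_quot_lt h4 hf).2 hr h1) Y _ _ _ rfl c
      (isNilpotent_of_le (isNilpotent_map (Group.nilpotent_of_mulEquiv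
        (subgroupOfEquivOfLe (inf_le_left.trans h4)).symm) f) e))
    have hN : NilMod G (pCoreOf r G) := ⟨m, by
      rw [← map_lowerCentralSeries, le_bot_iff, Subgroup.map_eq_bot_iff, hf] at hm
      have := (map_mono (f := 𝐍(pCoreOf r G).subtype) hm).trans (map_comap_le ..)
      rwa [map_lowerCentralSeries, map_subgroupOf_eq_of_le h4] at this⟩
    refine nil_of_forall_norm_sylow fun q _ _ => ?_
    obtain ⟨S, hS, s1, s2⟩ := h.exists_sylow' q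
    have h5 := hN.le_norm_sup_sylow h4 hS le_normalizer h4
    refine ⟨S, hS, ?_⟩
    by_cases hq : q = r
    · subst hq
      rwa [sup_eq_right.2 (H1.pCoreOf_le_sylow hS)] at h5
    have h6 := commutator_eq_bot_iff_le_centralizer.1 (h.comm_eq_bot hnil hS.le
      hS.isPGroup.isNilpotent s1 s2 _ h1 (solvable_of_isPGroup h2) (sup_le (sup_le (hS.le.trans h4)
        (h.norm.trans h3)) (h.hG.trans h3)) (coprime_of_isPGroup_ne hS.isPGroup h2 hq))
    have h7 := h5.trans (H1.normalizer_le_normalizer_pCoreOf (p := q) _)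
    rwa [le_antisymm (H1.pCoreOf_le_sylow (hS.mono le_sup_right (sup_le h1 hS.le)))
      (H1.le_pCoreOf le_sup_right (sup_le (h6.trans (cent_le_norm _)) le_normalizer)
        hS.isPGroup)] at h7
  push Not at hc
  have hI : ∀ K, K < G → F ≤ 𝐍(K) → H ≤ 𝐍(K) → Group.IsNilpotent K := fun K h1 h2 h3 =>
    ih _ (hn ▸ card_lt_card_of_lt h1) X K F H rfl (h.sub h1.le h2 h3)
      (isNilpotent_of_le hnil (inf_le_inf_right _ h1.le))
  by_cases h2 : ∀ p : ℕ, p.Prime → p ∣ Nat.card G → p = 2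
  · have := Fact.mk Nat.prime_two
    exact (IsPGroup.of_card (Nat.eq_prime_pow_of_unique_prime_dvd Nat.card_pos.ne'
      fun {q} => h2 q)).isNilpotent
  push Not at h2
  obtain ⟨p, hp, hd, hp2⟩ := h2
  have := Fact.mk hp
  obtain ⟨P, hP, p1, p2⟩ := h.exists_sylow' p
  have h0 := hP.ne_bot hd
  have key : ∀ D : Subgroup G, D.map G.subtype ≠ ⊥ → D.map G.subtype ≤ P →
      𝐍(P) ≤ 𝐍(D.map G.subtype) → HasNormalPComplement p (normalizer (D : Set G)) := by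
    intro D h1 h2 h3
    have := hI (G ⊓ 𝐍(D.map G.subtype)) (inf_lt_left.2 fun e => h1 (le_bot_iff.1 (hc p ‹_› ▸
      H1.le_pCoreOf (map_subtype_le _) e (hP.isPGroup.to_le h2))))
      (H1.le_normalizer_inf h.norm ((p1.trans h3).trans le_normalizer))
      (H1.le_normalizer_inf h.hG ((p2.trans h3).trans le_normalizer))
    refine PCompl.hnpc_of_injective (PCompl.hnpc_of_isNilpotent (h := this))
      ((G.subtype.comp (normalizer (D : Set G)).subtype).codRestrict _ fun g =>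
        ⟨g.1.2, le_normalizer_map _ (mem_map_of_mem _ g.2)⟩) fun x y e => ?_
    have e' := congrArg Subtype.val e
    exact Subtype.ext (Subtype.ext e')
  have hpc : HasNormalPComplement p G := by
    obtain ⟨S, rfl⟩ := hP.exists_sylow_map
    have hd : Disjoint (S : Subgroup G) G.subtype.ker := by simp
    refine H5.thompson_normal_p_complement hp2 S
      (PCompl.hnpc_of_le (key _ ?_ ?_ ?_) (centralizer_le_normalizer _)) (key _ ?_ ?_ ?_)
    any_goals rw [← H5.centerOf_map _ _ hd]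
    any_goals rw [← H5.thompsonAOf_map _ _ hd]
    · exact H5.centerOf_ne_bot hP.isPGroup h0
    · exact inf_le_left
    · exact H1.le_normalizer_inf le_rfl (H1.le_normalizer_centralizer le_rfl)
    · exact H5.thompsonAOf_ne_bot h0
    · exact H5.thompsonAOf_le _
    · exact H5.normalizer_le_normalizer_thompsonAOf _
  refine (PCompl.isPGroup_of_hnpc_of_pPrimeCore_eq_bot hpc
    ((map_eq_bot_iff_of_injective _ G.subtype_injective).1 ?_)).isNilpotent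
  rw [H1.map_pPrimeCore_eq_piCoreOf]
  by_contra hne
  have h3 := H1.normalizer_le_normalizer_piCoreOf (π := {p}ᶜ) G
  have h4 := hI _ (lt_of_le_of_ne (H1.piCoreOf_le G) fun e => hp.one_lt.ne'
    (Nat.Coprime.eq_one_of_dvd (e ▸ H1.piCoreOf_compl_coprime p G).symm hd))
    (h.norm.trans h3) (h.hG.trans h3)
  obtain ⟨q, _, hq⟩ := exists_pCore_ne_bot' (haveI := h4; inferInstance) hne
  rw [← H1.pCoreOf_eq_piCoreOf] at hq
  exact hq (le_bot_iff.1 (hc q ‹_› ▸ H1.pCoreOf_le_of_le_normalizer (H1.piCoreOf_le G)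
    (le_normalizer.trans h3)))

theorem FCfg.nilpotent (h : FCfg G F H) (hn : Group.IsNilpotent ↥(G ⊓ 𝐂(H))) :
    Group.IsNilpotent G := nil_aux _ X G F H rfl h hn

end CfsgLib.H8Fpf
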