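import Cfsg.Agent.Lib.H8Fpf
import Cfsg.Agent.Lib.FT.Wielandt
import Cfsg.Agent.Lib.FrobBasic
import Cfsg.Agent.Lib.CoprimeAut

/-! A Frobenius group `FH` acting on `G` with `C_G(F) = 1`: the configuration. -/

set_option autoImplicit false

namespace CfsgLib.H8Fpf

open Subgroup Cfsg CfsgLib.FT CfsgLib.FT.BGN CfsgLib.Cop

universe u

structure FCfg {X : Type u} [Group X] (G F H : Subgroup X) : Prop extends Cfg G F where
  hG : H ≤ 𝐍(G)
  hF : H ≤ 𝐍(F)
  frob : ∀ x ∈ H, x ≠ 1 → F ⊓ 𝐂[x] = ⊥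

theorem fcfg_of_action {G A : Type*} [Group G] [Finite G] [Group A] [Finite A]
    (φ : A →* MulAut G) (F H : Subgroup A) (hH : IsFrobeniusComplement H)
    (hker : frobeniusKernel H = (F : Set A)) (hCF : ∀ g : G, (∀ f ∈ F, φ f g = g) → g = 1) :
    FCfg (CopAut.L φ ⊤) (CopAut.R φ F) (CopAut.R φ H) := by
  have hfin := CopAut.finite_semidirect (φ := φ)
  have hp := Frob.isFrobeniusPair_of_frobeniusKernel_eq hH hker
  have hn := Frob.normal_of_frobeniusKernel_eq hker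
  have hfrob : ∀ x ∈ H, x ≠ 1 → F ⊓ 𝐂[x] = ⊥ := fun x hx h1 => eq_bot_iff.2 fun f hf =>
    hp.isFrobeniusKernel.fpf (fun e => h1 (hp.disjoint e hx)) f hf.1 (hf.2 x rfl)
  refine ⟨⟨CopAut.R_le_normalizer_iff.2 fun _ _ _ _ => trivial, isNilpotent_map
    (isNilpotent_of_semiregular (le_normalizer_of_normal) hH.ne_bot hfrob) _, ?_, ?_⟩,
    CopAut.R_le_normalizer_iff.2 fun _ _ _ _ => trivial,
    H1.map_normalizer_le' le_normalizer_of_normal _, ?_⟩
  · refine eq_bot_iff.2 ?_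
    rintro _ ⟨⟨g, -, rfl⟩, f, -, e⟩
    have := congrArg SemidirectProduct.left e
    simp only [SemidirectProduct.left_inl, SemidirectProduct.left_inr] at this
    rw [← this, map_one]; exact one_mem _
  · refine eq_bot_iff.2 ?_
    rintro _ ⟨⟨g, -, rfl⟩, e⟩
    rw [hCF g (CopAut.inl_mem_centralizer_R_iff.1 e), map_one]; exact one_mem _
  · rintro _ ⟨x, hx, rfl⟩ h1
    refine eq_bot_iff.2 ?_
    rintro _ ⟨⟨f, hf, rfl⟩, e⟩
    have : f ∈ F ⊓ 𝐂[x] := ⟨hf, fun y hy => SemidirectProduct.inr_injective (φ := φ) (by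
      rw [hy, map_mul, map_mul]; exact e _ rfl)⟩
    rw [hfrob x hx fun e => h1 (by rw [e, map_one]), mem_bot] at this
    rw [this, map_one]; exact one_mem _

end CfsgLib.H8Fpf
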