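import Cfsg.Agent.Lib.CoprimeAut
import Cfsg.Agent.Lib.BurnsideBasis
import Cfsg.Agent.Lib.H5NilpotentMaximal
import Cfsg.Agent.Lib.H8FT

/-! Invariant subgroups under `φ : A →* MulAut G`: closure properties, quotients by
characteristic subgroups, maximal invariant subgroups. -/

set_option autoImplicit false

namespace CfsgLib.H8Inv

open Subgroup Cfsg CfsgLib.CopAut CfsgLib.PCompl CfsgLib.PRes

variable {A G : Type*} [Group A] [Group G] {φ : A →* MulAut G}

theorem inv_inf {H K : Subgroup G} (hH : Inv φ H) (hK : Inv φ K) : Inv φ (H ⊓ K) :=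
  fun a x hx => ⟨hH a x hx.1, hK a x hx.2⟩

theorem inv_sup {H K : Subgroup G} (hH : Inv φ H) (hK : Inv φ K) : Inv φ (H ⊔ K) := by
  rw [inv_iff_map_eq] at *
  intro a
  rw [Subgroup.map_sup, hH, hK]

theorem inv_mem_iff' {H : Subgroup G} (hH : Inv φ H) (a : A) {x : G} : φ a x ∈ H ↔ x ∈ H :=
  ⟨fun h => by simpa using hH a⁻¹ _ h, hH a x⟩

theorem inv_normalizer {H : Subgroup G} (hH : Inv φ H) : Inv φ (normalizer (H : Set G)) := by
  intro a x hx
  rw [mem_normalizer_iff] at hx ⊢
  intro h
  obtain ⟨y, rfl⟩ := (φ a).surjective h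
  rw [← map_inv, ← map_mul, ← map_mul, inv_mem_iff' hH, inv_mem_iff' hH]
  exact hx y

theorem inv_centralizer {H : Subgroup G} (hH : Inv φ H) : Inv φ (centralizer (H : Set G)) := by
  intro a x hx h hh
  obtain ⟨y, rfl⟩ := (φ a).surjective h
  rw [← map_mul, ← map_mul, hx y ((inv_mem_iff' hH a).mp hh)]

/-- restriction of `φ a` to an invariant subgroup -/
def restr {H : Subgroup G} (hH : Inv φ H) (a : A) : MulAut H where
  toFun x := ⟨φ a x, hH a x x.2⟩
  invFun x := ⟨φ a⁻¹ x, hH a⁻¹ x x.2⟩
  left_inv x := by ext; simp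
  right_inv x := by ext; simp
  map_mul' x y := by ext; simp

/-- the restricted action -/
def restrHom {H : Subgroup G} (hH : Inv φ H) : A →* MulAut H where
  toFun := restr hH
  map_one' := by ext x; simp [restr]
  map_mul' a b := by ext x; simp [restr]

theorem restrHom_apply {H : Subgroup G} (hH : Inv φ H) (a : A) (x : H) :
    ((restrHom hH a x : H) : G) = φ a x := rfl

theorem inv_map_subtype_of_characteristic {H : Subgroup G} (hH : Inv φ H) (X : Subgroup H)
    [hX : X.Characteristic] : Inv φ (X.map H.subtype) := by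
  rintro a _ ⟨x, hx, rfl⟩
  exact ⟨restr hH a x, inv_of_characteristic (φ := restrHom hH) X a x hx, rfl⟩

theorem inv_map_subtype_iff {H : Subgroup G} (hH : Inv φ H) {X : Subgroup H} :
    Inv φ (X.map H.subtype) ↔ Inv (restrHom hH) X := by
  constructor
  · intro h a x hx
    obtain ⟨y, hy, hy'⟩ := h a x ⟨x, hx, rfl⟩
    have : y = restrHom hH a x := Subtype.ext hy'
    exact this ▸ hy
  · rintro h a _ ⟨x, hx, rfl⟩
    exact ⟨restr hH a x, h a x hx, rfl⟩

/-- the action on the quotient by a characteristic subgroup -/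
def quot (φ : A →* MulAut G) (N : Subgroup G) [N.Characteristic] : A →* MulAut (G ⧸ N) :=
  (BurnsideBasis.autQuotient N).comp φ

theorem quot_mk (N : Subgroup G) [N.Characteristic] (a : A) (x : G) :
    quot φ N a (x : G ⧸ N) = (φ a x : G ⧸ N) := rfl

theorem inv_comap_quot {N : Subgroup G} [N.Characteristic] {K : Subgroup (G ⧸ N)}
    (h : Inv (quot φ N) K) : Inv φ (K.comap (QuotientGroup.mk' N)) :=
  fun a x hx => h a _ hx

theorem inv_map_quot {N : Subgroup G} [N.Characteristic] {H : Subgroup G} (h : Inv φ H) :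
    Inv (quot φ N) (H.map (QuotientGroup.mk' N)) := by
  rintro a _ ⟨x, hx, rfl⟩
  exact ⟨φ a x, h a x hx, rfl⟩

/-- every proper invariant subgroup lies in a maximal one -/
theorem exists_maximal_inv_ge [Finite G] {H : Subgroup G} (hH : Inv φ H) (h : H ≠ ⊤) :
    ∃ M : Subgroup G, H ≤ M ∧ M ≠ ⊤ ∧ Inv φ M ∧ ∀ K : Subgroup G, M < K → Inv φ K → K = ⊤ := by
  obtain ⟨M, hM, hmax⟩ := Finite.exists_le_maximal
    (p := fun K : Subgroup G => K ≠ ⊤ ∧ Inv φ K) ⟨h, hH⟩
  refine ⟨M, hM, hmax.1.1, hmax.1.2, fun K hK hKi => ?_⟩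
  by_contra h0
  exact hK.not_ge (hmax.2 ⟨h0, hKi⟩ hK.le)

/-- a Sylow subgroup of an invariant nilpotent subgroup is invariant -/
theorem inv_of_isSylowIn_of_isNilpotent [Finite G] {p : ℕ} [Fact p.Prime] {S M : Subgroup G}
    (hS : IsSylowIn p S M) (hM : Group.IsNilpotent M) (hMi : Inv φ M) : Inv φ S := by
  obtain ⟨P, rfl⟩ := hS.exists_sylow_map
  have : (P : Subgroup M).Characteristic := Sylow.characteristic_of_normal P inferInstance
  exact inv_map_subtype_of_characteristic hMi _

/-- If all proper invariant subgroups containing an invariant Sylow `p`-subgroup `P`, `p` odd,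
have normal `p`-complements and `P` contains no nontrivial normal subgroup, then `G` has a normal
`p`-complement. -/
theorem hnpc_of_inv [Finite G] {p : ℕ} [Fact p.Prime] (hp2 : p ≠ 2) (P : Sylow p G)
    (hP : Inv φ P) (h0 : ∀ N : Subgroup G, N.Normal → N ≤ P → N = ⊥)
    (h : ∀ H : Subgroup G, Inv φ H → H ≠ ⊤ → (P : Subgroup G) ≤ H → HasNormalPComplement p H) :
    HasNormalPComplement p G := by
  refine H5.thompson_of_characteristic hp2 P fun X hX hc => h _
    (inv_normalizer (inv_map_subtype_of_characteristic hP X)) (fun h1 => ?_)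
    (le_normalizer.trans (normalizer_le_normalizer_map_subtype_of_characteristic _ X))
  have := h0 _ (normalizer_eq_top_iff.mp h1) (map_subtype_le X)
  exact hX ((map_eq_bot_iff_of_injective _ (subtype_injective _)).mp this)

/-- coprime action in which all proper invariant subgroups are nilpotent: solvable -/
theorem solvable_of_forall_nilpotent [Finite A] [Finite G]
    (hcop : (Nat.card A).Coprime (Nat.card G))
    (h : ∀ H : Subgroup G, Inv φ H → H ≠ ⊤ → Group.IsNilpotent H) : Group.IsSolvable G := by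
  by_contra hns
  have := solvableRadical_characteristic (G := G)
  set R := solvableRadical G with hR
  have hR0 : solvableRadical (G ⧸ R) = ⊥ := solvableRadical_quotient_solvableRadical
  have hns' : ¬ Group.IsSolvable (G ⧸ R) := fun h1 =>
    hns (isSolvable_of_normal_of_quotient R solvableRadical_isSolvable h1)
  have hcop' : (Nat.card A).Coprime (Nat.card (G ⧸ R)) :=
    hcop.coprime_dvd_right (card_quotient_dvd_card R)
  have h' : ∀ H : Subgroup (G ⧸ R), Inv (quot φ R) H → H ≠ ⊤ → Group.IsNilpotent H := by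
    intro H hH hH'
    have h1 := h _ (inv_comap_quot hH) (fun h2 => hH' (by
      rw [← map_comap_eq_self_of_surjective (QuotientGroup.mk'_surjective R) H, h2,
        map_top_of_surjective _ (QuotientGroup.mk'_surjective R)]))
    rw [← map_comap_eq_self_of_surjective (QuotientGroup.mk'_surjective R) H]
    exact isNilpotent_map h1 _
  have hn : ∀ N : Subgroup (G ⧸ R), N.Normal → Group.IsSolvable N → N = ⊥ := fun N _ hN =>
    le_bot_iff.mp (hR0 ▸ le_solvableRadical hN)
  obtain ⟨p, hp, hp2, hpG⟩ : ∃ p : ℕ, p.Prime ∧ p ≠ 2 ∧ p ∣ Nat.card (G ⧸ R) := by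
    by_contra h1
    push Not at h1
    have : Fact (Nat.Prime 2) := ⟨Nat.prime_two⟩
    refine hns' (isSolvable_of_isPGroup (p := 2) (IsPGroup.of_card
      (Nat.eq_prime_pow_of_unique_prime_dvd Nat.card_pos.ne' fun {q} hq hqd => ?_)))
    by_contra h2
    exact h1 q hq h2 hqd
  have : Fact p.Prime := ⟨hp⟩
  obtain ⟨P, hP⟩ := exists_inv_sylow (φ := quot φ R) p hcop' (H8FT.solvable_or_of_coprime hcop')
  have h1 : HasNormalPComplement p (G ⧸ R) := hnpc_of_inv hp2 P hP
    (fun N hN hNP => hn N hN (isSolvable_of_isPGroup (P.isPGroup'.to_le hNP)))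
    fun H hH hH' _ => by have := h' H hH hH'; exact hnpc_of_isNilpotent
  have hc := pResidual_characteristic (p := p) (G := G ⧸ R)
  have h2 := h' _ (inv_of_characteristic (pResidual p (G ⧸ R))) (fun h2 => by
    have h3 := hnpc_iff_not_dvd_pResidual.mp h1
    rw [h2, card_top] at h3
    exact h3 hpG)
  have h3 := hn (pResidual p (G ⧸ R)) pResidual_normal inferInstance
  exact hns' (isSolvable_of_isPGroup (pResidual_eq_bot_iff.mp h3))

end CfsgLib.H8Inv
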