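import Cfsg.Agent.Lib.DicksonCount
import Cfsg.Agent.Lib.GW.FourStruct
import Cfsg.Agent.Lib.FrobSL25
import Cfsg.Agent.Lib.SL2Card
import Cfsg.Agent.Lib.CharBurnside

/-!
# Subgroups of `PSL₂(q)`: existence of `A₅`, and Dickson's bound
-/

set_option autoImplicit false

namespace CfsgLib.H4

open Subgroup Matrix MatrixGroups CfsgLib.H5 CfsgLib.BSW CfsgLib.GW CfsgLib.GW.PA Polynomial

theorem solvable_of_not_four_dvd {G : Type*} [Group G] [Finite G] (h : ¬ 4 ∣ Nat.card G) :
    Group.IsSolvable G := by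
  have hE : E4 G := ⟨fun h8 => h ((show 4 ∣ 8 by decide).trans h8),
    fun g hg => h (hg.trans (orderOf_dvd_natCard g))⟩
  have := (nilp2_of_not_four_dvd (M := (⊤ : Subgroup G)) (by rwa [card_top])).solvable hE
  exact solvable_of_surjective (f := (topEquiv (G := G)).toMonoidHom) topEquiv.surjective

theorem card_eq_sixty {G : Type*} [Group G] [Finite G] (h : Nat.card G ∣ 60)
    (hs : ¬ Group.IsSolvable G) : Nat.card G = 60 := by
  have h4 : 4 ∣ Nat.card G := by
    by_contra h4
    exact hs (solvable_of_not_four_dvd h4)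
  have key : ∀ r : ℕ, r.Prime → r ∣ Nat.card G → r = 2 ∨ r = 3 ∨ r = 5 := fun r hr hd => by
    have h1 : r ∣ 2 ^ 2 * 3 * 5 := hd.trans h
    rcases (Nat.Prime.dvd_mul hr).1 h1 with h2 | h2
    · rcases (Nat.Prime.dvd_mul hr).1 h2 with h3 | h3
      · exact Or.inl ((Nat.prime_dvd_prime_iff_eq hr Nat.prime_two).1 (hr.dvd_of_dvd_pow h3))
      · exact Or.inr (Or.inl ((Nat.prime_dvd_prime_iff_eq hr Nat.prime_three).1 h3))
    · exact Or.inr (Or.inr ((Nat.prime_dvd_prime_iff_eq hr Nat.prime_five).1 h2))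
  have h3 : 3 ∣ Nat.card G := by
    by_contra h3
    refine hs (isSolvable_of_two_primes Nat.prime_two Nat.prime_five fun r hr hd => ?_)
    rcases key r hr hd with h | h | h
    exacts [Or.inl h, absurd (h ▸ hd) h3, Or.inr h]
  have h5 : 5 ∣ Nat.card G := by
    by_contra h5
    refine hs (isSolvable_of_two_primes Nat.prime_two Nat.prime_three fun r hr hd => ?_)
    rcases key r hr hd with h | h | h
    exacts [Or.inl h, Or.inr h, absurd (h ▸ hd) h5]
  have := Nat.le_of_dvd (by norm_num) h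
  have := Nat.card_pos (α := G)
  omega

variable {F : Type*} [Field F]

theorem exists_golden (h2 : (2 : F) ≠ 0) {X : SL(2, F)} (h5 : X ^ 5 = 1) (h1 : X ≠ 1) :
    ∃ s : F, s * s = s + 1 := by
  have hZ : X ∉ center SL(2, F) := fun h => h1 (by
    have := SL2_sq_eq_one_of_mem_center h
    calc X = X ^ 5 * ((X ^ 2) ^ 2)⁻¹ := by group
      _ = 1 := by rw [h5, this]; simp)
  obtain ⟨τ, hτ⟩ : ∃ τ, τ = X 0 0 + X 1 1 := ⟨_, rfl⟩
  have hd := X.det_coe
  rw [det_fin_two] at hd
  have hM : (X : Matrix (Fin 2) (Fin 2) F) * X = τ • (X : Matrix (Fin 2) (Fin 2) F) - 1 := by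
    ext i j
    fin_cases i <;> fin_cases j <;> simp [mul_apply, Fin.sum_univ_two, hτ]
    · linear_combination -hd
    · ring
    · ring
    · linear_combination -hd
  have e : ∀ i j, (X ^ 5) i j = (τ ^ 4 - 3 * τ ^ 2 + 1) * X i j -
      (τ ^ 3 - 2 * τ) * (1 : SL(2, F)) i j := by
    have h3 : ((X ^ 5 : SL(2, F)) : Matrix (Fin 2) (Fin 2) F) =
        (τ ^ 4 - 3 * τ ^ 2 + 1) • (X : Matrix (Fin 2) (Fin 2) F) - (τ ^ 3 - 2 * τ) • 1 := by
      refine (Matrix.SpecialLinearGroup.coe_pow X 5).trans ?_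
      generalize (X : Matrix (Fin 2) (Fin 2) F) = M at hM
      rw [show M ^ 5 = M * (M * M * (M * M)) by simp only [pow_succ, pow_zero, one_mul, mul_assoc]]
      simp only [hM, mul_sub, sub_mul, smul_mul_assoc, mul_smul_comm,
        mul_one, one_mul, smul_sub]
      module
    intro i j
    exact congrFun (congrFun h3 i) j
  have hA : τ ^ 4 - 3 * τ ^ 2 + 1 = 0 := by
    by_contra hA
    refine hZ (SL2_mem_center_iff.2 ⟨?_, ?_, ?_⟩)
    · simpa [h5, hA] using (e 0 1).symm
    · simpa [h5, hA] using (e 1 0).symm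
    · have e1 := e 0 0
      have e2 := e 1 1
      rw [h5] at e1 e2
      simp only [one00, one11] at e1 e2
      exact mul_left_cancel₀ hA (by linear_combination e2 - e1)
  have hB := e 0 0
  rw [h5, hA, one00] at hB
  exact ⟨-τ, by linear_combination τ * hB - hA⟩

theorem exists_conic [Fintype F] (h2 : (2 : F) ≠ 0) (s : F) :
    ∃ a b : F, a ^ 2 + a * b + b ^ 2 + a + (1 - s) * b + 1 = 0 := by
  by_cases h3 : (3 : F) = 0
  · exact ⟨1, 0, by linear_combination h3⟩
  have hodd : Fintype.card F % 2 = 1 := FiniteField.odd_card_of_char_ne_two fun h => h2 (by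
    have := ringChar.Nat.cast_ringChar (R := F)
    rwa [h] at this)
  obtain ⟨u, b, h⟩ := FiniteField.exists_root_sum_quadratic (f := (X ^ 2 : F[X]))
    (g := C 3 * X ^ 2 + C (2 - 4 * s) * X + C 3) (degree_X_pow 2) (degree_quadratic h3) hodd
  simp only [eval_pow, eval_X, eval_add, eval_mul, eval_C] at h
  refine ⟨(u - b - 1) / 2, b, ?_⟩
  field_simp
  linear_combination h

/-- `PSL₂(q)` has a subgroup of order `60` if its order is divisible by `5`. -/
theorem exists_card_sixty [Fintype F] (h2 : (2 : F) ≠ 0)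
    (h5 : 5 ∣ Nat.card (ProjectiveSpecialLinearGroup (Fin 2) F)) :
    ∃ H : Subgroup (ProjectiveSpecialLinearGroup (Fin 2) F), Nat.card H = 60 := by
  have : Fact (Nat.Prime 5) := ⟨Nat.prime_five⟩
  obtain ⟨g, hg⟩ := exists_prime_orderOf_dvd_card' 5 h5
  obtain ⟨X, rfl, hX⟩ := exists_odd_lift (g := g) (n := 5) (by decide) (hg ▸ pow_orderOf_eq_one g)
  obtain ⟨s, hs⟩ := exists_golden h2 hX (fun h => by simp [h] at hg)
  obtain ⟨a, b, h⟩ := exists_conic h2 s
  let x : SL(2, F) := ⟨!![0, -1; 1, -1], by simp [det_fin_two]⟩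
  let y : SL(2, F) := ⟨!![a, b; a + b + 1 - s, -1 - a], by
    simp only [det_fin_two_of]; linear_combination -h⟩
  have hr : Frob.IcoRel (!![0, -1; 1, -1] : Matrix (Fin 2) (Fin 2) F)
      !![a, b; a + b + 1 - s, -1 - a] (s • (1 : Matrix (Fin 2) (Fin 2) F)) := by
    refine ⟨?_, ?_, ?_, ?_, by simp, by simp⟩
    · ext i j
      fin_cases i <;> fin_cases j <;> simp [mul_apply, Fin.sum_univ_two]
    · ext i j
      fin_cases i <;> fin_cases j <;> simp [mul_apply, Fin.sum_univ_two]
      · linear_combination h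
      · ring
      · ring
      · linear_combination h
    · ext i j
      fin_cases i <;> fin_cases j <;> simp [mul_apply, Fin.sum_univ_two] <;> ring
    · rw [smul_mul_smul_comm, hs, mul_one, add_smul, one_smul]
  obtain ⟨f, hf⟩ := Frob.exists_hom_sl25 (x := x) (y := y)
    SpecialLinearGroup.coeMonoidHom_injective hr
  let φ := (piP F).comp f
  refine ⟨φ.range, card_eq_sixty ?_ fun hs => ?_⟩
  · have h1 : zpowers (-1 : Frob.SL25) ≤ φ.ker := zpowers_le.2 (piP_eq_one.2
      (SL2_mem_center_of_sq h2 (by rw [← map_pow]; simp)))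
    have h3 := card_dvd_of_le h1
    rw [Nat.card_zpowers, orderOf_eq_prime (p := 2) (by simp) Frob.sl25_neg_one_ne] at h3
    obtain ⟨k, hk⟩ := h3
    have h4 := φ.ker.card_mul_index
    rw [index_ker, Frob.card_sl25, hk] at h4
    exact ⟨k, by linarith⟩
  · have h1 : φ Frob.sl25X ≠ 1 := fun h => by
      have h3 := hf [true]
      simp only [Frob.gword, mul_one] at h3
      have h4 := (SL2_mem_center_iff.1 (piP_eq_one.1 h)).2.1
      rw [h3] at h4
      simp [x] at h4
    have : Nontrivial φ.range := ⟨⟨⟨_, _, rfl⟩, 1, fun h => h1 (congrArg Subtype.val h)⟩⟩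
    refine (IsSolvable.commutator_lt_top_of_nontrivial φ.range).ne ?_
    rw [_root_.commutator, ← map_top_of_surjective _ φ.rangeRestrict_surjective, ← map_commutator,
      ← _root_.commutator, Frob.sl25_commutator_eq_top]

/-- Dickson's bound for subgroups of `PSL₂(F)` of order prime to the characteristic. -/
theorem dickson_psl [Finite F] (h2 : (2 : F) ≠ 0)
    (H : Subgroup (ProjectiveSpecialLinearGroup (Fin 2) F))
    (hc : (Nat.card H).Coprime (Nat.card F)) :
    Nat.card H ∣ Nat.card F - 1 ∨ Nat.card H ∣ Nat.card F + 1 ∨ Nat.card H = 12 ∨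
      Nat.card H = 24 ∨ Nat.card H = 60 := by
  obtain ⟨r, hr⟩ := CharP.exists F
  have := Fintype.ofFinite F
  obtain ⟨n, hrp, hn⟩ := FiniteField.card F r
  let Γ := H.comap (piP F)
  have hZ : center SL(2, F) ≤ Γ := fun z hz => by
    change piP F z ∈ H
    rw [piP_eq_one.2 hz]
    exact one_mem _
  have hΓ : Nat.card Γ = Nat.card H * 2 := by
    exact (card_comap_mk' _ H).trans (congrArg _ (SL2C.card_center_SL2 h2))
  have htr : ∀ x : Γ, x ∉ (center SL(2, F)).subgroupOf Γ →
      ((x : SL(2, F)) 0 0 + (x : SL(2, F)) 1 1) ^ 2 ≠ 4 := fun x hx h => hx (by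
    have h1 := SL2_pow_of_trace_sq (r := r) h
    have h3 : orderOf (piP F ((x : SL(2, F)) ^ 2)) = 1 := by
      refine Nat.eq_one_of_dvd_coprimes (hc.coprime_dvd_right (n := r) ?_)
        (orderOf_dvd_natCard _ (pow_mem x.2 2)) (orderOf_dvd_of_pow_eq_one ?_)
      · rw [Nat.card_eq_fintype_card, hn]
        exact dvd_pow_self r n.ne_zero
      · rw [← map_pow, h1, map_one]
    rcases SL2_mem_center_iff'.1 (piP_eq_one.1 (orderOf_eq_one_iff.1 h3)) with h4 | h4
    · exact SL2_mem_center_of_sq h2 h4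
    · exact absurd h (trace_sq_ne h2 (by rwa [sq] at h4)))
  rcases dickson_count ((center SL(2, F)).subgroupOf Γ)
    (fun z hz => mem_center_iff.2 fun g => Subtype.ext (mem_center_iff.1 hz g))
    (by rw [Nat.card_congr (subgroupOfEquivOfLe hZ).toEquiv, SL2C.card_center_SL2 h2])
    (fun x hx y z h1 h3 => by
      have := (SL2_centralizer (htr x hx)).1
      have h4 := congrArg Subtype.val (mul_comm' (M := centralizer ({(x : SL(2, F))} : Set _))
        ⟨y, mem_centralizer_singleton_iff.2 (congrArg Subtype.val h1)⟩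
        ⟨z, mem_centralizer_singleton_iff.2 (congrArg Subtype.val h3)⟩)
      exact Subtype.ext h4)
    (fun x hx g h1 => (SL2_eq_or_eq_inv (htr x hx) (congrArg Subtype.val h1).symm
      (SL2_trace_conj _ _)).imp Subtype.ext Subtype.ext) with h | ⟨x, hx, h⟩ | h
  · exact Or.inl (by rw [show Nat.card H = 1 by omega]; exact one_dvd _)
  · rw [hΓ, mul_comm, Nat.mul_dvd_mul_iff_left two_pos] at h
    have h1 : Nat.card (centralizer ({x} : Set Γ)) ∣
        Nat.card (centralizer ({(x : SL(2, F))} : Set SL(2, F))) := by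
      rw [← card_map_of_injective Γ.subtype_injective]
      refine card_dvd_of_le ?_
      rintro _ ⟨y, hy, rfl⟩
      exact mem_centralizer_singleton_iff.2 (congrArg Subtype.val (mem_centralizer_singleton_iff.1 hy))
    rcases (SL2_centralizer (htr x hx)).2 with h3 | h3
    · exact Or.inl (h3 ▸ h.trans h1)
    · exact Or.inr (Or.inl (h3 ▸ h.trans h1))
  · omega

/-- A group without a Hall subgroup of order `m`. -/
theorem exists_no_hall {m : ℕ} (hm : 2 ≤ m) (h1 : ¬ IsPrimePow m) (h2 : m % 4 ≠ 2) (h3 : m ≠ 12)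
    (h4 : m ≠ 24) (h5 : m ≠ 60) : ∃ (G : Type) (_ : Group G) (_ : Finite G), m ∣ Nat.card G ∧
      m.Coprime (Nat.card G / m) ∧ ∀ H : Subgroup G, Nat.card H ≠ m := by
  obtain ⟨a, b, hab, hcop, ha, hb, hodd⟩ : ∃ a b : ℕ, m = a * b ∧ a.Coprime b ∧
      (Odd a ∧ 1 < a ∨ 4 ∣ a) ∧ 1 < b ∧ Odd b := by
    have hr : (m.minFac).Prime := Nat.minFac_prime (by omega)
    have hm0 : m ≠ 0 := by omega
    have hk : 0 < m.factorization m.minFac := hr.factorization_pos_of_dvd hm0 (Nat.minFac_dvd m)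
    have hc := (Nat.coprime_ordCompl hr hm0).pow_left (m.factorization m.minFac)
    have e := Nat.ordProj_mul_ordCompl_eq_self m m.minFac
    refine ⟨_, _, e.symm, hc, ?_, ?_, ?_⟩
    · rcases hr.eq_two_or_odd' with h | h
      · right
        have hc' := Nat.coprime_ordCompl hr hm0
        rw [h] at hk hc' e ⊢
        by_contra hn
        have h6 : m.factorization 2 = 1 := by
          by_contra h6
          exact hn (pow_dvd_pow 2 (show 2 ≤ m.factorization 2 by omega))
        have h7 := Nat.odd_iff.1 (Nat.coprime_two_left.1 hc')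
        rw [h6] at e h7
        omega
      · exact Or.inl ⟨h.pow, Nat.one_lt_pow hk.ne' hr.one_lt⟩
    · by_contra hn
      have h6 := Nat.ordCompl_pos m.minFac hm0
      refine h1 ⟨m.minFac, m.factorization m.minFac, hr.prime, hk, ?_⟩
      rwa [show m / m.minFac ^ m.factorization m.minFac = 1 by omega, mul_one] at e
    · rcases hr.eq_two_or_odd' with h | h
      · have hc' := Nat.coprime_ordCompl hr hm0
        rw [h] at hc' ⊢
        exact Nat.coprime_two_left.1 hc'
      · refine Odd.of_dvd_nat (Nat.not_even_iff_odd.1 fun he => ?_) (Nat.ordCompl_dvd m _)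
        rw [(Nat.minFac_eq_two_iff m).2 he.two_dvd] at h
        exact absurd h (by decide)
  have ha1 : 2 < a := by
    rcases ha with ⟨⟨k, hk⟩, h⟩ | ⟨k, hk⟩
    · omega
    · rcases Nat.eq_zero_or_pos k with rfl | h
      · subst hk; omega
      · omega
  obtain ⟨c, hc1, hc2⟩ := Nat.chineseRemainder (hcop.pow 2 2) (1 + a) (b - 1)
  have hca : c.Coprime a := by
    rw [Nat.Coprime, (hc1.of_dvd (dvd_pow_self a two_ne_zero)).gcd_eq]
    simp
  have hcb : c.Coprime b := by
    rw [Nat.Coprime, (hc2.of_dvd (dvd_pow_self b two_ne_zero)).gcd_eq]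
    exact (Nat.coprime_self_sub_left hb.le).2 (Nat.coprime_one_left b)
  obtain ⟨p, hp0, hp, hpc⟩ := Nat.forall_exists_prime_gt_and_modEq (m + 2) (q := a ^ 2 * b ^ 2)
    (a := c) (by positivity) ((hca.pow_right 2).mul_right (hcb.pow_right 2))
  have : Fact p.Prime := ⟨hp⟩
  have hp1 : p ≡ 1 + a [MOD a ^ 2] := (hpc.of_mul_right _).trans hc1
  have hp2 : p ≡ b - 1 [MOD b ^ 2] := (hpc.of_mul_left _).trans hc2
  have ham : a ≤ m := hab ▸ Nat.le_mul_of_pos_right a (by omega)
  have hbm : b ≤ m := hab ▸ Nat.le_mul_of_pos_left b (by omega)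
  obtain ⟨k, hk⟩ := (Nat.modEq_iff_dvd' (by omega)).1 hp1.symm
  obtain ⟨l, hl⟩ := (Nat.modEq_iff_dvd' (by omega)).1 hp2.symm
  have e1 : p - 1 = a * (1 + a * k) := by
    have : p - 1 = a + a ^ 2 * k := by omega
    rw [this]; ring
  have e2 : p + 1 = b * (1 + b * l) := by
    have : p + 1 = b + b ^ 2 * l := by omega
    rw [this]; ring
  have hodd' : p % 2 = 1 := (hp.eq_two_or_odd).resolve_left (by omega)
  have h20 : (2 : ZMod p) ≠ 0 := fun h => by
    have := (ZMod.natCast_eq_zero_iff 2 p).1 h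
    exact absurd (Nat.le_of_dvd two_pos this) (by omega)
  have two : ∀ r : ℕ, r ∣ p - 1 → r ∣ p + 1 → r ∣ 2 := fun r h h' => by
    have := Nat.dvd_sub h' h
    rwa [show p + 1 - (p - 1) = 2 by omega] at this
  obtain ⟨w, hw⟩ : 2 ∣ 1 + b * l :=
    (Nat.coprime_two_left.2 hodd).dvd_of_dvd_mul_left (by rw [← e2]; omega)
  have hcard : Nat.card (ProjectiveSpecialLinearGroup (Fin 2) (ZMod p)) =
      m * (p * (1 + a * k) * w) := by
    rw [SL2C.card_PSL2 h20, Nat.card_zmod, show p ^ 2 - 1 = (p + 1) * (p - 1) from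
      Nat.sq_sub_sq p 1, e1, e2, hw, hab]
    exact Nat.div_eq_of_eq_mul_left two_pos (by ring)
  have hpm : m.Coprime p :=
    ((Nat.Prime.coprime_iff_not_dvd hp).2 fun h => by
      have := Nat.le_of_dvd (by omega) h
      omega).symm
  refine ⟨_, inferInstance, inferInstance, hcard ▸ dvd_mul_right _ _, ?_, fun H hH => ?_⟩
  · rw [hcard, Nat.mul_div_cancel_left _ (by omega)]
    refine (hpm.mul_right ?_).mul_right ?_ <;> rw [hab]
    · refine Nat.Coprime.mul_left (by simp) (Nat.Coprime.coprime_dvd_left (dvd_refl b) ?_)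
      refine Nat.coprime_of_dvd fun r hr h h' => ?_
      have := two r (e1 ▸ h'.mul_left _) (e2 ▸ h.mul_right _)
      rw [(Nat.prime_dvd_prime_iff_eq hr Nat.prime_two).1 this] at h
      exact hodd.not_two_dvd_nat h
    · refine Nat.Coprime.mul_left (Nat.coprime_of_dvd fun r hr h h' => ?_)
        (Nat.Coprime.coprime_dvd_right (Dvd.intro_left _ hw.symm) (by simp))
      have := two r (e1 ▸ h.mul_right _) (by rw [e2, hw]; exact (h'.mul_left _).mul_left _)
      rw [(Nat.prime_dvd_prime_iff_eq hr Nat.prime_two).1 this] at h h'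
      rcases ha with ⟨h6, -⟩ | h6
      · exact h6.not_two_dvd_nat h
      · have h7 : 4 ∣ p - 1 := e1 ▸ h6.mul_right _
        have h8 : 2 * 2 ∣ p + 1 := by
          rw [e2, hw]; exact (Nat.mul_dvd_mul_left 2 h').mul_left _
        omega
  · have := dickson_psl h20 H (by rwa [hH, Nat.card_zmod])
    rw [hH, Nat.card_zmod] at this
    rcases this with h | h | h
    · have := Nat.le_of_dvd two_pos (two b ((Dvd.intro_left _ hab.symm).trans h)
        (e2 ▸ dvd_mul_right _ _))
      have := Nat.odd_iff.1 hodd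
      omega
    · have := Nat.le_of_dvd two_pos (two a (e1 ▸ dvd_mul_right _ _)
        ((Dvd.intro _ hab.symm).trans h))
      omega
    · omega

end CfsgLib.H4
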