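import Cfsg.Agent.Lib.H8SigA
import Cfsg.Agent.Lib.J1.Ord3
import Cfsg.Agent.Lib.BSW.SL2SN
import Cfsg.Agent.Lib.SL2Card

/-! Simple groups whose class sizes have at most two prime divisors: classification. -/

set_option autoImplicit false

namespace CfsgLib.SigX

open Subgroup Cfsg CfsgLib.BSW CfsgLib.Frob
open scoped commutatorElement

variable {G : Type*} [Group G] [Finite G]

omit [Finite G] in
theorem center_eq_bot' [IsSimpleGroup G] (hna : ¬ IsMulCommutative G) : center G = ⊥ :=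
  (IsSimpleGroup.eq_bot_or_eq_top_of_normal (center G) inferInstance).resolve_right fun e =>
    hna ⟨⟨fun a b => (mem_center_iff.mp (e ▸ mem_top b : b ∈ center G) a)⟩⟩

theorem card_le_two_of_disjoint {T H : Subgroup G} (hT : ¬ IsMulCommutative T)
    (hC : centralizer (T : Set G) ≤ T) (h4 : (centralizer (T : Set G)).relIndex T = 4)
    (hH : H ≤ T) (hd : H ⊓ centralizer (T : Set G) = ⊥) : Nat.card H ≤ 2 := by
  have hn : H ≤ normalizer ((centralizer (T : Set G) : Subgroup G) : Set G) :=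
    hH.trans (le_normalizer.trans (FrobNPC.normalizer_le_normalizer_centralizer T))
  have h1 := card_sup_of_disjoint hn hd
  have h2 := card_mul_relIndex hC
  have h3 := card_dvd_of_le (sup_le hH hC)
  rw [h1, ← h2, h4, mul_comm] at h3
  have h5 : Nat.card H ∣ 2 ^ 2 := Nat.dvd_of_mul_dvd_mul_left Nat.card_pos h3
  obtain ⟨k, hk, e⟩ := (Nat.dvd_prime_pow Nat.prime_two).mp h5
  interval_cases k
  · omega
  · omega
  · exfalso
    apply hT
    have h6 : H ⊔ centralizer (T : Set G) = T :=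
      eq_of_le_of_card_le (sup_le hH hC) (by rw [h1, ← h2, h4, e, mul_comm]; norm_num)
    have h7 : IsMulCommutative H := IsPGroup.isMulCommutative_of_card_eq_prime_sq e
    have h8 := PGrp.isMulCommutative_sup h7 (B := centralizer (T : Set G))
      (BSW.isMulCommutative_iff'.mpr fun a ha b hb => hb a (hC ha)) (centralizer_le hH)
    rwa [h6] at h8

theorem mem_centralizer_of_card_le_two {H : Subgroup G} (h2 : Nat.card H ≤ 2) {g : G}
    (hg : g ∈ normalizer (H : Set G)) : g ∈ centralizer (H : Set G) := by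
  classical
  intro x hx
  by_contra hne
  have hx1 : x ≠ 1 := fun e => hne (by simp [e])
  have h1 : g * x * g⁻¹ ≠ x := fun e => hne (by rw [← mul_inv_eq_iff_eq_mul.mp e])
  have h3 : ({1, x, g * x * g⁻¹} : Set G) ⊆ H := by
    intro y hy
    rcases hy with rfl | rfl | rfl
    exacts [H.one_mem, hx, conj_mem_of_mem_normalizer hg hx]
  have h4 := Set.ncard_le_ncard h3 (Set.toFinite _)
  rw [Set.ncard_eq_three.mpr ⟨1, x, g * x * g⁻¹, hx1.symm, (conj_ne_one hx1).symm, h1.symm, rfl⟩]
    at h4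
  have h5 : (H : Set G).ncard = Nat.card H := rfl
  omega

namespace Tri

variable {p q : ℕ} (h : Tri G p q)
include h

theorem cent_two_le [IsSimpleGroup G] (T : Sylow 2 G) :
    centralizer ((T : Subgroup G) : Set G) ≤ T := by
  obtain ⟨z, hzT, hz, hTz⟩ := exists_central_of_sylow T h.d2
  rw [← h.cent_eq T (ne_one_of_orderOf_prime Nat.prime_two hz) hTz]
  conv_lhs => rw [h.cent_eq T (ne_one_of_orderOf_prime Nat.prime_two hz) hTz]
  exact centralizer_le (Set.singleton_subset_iff.mpr hzT)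

theorem eight_mul [IsSimpleGroup G] (T : Sylow 2 G) (hT : ¬ IsMulCommutative (T : Subgroup G)) :
    8 * (Ar G 2).ncard ≤ Nat.card G := by
  have h4 := sq_dvd_ee T.isPGroup' hT
  have h0 := ee_ne_zero (T : Subgroup G)
  by_cases h8 : 8 ≤ ee (T : Subgroup G)
  · have := mul_Ar_le T h8
    omega
  have e4 : ee (T : Subgroup G) = 4 := by omega
  have hC := h.cent_two_le T
  have h5 := relIndex_mul_relIndex _ _ _ hC (le_normalizer (H := (T : Subgroup G)))
  have h6 := sq_dvd_relIndex_cent T.isPGroup' hT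
  change _ = ee (T : Subgroup G) at h5
  rw [e4] at h5
  have h7 : (centralizer ((T : Subgroup G) : Set G)).relIndex T = 4 :=
    Nat.dvd_antisymm ⟨_, h5.symm⟩ h6
  have hN : normalizer ((T : Subgroup G) : Set G) ≤ T := by
    rw [h7] at h5
    exact relIndex_eq_one.mp (by omega)
  have cz : ∀ z ∈ centralizer ((T : Subgroup G) : Set G), z ≠ 1 →
      centralizer ({z} : Set G) = T := fun z hz hz1 =>
    h.cent_eq T hz1 fun t ht => mem_cent.mpr (hz t ht)
  have key : Nat.card (centralizer ((T : Subgroup G) : Set G)) ≤ 2 := by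
    by_contra hc
    refine not_hnpc h.hna h.d2 (FrobNPC.hnpc_of_pAutomizer_le T fun H hH _ =>
      FrobNPC.pAutomizer_of_primePow fun g hg s k hs hs2 hk => ?_)
    by_contra hgc
    by_cases hd : H ⊓ centralizer ((T : Subgroup G) : Set G) = ⊥
    · exact hgc (mem_centralizer_of_card_le_two (card_le_two_of_disjoint hT hC h7 hH hd) hg)
    obtain ⟨⟨z, hzH, hzC⟩, hz1⟩ := (ne_bot_iff_exists_ne_one).mp hd
    have hz1' : z ≠ 1 := fun e => hz1 (Subtype.ext e)
    apply hc
    rw [← card_map_conj g]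
    refine card_le_two_of_disjoint hT hC h7 ?_ ?_
    · intro w hw
      rw [mem_map_conj_iff] at hw
      rw [← cz z hzC hz1', mem_cent]
      have h1 := hw _ (hH (conj_mem_of_mem_normalizer' hg hzH))
      calc w * z = g * (g⁻¹ * w * g * (g⁻¹ * z * g)) * g⁻¹ := by group
        _ = z * w := by rw [← h1]; group
    · rw [eq_bot_iff]
      rintro w ⟨hw, hwC⟩
      by_contra hw1
      have hw' := mem_map_conj_iff.mp hw
      have hw1' : g⁻¹ * w * g ≠ 1 := by simpa using conj_ne_one (g := g⁻¹) hw1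
      have hgT : g ∈ (T : Subgroup G) := by
        refine hN (mem_normalizer_of_conj_mem fun t ht => ?_)
        rw [← cz _ hw' hw1'] at ht
        rw [← cz w hwC hw1]
        simpa [mul_assoc] using conj_mem_cent (g := g) ht
      obtain ⟨j, hj⟩ := orderOf_eq_pow_of_mem_isPGroup T.isPGroup' hgT
      have h1 : orderOf g = 1 := Nat.Coprime.eq_one_of_dvd
        (show (orderOf g).Coprime (orderOf g) by
          nth_rewrite 1 [hk]
          rw [hj]
          exact ((Nat.coprime_primes hs Nat.prime_two).mpr hs2).pow k j) dvd_rfl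
      exact hgc (orderOf_eq_one_iff.mp h1 ▸ one_mem _)
  have h9 := ncard_Ar_le T
  rw [card_eq_ee (T : Subgroup G), e4]
  have h10 : 0 < Nat.card (centralizer ((T : Subgroup G) : Set G)) := Nat.card_pos
  generalize Nat.card (centralizer ((T : Subgroup G) : Set G)) = c at *
  interval_cases c <;> omega

theorem ee_eq_two [IsSimpleGroup G] (T : Sylow 2 G) (hT : ¬ IsMulCommutative (T : Subgroup G))
    [Fact p.Prime] (P : Sylow p G) : ee (P : Subgroup G) = 2 := by
  haveI := Fact.mk h.hq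
  obtain ⟨Q⟩ : Nonempty (Sylow q G) := inferInstance
  have h1 := two_le_ee h.hna h.dp P
  by_contra hc
  have a2 := h.eight_mul T hT
  have ap := mul_Ar_le P (e := 3) (by omega)
  have aq := mul_Ar_le Q (two_le_ee h.hna h.dq Q)
  have := h.cover
  omega

theorem cent_eq_cent [IsSimpleGroup G] [Fact p.Prime] (P : Sylow p G) {y : G}
    (hy : y ∈ (P : Subgroup G)) (hy1 : y ≠ 1) :
    centralizer ({y} : Set G) = centralizer ((P : Subgroup G) : Set G) := by
  refine le_antisymm ?_ (centralizer_le (Set.singleton_subset_iff.mpr hy))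
  have hPy : (P : Subgroup G) ≤ centralizer {y} := fun x hx =>
    mem_cent.mpr (BSW.isMulCommutative_iff'.mp (h.comm P) x hx y hy)
  obtain ⟨k, hk⟩ := orderOf_eq_pow_of_mem_isPGroup P.isPGroup' hy
  have key := AbTI.cent_sylow_eq_top (P.subtype hPy) fun w => by
    obtain ⟨u, hu, v, hv, e, huv, ⟨j, hj⟩, hcop⟩ := exists_p_part h.hp (w : G)
    have huy : u ∈ centralizer ({y} : Set G) := zpowers_le.mpr w.2 hu
    have hvy : v ∈ centralizer ({y} : Set G) := zpowers_le.mpr w.2 hv
    have hc : (orderOf y).Coprime (orderOf v) := by rw [hk]; exact (hcop.symm.pow_left k)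
    obtain ⟨r, hr, dr, n1, -, n3⟩ := h.same (mem_cent.mp hvy).symm hc
    have hrp : r = p := h.uniq y hy1 r p hr h.hp dr h.dp n1 (not_dvd_cidx_of_sylow_le P hPy)
    rw [hrp] at n3
    have e2 := centralizer_mul_of_coprime (mem_cent.mp hvy).symm hc
    obtain ⟨S, huS, hS⟩ := IsSylowIn.exists_ge (isPGroup_zpowers_iff.mpr ⟨j, hj⟩)
      (H := centralizer {y * v}) (zpowers_le.mpr (e2 ▸ ⟨huy, mem_cent.mpr huv⟩))
    have hS' : IsSylowIn p S ⊤ := ⟨le_top, hS.isPGroup, by
      rw [relIndex_top_right, ← relIndex_mul_index hS.le]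
      exact fun e => (h.hp.dvd_mul.mp e).elim hS.not_dvd n3⟩
    obtain ⟨P', rfl⟩ := IsSylowIn.top_iff.mp hS'
    have hle : (P' : Subgroup G) ≤ centralizer {(w : G)} ⊓ centralizer {y} := fun x hx => by
      have h1 := hS.le hx
      rw [e2] at h1
      refine ⟨mem_cent.mpr ?_, h1.1⟩
      have h2 := BSW.isMulCommutative_iff'.mp (h.comm P') x hx u (huS (mem_zpowers u))
      have h3 := mem_cent.mp h1.2
      rw [e, ← mul_assoc, h2, mul_assoc, h3, mul_assoc]
    rw [index_centralizer_subtype, ← inf_relIndex_right]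
    exact fun e => P'.not_dvd_index ((e.trans (relIndex_dvd_index_of_le inf_le_right)).trans
      (index_dvd_of_le hle))
  intro g hg x hx
  have h1 : (⟨g, hg⟩ : centralizer ({y} : Set G)) ∈ centralizer
      (((P.subtype hPy : Sylow p _) : Subgroup (centralizer ({y} : Set G))) :
        Set (centralizer ({y} : Set G))) := key ▸ mem_top _
  exact congrArg Subtype.val (h1 ⟨x, hPy hx⟩ hx)

theorem exists_irr [IsSimpleGroup G] [Fact p.Prime] (P : Sylow p G)
    (he : ee (P : Subgroup G) = 2) :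
    ∃ (θ : G → ℂ) (n : ℕ), IsIrrCharacter G θ ∧ θ ≠ 1 ∧ θ 1 = n ∧ Odd n ∧ ¬ p ∣ n := by
  haveI := Fintype.ofFinite G
  set K := centralizer ((P : Subgroup G) : Set G) with hK
  have hPK : (P : Subgroup G) ≤ K := fun x hx y hy =>
    BSW.isMulCommutative_iff'.mp (h.comm P) y hy x hx
  have hn : HasNormalPComplement p K := PCompl.hnpc_of_sylow_le_center (P.subtype hPK)
    fun x hx => mem_center_iff.mpr fun g => Subtype.ext (g.2 x hx).symm
  set U := (pResidual p K).map K.subtype with hU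
  have memU : ∀ x, x ∈ U ↔ x ∈ K ∧ (orderOf x).Coprime p := fun x => by
    constructor
    · rintro ⟨y, hy, rfl⟩
      exact ⟨y.2, by simpa using (PCompl.hnpc_mem_pResidual_iff hn).mp hy⟩
    · rintro ⟨h1, h2⟩
      exact ⟨⟨x, h1⟩, (PCompl.hnpc_mem_pResidual_iff hn).mpr (by simpa using h2), rfl⟩
  have dec : ∀ x ∈ K, ∃ u ∈ zpowers x, u ∈ (P : Subgroup G) ∧ ∃ v ∈ U, x = u * v := fun x hx => by
    obtain ⟨u, hu, v, hv, e, -, ⟨j, hj⟩, hcop⟩ := exists_p_part h.hp x
    exact ⟨u, hu, mem_sylow_of_cent P (zpowers_le.mpr hx hu) hj, v,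
      (memU v).mpr ⟨zpowers_le.mpr hx hv, hcop⟩, e⟩
  have hNK := FrobNPC.normalizer_le_normalizer_centralizer (P : Subgroup G)
  obtain ⟨s, hsN, hsK⟩ : ∃ s ∈ normalizer ((P : Subgroup G) : Set G), s ∉ K := by
    by_contra hc
    push Not at hc
    have := relIndex_eq_one.mpr (show normalizer ((P : Subgroup G) : Set G) ≤ K from hc)
    change ee (P : Subgroup G) = 1 at this
    omega
  have idx : ∀ a ∈ normalizer ((P : Subgroup G) : Set G),
      ∀ b ∈ normalizer ((P : Subgroup G) : Set G), a ∉ K → b ∉ K → a * b ∈ K := by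
    intro a ha b hb ha' hb'
    exact (mul_mem_iff_of_index_two (H := K.subgroupOf _) he (a := ⟨a, ha⟩) (b := ⟨b, hb⟩)).mpr
      (iff_of_false ha' hb')
  have sinv : ∀ y ∈ (P : Subgroup G), s * y * s⁻¹ * y = 1 := by
    intro y hy
    by_contra hc
    have h1 := conj_mem_of_mem_normalizer hsN hy
    apply hsK
    rw [hK, ← h.cent_eq_cent P (mul_mem h1 hy) hc, mem_cent]
    have h2 := idx s hsN s hsN hsK hsK y hy
    have h3 := hPK h1 y hy
    calc s * (s * y * s⁻¹ * y) = (s * s * y) * (s * s)⁻¹ * (s * y * s⁻¹) * s := by group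
      _ = y * (s * y * s⁻¹) * s := by rw [← h2]; group
      _ = _ := by rw [h3]
  have hX : XS K U s := by
    refine ⟨map_subtype_le _, ?_, hsK, fun x hx => conj_mem_of_mem_normalizer (hNK hsN) hx,
      fun x hx => ?_, fun g x hx hxU hgx _ => ?_, fun x hx => ?_⟩
    · rw [commutator_le]
      intro x hx y hy
      obtain ⟨u, -, hu, v, hv, rfl⟩ := dec x hx
      obtain ⟨u', -, hu', v', hv', rfl⟩ := dec y hy
      have hvK := ((memU v).mp hv).1
      have hvK' := ((memU v').mp hv').1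
      have : ⁅u * v, u' * v'⁆ = ⁅v, v'⁆ := by
        have c1 := hy u hu
        have c2 := hvK u' hu'
        have c3 := hvK u hu
        have c4 := hvK' u' hu'
        rw [commutatorElement_def, commutatorElement_def]
        calc u * v * (u' * v') * (u * v)⁻¹ * (u' * v')⁻¹
            = (u * v) * (u' * v') * (v * u)⁻¹ * (v' * u')⁻¹ := by rw [c3, c4]
          _ = v * (u * (u' * v')) * u⁻¹ * v⁻¹ * u'⁻¹ * v'⁻¹ := by rw [c3]; group
          _ = (v * u') * v' * (u' * v)⁻¹ * v'⁻¹ := by rw [c1]; group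
          _ = v * (u' * v') * (v * u')⁻¹ * v'⁻¹ := by rw [c2]; group
          _ = _ := by rw [c4]; group
      rw [this, commutatorElement_def]
      exact mul_mem (mul_mem (mul_mem hv hv') (inv_mem hv)) (inv_mem hv')
    · obtain ⟨u, -, hu, v, hv, rfl⟩ := dec x hx
      have hvK := ((memU v).mp hv).1
      have h1 : s * v * s⁻¹ ∈ U := (memU _).mpr ⟨conj_mem_of_mem_normalizer (hNK hsN) hvK, by
        rw [show s * v * s⁻¹ = MulAut.conj s v from rfl, MulEquiv.orderOf_eq]
        exact ((memU v).mp hv).2⟩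
      have h2 := ((memU _).mp h1).1 u hu
      have : s * (u * v) * s⁻¹ * (u * v) = s * v * s⁻¹ * v := by
        calc s * (u * v) * s⁻¹ * (u * v) = s * u * s⁻¹ * (s * v * s⁻¹ * u) * v := by group
          _ = (s * u * s⁻¹ * u) * (s * v * s⁻¹ * v) := by rw [← h2]; group
          _ = _ := by rw [sinv u hu, one_mul]
      rw [this]
      exact mul_mem h1 hv
    · obtain ⟨u, hux, hu, v, hv, e⟩ := dec x hx
      have hu1 : u ≠ 1 := fun e1 => hxU (by rwa [e, e1, one_mul])
      have cP : ∀ y ∈ (P : Subgroup G), g * y * g⁻¹ ∈ K → g * y * g⁻¹ ∈ (P : Subgroup G) := by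
        intro y hy hy'
        obtain ⟨j, hj⟩ := orderOf_eq_pow_of_mem_isPGroup P.isPGroup' hy
        exact mem_sylow_of_cent P hy' (k := j) (by
          rw [show g * y * g⁻¹ = MulAut.conj g y from rfl, MulEquiv.orderOf_eq, hj])
      have h1 : g * u * g⁻¹ ∈ (P : Subgroup G) := cP u hu (by
        obtain ⟨i, rfl⟩ := hux
        rw [← conj_zpow]
        exact zpow_mem hgx i)
      have hgN : g ∈ normalizer ((P : Subgroup G) : Set G) :=
        mem_normalizer_of_conj_mem fun y hy => cP y hy (by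
          rw [hK, ← h.cent_eq_cent P h1 (conj_ne_one hu1)]
          exact conj_mem_cent (h.cent_eq_cent P hu hu1 ▸ hPK hy))
      by_cases hgK : g ∈ K
      · exact Or.inl hgK
      · exact Or.inr (idx _ (inv_mem hsN) g hgN (fun e => hsK (by simpa using inv_mem e)) hgK)
    · obtain ⟨u, -, hu, v, hv, rfl⟩ := dec x hx
      obtain ⟨j, hj⟩ := orderOf_eq_pow_of_mem_isPGroup P.isPGroup' hu
      refine ⟨orderOf u, hj ▸ (h.hp.odd_of_ne_two h.p2).pow, ?_⟩
      rw [Commute.mul_pow (((memU v).mp hv).1 u hu), pow_orderOf_eq_one, one_mul]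
      exact pow_mem hv _
  have hpU : ¬ p ∣ Nat.card U := fun e => by
    obtain ⟨x, hx, hxp⟩ := exists_orderOf_prime_mem U h.hp e
    have := ((memU x).mp hx).2
    rw [hxp, Nat.coprime_self] at this
    exact h.hp.one_lt.ne' this
  have hpK : ¬ p ∣ K.index := fun e => P.not_dvd_index (e.trans (index_dvd_of_le hPK))
  have c1 := card_mul_relIndex hX.le
  refine hX.exists_irr h.hp h.p2 ?_ (r := Nat.card U * K.index) ?_ ?_
  · have := h.dp
    rw [← K.card_mul_index, ← c1] at this
    exact (h.hp.dvd_mul.mp ((h.hp.dvd_mul.mp this).resolve_right hpK)).resolve_left hpU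
  · rw [← K.card_mul_index, ← c1]; ring
  · exact fun e => (h.hp.dvd_mul.mp e).elim hpU hpK

theorem isPGroup_cent_sylow [IsSimpleGroup G] [Fact p.Prime] (P : Sylow p G)
    (he : ee (P : Subgroup G) = 2) [Fact q.Prime] (Q : Sylow q G) :
    IsPGroup q (centralizer ((Q : Subgroup G) : Set G)) := by
  haveI := Fintype.ofFinite G
  obtain ⟨θ, n, hθ, hθ1, hn, hodd, hpn⟩ := h.exists_irr P he
  have hθ' := FT.isIrr_top.mpr hθ
  have hnG : n ∣ Nat.card G := card_top (G := G) ▸ hθ'.degree_dvd_card hn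
  obtain ⟨c, hc⟩ := exists_pow_of_forall_prime_eq h.hq (n := n)
    (fun e => Nat.card_pos.ne' (Nat.eq_zero_of_zero_dvd (e ▸ hnG))) fun r hr hd => by
      rcases h.primes r hr (hd.trans hnG) with rfl | rfl | rfl
      · exact absurd hd hodd.not_two_dvd_nat
      · exact absurd hd hpn
      · rfl
  set K := centralizer ((Q : Subgroup G) : Set G) with hK
  have hz : ∀ x ∈ K, x ≠ 1 → θ x = 0 := by
    intro x hx hx1
    refine (hθ.eq_zero_or_norm_eq hn x ?_).resolve_right fun e => hx1 ?_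
    · rw [hc]
      exact ((Nat.Prime.coprime_iff_not_dvd h.hq).mpr
        (not_dvd_cidx_of_sylow_le Q fun y hy => mem_cent.mpr (hx y hy))).symm.pow_right c
    · have h1 := (IsSimpleGroup.eq_bot_or_eq_top_of_normal _
        (charKer_normal hθ.isCharacter)).resolve_right (charKer_ne_top hθ hθ1)
      rw [← mem_bot, ← center_eq_bot' h.hna, mem_center_iff]
      intro g
      have h2 := hθ.isCharacter.commutator_mem_charKer e g
      rw [h1, mem_bot, commutatorElement_eq_one_iff_mul_comm] at h2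
      exact h2.symm
  obtain ⟨k, hk⟩ := (hθ'.isChar.cfRes (H := K) le_top).cfdot_nat FT.isChar_cf1
  rw [FT.cfdot_cfRes_left, FT.cfdot_cf1_right, Finset.sum_eq_single_of_mem 1
    (by simp [FT.elems, K.one_mem]) (fun x hx hx1 => hz x (by simpa [FT.elems] using hx) hx1),
    hn] at hk
  have h2 : (n : ℂ) = Nat.card K * k := by
    rw [← hk]
    have := FT.card_ne_zero K
    field_simp
  have h3 : Nat.card K ∣ q ^ c := ⟨k, by rw [← hc]; exact_mod_cast h2⟩
  obtain ⟨j, -, hj⟩ := (Nat.dvd_prime_pow h.hq).mp h3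
  exact IsPGroup.of_card hj

theorem allC_two [IsSimpleGroup G] : AllC G 2 := by
  haveI := Fact.mk h.hp
  haveI := Fact.mk h.hq
  obtain ⟨T⟩ : Nonempty (Sylow 2 G) := inferInstance
  by_cases hT : IsMulCommutative (T : Subgroup G)
  · exact allC_of_comm T hT
  obtain ⟨P⟩ : Nonempty (Sylow p G) := inferInstance
  obtain ⟨Q⟩ : Nonempty (Sylow q G) := inferInstance
  intro x k hk
  by_cases hx : x = 1
  · rw [hx, cidx, index_centralizer_eq_one_iff.mpr (one_mem _)]; norm_num
  have key : ∀ (s : ℕ) [Fact s.Prime], s ≠ 2 → (∀ S : Sylow s G,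
      IsPGroup s (centralizer ((S : Subgroup G) : Set G))) → s ∣ cidx x := by
    intro s hs hs2 hS
    by_contra hc
    obtain ⟨S, hle⟩ := exists_sylow_le_of_not_dvd hc
    obtain ⟨j, hj⟩ := orderOf_eq_pow_of_mem_isPGroup (hS S) (x := x)
      fun y hy => mem_cent.mp (hle hy)
    refine hx (orderOf_eq_one_iff.mp (Nat.Coprime.eq_one_of_dvd
      (show (orderOf x).Coprime (orderOf x) from ?_) dvd_rfl))
    nth_rewrite 1 [hk]
    rw [hj]
    exact ((Nat.coprime_primes Nat.prime_two hs.out).mpr hs2.symm).pow k j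
  obtain ⟨r, hr, dr, nr⟩ := h.ex x
  rcases h.primes r hr dr with rfl | rfl | rfl
  · exact nr
  · exact absurd (key r h.p2 fun S => h.symm.isPGroup_cent_sylow Q (h.symm.ee_eq_two T hT Q) S) nr
  · exact absurd (key r h.q2 fun S => h.isPGroup_cent_sylow P (h.ee_eq_two T hT P) S) nr

end Tri

theorem eq_two_of_pow {n i : ℕ} (hn : 2 ≤ n) (h : 2 ^ n - 1 = 3 ^ i) : n = 2 := by
  by_contra hc
  obtain ⟨m, rfl⟩ : ∃ m, n = m + 3 := ⟨n - 3, by omega⟩
  have h1 : 3 ^ i % 8 = 1 ∨ 3 ^ i % 8 = 3 := by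
    clear h
    induction i with
    | zero => simp
    | succ i ih => rw [pow_succ]; omega
  have h2 : 0 < 2 ^ m := by positivity
  rw [pow_add] at h
  omega

theorem eq_three_of_pow {n i : ℕ} (hn : 2 ≤ n) (h : 2 ^ n + 1 = 3 ^ i) : n = 3 := by
  obtain ⟨m, rfl⟩ : ∃ m, n = m + 2 := ⟨n - 2, by omega⟩
  rcases Nat.even_or_odd' i with ⟨j, rfl | rfl⟩
  · obtain ⟨a, ha⟩ : ∃ a, 3 ^ j = a + 1 :=
      ⟨_, (Nat.succ_pred_eq_of_pos (by positivity)).symm⟩
    rw [pow_mul', ha] at h
    have h1 : 2 ^ (m + 2) = a * (a + 2) := by nlinarith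
    obtain ⟨u, -, hu⟩ := (Nat.dvd_prime_pow Nat.prime_two).mp (Dvd.intro _ h1.symm)
    obtain ⟨v, -, hv⟩ := (Nat.dvd_prime_pow Nat.prime_two).mp (Dvd.intro_left _ h1.symm)
    have h2 : a = 2 := by
      rcases u with _ | _ | u
      · rcases v with _ | v
        · omega
        · rw [pow_succ] at hv; omega
      · simpa using hu
      · rcases v with _ | _ | v
        · omega
        · have : 0 < 2 ^ (u + 1 + 1) := by positivity
          omega
        · rw [pow_succ, pow_succ] at hu hv; omega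
    rw [h2] at h1
    exact Nat.pow_right_injective le_rfl (show 2 ^ (m + 2) = 2 ^ 3 from h1)
  · have h1 : 9 ^ j % 4 = 1 := by
      clear h
      induction j with
      | zero => simp
      | succ i ih => rw [pow_succ]; omega
    rw [pow_succ 3, pow_mul, pow_add] at h
    norm_num at h
    omega

theorem eq_two_or_three {n p q : ℕ} (hn : 2 ≤ n)
    (h : ∀ r : ℕ, r.Prime → r ∣ (2 ^ n - 1) * (2 ^ n + 1) → r = 2 ∨ r = p ∨ r = q) :
    n = 2 ∨ n = 3 := by
  obtain ⟨a, ha⟩ : ∃ a, 2 ^ n = 4 * a + 4 := by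
    obtain ⟨m, rfl⟩ : ∃ m, n = m + 2 := ⟨n - 2, by omega⟩
    have : 0 < 2 ^ m := by positivity
    exact ⟨2 ^ m - 1, by rw [pow_add]; omega⟩
  have e1 : 2 ^ n - 1 = 4 * a + 3 := by omega
  have hodd : ∀ r : ℕ, r.Prime → r ∣ (2 ^ n - 1) * (2 ^ n + 1) → r = p ∨ r = q := by
    intro r hr hd
    refine (h r hr hd).resolve_left ?_
    rintro rfl
    rcases hr.dvd_mul.mp hd with e | e <;> omega
  have hne : ∀ r : ℕ, r.Prime → r ∣ 2 ^ n - 1 → ¬ r ∣ 2 ^ n + 1 := by
    intro r hr h1 h2
    have h3 : r ∣ 2 := by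
      have := Nat.dvd_sub h2 h1
      rwa [show 2 ^ n + 1 - (2 ^ n - 1) = 2 by omega] at this
    rw [(Nat.prime_dvd_prime_iff_eq hr Nat.prime_two).mp h3] at h2
    omega
  obtain ⟨r, hr, hrd⟩ := Nat.exists_prime_and_dvd (show 2 ^ n - 1 ≠ 1 by omega)
  obtain ⟨s, hs, hsd⟩ := Nat.exists_prime_and_dvd (show 2 ^ n + 1 ≠ 1 by omega)
  have h3 : 3 ∣ 2 ^ n - 1 ∨ 3 ∣ 2 ^ n + 1 := by
    have : ¬ 3 ∣ 2 ^ n := fun e => by
      have := (Nat.prime_dvd_prime_iff_eq Nat.prime_three Nat.prime_two).mp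
        (Nat.prime_three.dvd_of_dvd_pow e)
      omega
    rw [e1, ha] at *
    have h4 : a % 3 = 0 ∨ a % 3 = 1 ∨ a % 3 = 2 := by omega
    rcases h4 with h4 | h4 | h4 <;> omega
  rcases h3 with h3 | h3
  · left
    obtain ⟨i, hi⟩ := exists_pow_of_forall_prime_eq Nat.prime_three (n := 2 ^ n - 1) (by omega)
      fun t ht hd => by
        have a1 := hodd t ht (hd.mul_right _)
        have a2 := hodd 3 Nat.prime_three (h3.mul_right _)
        have a3 := hodd s hs (hsd.mul_left _)
        have a4 : t ≠ s := fun e => hne t ht hd (e ▸ hsd)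
        have a5 : 3 ≠ s := fun e => hne 3 Nat.prime_three h3 (e ▸ hsd)
        omega
    exact eq_two_of_pow hn hi
  · right
    obtain ⟨i, hi⟩ := exists_pow_of_forall_prime_eq Nat.prime_three (n := 2 ^ n + 1) (by omega)
      fun t ht hd => by
        have a1 := hodd t ht (hd.mul_left _)
        have a2 := hodd 3 Nat.prime_three (h3.mul_left _)
        have a3 := hodd r hr (hrd.mul_right _)
        have a4 : t ≠ r := fun e => hne t ht (e ▸ hrd) hd
        have a5 : 3 ≠ r := fun e => hne 3 Nat.prime_three (e ▸ hrd) h3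
        omega
    exact eq_three_of_pow hn hi

theorem Tri.classify [IsSimpleGroup G] {p q : ℕ} (h : Tri G p q) :
    (Nat.card G = 60 ∧ Nonempty (G ≃* alternatingGroup (Fin 5))) ∨ (Nat.card G = 504 ∧
      Nonempty (G ≃* Matrix.ProjectiveSpecialLinearGroup (Fin 2) (GaloisField 2 3))) := by
  have hns := not_isSolvable_of_simple h.hna
  obtain ⟨n, hn, ⟨e⟩⟩ := (solvable_or_psl_of_fgroup (h.fgroup h.allC_two)).resolve_left hns
  have hc : Nat.card G = 2 ^ n * ((2 ^ n) ^ 2 - 1) := by
    rw [Nat.card_congr (e.trans (pslEquiv _)).toEquiv, SL2C.card_SL2,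
      GaloisField.card 2 n (by omega)]
  have h1 := eq_two_or_three (p := p) (q := q) hn fun r hr hd => h.primes r hr (by
    rw [hc, ← one_pow 2, Nat.sq_sub_sq, mul_comm (2 ^ n + 1)]
    exact hd.mul_left _)
  rcases h1 with rfl | rfl
  · exact Or.inl ⟨hc, J1.alt5_of_card hc hns⟩
  · exact Or.inr ⟨hc, ⟨e⟩⟩

end CfsgLib.SigX
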