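import Cfsg.Agent.Lib.H8SigB

/-! Groups whose class sizes have at most two prime divisors: the reduction to simple groups. -/

set_option autoImplicit false

namespace CfsgLib.SigX

open Subgroup Cfsg CfsgLib.BSW CfsgLib.Frob
open scoped commutatorElement

universe u

variable {G : Type*} [Group G] [Finite G]

theorem card_sylow_eq_pow {r n m : ℕ} [hr : Fact r.Prime] (R : Sylow r G)
    (h : Nat.card G = r ^ n * m) (hm : ¬ r ∣ m) : Nat.card (R : Subgroup G) = r ^ n := by
  obtain ⟨k, hk⟩ := R.isPGroup'.exists_card_eq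
  have h1 := (R : Subgroup G).card_mul_index
  rw [hk, h] at h1
  rw [hk]
  exact Nat.dvd_antisymm
    ((((Nat.Prime.coprime_iff_not_dvd hr.out).mpr hm).pow_left k).dvd_of_dvd_mul_right ⟨_, h1.symm⟩)
    ((((Nat.Prime.coprime_iff_not_dvd hr.out).mpr R.not_dvd_index).pow_left n).dvd_of_dvd_mul_right
      ⟨_, h1⟩)

theorem eq_one_of_mem_pgroups {r s : ℕ} [hr : Fact r.Prime] [hs : Fact s.Prime] (hrs : r ≠ s)
    {R S : Subgroup G} (hR : IsPGroup r R) (hS : IsPGroup s S) {x : G} (h1 : x ∈ R) (h2 : x ∈ S) :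
    x = 1 :=
  (disjoint_def.mp (IsPGroup.disjoint_of_ne r s hrs R S hR hS)) h1 h2

theorem card_sylow_eq_idx {r : ℕ} [Fact r.Prime] (R : Sylow r G) :
    Nat.card (Sylow r G) = (normalizer ((R : Subgroup G) : Set G)).index :=
  R.card_eq_index_normalizer

/-- The twisted elements centralizing a Sylow `r`-subgroup. -/
def Bs (r : ℕ) (φ : MulAut G) : Set G :=
  {e | ∃ R : Sylow r G, ∀ x ∈ (R : Subgroup G), e * φ x * e⁻¹ = x}

theorem ee_mul_Bs_le {r : ℕ} [Fact r.Prime] (R₀ : Sylow r G) (φ : MulAut G)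
    (hC : ∀ R : Sylow r G, centralizer ((R : Subgroup G) : Set G) = R) :
    ee (R₀ : Subgroup G) * (Bs r φ).ncard ≤ Nat.card G := by
  classical
  haveI := Fintype.ofFinite G
  haveI := Fintype.ofFinite (Sylow r G)
  have h1 : ∀ R : Sylow r G, (Finset.univ.filter fun e : G =>
      ∀ x ∈ (R : Subgroup G), e * φ x * e⁻¹ = x).card ≤ Nat.card (R₀ : Subgroup G) := by
    intro R
    rcases (Finset.univ.filter fun e : G =>
      ∀ x ∈ (R : Subgroup G), e * φ x * e⁻¹ = x).eq_empty_or_nonempty with e | ⟨e₀, he₀⟩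
    · rw [e]; exact Nat.zero_le _
    rw [(IsSylowIn.sylow_top R₀).card_eq (IsSylowIn.sylow_top R), ← FT.card_elems]
    refine Finset.card_le_card_of_injOn (· * e₀⁻¹) (fun e he => ?_) fun a _ b _ e => by
      simpa using e
    simp only [Finset.coe_filter, Finset.mem_univ, true_and, Set.mem_ofPred_eq, Finset.mem_filter,
      FT.elems, SetLike.mem_coe] at he he₀ ⊢
    rw [← hC R]
    intro x hx
    calc x * (e * e₀⁻¹) = (e * φ x * e⁻¹) * (e * e₀⁻¹) := by rw [he x hx]
      _ = e * e₀⁻¹ * (e₀ * φ x * e₀⁻¹) := by group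
      _ = _ := by rw [he₀ x hx]
  have h2 := Finset.card_biUnion_le_card_mul Finset.univ _ _ fun R _ => h1 R
  have h3 : Bs r φ = ↑(Finset.univ.biUnion fun R : Sylow r G => Finset.univ.filter fun e : G =>
      ∀ x ∈ (R : Subgroup G), e * φ x * e⁻¹ = x) := by
    ext e
    simp [Bs]
  rw [h3, Set.ncard_coe_finset, card_eq_ee (R₀ : Subgroup G), hC R₀, ← card_sylow_eq_idx R₀,
    ← mul_assoc, mul_comm]
  rw [Finset.card_univ, ← Nat.card_eq_fintype_card] at h2
  exact Nat.mul_le_mul_right _ h2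

namespace Tri

variable {p q : ℕ} (h : Tri G p q)
include h

theorem ca [IsSimpleGroup G] {x y w : G} (hx : x ≠ 1) (hy : x * y = y * x) (hw : x * w = w * x) :
    y * w = w * y := by
  obtain ⟨n, -, ⟨e⟩⟩ := (solvable_or_psl_of_fgroup (h.fgroup h.allC_two)).resolve_left
    (not_isSolvable_of_simple h.hna)
  set f := e.trans (pslEquiv _)
  apply f.injective
  rw [map_mul, map_mul]
  exact SL2.ca (f x) _ _ (by simpa using hx) (by rw [← map_mul, hy, map_mul])
    (by rw [← map_mul, hw, map_mul])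

theorem allC' [IsSimpleGroup G] {s : ℕ} (hs : s.Prime) (hd : s ∣ Nat.card G) : AllC G s := by
  by_cases e : s = 2
  · rw [e]; exact h.allC_two
  · exact h.allC_of_ne hs hd e

theorem cent_sylow [IsSimpleGroup G] {r : ℕ} [hr : Fact r.Prime] (R : Sylow r G) {x : G}
    (hx : x ∈ (R : Subgroup G)) (hx1 : x ≠ 1) : centralizer ({x} : Set G) = R := by
  obtain ⟨k, hk⟩ := orderOf_eq_pow_of_mem_isPGroup R.isPGroup' hx
  have hd : r ∣ Nat.card G := by
    refine dvd_trans ?_ (orderOf_dvd_natCard x)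
    rw [hk]
    exact dvd_pow_self r fun e => hx1 (orderOf_eq_one_iff.mp (by rw [hk, e, pow_zero]))
  obtain ⟨z, -, hz, hRz⟩ := exists_central_of_sylow R hd
  exact (IsSylowIn.sylow_top R).eq_of_le (h.isPGroup_cent hr.out hd (fun s hs hd _ => h.allC' hs hd)
    hx1 (h.allC' hr.out hd x k hk)) (fun y hy => mem_cent.mpr (h.ca
      (ne_one_of_orderOf_prime hr.out hz) (mem_cent.mp (hRz hy)).symm (mem_cent.mp (hRz hx)).symm))
    le_top

theorem cent_sylow' [IsSimpleGroup G] {r : ℕ} [hr : Fact r.Prime] (hd : r ∣ Nat.card G)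
    (R : Sylow r G) : centralizer ((R : Subgroup G) : Set G) = R := by
  obtain ⟨z, hzR, hz, -⟩ := exists_central_of_sylow R hd
  refine le_antisymm ?_ fun x hx y hy => ?_
  · conv_rhs => rw [← h.cent_sylow R hzR (ne_one_of_orderOf_prime hr.out hz)]
    exact centralizer_le (Set.singleton_subset_iff.mpr hzR)
  · by_cases hx1 : x = 1
    · simp [hx1]
    · exact mem_cent.mp (h.cent_sylow R hx hx1 ▸ hy)

theorem ee_dvd [IsSimpleGroup G] {r : ℕ} [hr : Fact r.Prime] (hd : r ∣ Nat.card G)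
    (R : Sylow r G) : ee (R : Subgroup G) ∣ Nat.card (R : Subgroup G) - 1 := by
  rw [← card_subgroupOf_of_le (le_normalizer (H := (R : Subgroup G))), ← ncard_diff_one]
  refine dvd_ncard_of_dvd_index_centralizer _ (fun g x hx => ⟨?_, conj_ne_one hx.2⟩)
    fun x hx => ?_
  · exact conj_mem_of_mem_normalizer (H := (R : Subgroup G)) g.2 hx.1
  · rw [index_centralizer_subtype, h.cent_sylow R (x := x) hx.1 fun e => hx.2 (Subtype.ext e), ee,
      h.cent_sylow' hd R]

theorem eq_id_of_fix [IsSimpleGroup G] (ψ : MulAut G)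
    (hψ : ∀ T : Sylow 2 G, ∀ x, ψ x ∈ (T : Subgroup G) ↔ x ∈ (T : Subgroup G)) (e : G) :
    ψ e = e := by
  have h1 : (MulAction.toPermHom G (Sylow 2 G)).ker = ⊥ := by
    refine (IsSimpleGroup.eq_bot_or_eq_top_of_normal _ inferInstance).resolve_right fun e => ?_
    obtain ⟨T⟩ : Nonempty (Sylow 2 G) := inferInstance
    haveI : (T : Subgroup G).Normal := normal_of_le_normalizer_top fun g _ => by
      have : g ∈ (MulAction.toPermHom G (Sylow 2 G)).ker := e ▸ mem_top g
      exact Sylow.smul_eq_iff_mem_normalizer.mp (congrFun (congrArg DFunLike.coe this) T)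
    exact not_isSolvable_of_simple h.hna (isSolvable_of_normal_sylow_two T)
  have h2 : e⁻¹ * ψ e ∈ (MulAction.toPermHom G (Sylow 2 G)).ker := by
    rw [MonoidHom.mem_ker]
    ext T : 1
    refine Sylow.smul_eq_iff_mem_normalizer.mpr (mem_normalizer_of_conj_mem fun x hx => ?_)
    obtain ⟨y, rfl⟩ := ψ.surjective x
    have h3 : e * y * e⁻¹ ∈ ((e • T : Sylow 2 G) : Subgroup G) := by
      rw [sylow_coe_smul_eq_map]; exact conj_mem_map_conj ((hψ T y).mp hx)
    rw [← hψ, sylow_coe_smul_eq_map, mem_map_conj_iff] at h3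
    simpa [mul_assoc] using h3
  rw [h1, mem_bot, inv_mul_eq_one] at h2
  exact h2.symm

theorem inner_of_fix [IsSimpleGroup G] [Fact p.Prime] (P : Sylow p G)
    (h2 : 2 ∣ ee (P : Subgroup G)) (hn : Nat.card (Sylow 2 G) ≤ Nat.card (P : Subgroup G))
    (φ : MulAut G) (hφ : ∀ x ∈ (P : Subgroup G), φ x = x) : ∃ b : G, ∀ x, b * φ x * b⁻¹ = x := by
  obtain ⟨u, huN, hu⟩ := exists_orderOf_prime_mem (normalizer ((P : Subgroup G) : Set G))
    Nat.prime_two (h2.trans (index_dvd_card _))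
  have huu : u * u = 1 := by rw [← pow_two, ← hu, pow_orderOf_eq_one]
  have hui : u⁻¹ = u := inv_eq_of_mul_eq_one_right huu
  have comm := BSW.isMulCommutative_iff'.mp (h.comm P)
  have huP : u ∉ (P : Subgroup G) := fun e => ne_one_of_orderOf_prime Nat.prime_two hu
    (eq_one_of_mem_pgroups h.p2 P.isPGroup' (isPGroup_zpowers_iff.mpr ⟨1, by simpa using hu⟩) e
      (mem_zpowers u))
  have inv : ∀ a ∈ (P : Subgroup G), u * a * u⁻¹ = a⁻¹ := by
    intro a ha
    rw [← mul_eq_one_iff_eq_inv]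
    by_contra hc
    have h1 := conj_mem_of_mem_normalizer huN ha
    apply huP
    rw [← h.cent_sylow P (mul_mem h1 ha) hc, mem_cent]
    calc u * (u * a * u⁻¹ * a) = (u * u) * (a * (u⁻¹ * a * u)) * u⁻¹ := by group
      _ = a * (u * a * u⁻¹) * u := by rw [huu, one_mul, hui]
      _ = _ := by rw [← comm _ h1 a ha]
  have hc : φ u * u⁻¹ ∈ (P : Subgroup G) := by
    rw [← h.cent_sylow' h.dp P]
    intro a ha
    have h1 := congrArg φ (inv a⁻¹ (inv_mem ha))
    rw [map_mul, map_mul, map_inv, map_inv, inv_inv, hφ a ha] at h1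
    have h3 := inv a ha
    calc a * (φ u * u⁻¹) = φ u * a⁻¹ * (φ u)⁻¹ * (φ u * u⁻¹) := by rw [h1]
      _ = φ u * (u * a * u⁻¹) * u⁻¹ := by rw [h3]; group
      _ = φ u * u * a * (u * u)⁻¹ := by group
      _ = _ := by rw [huu, hui]; group
  obtain ⟨j, hj⟩ := orderOf_eq_pow_of_mem_isPGroup P.isPGroup' hc
  obtain ⟨k, hk⟩ : Odd (orderOf (φ u * u⁻¹)) := hj ▸ (h.hp.odd_of_ne_two h.p2).pow
  set c := φ u * u⁻¹ with hcdef
  have hb := pow_mem hc k
  have hψu : (MulAut.conj (c ^ k) * φ) u = u := by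
    have h1 := inv _ (inv_mem hb)
    have h3 := pow_orderOf_eq_one c
    rw [hk] at h3
    calc c ^ k * φ u * (c ^ k)⁻¹ = c ^ k * c * (u * (c ^ k)⁻¹ * u⁻¹) * u := by rw [hcdef]; group
      _ = c ^ (2 * k + 1) * u := by rw [h1]; group
      _ = u := by rw [h3, one_mul]
  have hψP : ∀ a ∈ (P : Subgroup G), (MulAut.conj (c ^ k) * φ) a = a := fun a ha => by
    show c ^ k * φ a * (c ^ k)⁻¹ = a
    rw [hφ a ha, comm _ hb a ha, mul_inv_cancel_right]
  refine ⟨c ^ k, h.eq_id_of_fix (MulAut.conj (c ^ k) * φ) fun T x => ?_⟩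
  have ex : ∀ a : (P : Subgroup G), ∃ T : Sylow 2 G, u * a ∈ T := fun a => by
    have h1 : (u * a) ^ 2 ^ 1 = 1 := by
      have := inv a a.2
      rw [hui] at this
      rw [pow_one, pow_two, ← mul_assoc, this, inv_mul_cancel]
    obtain ⟨i, -, hi⟩ := (Nat.dvd_prime_pow Nat.prime_two).mp (orderOf_dvd_of_pow_eq_one h1)
    exact exists_sylow_mem_of_orderOf hi
  choose f hf using ex
  have finj : Function.Injective f := fun a b e => by
    have h1 : (u * a)⁻¹ * (u * b) ∈ (f b : Subgroup G) := mul_mem (inv_mem (e ▸ hf a)) (hf b)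
    rw [show (u * a)⁻¹ * (u * b) = (a : G)⁻¹ * b by group] at h1
    exact Subtype.ext (inv_mul_eq_one.mp (eq_one_of_mem_pgroups h.p2 P.isPGroup' (f b).isPGroup'
      (mul_mem (inv_mem a.2) b.2) h1))
  obtain ⟨a, rfl⟩ := (finj.bijective_of_nat_card_le hn).2 T
  have hne : u * a ≠ 1 := fun e => huP (by
    rw [eq_inv_of_mul_eq_one_left e]; exact inv_mem a.2)
  rw [← h.cent_sylow (f a) (hf a) hne, mem_cent, mem_cent]
  have h1 : (MulAut.conj (c ^ k) * φ) (u * a) = u * a := by rw [map_mul, hψu, hψP a a.2]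
  conv_lhs => rw [← h1, ← map_mul, ← map_mul]
  exact (MulAut.conj (c ^ k) * φ).injective.eq_iff

theorem inner [IsSimpleGroup G] [Fact p.Prime] (h2 : ∀ P : Sylow p G, 2 ∣ ee (P : Subgroup G) ∧
      Nat.card (Sylow 2 G) ≤ Nat.card (P : Subgroup G)) (φ : MulAut G)
    (hφ : ∀ e, ∃ r : ℕ, r.Prime ∧ r ∣ Nat.card G ∧ e ∈ Bs r φ) :
    ∃ b : G, ∀ x, b * φ x * b⁻¹ = x := by
  haveI := Fact.mk h.hq
  by_contra hc
  have hsub : (Set.univ : Set G) ⊆ Bs 2 φ ∪ Bs q φ := by
    intro e _
    obtain ⟨r, hr, hd, he⟩ := hφ e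
    rcases h.primes r hr hd with rfl | rfl | rfl
    · exact Or.inl he
    · obtain ⟨P, hP⟩ := he
      obtain ⟨b, hb⟩ := h.inner_of_fix P (h2 P).1 (h2 P).2 (MulAut.conj e * φ) hP
      exact absurd ⟨b * e, fun x => by simpa [mul_assoc] using hb x⟩ hc
    · exact Or.inr he
  obtain ⟨T⟩ : Nonempty (Sylow 2 G) := inferInstance
  obtain ⟨Q⟩ : Nonempty (Sylow q G) := inferInstance
  have h1 := (Set.ncard_le_ncard hsub (Set.toFinite _)).trans (Set.ncard_union_le _ _)
  have h3 := (Nat.mul_le_mul_right _ (h.three_le_ee T)).trans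
    (ee_mul_Bs_le T φ (h.cent_sylow' h.d2))
  have h4 := (Nat.mul_le_mul_right _ (two_le_ee h.hna h.dq Q)).trans
    (ee_mul_Bs_le Q φ (h.cent_sylow' h.dq))
  have h5 : 0 < Nat.card G := Nat.card_pos
  rw [Set.ncard_univ] at h1
  omega

theorem card_eq_sylow [IsSimpleGroup G] (T : Sylow 2 G) : Nat.card G =
    Nat.card (Sylow 2 G) * (Nat.card (T : Subgroup G) * ee (T : Subgroup G)) := by
  rw [card_eq_ee (T : Subgroup G), h.cent_sylow' h.d2, card_sylow_eq_idx T]

theorem inner60 [IsSimpleGroup G] (hc : Nat.card G = 60) (hp : p = 5) (φ : MulAut G)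
    (hφ : ∀ e, ∃ r : ℕ, r.Prime ∧ r ∣ Nat.card G ∧ e ∈ Bs r φ) :
    ∃ b : G, ∀ x, b * φ x * b⁻¹ = x := by
  subst hp
  haveI := Fact.mk h.hp
  obtain ⟨T⟩ : Nonempty (Sylow 2 G) := inferInstance
  refine h.inner (fun P => ?_) φ hφ
  have h1 := card_sylow_eq_pow P (n := 1) (m := 12) hc (by norm_num)
  have h2 := card_sylow_eq_pow T (n := 2) (m := 15) hc (by norm_num)
  have h3 := h.ee_dvd h.dp P
  have h4 := two_le_ee h.hna h.dp P
  have h5 := h.card_eq_sylow T
  have h6 := h.three_le_ee T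
  rw [h1] at h3 ⊢
  rw [h2, hc] at h5
  refine ⟨?_, by nlinarith⟩
  have := Nat.le_of_dvd (by norm_num) h3
  generalize ee (P : Subgroup G) = e at *
  norm_num at this h3
  interval_cases e <;> simp_all

theorem inner504 [IsSimpleGroup G] (hc : Nat.card G = 504) (hp : p = 3) (φ : MulAut G)
    (hφ : ∀ e, ∃ r : ℕ, r.Prime ∧ r ∣ Nat.card G ∧ e ∈ Bs r φ) :
    ∃ b : G, ∀ x, b * φ x * b⁻¹ = x := by
  subst hp
  haveI := Fact.mk h.hp
  obtain ⟨T⟩ : Nonempty (Sylow 2 G) := inferInstance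
  refine h.inner (fun P => ?_) φ hφ
  have h1 := card_sylow_eq_pow P (n := 2) (m := 56) hc (by norm_num)
  have h2 := card_sylow_eq_pow T (n := 3) (m := 63) hc (by norm_num)
  have h3 := h.ee_dvd h.dp P
  have h4 := two_le_ee h.hna h.dp P
  have h5 := h.card_eq_sylow T
  have h6 := h.three_le_ee T
  have h7 := h.ee_dvd h.d2 T
  rw [h1] at h3 ⊢
  rw [h2, hc] at h5
  rw [h2] at h7
  have h8 : ee (T : Subgroup G) = 7 :=
    ((Nat.dvd_prime (by norm_num)).mp h7).resolve_left (by omega)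
  rw [h8] at h5
  refine ⟨?_, by omega⟩
  have := Nat.le_of_dvd (by norm_num) h3
  generalize ee (P : Subgroup G) = e at *
  norm_num at this h3
  interval_cases e <;> simp_all

theorem inner' [IsSimpleGroup G] (φ : MulAut G)
    (hφ : ∀ e, ∃ r : ℕ, r.Prime ∧ r ∣ Nat.card G ∧ e ∈ Bs r φ) :
    ∃ b : G, ∀ x, b * φ x * b⁻¹ = x := by
  rcases h.classify with ⟨hc, -⟩ | ⟨hc, -⟩
  · rcases h.primes 5 (by norm_num) (by rw [hc]; norm_num) with e | e | e
    · omega
    · exact h.inner60 hc e.symm φ hφ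
    · exact h.symm.inner60 hc e.symm φ hφ
  · rcases h.primes 3 (by norm_num) (by rw [hc]; norm_num) with e | e | e
    · omega
    · exact h.inner504 hc e.symm φ hφ
    · exact h.symm.inner504 hc e.symm φ hφ

end Tri

/-- Class sizes have at most two prime divisors. -/
def Hy (G : Type*) [Group G] : Prop := ∀ x : G, (cidx x).primeFactors.card ≤ 2

theorem Hy.sub (h : Hy G) (N : Subgroup G) [N.Normal] : Hy N := fun x =>
  (Finset.card_le_card (Nat.primeFactors_mono (index_centralizer_normal_dvd N x)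
    (cidx_ne_zero _))).trans (h x)

theorem Hy.quo (h : Hy G) (N : Subgroup G) [N.Normal] : Hy (G ⧸ N) := fun x => by
  obtain ⟨x, rfl⟩ := QuotientGroup.mk_surjective x
  exact (Finset.card_le_card (Nat.primeFactors_mono (index_centralizer_mk_dvd N x)
    (cidx_ne_zero _))).trans (h x)

theorem Hy.false_of (h : Hy G) {y : G} {a s : ℕ} (ha : a ∣ cidx y) (hs : s.Prime)
    (hsy : s ∣ cidx y) (hsa : ¬ s ∣ a) (h2 : 2 ≤ a.primeFactors.card) : False := by
  have h1 : insert s a.primeFactors ⊆ (cidx y).primeFactors :=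
    Finset.insert_subset (Nat.mem_primeFactors.mpr ⟨hs, hsy, cidx_ne_zero y⟩)
      (Nat.primeFactors_mono ha (cidx_ne_zero y))
  have h3 := Finset.card_le_card h1
  rw [Finset.card_insert_of_notMem fun e => hsa (Nat.dvd_of_mem_primeFactors e)] at h3
  have := h y
  omega

theorem exists_avoid [Nontrivial G] {s : ℕ} (hs : s.Prime) : ∃ x : G, x ≠ 1 ∧ ¬ s ∣ cidx x := by
  by_cases hd : s ∣ Nat.card G
  · obtain ⟨z, hz, hn⟩ := exists_order_not_dvd_cidx hs hd
    exact ⟨z, ne_one_of_orderOf_prime hs hz, hn⟩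
  · obtain ⟨x, hx⟩ := exists_ne (1 : G)
    exact ⟨x, hx, fun e => hd (e.trans (index_dvd_card _))⟩

theorem Hy.of_normal_simple (h : Hy G) (E : Subgroup G) [E.Normal] [IsSimpleGroup E]
    (hna : ¬ IsMulCommutative E) : center G ⊓ E = ⊥ ∧ center G ⊔ E = ⊤ := by
  obtain ⟨p, q, hT⟩ := exists_tri hna (h.sub E)
  have hdis : ∀ x ∈ E, x ∈ centralizer (E : Set G) → x = 1 := fun x hx hc => by
    have : (⟨x, hx⟩ : E) ∈ center E := mem_center_iff.mpr fun g => Subtype.ext (hc g g.2)
    rw [center_eq_bot' hna, mem_bot] at this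
    exact congrArg Subtype.val this
  have dec : ∀ g : G, ∃ b ∈ E, b * g ∈ centralizer (E : Set G) := fun g => by
    obtain ⟨b, hb⟩ := hT.inner' (MulAut.conjNormal g) fun e => by
      obtain ⟨r, hr, hr'⟩ := Finset.exists_mem_notMem_of_card_lt_card
        (s := (cidx ((e : G) * g)).primeFactors) (t := (Nat.card E).primeFactors) (by
          have := h ((e : G) * g)
          have := three_le_card_primeFactors hna
          omega)
      have hr1 := Nat.prime_of_mem_primeFactors hr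
      haveI := Fact.mk hr1
      refine ⟨r, hr1, Nat.dvd_of_mem_primeFactors hr, ?_⟩
      obtain ⟨R, hR⟩ := exists_sylow_le_of_not_dvd (p := r)
        (H := (centralizer {(e : G) * g}).subgroupOf E) fun e1 => hr' (Nat.mem_primeFactors.mpr
          ⟨hr1, e1.trans (relIndex_normal_dvd_index _ E), cidx_ne_zero _⟩)
      refine ⟨R, fun x hx => Subtype.ext ?_⟩
      have := mem_cent.mp (show (x : G) ∈ centralizer {(e : G) * g} from hR hx)
      simp only [coe_mul, MulAut.conjNormal_apply, coe_inv]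
      calc (e : G) * (g * x * g⁻¹) * (e : G)⁻¹ = (e * g * x) * ((e : G) * g)⁻¹ := by group
        _ = x := by rw [← this]; group
    refine ⟨b, b.2, fun x hx => ?_⟩
    have := congrArg Subtype.val (hb ⟨x, hx⟩)
    simp only [coe_mul, MulAut.conjNormal_apply, coe_inv] at this
    calc x * ((b : G) * g) = (b * (g * x * g⁻¹) * (b : G)⁻¹) * (b * g) := by rw [this]
      _ = _ := by group
  have hcen : centralizer (E : Set G) ≤ center G := fun c hc => by
    by_contra hcz
    obtain ⟨s, hs, hsd⟩ := Nat.exists_prime_and_dvd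
      (fun e => hcz (index_centralizer_eq_one_iff.mp e) : cidx c ≠ 1)
    obtain ⟨x, hx, hsx⟩ := exists_avoid (G := E) hs
    have key : ∀ g ∈ centralizer ({(x : G) * c} : Set G), g * c = c * g := fun g hg => by
      obtain ⟨b, hb, hd⟩ := dec g
      have h1 := mem_cent.mp hg
      have h2 : g * c * g⁻¹ ∈ centralizer (E : Set G) :=
        (inferInstance : (centralizer (E : Set G)).Normal).conj_mem c hc g
      have h3 : (x : G)⁻¹ * (g * x * g⁻¹) = c * (g * c * g⁻¹)⁻¹ := by
        calc (x : G)⁻¹ * (g * x * g⁻¹) = (x : G)⁻¹ * (g * (x * c)) * c⁻¹ * g⁻¹ := by group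
          _ = _ := by rw [h1]; group
      have h4 := hdis _ (mul_mem (inv_mem x.2) (‹E.Normal›.conj_mem _ x.2 g))
        (h3 ▸ mul_mem hc (inv_mem h2))
      rw [h3, mul_inv_eq_one] at h4
      exact mul_inv_eq_iff_eq_mul.mp h4.symm
    refine h.false_of (y := (x : G) * c) ((index_centralizer_normal_dvd E x).trans
      (index_dvd_of_le fun g hg => mem_cent.mpr ?_)) hs
      (hsd.trans (index_dvd_of_le fun g hg => mem_cent.mpr (key g hg))) hsx
      (two_le_card_primeFactors hna hx)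
    apply mul_right_cancel (b := c)
    rw [mul_assoc, mem_cent.mp hg, mul_assoc, mul_assoc, key g hg]
  refine ⟨eq_bot_iff.mpr fun x hx => hdis x hx.2 fun y _ => mem_center_iff.mp hx.1 y,
    eq_top_iff.mpr fun g _ => ?_⟩
  obtain ⟨b, hb, hd⟩ := dec g
  rw [show g = b⁻¹ * (b * g) by group]
  exact mul_mem (mem_sup_right (inv_mem hb)) (mem_sup_left (hcen hd))

omit [Finite G] in
theorem commutator_eq_of {S : Subgroup G} [S.Normal] [IsSimpleGroup S]
    (hna : ¬ IsMulCommutative S) (h : center G ⊔ S = ⊤) : commutator G = S := by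
  refine le_antisymm (commutator_le.mpr fun a _ b _ => ?_) ?_
  · obtain ⟨z, hz, s, hs, rfl⟩ := mem_sup_of_normal_right.mp (h ▸ mem_top a : a ∈ center G ⊔ S)
    have : ⁅z * s, b⁆ = s * (b * s⁻¹ * b⁻¹) := by
      rw [commutatorElement_def, ← mem_center_iff.mp hz s]
      calc s * z * b * (s * z)⁻¹ * b⁻¹ = s * (z * b) * z⁻¹ * s⁻¹ * b⁻¹ := by group
        _ = _ := by rw [← mem_center_iff.mp hz b]; group
    rw [this]
    exact mul_mem hs (‹S.Normal›.conj_mem _ (inv_mem hs) b)
  · rw [← subgroupOf_eq_top]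
    refine (IsSimpleGroup.eq_bot_or_eq_top_of_normal _ inferInstance).resolve_left fun e => hna ?_
    refine ⟨⟨fun a b => commutatorElement_eq_one_iff_mul_comm.mp ?_⟩⟩
    rw [← mem_bot, ← e]
    exact commutator_mem_commutator (mem_top (a : G)) (mem_top (b : G))

theorem Hy.false_of_quotient (h : Hy G) (hperf : commutator G = ⊤) {V : Subgroup G} [V.Normal]
    (hV : IsMinNormal V) (hs : Group.IsSolvable V) [IsSimpleGroup (G ⧸ V)]
    (hna : ¬ IsMulCommutative (G ⧸ V)) : False := by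
  obtain ⟨p, q, hT⟩ := exists_tri hna (h.quo V)
  obtain ⟨l, hl, hVl⟩ := hV.exists_isPGroup hs
  haveI := Fact.mk hl
  have hVc := BSW.isMulCommutative_iff'.mp (hV.isMulCommutative_of_isSolvable hs)
  have fin : ∀ x : G, (x : G ⧸ V) ≠ 1 → ¬ l ∣ cidx (x : G ⧸ V) → ¬ l ∣ cidx x :=
    fun x hx h1 h2 => h.false_of (index_centralizer_mk_dvd V x) hl h2 h1
      (two_le_card_primeFactors hna hx)
  rcases IsSimpleGroup.eq_bot_or_eq_top_of_normal
    ((centralizer (V : Set G)).map (QuotientGroup.mk' V))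
    (Normal.map inferInstance _ (QuotientGroup.mk'_surjective V)) with e | e
  · obtain ⟨x, hx, hlx⟩ := exists_avoid (G := G ⧸ V) hl
    obtain ⟨x, rfl⟩ := QuotientGroup.mk_surjective x
    obtain ⟨L, hL⟩ := exists_sylow_le_of_not_dvd (fin x hx hlx)
    apply hx
    rw [← mem_bot, ← e]
    exact ⟨x, fun v hv => mem_cent.mp (hL (hVl.le_sylow_of_normal L hv)), rfl⟩
  · have hcen : ∀ v ∈ V, ∀ g : G, g * v = v * g := fun v hv g => by
      obtain ⟨c, hc, e1⟩ : (g : G ⧸ V) ∈ (centralizer (V : Set G)).map (QuotientGroup.mk' V) :=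
        e ▸ mem_top _
      have h1 : c⁻¹ * g ∈ V := QuotientGroup.eq.mp e1
      calc g * v = c * (c⁻¹ * g * v) := by group
        _ = (c * v) * (c⁻¹ * g) := by rw [hVc _ h1 v hv]; group
        _ = _ := by rw [← hc v hv]; group
    obtain ⟨L⟩ : Nonempty (Sylow l G) := inferInstance
    have hVL := hVl.le_sylow_of_normal L
    by_cases hL : IsMulCommutative (L : Subgroup G)
    · exact hV.2.1 (eq_bot_iff.mpr fun v hv => eq_one_of_mem_commutator_of_abelian_sylow L hL
        (hVL hv) (fun n _ => hcen v hv n) (hperf ▸ mem_top v))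
    rw [BSW.isMulCommutative_iff'] at hL
    push Not at hL
    obtain ⟨a, ha, t, ht, hat⟩ := hL
    have ht1 : (t : G ⧸ V) ≠ 1 := fun e1 => hat (hcen t ((QuotientGroup.eq_one_iff t).mp e1) a)
    set L' := L.mapSurjective (QuotientGroup.mk'_surjective V)
    have htL : (t : G ⧸ V) ∈ (L' : Subgroup (G ⧸ V)) := ⟨t, ht, rfl⟩
    have h1 := hT.cent_sylow L' htL ht1
    have h2 : centralizer ({t} : Set G) ≤ L := fun g hg => by
      obtain ⟨y, hy, e1⟩ : (g : G ⧸ V) ∈ (L' : Subgroup (G ⧸ V)) :=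
        h1 ▸ map_centralizer_singleton_le (QuotientGroup.mk' V) t ⟨g, hg, rfl⟩
      have h3 := mul_mem hy (hVL (QuotientGroup.eq.mp e1))
      simpa using h3
    exact fin t ht1 (not_dvd_cidx_of_sylow_le L' h1.ge)
      ((prime_dvd_relIndex L.isPGroup' fun e1 => hat (mem_cent.mp (e1 ha))).trans
        (relIndex_dvd_index_of_le h2))

theorem Hy.main (G : Type u) [Group G] [Finite G] : Hy G → ¬ Group.IsSolvable G →
    ∃ S : Subgroup G, S.Normal ∧ IsSimpleGroup S ∧ ¬ IsMulCommutative S ∧ center G ⊓ S = ⊥ ∧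
      center G ⊔ S = ⊤ := by
  refine card_induction (P := fun X _ _ => Hy X → ¬ Group.IsSolvable X →
    ∃ S : Subgroup X, S.Normal ∧ IsSimpleGroup S ∧ ¬ IsMulCommutative S ∧ center X ⊓ S = ⊥ ∧
      center X ⊔ S = ⊤) (fun X _ _ ih h hns => ?_) G
  by_cases hN : ∃ N : Subgroup X, N.Normal ∧ N ≠ ⊤ ∧ ¬ Group.IsSolvable N
  · obtain ⟨N, hN, hN1, hN2⟩ := hN
    obtain ⟨S, hS, hS1, hS2, -, hS3⟩ := ih N (card_lt_of_ne_top hN1) (h.sub N) hN2
    have e := S.equivMapOfInjective N.subtype N.subtype_injective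
    haveI : (S.map N.subtype).Normal := by
      rw [← commutator_eq_of hS2 hS3]; infer_instance
    haveI : IsSimpleGroup (S.map N.subtype) := e.symm.isSimpleGroup
    have hna : ¬ IsMulCommutative (S.map N.subtype) := fun hc => hS2
      ⟨⟨fun a b => e.injective (by rw [map_mul, map_mul, hc.is_comm.comm])⟩⟩
    exact ⟨S.map N.subtype, inferInstance, inferInstance, hna, h.of_normal_simple _ hna⟩
  push Not at hN
  haveI : Nontrivial X := by
    by_contra hc
    rw [not_nontrivial_iff_subsingleton] at hc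
    exact hns inferInstance
  obtain ⟨V, hV⟩ := exists_isMinNormal (G := X)
  haveI := hV.1
  by_cases hVt : V = ⊤
  · haveI : IsSimpleGroup X := ⟨fun K hK => by
      haveI := hK
      rcases hV.inf_eq_bot_or_le K with e | e
      · left; simpa [hVt] using e
      · right; simpa [hVt] using e⟩
    haveI : IsSimpleGroup (⊤ : Subgroup X) := topEquiv.isSimpleGroup
    have hna : ¬ IsMulCommutative (⊤ : Subgroup X) := fun hc =>
      hns (isSolvable_top_iff.mp isSolvable_of_isMulCommutative)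
    exact ⟨⊤, inferInstance, inferInstance, hna, h.of_normal_simple _ hna⟩
  exfalso
  have hVs := hN V hV.1 hVt
  obtain ⟨S, hS, hS1, hS2, -, -⟩ := ih (X ⧸ V) (card_quotient_lt hV.2.1) (h.quo V)
    fun e => hns (isSolvable_of_normal_of_quotient V hVs e)
  have hSt : S = ⊤ := by
    have h1 : S.comap (QuotientGroup.mk' V) = ⊤ := by
      by_contra hc
      have := isSolvable_map (hN _ inferInstance hc) (QuotientGroup.mk' V)
      rw [map_comap_eq_self_of_surjective (QuotientGroup.mk'_surjective V)] at this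
      exact not_isSolvable_of_simple hS2 this
    rw [← map_comap_eq_self_of_surjective (QuotientGroup.mk'_surjective V) S, h1,
      map_top_of_surjective _ (QuotientGroup.mk'_surjective V)]
  subst hSt
  haveI : IsSimpleGroup (X ⧸ V) := topEquiv.symm.isSimpleGroup
  refine h.false_of_quotient ?_ hV hVs fun hc => hS2 inferInstance
  by_contra hc
  exact hns (isSolvable_of_normal_of_quotient _ (hN _ inferInstance hc)
    (inferInstanceAs (Group.IsSolvable (Abelianization X))))

end CfsgLib.SigX
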