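import Cfsg.Agent.Lib.H9Dual2

/-! # Doubly transitive linear groups over `F₂`, I: basic transitivity properties -/

set_option autoImplicit false
set_option linter.unusedSectionVars false

namespace CfsgLib.H9.CK

open MulAction

variable {G V V' : Type*} [Group G] [Finite G] [AddCommGroup V] [AddCommGroup V'] [Finite V]
  [Finite V'] [Ch2 V] [Ch2 V'] [DistribMulAction G V] [DistribMulAction G V']
  {B : V →+ V' →+ ZMod 2} {B' : V' →+ V →+ ZMod 2}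

theorem exists_not_mem {X Y : AddSubgroup V} (h : Nat.card X < Nat.card Y) : ∃ v ∈ Y, v ∉ X :=
  SetLike.not_le_iff_exists.1 fun h1 => absurd (AddSubgroup.card_le_of_le h1) (not_le.2 h)

theorem ncard_aff {Y : AddSubgroup V} {f : V →+ ZMod 2} {y₀ : V} (h1 : y₀ ∈ Y) (h2 : f y₀ = 1) :
    {y | y ∈ Y ∧ f y = 1}.ncard = Nat.card (Y ⊓ f.ker : AddSubgroup V) := by
  rw [← Set.ncard_image_of_injective _ (add_left_injective y₀), ← Nat.card_coe_set_eq]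
  congr 2
  ext v
  exact ⟨fun ⟨y, hy, h⟩ => h ▸ ⟨add_mem hy.1 h1, by simp [hy.2, h2]⟩, fun hv =>
    ⟨v + y₀, ⟨add_mem hv.1 h1, by simp [show f v = 0 from hv.2, h2]⟩, by simp⟩⟩

theorem card_eq_two_mul {Y : AddSubgroup V} {f : V →+ ZMod 2} {y₀ : V} (h1 : y₀ ∈ Y)
    (h2 : f y₀ = 1) : Nat.card Y = 2 * Nat.card (Y ⊓ f.ker : AddSubgroup V) := by
  have h3 : (Y : Set V) = {y | y ∈ Y ∧ f y = 1} ∪ (Y ⊓ f.ker : AddSubgroup V) := by
    ext v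
    exact ⟨fun hv => (z2_cases (f v)).elim (fun h => Or.inr ⟨hv, h⟩) fun h => Or.inl ⟨hv, h⟩,
      fun hv => hv.elim (·.1) (·.1)⟩
  rw [← SetLike.coe_sort_coe, Nat.card_coe_set_eq, h3, Set.ncard_union_eq (Set.disjoint_left.2
    fun v h h' => zero_ne_one ((show f v = 0 from h'.2).symm.trans h.2)), ncard_aff h1 h2, two_mul,
    ← Nat.card_coe_set_eq]
  rfl

theorem exists_ncard_aff {Y : AddSubgroup V} {f : V →+ ZMod 2} {y₀ : V} (h1 : y₀ ∈ Y)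
    (h2 : f y₀ = 1) : ∃ k, {y | y ∈ Y ∧ f y = 1}.ncard = 2 ^ k := by
  rw [ncard_aff h1 h2]; exact exists_card_pow

theorem card_eq_of_smul {X Y : AddSubgroup V} (g : G) (h : ∀ v, g • v ∈ Y ↔ v ∈ X) :
    Nat.card X = Nat.card Y :=
  Nat.card_congr ((MulAction.toPerm g).subtypeEquiv fun v => (h v).symm)

theorem smul_ne_zero2 (g : G) {a : V} (h : a ≠ 0) : g • a ≠ 0 :=
  fun h0 => h ((smul_eq_zero_iff_eq g).1 h0)

theorem smul_ne2 (g : G) {a b : V} (h : a ≠ b) : g • a ≠ g • b := by simpa using h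

variable (G V) in
/-- double transitivity on the nonzero vectors -/
def T2 : Prop := ∀ a b c d : V, a ≠ 0 → b ≠ 0 → b ≠ a → c ≠ 0 → d ≠ 0 → d ≠ c →
  ∃ g : G, g • a = c ∧ g • b = d

theorem T2.tr1 (h : T2 G V) (hc : 4 ≤ Nat.card V) {a c : V} (ha : a ≠ 0) (hc0 : c ≠ 0) :
    ∃ g : G, g • a = c := by
  obtain ⟨b, -, hb⟩ := exists_not_mem (X := pt a) (Y := ⊤)
    (by rw [card_pt ha, AddSubgroup.card_top]; omega)
  obtain ⟨d, -, hd⟩ := exists_not_mem (X := pt c) (Y := ⊤)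
    (by rw [card_pt hc0, AddSubgroup.card_top]; omega)
  simp only [mem_pt, not_or] at hb hd
  exact (h a b c d ha hb.1 hb.2 hc0 hd.1 hd.2).imp fun g hg => hg.1

variable (G B B') in
/-- an invariant perfect pairing -/
structure Pre : Prop extends Perf B B' where
  inv : ∀ (g : G) v φ, B (g • v) (g • φ) = B v φ

namespace Pre
variable (h : Pre G B B')
include h

theorem flip : Pre G B' B :=
  ⟨h.toPerf.flip, fun g φ v => by rw [h.compat, h.compat, h.inv]⟩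

theorem inv' (g : G) (v : V) (φ : V') : B v (g • φ) = B (g⁻¹ • v) φ := by
  rw [← h.inv g (g⁻¹ • v), smul_inv_smul]

theorem exists_both {X : AddSubgroup V'} {φ ψ : V'} (h1 : φ ∉ X) (h2 : ψ ∉ X) :
    ∃ u, (∀ χ ∈ X, B u χ = 0) ∧ B u φ = 1 ∧ B u ψ = 1 := by
  obtain ⟨u, h3, h4, h5⟩ := h.toPerf.flip.sep_sup h1 h2
  exact ⟨u, fun χ hχ => (h.compat u χ).symm.trans (h3 χ hχ), (h.compat u φ).symm.trans h4,
    (h.compat u ψ).symm.trans h5⟩

theorem flagTr (t : T2 G V) {a : V} (ha : a ≠ 0) {φ ψ : V'} (h1 : φ ≠ 0) (h2 : ψ ≠ 0)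
    (h3 : B a φ = B a ψ) : ∃ g : G, g • a = a ∧ g • φ = ψ := by
  obtain ⟨u, -, h4, h5⟩ := h.exists_both (X := ⊥) h1 h2
  refine h.fourier h.inv (stabilizer G a) h4 h5 fun v hv => ?_
  have h6 : ∀ w, B w (φ + ψ) = 1 → w ≠ 0 ∧ w ≠ a := fun w hw =>
    ⟨by rintro rfl; simp at hw, by rintro rfl; simp [h3] at hw⟩
  have h7 := h6 (v + u) (by rw [map_add B, AddMonoidHom.add_apply, hv]; simp [h4, h5])
  exact t a v a (v + u) ha (h6 v hv).1 (h6 v hv).2 ha h7.1 h7.2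

theorem trHyp (t : T2 G V) (hc : 4 ≤ Nat.card V) {φ : V'} (h1 : φ ≠ 0) {y z : V} (hy : y ≠ 0)
    (hz : z ≠ 0) (h3 : B y φ = B z φ) : ∃ g : G, g • φ = φ ∧ g • y = z := by
  obtain ⟨g, rfl⟩ := t.tr1 hc hy hz
  obtain ⟨k, h4, h5⟩ := h.flagTr t hz (smul_ne_zero2 g h1) h1 (by rw [h.inv, h3])
  exact ⟨k * g, by rw [mul_smul, h5], by rw [mul_smul, h4]⟩

theorem t2_dual (t : T2 G V) (hc : 4 ≤ Nat.card V) : T2 G V' := by
  intro φ ψ φ' ψ' h1 h2 h3 h4 h5 h6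
  obtain ⟨u, -, h7, h8⟩ := h.exists_both (X := ⊥) h1 h4
  obtain ⟨g, -, rfl⟩ := h.flagTr t (a := u) (by rintro rfl; simp at h7) h1 h4 (h7.trans h8.symm)
  obtain ⟨w, h9, h10, h11⟩ := h.exists_both (X := pt (g • φ)) (φ := g • ψ) (ψ := ψ')
    (by simp [mem_pt, smul_ne_zero2 g h2, h3]) (by simp [mem_pt, h5, h6])
  obtain ⟨k, hk, h12⟩ := h.fourier h.inv (stabilizer G (g • φ)) h10 h11 fun v hv =>
    h.trHyp t hc h4 (by rintro rfl; simp at hv) (fun h0 => by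
      rw [add_eq_zero2.1 h0] at hv; simp [h10, h11] at hv) (by simp [h9 _ (Or.inr rfl)])
  exact ⟨k * g, by rw [mul_smul, hk], by rw [mul_smul, h12]⟩

end Pre

variable (G B B') in
/-- the basic hypotheses -/
structure Base : Prop extends Pre G B B' where
  t2 : T2 G V
  t2' : T2 G V'
  big : 8 ≤ Nat.card V

/-- independent triples -/
def Ind3 (a b c : V) : Prop := a ≠ 0 ∧ b ≠ 0 ∧ b ≠ a ∧ c ∉ ln a b

namespace Base
variable (h : Base G B B')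
include h

theorem flip : Base G B' B := ⟨h.toPre.flip, h.t2', h.t2, h.card_eq ▸ h.big⟩

theorem four : 4 ≤ Nat.card V := le_trans (by norm_num) h.big

theorem card_hyp {φ : V'} (h1 : φ ≠ 0) : 2 * Nat.card (perp B' (pt φ)) = Nat.card V := by
  rw [← h.toPerf.flip.card_mul_card_perp (pt φ), card_pt h1]

theorem mem_hyp {φ : V'} {v : V} : v ∈ perp B' (pt φ) ↔ B v φ = 0 := by
  rw [mem_perp_pt, h.compat]

theorem sylow_trA {φ : V'} (h1 : φ ≠ 0) {S : Subgroup G} (hS : S ≤ stabilizer G φ)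
    (hS' : (S.relIndex (stabilizer G φ)).Coprime 2) {y z : V} (hy : B y φ = 1) (hz : B z φ = 1) :
    ∃ s ∈ S, s • y = z := by
  obtain ⟨k, hk⟩ := exists_ncard_aff (Y := ⊤) (f := B' φ) trivial ((h.compat y φ).trans hy)
  have key : ∀ g ∈ stabilizer G φ, ∀ x ∈ {y | y ∈ (⊤ : AddSubgroup V) ∧ B' φ y = 1},
      g • x ∈ {y | y ∈ (⊤ : AddSubgroup V) ∧ B' φ y = 1} := fun g hg x hx =>
    ⟨trivial, by rw [← hx.2, h.compat, h.compat, ← h.inv g x, hg]⟩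
  refine tr_sylow hS hS' hk (fun s hs => key s (hS hs)) (fun x hx w hw => ?_) y
    ⟨trivial, (h.compat y φ).trans hy⟩ z ⟨trivial, (h.compat z φ).trans hz⟩
  obtain ⟨g, hg, h2⟩ := h.trHyp h.t2 h.four h1 (y := x) (z := w) (by rintro rfl; simp at hx)
    (by rintro rfl; simp at hw) (by rw [← h.compat, ← h.compat, hx.2, hw.2])
  exact ⟨g, hg, h2, key g hg⟩

theorem exists_fix {φ : V'} (h1 : φ ≠ 0) {S : Subgroup G} (hS : S ≤ stabilizer G φ)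
    (hS2 : IsPGroup 2 S) : ∃ a b : V, a ≠ 0 ∧ b ≠ 0 ∧ b ≠ a ∧ B a φ = 0 ∧ B b φ = 0 ∧
      (∀ s ∈ S, s • a = a) ∧ ∀ s ∈ S, s • b = b ∨ s • b = b + a := by
  have h2 := h.card_hyp h1
  have h3 := h.big
  have hW : ∀ s ∈ S, ∀ x ∈ perp B' (pt φ), s • x ∈ perp B' (pt φ) := fun s hs x hx => by
    rw [h.mem_hyp] at hx ⊢
    rw [← hx, ← h.inv s x, hS hs]
  obtain ⟨a, ha, ha0, hfa⟩ := exists_fix_mod hS2 (Y := ⊥) hW (by simp) fun h4 => by
    have := AddSubgroup.card_le_of_le h4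
    rw [AddSubgroup.card_bot] at this; omega
  simp only [AddSubgroup.mem_bot, add_eq_zero2] at ha0 hfa
  obtain ⟨b, hb, hb0, hfb⟩ := exists_fix_mod hS2 (Y := pt a) hW (by
    rintro s hs _ (rfl | rfl)
    · simp [mem_pt]
    · exact Or.inr (hfa s hs)) fun h4 => by
    have := AddSubgroup.card_le_of_le h4
    rw [card_pt ha0] at this; omega
  simp only [mem_pt, not_or] at hb0
  exact ⟨a, b, ha0, hb0.1, hb0.2, h.mem_hyp.1 ha, h.mem_hyp.1 hb, hfa, fun s hs =>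
    (hfb s hs).imp add_eq_zero2.1 fun h5 => by rw [← h5, add_add_self_left']⟩

theorem trPair {a : V} (ha : a ≠ 0) {φ : V'} (h1 : φ ≠ 0) (h2 : B a φ = 0) {y z : V}
    (hy : B y φ = 1) (hz : B z φ = 1) : ∃ g : G, g • a = a ∧ g • φ = φ ∧ g • y = z := by
  obtain ⟨S, hS, hS2, hS'⟩ := exists_sylow (stabilizer G φ)
  obtain ⟨c, -, hc, -, -, h3, -, h4, -⟩ := h.exists_fix h1 hS hS2
  obtain ⟨g, hg, rfl⟩ := h.trHyp h.t2 h.four h1 hc ha (h3.trans h2.symm)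
  obtain ⟨s, hs, h5⟩ := h.sylow_trA h1 hS hS' (y := g⁻¹ • y) (z := g⁻¹ • z)
    (by rw [← h.inv', hg, hy]) (by rw [← h.inv', hg, hz])
  refine ⟨g * s * g⁻¹, by simp [mul_smul, h4 s hs], ?_, by simp [mul_smul, h5]⟩
  rw [mul_smul, mul_smul, inv_smul_eq_iff.2 hg.symm, hS hs, hg]

theorem trFlag {a c : V} (ha : a ≠ 0) (hc : c ≠ 0) {φ ψ : V'} (h1 : φ ≠ 0) (h2 : ψ ≠ 0)
    (h3 : B a φ = B c ψ) : ∃ g : G, g • a = c ∧ g • φ = ψ := by
  obtain ⟨g, rfl⟩ := h.t2.tr1 h.four ha hc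
  obtain ⟨k, h4, h5⟩ := h.flagTr h.t2 hc (smul_ne_zero2 g h1) h2 (by rw [h.inv, h3])
  exact ⟨k * g, by rw [mul_smul, h4], by rw [mul_smul, h5]⟩

theorem trFiber {a b : V} (ha : a ≠ 0) {φ ψ : V'} (h1 : B a φ = 0) (h2 : B a ψ = 0)
    (h3 : B b φ = 1) (h4 : B b ψ = 1) : ∃ g : G, g • a = a ∧ g • b = b ∧ g • φ = ψ := by
  have h5 : ψ ≠ 0 := by rintro rfl; simp at h4
  obtain ⟨g, h6, rfl⟩ := h.flagTr h.t2 ha (φ := φ) (by rintro rfl; simp at h3) h5 (h1.trans h2.symm)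
  obtain ⟨k, h7, h8, h9⟩ := h.trPair ha h5 h2 (y := g • b) (by rw [h.inv, h3]) h4
  exact ⟨k * g, by rw [mul_smul, h6, h7], by rw [mul_smul, h9], by rw [mul_smul, h8]⟩

theorem tfull {a b c : V} (hi : Ind3 a b c) : ∃ g : G, g • a = a ∧ g • b = b ∧ g • c = c + a := by
  obtain ⟨φ, h1, h2⟩ := h.sep hi.2.2.2
  rw [mem_perp_ln] at h1
  obtain ⟨g, hg, h3⟩ := h.toPerf.flip.fourier h.toPre.flip.inv (stabilizer G a ⊓ stabilizer G b)
    (φ₁ := c) (φ₂ := c + a) (u := φ) (by rw [h.compat, h2]) (by simp [h.compat, h1, h2])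
    fun ψ hψ => by
      rw [add_add_self_left, h.compat] at hψ
      rcases z2_cases (B b ψ) with h4 | h4
      · obtain ⟨g, h5, h6, h7⟩ := h.trFiber hi.2.1 (b := a) (φ := ψ) (ψ := ψ + φ) h4
          (by simp [h4, h1]) hψ (by simp [hψ, h1])
        exact ⟨g, ⟨h6, h5⟩, h7⟩
      · obtain ⟨g, h5, h6, h7⟩ := h.trFiber (a := a + b) (fun h0 => hi.2.2.1 (add_eq_zero2.1 h0).symm)
          (b := a) (φ := ψ) (ψ := ψ + φ) (by simp [h4, hψ]) (by simp [h4, h1, hψ]) hψ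
          (by simp [hψ, h1])
        exact ⟨g, ⟨h6, by rwa [smul_add, h6, add_right_inj] at h5⟩, h7⟩
  exact ⟨g, hg.1, hg.2, h3⟩

end Base

variable (G B B') in
/-- the distinguished orbit on triples (point, point, hyperplane) -/
structure Half (I : V → V → V' → Prop) : Prop extends Base G B B' where
  basic : ∀ {a b φ}, I a b φ → a ≠ 0 ∧ b ≠ 0 ∧ b ≠ a ∧ φ ≠ 0 ∧ B a φ = 0 ∧ B b φ = 0
  smul : ∀ {a b φ} (g : G), I a b φ → I (g • a) (g • b) (g • φ)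
  tr : ∀ {a b φ a' b' φ'}, I a b φ → I a' b' φ' → ∃ g : G, g • a = a' ∧ g • b = b' ∧ g • φ = φ'
  ex : ∃ a b φ, I a b φ
  trA : ∀ {a b φ y z}, I a b φ → B y φ = 1 → B z φ = 1 →
    ∃ g : G, g • a = a ∧ g • b = b ∧ g • y = z
  trB : ∀ {a b φ ψ χ}, I a b φ → B a ψ = 0 → B b ψ = 1 → B a χ = 0 → B b χ = 1 →
    ∃ g : G, g • a = a ∧ g • φ = φ ∧ g • ψ = χ

theorem Base.exists_half (h : Base G B B') : ∃ I, Half G B B' I := by
  obtain ⟨φ, -, hφ⟩ := exists_not_mem (X := ⊥) (Y := (⊤ : AddSubgroup V'))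
    (by rw [AddSubgroup.card_bot, AddSubgroup.card_top]; have := h.flip.big; omega)
  rw [AddSubgroup.mem_bot] at hφ
  obtain ⟨S, hS, hS2, hS'⟩ := exists_sylow (stabilizer G φ)
  obtain ⟨a, b, ha, hb, hba, h1, h2, h3, h4⟩ := h.exists_fix hφ hS hS2
  have hA : ∀ y z, B y φ = 1 → B z φ = 1 → ∃ g : G, g • a = a ∧ g • b = b ∧ g • y = z := by
    intro y z hy hz
    obtain ⟨s, hs, h5⟩ := h.sylow_trA hφ hS hS' hy hz
    rcases h4 s hs with h6 | h6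
    · exact ⟨s, h3 s hs, h6, h5⟩
    · obtain ⟨g, h7, h8, h9⟩ := h.tfull (a := a) (b := y) (c := b) ⟨ha, by rintro rfl; simp at hy,
        by rintro rfl; simp [h1] at hy, by
          rintro (h7 | h7 | h7 | h7)
          exacts [hb h7, hba h7, by simp [← h7, h2] at hy, by simp [h7, h1, hy] at h2]⟩
      exact ⟨s * g, by rw [mul_smul, h7, h3 s hs], by simp [mul_smul, h9, h6, h3 s hs],
        by rw [mul_smul, h8, h5]⟩
  have hB : ∀ ψ χ, B a ψ = 0 → B b ψ = 1 → B a χ = 0 → B b χ = 1 →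
      ∃ g : G, g • a = a ∧ g • φ = φ ∧ g • ψ = χ := by
    intro ψ χ h5 h6 h7 h8
    obtain ⟨k, hk⟩ := exists_ncard_aff (Y := perp B (pt a)) (f := B b) (mem_perp_pt.2 h5) h6
    have h9 : (S.relIndex ⊤).Coprime 2 := by
      rw [← Subgroup.relIndex_mul_relIndex S _ ⊤ hS le_top, Subgroup.relIndex_top_right,
        index_stabilizer]
      refine hS'.mul_left ?_
      have h10 : orbit G φ = {0}ᶜ := Set.ext fun ψ => ⟨fun ⟨g, hg⟩ => hg ▸ smul_ne_zero2 g hφ,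
        fun hψ => h.t2'.tr1 h.flip.four hφ hψ⟩
      obtain ⟨n, hn⟩ := exists_card_pow (V := V')
      have h11 := h.flip.big
      rw [h10, Set.ncard_compl, Set.ncard_singleton, hn, Nat.coprime_two_right]
      exact Nat.Even.sub_odd (Nat.one_le_two_pow) (Nat.even_pow.2 ⟨even_two, by
        rintro rfl; omega⟩) odd_one
    have key : ∀ g : G, g • a = a → (g • b = b ∨ g • b = b + a) →
        ∀ x ∈ {y | y ∈ perp B (pt a) ∧ B b y = 1}, g • x ∈ {y | y ∈ perp B (pt a) ∧ B b y = 1} :=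
      fun g h10 h11 x hx => by
        have h12 : B a (g • x) = 0 := by rw [← h10, h.inv, mem_perp_pt.1 hx.1]
        refine ⟨mem_perp_pt.2 h12, ?_⟩
        rw [← hx.2, ← h.inv g b x]
        rcases h11 with h11 | h11 <;> simp [h11, h12]
    obtain ⟨s, hs, h10⟩ := tr_sylow le_top h9 hk (fun s hs => key s (h3 s hs) (h4 s hs))
      (fun x hx y hy => by
        obtain ⟨g, h10, h11, h12⟩ := h.trFiber ha (mem_perp_pt.1 hx.1) (mem_perp_pt.1 hy.1) hx.2 hy.2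
        exact ⟨g, trivial, h12, key g h10 (Or.inl h11)⟩) ψ ⟨mem_perp_pt.2 h5, h6⟩ χ
      ⟨mem_perp_pt.2 h7, h8⟩
    exact ⟨s, h3 s hs, hS hs, h10⟩
  refine ⟨fun a' b' φ' => ∃ g : G, g • a = a' ∧ g • b = b' ∧ g • φ = φ', h, ?_, ?_, ?_,
    ⟨a, b, φ, 1, one_smul _ _, one_smul _ _, one_smul _ _⟩, ?_, ?_⟩
  · rintro _ _ _ ⟨g, rfl, rfl, rfl⟩
    exact ⟨smul_ne_zero2 g ha, smul_ne_zero2 g hb, smul_ne2 g hba, smul_ne_zero2 g hφ,
      by rw [h.inv, h1], by rw [h.inv, h2]⟩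
  · rintro _ _ _ k ⟨g, rfl, rfl, rfl⟩
    exact ⟨k * g, mul_smul _ _ _, mul_smul _ _ _, mul_smul _ _ _⟩
  · rintro _ _ _ _ _ _ ⟨g, rfl, rfl, rfl⟩ ⟨k, rfl, rfl, rfl⟩
    exact ⟨k * g⁻¹, by simp [mul_smul], by simp [mul_smul], by simp [mul_smul]⟩
  · rintro _ _ _ y z ⟨g, rfl, rfl, rfl⟩ hy hz
    obtain ⟨k, h5, h6, h7⟩ := hA (g⁻¹ • y) (g⁻¹ • z) (by rw [← h.inv', hy]) (by rw [← h.inv', hz])
    exact ⟨g * k * g⁻¹, by simp [mul_smul, h5], by simp [mul_smul, h6], by simp [mul_smul, h7]⟩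
  · rintro _ _ _ ψ χ ⟨g, rfl, rfl, rfl⟩ h5 h6 h7 h8
    obtain ⟨k, h9, h10, h11⟩ := hB (g⁻¹ • ψ) (g⁻¹ • χ) (by rw [h.inv', inv_inv, h5])
      (by rw [h.inv', inv_inv, h6]) (by rw [h.inv', inv_inv, h7]) (by rw [h.inv', inv_inv, h8])
    exact ⟨g * k * g⁻¹, by simp [mul_smul, h9], by simp [mul_smul, h10], by simp [mul_smul, h11]⟩

end CfsgLib.H9.CK
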