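import Cfsg.Agent.Lib.H9CK1

/-! # Doubly transitive linear groups over `F₂`, II: the subspaces attached to lines and flags -/

set_option autoImplicit false
set_option linter.unusedSectionVars false

namespace CfsgLib.H9.CK

open MulAction Finset

variable {G V V' : Type*} [Group G] [Finite G] [AddCommGroup V] [AddCommGroup V'] [Finite V]
  [Finite V'] [Ch2 V] [Ch2 V'] [DistribMulAction G V] [DistribMulAction G V']
  {B : V →+ V' →+ ZMod 2} {B' : V' →+ V →+ ZMod 2} {I : V → V → V' → Prop}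

variable (B I) in
/-- the complement of the big orbit of a two point stabilizer -/
def DD (a b : V) : AddSubgroup V := mkSub {y | ∀ φ, I a b φ → B y φ = 0} (fun _ _ => by simp)
  fun x hx y hy φ h => by simp [hx φ h, hy φ h]

variable (B I) in
/-- the complement of the big orbit of a flag stabilizer on the hyperplanes through the point -/
def Es (a : V) (φ : V') : AddSubgroup V' := mkSub {ψ | B a ψ = 0 ∧ ∀ b, I a b φ → B b ψ = 0}
  ⟨by simp, fun _ _ => by simp⟩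
  fun x hx y hy => ⟨by simp [hx.1, hy.1], fun b h => by simp [hx.2 b h, hy.2 b h]⟩

variable (B I) in
/-- the annihilator of `DD` -/
abbrev NN (a b : V) : AddSubgroup V' := perp B (DD B I a b)

variable (B B' I) in
/-- the annihilator of `Es` -/
abbrev ZZ (a : V) (φ : V') : AddSubgroup V := perp B' (Es B I a φ)

theorem mem_DD {a b y : V} : y ∈ DD B I a b ↔ ∀ φ, I a b φ → B y φ = 0 := Iff.rfl

theorem mem_Es {a : V} {φ ψ : V'} : ψ ∈ Es B I a φ ↔ B a ψ = 0 ∧ ∀ b, I a b φ → B b ψ = 0 :=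
  Iff.rfl

theorem not_mem_DD {a b y : V} (h : y ∉ DD B I a b) : ∃ φ, I a b φ ∧ B y φ = 1 := by
  by_contra hc
  push Not at hc
  exact h fun φ hφ => z2_ne_one.1 (hc φ hφ)

theorem not_mem_Es {a : V} {φ ψ : V'} (h : ψ ∉ Es B I a φ) (h1 : B a ψ = 0) :
    ∃ b, I a b φ ∧ B b ψ = 1 := by
  by_contra hc
  push Not at hc
  exact h ⟨h1, fun b hb => z2_ne_one.1 (hc b hb)⟩

theorem not_mem_pt {a v : V} : v ∉ pt a ↔ v ≠ 0 ∧ v ≠ a := by rw [mem_pt, not_or]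

theorem Pre.smul_mem_perp (h : Pre G B B') {X Y : AddSubgroup V} (g : G)
    (hXY : ∀ v, g • v ∈ Y ↔ v ∈ X) (φ : V') : g • φ ∈ perp B Y ↔ φ ∈ perp B X :=
  ⟨fun h1 v hv => by rw [← h.inv g, h1 _ ((hXY v).2 hv)], fun h1 v hv => by
    rw [h.inv', h1 _ ((hXY _).1 (by rwa [smul_inv_smul]))]⟩

namespace Half
variable (h : Half G B B' I)
include h

theorem smul_iff {a b : V} {φ : V'} (g : G) : I (g • a) (g • b) (g • φ) ↔ I a b φ :=
  ⟨fun h1 => by simpa using h.smul g⁻¹ h1, h.smul g⟩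

theorem ex1 {a b : V} (ha : a ≠ 0) (hb : b ≠ 0) (hba : b ≠ a) : ∃ φ, I a b φ := by
  obtain ⟨a', b', φ, h1⟩ := h.ex
  obtain ⟨g, rfl, rfl⟩ := h.t2 a' b' a b (h.basic h1).1 (h.basic h1).2.1 (h.basic h1).2.2.1 ha hb hba
  exact ⟨_, h.smul g h1⟩

theorem ex2 {a : V} {φ : V'} (ha : a ≠ 0) (hφ : φ ≠ 0) (h2 : B a φ = 0) : ∃ b, I a b φ := by
  obtain ⟨a', b', φ', h1⟩ := h.ex
  obtain ⟨g, rfl, rfl⟩ := h.trFlag (h.basic h1).1 ha (h.basic h1).2.2.2.1 hφ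
    ((h.basic h1).2.2.2.2.1.trans h2.symm)
  exact ⟨_, h.smul g h1⟩

theorem smul_D (g : G) (a b y : V) : g • y ∈ DD B I (g • a) (g • b) ↔ y ∈ DD B I a b :=
  ⟨fun h1 φ hφ => by rw [← h.inv g, h1 _ (h.smul g hφ)], fun h1 φ hφ => by
    rw [← smul_inv_smul g φ, h.inv, h1 _ ((h.smul_iff g).1 (by rwa [smul_inv_smul]))]⟩

theorem smul_Es (g : G) (a : V) (φ ψ : V') :
    g • ψ ∈ Es B I (g • a) (g • φ) ↔ ψ ∈ Es B I a φ :=
  ⟨fun h1 => ⟨by rw [← h.inv g, h1.1], fun b hb => by rw [← h.inv g, h1.2 _ (h.smul g hb)]⟩,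
    fun h1 => ⟨by rw [h.inv, h1.1], fun b hb => by
      rw [← smul_inv_smul g b, h.inv, h1.2 _ ((h.smul_iff g).1 (by rwa [smul_inv_smul]))]⟩⟩

theorem smul_N (g : G) (a b : V) (φ : V') : g • φ ∈ NN B I (g • a) (g • b) ↔ φ ∈ NN B I a b :=
  h.smul_mem_perp g (h.smul_D g a b) φ

theorem smul_Z (g : G) (a : V) (φ : V') (b : V) :
    g • b ∈ ZZ B B' I (g • a) (g • φ) ↔ b ∈ ZZ B B' I a φ :=
  h.toPre.flip.smul_mem_perp g (h.smul_Es g a φ) b

theorem trD {a b y z : V} (hy : y ∉ DD B I a b) (hz : z ∉ DD B I a b) :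
    ∃ g : G, g • a = a ∧ g • b = b ∧ g • y = z := by
  obtain ⟨φ, h1, h2⟩ := not_mem_DD hy
  obtain ⟨ψ, h3, h4⟩ := not_mem_DD hz
  obtain ⟨w, -, h5, h6⟩ := h.exists_both (X := ⊥) (h.basic h1).2.2.2.1 (h.basic h3).2.2.2.1
  obtain ⟨g, h7, h8, rfl⟩ := h.trA h1 h2 h5
  obtain ⟨k, h9, h10, rfl⟩ := h.trA h3 h6 h4
  exact ⟨k * g, by rw [mul_smul, h7, h9], by rw [mul_smul, h8, h10], mul_smul _ _ _⟩

theorem trEs {a : V} {φ ψ χ : V'} (h1 : B a ψ = 0) (h2 : B a χ = 0) (h3 : ψ ∉ Es B I a φ)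
    (h4 : χ ∉ Es B I a φ) : ∃ g : G, g • a = a ∧ g • φ = φ ∧ g • ψ = χ := by
  obtain ⟨b, h5, h6⟩ := not_mem_Es h3 h1
  obtain ⟨c, h7, h8⟩ := not_mem_Es h4 h2
  obtain ⟨w, h9, h10, h11⟩ := h.flip.exists_both (X := pt a) (φ := b) (ψ := c)
    (not_mem_pt.2 ⟨(h.basic h5).2.1, (h.basic h5).2.2.1⟩)
    (not_mem_pt.2 ⟨(h.basic h7).2.1, (h.basic h7).2.2.1⟩)
  have h12 := h9 a (Or.inr rfl)
  rw [h.compat] at h10 h11 h12
  obtain ⟨g, h13, h14, rfl⟩ := h.trB h5 h1 h6 h12 h10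
  obtain ⟨k, h15, h16, rfl⟩ := h.trB h7 h12 h11 h2 h8
  exact ⟨k * g, by rw [mul_smul, h13, h15], by rw [mul_smul, h14, h16], mul_smul _ _ _⟩

theorem mem_N_of {a b : V} {φ : V'} (h1 : I a b φ) : φ ∈ NN B I a b := fun _ hv => hv φ h1

theorem mem_N {a b : V} (ha : a ≠ 0) (hb : b ≠ 0) (hba : b ≠ a) {φ : V'} (h0 : φ ≠ 0)
    (hφ : φ ∈ NN B I a b) : I a b φ := by
  obtain ⟨ψ, h1⟩ := h.ex1 ha hb hba
  obtain ⟨u, -, h2, h3⟩ := h.exists_both (X := ⊥) (h.basic h1).2.2.2.1 h0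
  have h4 := add_mem (h.mem_N_of h1) hφ
  obtain ⟨g, hg, rfl⟩ := h.fourier h.inv (stabilizer G a ⊓ stabilizer G b) h2 h3 fun v hv => by
    obtain ⟨g, h5, h6, h7⟩ := h.trD (a := a) (b := b) (y := v) (z := v + u)
      (fun h5 => by simp [h4 v h5] at hv) fun h5 => by
        have := h4 _ h5
        rw [map_add B, AddMonoidHom.add_apply, hv] at this
        simp [h2, h3] at this
    exact ⟨g, ⟨h5, h6⟩, h7⟩
  have := h.smul g h1
  rwa [show g • a = a from hg.1, show g • b = b from hg.2] at this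

theorem mem_Z_of {a b : V} {φ : V'} (h1 : I a b φ) : b ∈ ZZ B B' I a φ :=
  fun ψ hψ => (h.compat b ψ).trans (hψ.2 b h1)

theorem self_mem_Z (a : V) (φ : V') : a ∈ ZZ B B' I a φ :=
  fun ψ hψ => (h.compat a ψ).trans hψ.1

theorem self_mem_Es {a : V} {φ : V'} (h2 : B a φ = 0) : φ ∈ Es B I a φ :=
  ⟨h2, fun _ hb => (h.basic hb).2.2.2.2.2⟩

theorem Z_le {a b : V} {φ : V'} (h2 : B a φ = 0) (hb : b ∈ ZZ B B' I a φ) : B b φ = 0 :=
  (h.compat b φ).symm.trans (hb φ (h.self_mem_Es h2))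

theorem mem_Z {a b : V} {φ : V'} (ha : a ≠ 0) (hφ : φ ≠ 0) (h2 : B a φ = 0) (hb0 : b ≠ 0)
    (hba : b ≠ a) (hb : b ∈ ZZ B B' I a φ) : I a b φ := by
  obtain ⟨c, h1⟩ := h.ex2 ha hφ h2
  obtain ⟨ψ, h3, h4, h5⟩ := h.flip.exists_both (X := pt a) (φ := c) (ψ := b)
    (not_mem_pt.2 ⟨(h.basic h1).2.1, (h.basic h1).2.2.1⟩) (not_mem_pt.2 ⟨hb0, hba⟩)
  have h6 := h3 a (Or.inr rfl)
  have h7 := add_mem (h.mem_Z_of h1) hb
  obtain ⟨g, hg, rfl⟩ := h.toPerf.flip.fourier h.toPre.flip.inv (stabilizer G a ⊓ stabilizer G φ)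
    h4 h5 fun χ hχ => by
      rcases z2_cases (B' χ a) with h8 | h8
      · obtain ⟨g, h9, h10, h11⟩ := h.trEs (a := a) (φ := φ) (ψ := χ) (χ := χ + ψ)
          (by rw [← h.compat, h8]) (by rw [← h.compat]; simp [h8, h6])
          (fun h9 => by simp [h7 χ h9] at hχ) fun h9 => by
            have := h7 _ h9
            rw [map_add B', AddMonoidHom.add_apply, hχ] at this
            simp [h4, h5] at this
        exact ⟨g, ⟨h9, h10⟩, h11⟩
      · obtain ⟨g, h9, h10, h11⟩ := h.flip.trPair hφ ha (by rw [h.compat, h2]) (y := χ)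
          (z := χ + ψ) h8 (by simp [h8, h6])
        exact ⟨g, ⟨h10, h9⟩, h11⟩
  have := h.smul g h1
  rwa [show g • a = a from hg.1, show g • φ = φ from hg.2] at this

theorem ln_le_D (a b : V) : ln a b ≤ DD B I a b :=
  ln_le (fun _ h1 => (h.basic h1).2.2.2.2.1) fun _ h1 => (h.basic h1).2.2.2.2.2

theorem D_t12 {a b c : V} (hi : Ind3 a b c) (hc : c ∈ DD B I a b) : c ∈ DD B I a (a + b) := by
  obtain ⟨ha, hb, hba, h1⟩ := hi
  simp only [mem_ln, not_or] at h1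
  obtain ⟨g, h2, h3, h4⟩ := h.tfull (a := a) (b := c) (c := b) ⟨ha, h1.1, h1.2.1, by
    simp only [mem_ln, not_or]
    exact ⟨hb, hba, Ne.symm h1.2.2.1, fun h5 => h1.2.2.2 (by rw [h5]; simp)⟩⟩
  have := (h.smul_D g a b c).2 hc
  rwa [h2, h3, h4, add_comm] at this

theorem D_t21 {a b c : V} (hi : Ind3 a b c) (hc : c ∈ DD B I a b) : c ∈ DD B I (a + b) b := by
  obtain ⟨ha, hb, hba, h1⟩ := hi
  simp only [mem_ln, not_or] at h1
  obtain ⟨g, h2, h3, h4⟩ := h.tfull (a := b) (b := c) (c := a) ⟨hb, h1.1, h1.2.2.1, by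
    simp only [mem_ln, not_or]
    exact ⟨ha, hba.symm, Ne.symm h1.2.1, fun h5 => h1.2.2.2 (by rw [h5]; simp)⟩⟩
  have := (h.smul_D g a b c).2 hc
  rwa [h2, h3, h4] at this

theorem D_t32 {a b c : V} (hi : Ind3 a b c) (hc : c ∈ DD B I a b) : c ∈ DD B I a (b + c) := by
  obtain ⟨ha, hb, hba, h1⟩ := hi
  simp only [mem_ln, not_or] at h1
  obtain ⟨g, h2, h3, h4⟩ := h.tfull (a := c) (b := a) (c := b) ⟨h1.1, ha, Ne.symm h1.2.1, by
    simp only [mem_ln, not_or]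
    exact ⟨hb, Ne.symm h1.2.2.1, hba, fun h5 => h1.2.2.2 (by rw [h5]; simp)⟩⟩
  have := (h.smul_D g a b c).2 hc
  rwa [h2, h3, h4] at this

theorem D_add_le {a b : V} (ha : a ≠ 0) (hb : b ≠ 0) (hba : b ≠ a) :
    DD B I a b ≤ DD B I a (a + b) := fun c hc => by
  by_cases h1 : c ∈ ln a b
  · exact h.ln_le_D _ _ (by rcases h1 with rfl | rfl | rfl | rfl <;> simp [mem_ln])
  · exact h.D_t12 ⟨ha, hb, hba, h1⟩ hc

theorem D_add {a b : V} (ha : a ≠ 0) (hb : b ≠ 0) (hba : b ≠ a) :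
    DD B I a (a + b) = DD B I a b :=
  le_antisymm (by
    simpa using h.D_add_le ha (b := a + b) (by simp [add_eq_zero2, hba.symm]) (by simp [hb]))
    (h.D_add_le ha hb hba)

theorem D_add_le' {a b : V} (ha : a ≠ 0) (hb : b ≠ 0) (hba : b ≠ a) :
    DD B I a b ≤ DD B I (a + b) b := fun c hc => by
  by_cases h1 : c ∈ ln a b
  · exact h.ln_le_D _ _ (by rcases h1 with rfl | rfl | rfl | rfl <;> simp [mem_ln])
  · exact h.D_t21 ⟨ha, hb, hba, h1⟩ hc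

theorem D_comm_le {a b : V} (ha : a ≠ 0) (hb : b ≠ 0) (hba : b ≠ a) :
    DD B I a b ≤ DD B I b a := by
  have h1 : a + b ≠ 0 := by simp [add_eq_zero2, hba.symm]
  refine (h.D_add_le ha hb hba).trans ((h.D_add_le' ha h1 (by simp [hb])).trans ?_)
  rw [add_add_self_left]
  simpa using h.D_add_le hb h1 (by simp [ha])

theorem D_comm {a b : V} (ha : a ≠ 0) (hb : b ≠ 0) (hba : b ≠ a) : DD B I a b = DD B I b a :=
  le_antisymm (h.D_comm_le ha hb hba) (h.D_comm_le hb ha hba.symm)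

theorem D_sym {a b z : V} (ha : a ≠ 0) (hb : b ∉ pt a) (hz : z ∉ pt a) (h1 : z ∈ DD B I a b) :
    b ∈ DD B I a z := by
  rw [not_mem_pt] at hb hz
  by_cases h2 : z ∈ ln a b
  · rcases h2 with rfl | rfl | rfl | rfl
    exacts [(hz.1 rfl).elim, (hz.2 rfl).elim, h1, h.ln_le_D _ _ (by simp [mem_ln])]
  have h3 := h.D_t32 ⟨ha, hb.1, hb.2, h2⟩ h1
  simp only [mem_ln, not_or] at h2
  have h4 := h.D_t32 (a := a) (b := b + z) (c := b) ⟨ha, by simp [add_eq_zero2, Ne.symm h2.2.2.1],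
    fun h5 => h2.2.2.2 (by rw [← h5]; simp), by
      simp only [mem_ln, not_or]
      exact ⟨hb.1, hb.2, by simp [hz.1], fun h5 => hz.2 (by
        rw [add_left_comm, left_eq_add, add_eq_zero2] at h5; exact h5.symm)⟩⟩
    (by simpa using add_mem (h.ln_le_D a (b + z) (x := b + z) (by simp [mem_ln])) h3)
  simpa using h4

theorem I_comm {a b : V} {φ : V'} (h1 : I a b φ) : I b a φ := by
  obtain ⟨ha, hb, hba, hφ, -⟩ := h.basic h1
  exact h.mem_N hb ha hba.symm hφ (by rw [NN, ← h.D_comm ha hb hba]; exact h.mem_N_of h1)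

theorem I_add {a b : V} {φ : V'} (h1 : I a b φ) : I a (a + b) φ := by
  obtain ⟨ha, hb, hba, hφ, -⟩ := h.basic h1
  exact h.mem_N ha (by simp [add_eq_zero2, hba.symm]) (by simp [hb]) hφ
    (by rw [NN, h.D_add ha hb hba]; exact h.mem_N_of h1)

theorem perp_N (a b : V) : perp B' (NN B I a b) = DD B I a b := h.perp_perp _

theorem perp_Z (a : V) (φ : V') : perp B (ZZ B B' I a φ) = Es B I a φ :=
  h.toPerf.flip.perp_perp _

theorem exists_kappa : ∃ κ, 2 ≤ κ ∧ (∃ k, κ = 2 ^ k) ∧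
    (∀ a b : V, a ≠ 0 → b ≠ 0 → b ≠ a → Nat.card (NN B I a b) = κ) ∧
    ∀ a φ, a ≠ 0 → φ ≠ 0 → B a φ = 0 → Nat.card (ZZ B B' I a φ) = 2 * κ := by
  classical
  have := Fintype.ofFinite V
  have := Fintype.ofFinite V'
  obtain ⟨a, b, φ, h1⟩ := h.ex
  obtain ⟨ha, hb, hba, hφ, h2, h3⟩ := h.basic h1
  have hN : ∀ a' b' : V, a' ≠ 0 → b' ≠ 0 → b' ≠ a' →
      Nat.card (NN B I a' b') = Nat.card (NN B I a b) := fun a' b' ha' hb' hba' => by
    obtain ⟨g, rfl, rfl⟩ := h.t2 a' b' a b ha' hb' hba' ha hb hba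
    exact card_eq_of_smul g (h.smul_N g a' b')
  have hZ : ∀ a' φ', a' ≠ 0 → φ' ≠ 0 → B a' φ' = 0 →
      Nat.card (ZZ B B' I a' φ') = Nat.card (ZZ B B' I a φ) := fun a' φ' ha' hφ' h' => by
    obtain ⟨g, rfl, rfl⟩ := h.trFlag ha' ha hφ' hφ (h'.trans h2.symm)
    exact card_eq_of_smul g (h.smul_Z g a' φ')
  have h4 : 2 ≤ Nat.card (NN B I a b) := by
    rw [← card_pt hφ]
    exact AddSubgroup.card_le_of_le (by rintro _ (rfl | rfl); exacts [zero_mem _, h.mem_N_of h1])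
  have h5 : 2 ≤ Nat.card (ZZ B B' I a φ) := by
    rw [← card_pt ha]
    exact AddSubgroup.card_le_of_le (by rintro _ (rfl | rfl); exacts [zero_mem _, h.self_mem_Z _ _])
  refine ⟨_, h4, exists_card_pow, hN, fun a' φ' ha' hφ' h' => ?_⟩
  rw [hZ a' φ' ha' hφ' h']
  have key := card_mul_eq_card_mul (s := (univ.erase 0).erase a)
    (t := (univ.filter fun ψ => ψ ∈ perp B (pt a)).erase 0) (fun b ψ => I a b ψ)
    (m := Nat.card (NN B I a b) - 1) (n := Nat.card (ZZ B B' I a φ) - 2) (fun c hc => ?_)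
    fun ψ hψ => ?_
  · have h6 := h.flip.card_hyp ha
    have h7 := h.big
    rw [card_erase_of_mem (by simp [ha]), card_erase_of_mem (by simp),
      card_erase_of_mem (by simp [zero_mem]), card_univ, ← Fintype.card_subtype,
      ← Nat.card_eq_fintype_card, ← Nat.card_eq_fintype_card, ← h.card_eq, ← h6] at key
    rw [← h.card_eq, ← h6] at h7
    have h8 : 2 * Nat.card (perp B (pt a)) - 1 - 1 = (Nat.card (perp B (pt a)) - 1) * 2 := by omega
    rw [h8, mul_assoc] at key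
    have := Nat.eq_of_mul_eq_mul_left (by omega) key
    omega
  · simp only [mem_erase, mem_univ, and_true] at hc
    rw [← hN a c ha hc.2 hc.1, Nat.card_eq_fintype_card, Fintype.card_subtype,
      ← card_erase_of_mem (a := 0) (by simp [zero_mem])]
    congr 1
    ext ψ
    simp only [mem_bipartiteAbove, mem_erase, mem_filter, mem_univ, true_and, mem_perp_pt]
    exact ⟨fun h9 => ⟨h9.1.1, h.mem_N_of h9.2⟩, fun h9 => by
      have := h.mem_N ha hc.2 hc.1 h9.1 h9.2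
      exact ⟨⟨h9.1, (h.basic this).2.2.2.2.1⟩, this⟩⟩
  · simp only [mem_erase, mem_filter, mem_univ, true_and, mem_perp_pt] at hψ
    rw [← hZ a ψ ha hψ.1 hψ.2, Nat.card_eq_fintype_card, Fintype.card_subtype,
      show ∀ n : ℕ, n - 2 = n - 1 - 1 from fun _ => rfl,
      ← card_erase_of_mem (a := 0) (by simp [zero_mem]),
      ← card_erase_of_mem (a := a) (by simp [ha, h.self_mem_Z])]
    congr 1
    ext c
    simp only [mem_bipartiteBelow, mem_erase, mem_filter, mem_univ, true_and, and_true]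
    exact ⟨fun h9 => ⟨h9.1.1, h9.1.2, h.mem_Z_of h9.2⟩, fun h9 =>
      ⟨⟨h9.1, h9.2.1⟩, h.mem_Z ha hψ.1 hψ.2 h9.2.1 h9.1 h9.2.2⟩⟩

end Half

end CfsgLib.H9.CK
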