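import Cfsg.Agent.Lib.H9Dual2

/-! # Alternating trilinear forms over `F₂` have singular lines (via Chevalley–Warning) -/

set_option autoImplicit false

namespace CfsgLib.H9.CK

open Finset Matrix MvPolynomial

theorem adjugate_prop {n R : Type*} [Fintype n] [DecidableEq n] [CommRing R] {M : Matrix n n R}
    {x : n → R} (h : M *ᵥ x = 0) (i j k : n) :
    M.adjugate i k * x j = x i * M.adjugate j k := by
  set M' := M.updateRow k (Pi.single i 1)
  have h1 : M' *ᵥ x = Pi.single k (x i) := by
    ext l
    by_cases hl : l = k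
    · subst hl; simp [M', mulVec]
    · have := congrFun h l
      simp only [mulVec, Pi.zero_apply] at this
      simp [M', mulVec, updateRow_ne hl, hl, this]
  have h2 := congrFun (congrArg (M'.adjugate *ᵥ ·) h1) j
  simp only [mulVec_mulVec, adjugate_mul, smul_mulVec, one_mulVec, Pi.smul_apply, smul_eq_mul,
    mulVec_single, MulOpposite.smul_eq_mul_unop, MulOpposite.unop_op, col_apply] at h2
  rw [adjugate_apply, h2, adjugate_apply, adjugate_apply, mul_comm]
  simp [M']

theorem trilin_coord {n : Type*} [Fintype n] [DecidableEq n] (hn : 4 ≤ Fintype.card n)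
    (T : n → n → n → ZMod 2) (h12 : ∀ k i j, T k i j = T i k j) (h23 : ∀ k i j, T k i j = T k j i)
    (h0 : ∀ k j, T k k j = 0)
    (hns : ∀ v w : n → ZMod 2, (∀ j, ∑ i, (∑ k, v k * T k j i) * w i = 0) →
      v = 0 ∨ w = 0 ∨ w = v) : False := by
  classical
  set M : Matrix n n (MvPolynomial n (ZMod 2)) := of fun i j => ∑ k, X k * C (T k i j) with hM
  have hX : M *ᵥ X = 0 := by
    ext1 i
    simp only [mulVec, dotProduct, hM, of_apply, sum_mul, Pi.zero_apply]
    rw [← Fintype.sum_prod_type']
    refine sum_involution (fun p _ => p.swap) (fun p _ => ?_) (fun p _ hp h => hp ?_)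
      (fun _ _ => mem_univ _) fun _ _ => rfl
    · rw [Prod.fst_swap, Prod.snd_swap, h12 p.1, h23 i p.1, ← h12, mul_right_comm (X p.1),
        mul_comm (X p.1), mul_right_comm (X p.2), CharTwo.add_self_eq_zero]
    · rw [show p.2 = p.1 from congrArg Prod.fst h, h23, h0]; simp
  have hs : ∀ i j, M.adjugate i j = M.adjugate j i := fun i j => by
    rw [← transpose_apply M.adjugate, adjugate_transpose]
    congr 2
    ext1 i j
    simp only [hM, transpose_apply, of_apply, h23 _ i j]
  obtain ⟨a, b, hab⟩ := Fintype.exists_pair_of_one_lt_card (α := n) (by omega)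
  have hp := adjugate_prop hX
  obtain ⟨c, hc⟩ : X a ∣ M.adjugate a b := by
    refine (X_dvd_mul_iff.1 ⟨_, hp a b b⟩).resolve_right fun h => hab (X_dvd_X.1 h)
  have h1 : M.adjugate a a * X b = X a * (X a * c) := by rw [hp, hs b a, hc]
  obtain ⟨R, rfl⟩ : X b ∣ c := by
    refine (X_dvd_mul_iff.1 ((X_dvd_mul_iff.1 ⟨_, h1.symm.trans (mul_comm _ _)⟩).resolve_left
      fun h => hab (X_dvd_X.1 h).symm)).resolve_left fun h => hab (X_dvd_X.1 h).symm
  have h2 : M.adjugate a a = X a ^ 2 * R :=
    mul_right_cancel₀ (X_ne_zero b) (by rw [h1]; ring)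
  have h3 : ∀ i, M.adjugate i i = X i ^ 2 * R := fun i =>
    mul_right_cancel₀ (pow_ne_zero 2 (X_ne_zero a)) (by
      rw [sq, ← mul_assoc, hp, hs a i, mul_assoc, hp, h2]; ring)
  have h4 : (M.adjugate a a).IsHomogeneous (Fintype.card n - 1) := by
    rw [adjugate_apply, ← det_transpose, det_apply']
    refine IsHomogeneous.sum _ _ _ fun σ _ => ?_
    have h5 : ∑ i : n, (if i = a then 0 else 1) = Fintype.card n - 1 := by
      rw [← card_univ, ← card_erase_of_mem (mem_univ a), ← filter_ne', card_filter]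
      exact sum_congr rfl fun i _ => by by_cases h : i = a <;> simp [h]
    rw [← h5, ← zero_add (∑ i : n, _)]
    refine IsHomogeneous.mul ?_ (IsHomogeneous.prod _ _ _ fun i _ => ?_)
    · rw [← map_intCast (C : ZMod 2 →+* MvPolynomial n (ZMod 2))]; exact isHomogeneous_C _ _
    · by_cases h : i = a
      · subst h
        by_cases h' : σ i = i
        · simp [h', isHomogeneous_one]
        · simp [h', isHomogeneous_zero]
      · simp only [transpose_apply, updateRow_ne h, h, if_false, hM, of_apply]
        exact IsHomogeneous.sum _ _ _ fun k _ => (isHomogeneous_X _ k).mul (isHomogeneous_C _ _)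
  have h5 : ∀ v : n → ZMod 2, v ≠ 0 → eval v R ≠ 0 := fun v hv hR => by
    obtain ⟨i, hi⟩ := Function.ne_iff.1 hv
    have h6 := congrArg (eval v) (h3 i)
    rw [map_mul, hR, mul_zero, adjugate_apply, RingHom.map_det] at h6
    obtain ⟨w, hw, h7⟩ := exists_mulVec_eq_zero_iff.2 h6
    have h8 : w i = 0 := by
      simpa [mulVec, dotProduct, Pi.single_apply, apply_ite] using congrFun h7 i
    have h9 : ∀ j, j ≠ i → ∑ l, (∑ k, v k * T k j l) * w l = 0 := fun j hj => by
      simpa [mulVec, dotProduct, updateRow_ne hj, hM] using congrFun h7 j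
    have h10 : ∑ j, v j * ∑ l, (∑ k, v k * T k j l) * w l = 0 := by
      simp only [mul_sum, sum_mul]
      rw [sum_comm]
      refine sum_eq_zero fun l _ => ?_
      rw [← Fintype.sum_prod_type']
      refine sum_involution (fun p _ => p.swap) (fun p _ => ?_) (fun p _ hp h => hp ?_)
        (fun _ _ => mem_univ _) fun _ _ => rfl
      · rw [Prod.fst_swap, Prod.snd_swap, h12 p.1, ← CharTwo.add_self_eq_zero
          (v p.1 * (v p.2 * T p.2 p.1 l * w l))]
        ring
      · rw [show p.2 = p.1 from congrArg Prod.fst h, h0]; simp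
    rw [sum_eq_single i (fun j _ hj => by rw [h9 j hj, mul_zero]) (by simp),
      mul_eq_zero, or_iff_right (show v i ≠ 0 from hi)] at h10
    rcases hns v w (fun j => by
      by_cases hj : j = i
      exacts [hj ▸ h10, h9 j hj]) with h | h | h
    exacts [hv h, hw h, hi (h ▸ h8)]
  have h6 : eval 0 R = 0 := by
    have := h4.coeff_eq_zero (d := Finsupp.single a 2 + 0) (by simp; omega)
    rwa [h2, X_pow_eq_monomial, coeff_monomial_mul, one_mul, ← constantCoeff_eq, ← eval_zero] at this
  have h7 : R ≠ 0 := fun h => h5 (Pi.single a 1) (by simp) (by simp [h])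
  have h8 := char_dvd_card_solutions (K := ZMod 2) 2 (f := R) (lt_of_le_of_lt
    ((totalDegree_le_of_dvd_of_isDomain ⟨_, h2.trans (mul_comm _ _)⟩
      (h2 ▸ mul_ne_zero (pow_ne_zero 2 (X_ne_zero a)) h7)).trans h4.totalDegree_le) (by omega))
  have h9 : Fintype.card {x : n → ZMod 2 // eval x R = 0} = 1 :=
    Fintype.card_eq_one_iff.2 ⟨⟨0, h6⟩, fun x => Subtype.ext (by_contra fun h => h5 _ h x.2)⟩
  omega

theorem trilin {V : Type*} [AddCommGroup V] [Finite V] [Ch2 V] (hV : 16 ≤ Nat.card V)
    (f : V → V → V → ZMod 2) (h12 : ∀ a b c, f a b c = f b a c) (h23 : ∀ a b c, f a b c = f a c b)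
    (h0 : ∀ a c, f a a c = 0) (hadd : ∀ a b c d, f a b (c + d) = f a b c + f a b d)
    (hns : ∀ a b, (∀ c, f a b c = 0) → a = 0 ∨ b = 0 ∨ b = a) : False := by
  classical
  letI : Module (ZMod 2) V := AddCommGroup.zmodModule fun x => by rw [two_nsmul, add_self2]
  let e := Module.finBasis (ZMod 2) V
  have h1 : ∀ a b (w : _ → ZMod 2), f a b (e.equivFun.symm w) = ∑ i, f a b (e i) * w i := by
    intro a b w
    have := map_sum ((AddMonoidHom.mk' (f a b) (hadd a b)).toZModLinearMap 2)
      (fun i => w i • e i) univ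
    rw [e.equivFun_symm_apply]
    refine this.trans (sum_congr rfl fun i _ => ?_)
    rw [map_smul, smul_eq_mul, mul_comm]; rfl
  refine trilin_coord ?_ (fun k i j => f (e k) (e i) (e j)) (fun _ _ _ => h12 _ _ _)
    (fun _ _ _ => h23 _ _ _) (fun _ _ => h0 _ _) fun v w h => ?_
  · rw [Module.natCard_eq_pow_finrank (K := ZMod 2), Nat.card_zmod] at hV
    rw [Fintype.card_fin]
    exact (Nat.pow_le_pow_iff_right one_lt_two).1 hV
  · have h2 := hns (e.equivFun.symm v) (e.equivFun.symm w) fun c => by
      obtain ⟨u, rfl⟩ := e.equivFun.symm.surjective c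
      rw [h1]
      refine sum_eq_zero fun j _ => ?_
      rw [h23, h1, ← zero_mul (u j), ← h j]
      congr 1
      refine sum_congr rfl fun i _ => ?_
      rw [h12, h23, h1]
      congr 1
      exact sum_congr rfl fun k _ => by rw [mul_comm, h23, h12]
    simpa only [LinearEquiv.map_eq_zero_iff, EmbeddingLike.apply_eq_iff_eq] using h2

end CfsgLib.H9.CK
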