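import Cfsg.Agent.Lib.H9CK2
import Cfsg.Agent.Lib.H9Trilin

/-! # Doubly transitive linear groups over `F₂`, III: the counting argument -/

set_option autoImplicit false
set_option linter.unusedSectionVars false

namespace CfsgLib.H9.CK

open MulAction Finset

variable {G V V' : Type*} [Group G] [Finite G] [AddCommGroup V] [AddCommGroup V'] [Finite V]
  [Finite V'] [Ch2 V] [Ch2 V'] [DistribMulAction G V] [DistribMulAction G V']
  {B : V →+ V' →+ ZMod 2} {B' : V' →+ V →+ ZMod 2} {I : V → V → V' → Prop}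
  {J : V' → V' → V → Prop} {κ κ' : ℕ}

theorem card_filter_mem [Fintype V] (X : AddSubgroup V) [DecidablePred (· ∈ X)] :
    #{v | v ∈ X} = Nat.card X := by
  rw [Nat.card_eq_fintype_card, Fintype.card_subtype]

theorem card_filter_diff [Fintype V] {X Y : AddSubgroup V} [DecidablePred (· ∈ X)]
    [DecidablePred (· ∈ Y)] : #{v | v ∈ Y ∧ v ∉ X} = Nat.card Y - Nat.card (Y ⊓ X : AddSubgroup V) := by
  classical
  rw [← card_filter_mem, ← card_filter_mem, ← card_sdiff_of_subset (by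
    intro v; simp only [mem_filter, mem_univ, true_and]; exact fun h => h.1)]
  congr 1
  ext v
  simp only [mem_filter, mem_univ, true_and, mem_sdiff, AddSubgroup.mem_inf]
  tauto

theorem count_arith {κ κ' e d δ ι : ℕ} (h1 : 2 ≤ κ) (h2 : κ ≤ κ') (he : 0 < e) (hδ : δ ≤ e)
    (hd : d * κ = 2 * (κ' * e)) (hδd : δ ≤ d) (hι : 2 ≤ ι) (hι' : ∃ k, ι = 2 ^ k)
    (h : (2 * κ - 2) * (d - δ) = (κ' * e - e) * (ι - 2)) : ι = 4 ∧ δ = e ∧ (κ = 2 ∨ κ = κ') := by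
  obtain ⟨k, rfl⟩ := hι'
  have h3 : e ≤ κ' * e := Nat.le_mul_of_pos_left _ (by omega)
  zify [hδd, hι, h3, show 2 ≤ 2 * κ by omega] at h hd h1 h2 he hδ
  have h4 : (2 * κ - 2 : ℤ) * (2 * (κ' * e) - κ * δ) = κ * ((κ' * e - e) * (2 ^ k - 2)) := by
    rw [← h, ← hd]; ring
  have h5 : (0 : ℤ) ≤ δ := Int.natCast_nonneg _
  rcases k with _ | _ | _ | k
  · omega
  · exfalso
    norm_num at h4
    rcases h4 with h4 | h4
    · omega
    · nlinarith
  · have h6 : (κ - 1 : ℤ) * κ * (e - δ) + e * ((κ - 2) * (κ' - κ)) = 0 := by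
      norm_num at h4; linarith
    have h7 : (0 : ℤ) ≤ (κ - 1 : ℤ) * κ * (e - δ) := by
      apply mul_nonneg (mul_nonneg _ _) <;> omega
    have h8 : (0 : ℤ) ≤ e * ((κ - 2) * (κ' - κ)) := by
      apply mul_nonneg _ (mul_nonneg _ _) <;> omega
    have h9 : (κ - 1 : ℤ) * κ * (e - δ) = 0 := by omega
    have h10 : (e : ℤ) * ((κ - 2) * (κ' - κ)) = 0 := by omega
    simp only [mul_eq_zero] at h9 h10
    refine ⟨rfl, by omega, by omega⟩
  · exfalso
    have h6 : (8 : ℤ) ≤ 2 ^ (k + 1 + 1 + 1) := by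
      have : (1 : ℤ) ≤ 2 ^ k := one_le_pow₀ (by norm_num)
      rw [pow_succ, pow_succ, pow_succ]; omega
    have h7 : κ * ((κ' * e - e) * 6 : ℤ) ≤ κ * ((κ' * e - e) * (2 ^ (k + 1 + 1 + 1) - 2)) := by
      apply mul_le_mul_of_nonneg_left (mul_le_mul_of_nonneg_left (by omega) (by nlinarith)); omega
    have h8 : (0 : ℤ) ≤ (2 * κ - 2) * (κ * δ) := by
      apply mul_nonneg _ (mul_nonneg _ _) <;> omega
    have h9 : (e : ℤ) * (2 * κ * κ' + 4 * κ' - 6 * κ) ≤ 0 := by nlinarith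
    have h10 : (0 : ℤ) < 2 * κ * κ' + 4 * κ' - 6 * κ := by nlinarith
    nlinarith

variable (G B B' I κ) in
/-- `Half` with the parameter `κ` -/
structure HalfK : Prop extends Half G B B' I where
  two_le : 2 ≤ κ
  pow : ∃ k, κ = 2 ^ k
  cardN : ∀ a b : V, a ≠ 0 → b ≠ 0 → b ≠ a → Nat.card (NN B I a b) = κ
  cardZ : ∀ a φ, a ≠ 0 → φ ≠ 0 → B a φ = 0 → Nat.card (ZZ B B' I a φ) = 2 * κ

theorem Half.exists_halfK (h : Half G B B' I) : ∃ κ, HalfK G B B' I κ :=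
  h.exists_kappa.imp fun _ h1 => ⟨h, h1.1, h1.2.1, h1.2.2.1, h1.2.2.2⟩

theorem HalfK.cardD (h : HalfK G B B' I κ) {a b : V} (ha : a ≠ 0) (hb : b ≠ 0) (hba : b ≠ a) :
    Nat.card (DD B I a b) * κ = Nat.card V := by
  rw [← h.cardN a b ha hb hba, h.card_mul_card_perp, h.card_eq]

theorem HalfK.cardE (h : HalfK G B B' I κ) {a : V} {φ : V'} (ha : a ≠ 0) (hφ : φ ≠ 0)
    (h1 : B a φ = 0) : Nat.card (Es B I a φ) * (2 * κ) = Nat.card V' := by
  rw [← h.cardZ a φ ha hφ h1, h.toPerf.flip.card_mul_card_perp, h.card_eq]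

variable (G B B' I J κ κ') in
/-- the configuration in a minimal counterexample -/
structure Two : Prop where
  hI : HalfK G B B' I κ
  hJ : HalfK G B' B J κ'
  ZE : ∀ a φ, a ≠ 0 → φ ≠ 0 → B a φ = 0 → ZZ B B' I a φ ≤ Es B' J φ a

namespace Two
variable (h : Two G B B' I J κ κ')
include h

theorem flip : Two G B' B J I κ' κ :=
  ⟨h.hJ, h.hI, fun φ a hφ ha h1 => by
    rw [← h.hI.perp_Z]
    exact perp_anti (h.ZE a φ ha hφ (h.hI.compat a φ ▸ h1))⟩

theorem self_mem_E {a : V} {φ : V'} (h1 : B a φ = 0) : a ∈ Es B' J φ a :=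
  h.hJ.self_mem_Es ((h.hI.compat a φ).trans h1)

theorem not_mem_pt_of {a z : V} {φ : V'} (h1 : B a φ = 0) (hz : z ∉ Es B' J φ a) : z ∉ pt a := by
  rintro (rfl | rfl)
  exacts [hz (zero_mem _), hz (h.self_mem_E h1)]

theorem count (hκ : κ ≤ κ') {a : V} {φ : V'} (ha : a ≠ 0) (hφ : φ ≠ 0) (h1 : B a φ = 0) :
    (∀ z, B z φ = 0 → z ∉ Es B' J φ a → Nat.card (ZZ B B' I a φ ⊓ DD B I a z :) = 4) ∧
      (∀ b, I a b φ → Es B' J φ a ≤ DD B I a b) ∧ (κ = 2 ∨ κ = κ') := by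
  classical
  have := Fintype.ofFinite V
  have hI := h.hI
  have hJ := h.hJ
  have h1' := (hI.compat a φ).trans h1
  set E := Es B' J φ a
  set W := perp B' (pt φ)
  have hE : Nat.card E * (2 * κ') = Nat.card V := hJ.cardE hφ ha h1'
  have hW : 2 * Nat.card W = Nat.card V := hI.card_hyp hφ
  have hEW : E ≤ W := fun v hv => mem_perp_pt.2 hv.1
  have h2 : Nat.card W = κ' * Nat.card E := by
    rw [← hE, mul_left_comm] at hW
    rw [mul_comm]; omega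
  obtain ⟨z₀, hz₀, hz₀'⟩ := exists_not_mem (X := E) (Y := W) (by
    rw [h2]; exact lt_mul_of_one_lt_left Nat.card_pos hJ.two_le)
  obtain ⟨b₀, hb₀⟩ := hI.ex2 ha hφ h1
  have hι : ∀ z ∈ W, z ∉ E → Nat.card (ZZ B B' I a φ ⊓ DD B I a z :) =
      Nat.card (ZZ B B' I a φ ⊓ DD B I a z₀ :) := fun z hz hz' => by
    obtain ⟨g, h3, h4, rfl⟩ := hJ.trEs (mem_perp_pt.1 hz) (mem_perp_pt.1 hz₀) hz' hz₀'
    refine card_eq_of_smul g fun v => and_congr ?_ ?_
    · simpa [h3, h4] using hI.smul_Z g a φ v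
    · simpa [h4] using hI.smul_D g a z v
  have hδ : ∀ b, I a b φ → Nat.card (DD B I a b ⊓ E :) = Nat.card (DD B I a b₀ ⊓ E :) :=
    fun b hb => by
      obtain ⟨g, h3, rfl, h4⟩ := hI.tr hb hb₀
      refine card_eq_of_smul g fun v => and_congr ?_ ?_
      · simpa [h3] using hI.smul_D g a b v
      · simpa [h3, h4] using hJ.smul_Es g φ a v
  have hd : ∀ b, I a b φ → Nat.card (DD B I a b) * κ = 2 * (κ' * Nat.card E) := fun b hb => by
    rw [hI.cardD ha (hI.basic hb).2.1 (hI.basic hb).2.2.1, ← h2, hW]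
  have hpt : ∀ X : AddSubgroup V, a ∈ X → X ⊓ pt a = pt a := fun X hX =>
    inf_eq_right.2 (by rintro _ (rfl | rfl); exacts [zero_mem _, hX])
  have hmem : ∀ b, b ∈ ZZ B B' I a φ ∧ b ∉ pt a → I a b φ := fun b hb =>
    hI.mem_Z ha hφ h1 (not_mem_pt.1 hb.2).1 (not_mem_pt.1 hb.2).2 hb.1
  have key := card_mul_eq_card_mul (s := {b | b ∈ ZZ B B' I a φ ∧ b ∉ pt a})
    (t := {z | z ∈ W ∧ z ∉ E}) (fun b z => z ∈ DD B I a b)
    (m := Nat.card (DD B I a b₀) - Nat.card (DD B I a b₀ ⊓ E :))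
    (n := Nat.card (ZZ B B' I a φ ⊓ DD B I a z₀ :) - 2) (fun b hb => ?_) fun z hz => ?_
  · rw [card_filter_diff, card_filter_diff, hpt _ (hI.self_mem_Z a φ), card_pt ha,
      hI.cardZ a φ ha hφ h1, inf_eq_right.2 hEW, h2] at key
    obtain ⟨h3, h4, h5⟩ := count_arith hI.two_le hκ Nat.card_pos
      (AddSubgroup.card_le_of_le inf_le_right) (hd b₀ hb₀) (AddSubgroup.card_le_of_le inf_le_left)
      (by
        rw [← card_pt ha]
        exact AddSubgroup.card_le_of_le (inf_eq_right.1 (hpt _ ⟨hI.self_mem_Z a φ,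
          hI.ln_le_D a z₀ (by simp [mem_ln])⟩))) exists_card_pow key
    refine ⟨fun z hz hz' => (hι z (hI.mem_hyp.2 hz) hz').trans h3, fun b hb => ?_, h5⟩
    exact inf_eq_right.1 (AddSubgroup.eq_of_le_of_card_ge inf_le_right (by rw [hδ b hb, h4]))
  · have hb' := hmem b (mem_filter.1 hb).2
    rw [← hδ b hb', Nat.eq_of_mul_eq_mul_right (by have := hI.two_le; omega)
      ((hd b₀ hb₀).trans (hd b hb').symm), ← card_filter_diff]
    congr 1
    ext z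
    simp only [mem_bipartiteAbove, mem_filter, mem_univ, true_and]
    exact ⟨fun h3 => ⟨h3.2, h3.1.2⟩, fun h3 => ⟨⟨hI.mem_hyp.2 (h3.1 φ hb'), h3.2⟩, h3.1⟩⟩
  · simp only [mem_filter, mem_univ, true_and] at hz
    have h3 := h.not_mem_pt_of h1 hz.2
    rw [← hι z hz.1 hz.2, ← (congrArg (fun X : AddSubgroup V => Nat.card X) (hpt (ZZ B B' I a φ ⊓ DD B I a z)
      ⟨hI.self_mem_Z a φ, hI.ln_le_D a z (by simp [mem_ln])⟩)).trans (card_pt ha),
      ← card_filter_diff]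
    congr 1
    ext b
    simp only [mem_bipartiteBelow, mem_filter, mem_univ, true_and, AddSubgroup.mem_inf]
    exact ⟨fun h4 => ⟨⟨h4.1.1, hI.D_sym ha h4.1.2 h3 h4.2⟩, h4.1.2⟩,
      fun h4 => ⟨⟨h4.1.1, h4.2⟩, hI.D_sym ha h3 h4.2 h4.1.2⟩⟩

omit h in
theorem not_two (h : Two G B B' I J 2 κ') : False := by
  classical
  have hI := h.hI
  obtain ⟨a, b, φ, h1⟩ := hI.ex
  obtain ⟨ha, hb, hba, hφ, h2, h3⟩ := hI.basic h1
  have hdeg : ∀ a b c, (a = 0 ∨ b = 0 ∨ b = a) → c ∈ DD B I a b := fun a b c h4 ψ h5 => by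
    have := hI.basic h5; tauto
  have hnd : ∀ a b, ¬ (a = 0 ∨ b = 0 ∨ b = a) → ∃ ψ, ψ ≠ 0 ∧ ∀ c, c ∈ DD B I a b ↔ B c ψ = 0 :=
    fun a b h4 => by
      push Not at h4
      obtain ⟨ψ, h5⟩ := hI.ex1 h4.1 h4.2.1 h4.2.2
      refine ⟨ψ, (hI.basic h5).2.2.2.1, fun c => ?_⟩
      rw [← hI.perp_N, eq_pt_of_card (hI.cardN a b h4.1 h4.2.1 h4.2.2) (hI.mem_N_of h5)
        (hI.basic h5).2.2.2.1, hI.mem_hyp]
  have hsym : ∀ a b c, c ∈ DD B I a b → b ∈ DD B I a c := fun a b c h4 => by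
    by_cases h5 : a = 0
    · exact hdeg _ _ _ (Or.inl h5)
    by_cases h6 : c ∈ pt a
    · exact hdeg _ _ _ (Or.inr h6)
    by_cases h7 : b ∈ pt a
    · exact hI.ln_le_D _ _ (by rcases h7 with rfl | rfl <;> simp [mem_ln])
    exact hI.D_sym h5 h7 h6 h4
  refine trilin (V := V) ?_ (fun a b c => if c ∈ DD B I a b then 0 else 1) (fun a b c => ?_)
    (fun a b c => if_congr ⟨hsym a b c, hsym a c b⟩ rfl rfl)
    (fun a c => if_pos (hdeg _ _ _ (by simp))) (fun a b c d => ?_) fun a b h4 => ?_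
  · have h4 := AddSubgroup.card_le_of_le (h.ZE a φ ha hφ h2)
    have h5 := h.hJ.cardE hφ ha ((hI.compat a φ).trans h2)
    have h6 := h.hJ.two_le
    rw [hI.cardZ a φ ha hφ h2] at h4
    nlinarith
  · by_cases h4 : a = 0 ∨ b = 0 ∨ b = a
    · rw [if_pos (hdeg _ _ _ h4), if_pos (hdeg _ _ _ (by tauto))]
    · push Not at h4
      rw [hI.D_comm h4.1 h4.2.1 h4.2.2]
  · by_cases h4 : a = 0 ∨ b = 0 ∨ b = a
    · simp [hdeg _ _ _ h4]
    · obtain ⟨ψ, -, h5⟩ := hnd a b h4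
      have h6 : ∀ x : ZMod 2, (if x = 0 then 0 else 1) = x := by decide
      simp only [h5, h6, map_add, AddMonoidHom.add_apply]
  · by_contra h5
    obtain ⟨ψ, h6, h7⟩ := hnd a b h5
    obtain ⟨c, hc⟩ := hI.exists_one h6
    simpa [h7, hc] using h4 c

end Two

end CfsgLib.H9.CK
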