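import Cfsg.Agent.Lib.H9CK3

/-! # Doubly transitive linear groups over `F₂`, IV: hyperplane stabilizers are doubly transitive -/

set_option autoImplicit false
set_option linter.unusedSectionVars false

namespace CfsgLib.H9.CK

open MulAction Finset

variable {G V V' : Type*} [Group G] [Finite G] [AddCommGroup V] [AddCommGroup V'] [Finite V]
  [Finite V'] [Ch2 V] [Ch2 V'] [DistribMulAction G V] [DistribMulAction G V']
  {B : V →+ V' →+ ZMod 2} {B' : V' →+ V →+ ZMod 2} {I : V → V → V' → Prop}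
  {J : V' → V' → V → Prop} {κ κ' : ℕ}

theorem eq_of_index_two {X Y Z : AddSubgroup V} (h1 : X ≤ Y) (h2 : X ≤ Z)
    (h3 : Nat.card Y = 2 * Nat.card X) (h4 : Nat.card Z = 2 * Nat.card X) {t : V} (h5 : t ∈ Y)
    (h6 : t ∈ Z) (h7 : t ∉ X) : Y = Z :=
  AddSubgroup.eq_of_le_of_card_ge (fun y hy => by
    by_cases h8 : y ∈ X
    · exact h2 h8
    · simpa using add_mem (h2 (add_mem_of_card h1 h3 hy h5 h8 h7)) h6) (by rw [h3, h4])

theorem card_le_two_mul (Y : AddSubgroup V) (f : V →+ ZMod 2) :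
    Nat.card Y ≤ 2 * Nat.card (Y ⊓ f.ker : AddSubgroup V) := by
  by_cases h : Y ≤ f.ker
  · rw [inf_eq_left.2 h]; omega
  · obtain ⟨y, h1, h2⟩ := SetLike.not_le_iff_exists.1 h
    exact (card_eq_two_mul h1 (z2_ne_zero.1 h2)).le

theorem exists_ne_zero_of_card {Y : AddSubgroup V} (h : 2 ≤ Nat.card Y) : ∃ y ∈ Y, y ≠ 0 :=
  exists_not_mem (X := ⊥) (by rw [AddSubgroup.card_bot]; omega)

theorem exists_ker₁ {Y : AddSubgroup V} (h : 4 ≤ Nat.card Y) (f : V →+ ZMod 2) :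
    ∃ y ∈ Y, y ≠ 0 ∧ f y = 0 := by
  obtain ⟨y, h1, h2⟩ := exists_ne_zero_of_card (Y := Y ⊓ f.ker)
    (by have := card_le_two_mul Y f; omega)
  exact ⟨y, h1.1, h2, h1.2⟩

theorem exists_ker₂ {Y : AddSubgroup V} (h : 8 ≤ Nat.card Y) (f f' : V →+ ZMod 2) :
    ∃ y ∈ Y, y ≠ 0 ∧ f y = 0 ∧ f' y = 0 := by
  obtain ⟨y, h1, h2⟩ := exists_ker₁ (Y := Y ⊓ f.ker) (by have := card_le_two_mul Y f; omega) f'
  exact ⟨y, h1.1, h2.1, h1.2, h2.2⟩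

theorem exists_ind {Y : AddSubgroup V} (h : 8 ≤ Nat.card Y) {a : V} (ha : a ≠ 0) :
    ∃ b ∈ Y, ∃ c ∈ Y, Ind3 a b c := by
  obtain ⟨b, h1, h2⟩ := exists_not_mem (X := pt a) (Y := Y) (by rw [card_pt ha]; omega)
  rw [not_mem_pt] at h2
  obtain ⟨c, h3, h4⟩ := exists_not_mem (X := ln a b) (Y := Y) (by rw [card_ln ha h2.1 h2.2]; omega)
  exact ⟨b, h1, c, h3, ha, h2.1, h2.2, h4⟩

theorem Ind3.not_mem {a b c : V} (h : Ind3 a b c) : b ∉ pt a ∧ c ∉ pt a ∧ b + c ∉ pt a := by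
  obtain ⟨ha, hb, hba, h1⟩ := h
  simp only [mem_ln, not_or] at h1
  exact ⟨not_mem_pt.2 ⟨hb, hba⟩, not_mem_pt.2 ⟨h1.1, h1.2.1⟩, not_mem_pt.2
    ⟨fun h2 => h1.2.2.1 (add_eq_zero2.1 h2).symm, fun h2 => h1.2.2.2 (by rw [← h2]; simp)⟩⟩

theorem Half.mem_Z' (h : Half G B B' I) {a b c : V} {φ : V'} (h1 : I a b φ)
    (h2 : c ∈ ZZ B B' I a φ) (h3 : c ∉ pt a) : I a c φ :=
  h.mem_Z (h.basic h1).1 (h.basic h1).2.2.2.1 (h.basic h1).2.2.2.2.1 (not_mem_pt.1 h3).1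
    (not_mem_pt.1 h3).2 h2

theorem Half.mem_N' (h : Half G B B' I) {a b : V} {φ ψ : V'} (h1 : I a b φ)
    (h2 : ψ ∈ NN B I a b) (h3 : ψ ≠ 0) : I a b ψ :=
  h.mem_N (h.basic h1).1 (h.basic h1).2.1 (h.basic h1).2.2.1 h3 h2

theorem Half.not_mem_pt (h : Half G B B' I) {a b : V} {φ : V'} (h1 : I a b φ) : b ∉ pt a :=
  CK.not_mem_pt.2 ⟨(h.basic h1).2.1, (h.basic h1).2.2.1⟩

variable (G B B' I J κ) in
/-- the remaining configuration -/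
structure Three : Prop extends Two G B B' I J κ κ where
  four : 4 ≤ κ

namespace Three
variable (h : Three G B B' I J κ)
include h

theorem flip : Three G B' B J I κ := ⟨h.toTwo.flip, h.four⟩

theorem iota {a z : V} {φ : V'} (ha : a ≠ 0) (hφ : φ ≠ 0) (h1 : B a φ = 0) (h2 : B z φ = 0)
    (h3 : z ∉ Es B' J φ a) : Nat.card (ZZ B B' I a φ ⊓ DD B I a z :) = 4 :=
  (h.count le_rfl ha hφ h1).1 z h2 h3

theorem E_le {a b : V} {φ : V'} (h1 : I a b φ) : Es B' J φ a ≤ DD B I a b :=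
  (h.count le_rfl (h.hI.basic h1).1 (h.hI.basic h1).2.2.2.1 (h.hI.basic h1).2.2.2.2.1).2.1 b h1

theorem cardDE {a b : V} {φ : V'} (h1 : I a b φ) :
    Nat.card (DD B I a b) = 2 * Nat.card (Es B' J φ a) := by
  obtain ⟨ha, hb, hba, hφ, h2, -⟩ := h.hI.basic h1
  refine Nat.eq_of_mul_eq_mul_right (show 0 < κ by have := h.four; omega) ?_
  rw [h.hI.cardD ha hb hba, ← h.hJ.cardE hφ ha ((h.hI.compat a φ).trans h2)]
  ring

theorem cardZ8 {a : V} {φ : V'} (ha : a ≠ 0) (hφ : φ ≠ 0) (h1 : B a φ = 0) :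
    8 ≤ Nat.card (ZZ B B' I a φ) := by
  rw [h.hI.cardZ a φ ha hφ h1]; have := h.four; omega

theorem uniq {a b c t : V} {φ : V'} (h1 : I a b φ) (h2 : I a c φ) (h3 : t ∈ DD B I a b)
    (h4 : t ∈ DD B I a c) (h5 : t ∉ Es B' J φ a) : c ∈ ln a b := by
  obtain ⟨ha, hb, hba, hφ, h6, -⟩ := h.hI.basic h1
  have h7 := h.not_mem_pt_of h6 h5
  rw [← eq_ln_of_card (h.iota ha hφ h6 (h3 φ h1) h5) ⟨h.hI.self_mem_Z a φ, h.hI.ln_le_D a t
    (by simp [mem_ln])⟩ ⟨h.hI.mem_Z_of h1, h.hI.D_sym ha (h.hI.not_mem_pt h1) h7 h3⟩ ha hb hba]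
  exact ⟨h.hI.mem_Z_of h2, h.hI.D_sym ha (h.hI.not_mem_pt h2) h7 h4⟩

theorem uniq' {a b c : V} {φ : V'} (h1 : I a b φ) (h2 : I a c φ) (h3 : DD B I a b = DD B I a c) :
    c ∈ ln a b := by
  obtain ⟨t, h4, h5⟩ := exists_not_mem (X := Es B' J φ a) (Y := DD B I a b) (by
    rw [h.cardDE h1]; have : 0 < Nat.card (Es B' J φ a) := Nat.card_pos; omega)
  exact h.uniq h1 h2 h4 (h3 ▸ h4) h5

theorem N_le {a b : V} {φ : V'} (h1 : I a b φ) : NN B I a b ≤ ZZ B' B J φ a :=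
  perp_anti (h.E_le h1)

theorem xi_of_eight (h8 : 8 ≤ κ) {a b : V} {φ : V'} (h1 : I a b φ) :
    ZZ B B' I a φ = ZZ B B' I b φ := by
  obtain ⟨ha, hb, hba, hφ, h2, h3⟩ := h.hI.basic h1
  by_contra hne
  have h4 : Nat.card (ZZ B B' I a φ ⊓ ZZ B B' I b φ :) ≤ κ := by
    obtain ⟨m, hm⟩ := AddSubgroup.card_dvd_of_le
      (inf_le_left : ZZ B B' I a φ ⊓ ZZ B B' I b φ ≤ ZZ B B' I a φ)
    have h5 : m ≠ 1 := by
      rintro rfl
      exact hne (AddSubgroup.eq_of_le_of_card_ge (inf_eq_left.1 (AddSubgroup.eq_of_le_of_card_ge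
        inf_le_left (by omega))) (by rw [h.hI.cardZ _ _ ha hφ h2, h.hI.cardZ _ _ hb hφ h3]))
    rw [h.hI.cardZ _ _ ha hφ h2] at hm
    rcases m with _ | _ | m
    · omega
    · omega
    · nlinarith
  have h5 : ∀ ψ ∈ NN B I a b, ψ ∉ pt φ → J φ ψ a ∧
      DD B' J φ ψ = perp B (ZZ B B' I a φ ⊓ ZZ B B' I b φ) := fun ψ h5 h6 => by
    rw [not_mem_pt] at h6
    have h7 := h.hJ.mem_Z hφ ha ((h.hI.compat a φ).trans h2) h6.1 h6.2 (h.N_le h1 h5)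
    have h9 := h.hJ.mem_Z hφ hb ((h.hI.compat b φ).trans h3) h6.1 h6.2 (h.N_le (h.hI.I_comm h1)
      (by rwa [NN, ← h.hI.D_comm ha hb hba]))
    refine ⟨h7, ?_⟩
    rw [← AddSubgroup.eq_of_le_of_card_ge (le_inf (h.flip.N_le h7) (h.flip.N_le h9))
      (by rwa [h.hJ.cardN φ ψ hφ h6.1 h6.2]), h.hJ.perp_N]
  obtain ⟨ψ, h6, χ, h7, h9⟩ := exists_ind (Y := NN B I a b) (by rwa [h.hI.cardN a b ha hb hba]) hφ
  obtain ⟨h10, h11⟩ := h5 ψ h6 h9.not_mem.1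
  obtain ⟨h12, h13⟩ := h5 χ h7 h9.not_mem.2.1
  exact h9.2.2.2 (h.flip.uniq' h10 h12 (h11.trans h13.symm))

theorem tri {a : V} {φ : V'} (ha : a ≠ 0) (hφ : φ ≠ 0) (h1 : B a φ = 0) {X Y : AddSubgroup V}
    (h2 : X ≤ Y) (h3 : Nat.card Y = 2 * Nat.card X) (h4 : ∀ b, I a b φ → b ∈ Y) :
    ∃ b, I a b φ ∧ b ∈ X := by
  obtain ⟨b, h5, c, h6, h7⟩ := exists_ind (h.cardZ8 ha hφ h1) ha
  obtain ⟨b₀, h8⟩ := h.hI.ex2 ha hφ h1
  have h9 := h.hI.mem_Z' h8 h5 h7.not_mem.1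
  have h10 := h.hI.mem_Z' h8 h6 h7.not_mem.2.1
  by_cases h11 : b ∈ X
  · exact ⟨b, h9, h11⟩
  by_cases h12 : c ∈ X
  · exact ⟨c, h10, h12⟩
  exact ⟨b + c, h.hI.mem_Z' h8 (add_mem h5 h6) h7.not_mem.2.2,
    add_mem_of_card h2 h3 (h4 b h9) (h4 c h10) h11 h12⟩

theorem no_xi (xi : ∀ a φ ψ, J φ ψ a → Es B' J φ a = Es B' J ψ a) : False := by
  classical
  have hI := h.hI
  obtain ⟨a, y₀, φ₀, h0⟩ := hI.ex
  have ha := (hI.basic h0).1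
  have hy₀ := hI.not_mem_pt h0
  have c0 : ∀ φ ψ, φ ≠ 0 → B a φ = 0 → ψ ≠ 0 → ψ ∈ perp B (Es B' J φ a) →
      Es B' J ψ a = Es B' J φ a := fun φ ψ h1 h2 h3 h4 => by
    by_cases h5 : ψ = φ
    · rw [h5]
    · exact (xi _ _ _ (h.hJ.mem_Z h1 ha ((hI.compat a φ).trans h2) h3 h5 h4)).symm
  have ex : ∀ b ∉ pt a, ∃ φ, I a b φ := fun b hb =>
    hI.ex1 ha (not_mem_pt.1 hb).1 (not_mem_pt.1 hb).2
  obtain ⟨e, he⟩ : ∃ e : V → AddSubgroup V, ∀ b φ, I a b φ → e b = Es B' J φ a := by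
    refine ⟨fun b => if hb : ∃ φ, I a b φ then Es B' J hb.choose a else ⊥, fun b φ h1 => ?_⟩
    have hb : ∃ φ, I a b φ := ⟨φ, h1⟩
    simp only [dif_pos hb]
    exact c0 _ _ (hI.basic h1).2.2.2.1 (hI.basic h1).2.2.2.2.1 (hI.basic hb.choose_spec).2.2.2.1
      (h.N_le h1 (hI.mem_N_of hb.choose_spec))
  have e1 : ∀ b ∉ pt a, e b ≤ DD B I a b := fun b hb =>
    (ex b hb).elim fun φ h1 => he b φ h1 ▸ h.E_le h1
  have e2 : ∀ b ∉ pt a, Nat.card (DD B I a b) = 2 * Nat.card (e b) := fun b hb =>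
    (ex b hb).elim fun φ h1 => he b φ h1 ▸ h.cardDE h1
  have e3 : ∀ b ∉ pt a, b ∈ e b := fun b hb => (ex b hb).elim fun φ h1 => he b φ h1 ▸
    h.ZE a φ ha (hI.basic h1).2.2.2.1 (hI.basic h1).2.2.2.2.1 (hI.mem_Z_of h1)
  have e4 : ∀ b ∉ pt a, ∀ z ∉ e b, z ∉ pt a := fun b hb z hz => (ex b hb).elim fun φ h1 =>
    h.not_mem_pt_of (hI.basic h1).2.2.2.2.1 (he b φ h1 ▸ hz)
  have e5 : ∀ b ∉ pt a, Nat.card (perp B (e b)) = 2 * κ := fun b hb => (ex b hb).elim fun φ h1 => by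
    rw [he b φ h1]
    exact h.hJ.cardZ φ a (hI.basic h1).2.2.2.1 ha ((hI.compat a φ).trans (hI.basic h1).2.2.2.2.1)
  have e6 : ∀ b ∉ pt a, ∀ ψ ∈ perp B (e b), ψ ≠ 0 → B a ψ = 0 ∧ Es B' J ψ a = e b :=
    fun b hb ψ h2 h3 => (ex b hb).elim fun φ h1 => by
      rw [he b φ h1] at h2 ⊢
      exact ⟨h2 a (h.self_mem_E (hI.basic h1).2.2.2.2.1),
        c0 _ _ (hI.basic h1).2.2.2.1 (hI.basic h1).2.2.2.2.1 h3 h2⟩
  have e7 : ∀ b ∉ pt a, ∃ ψ ∈ perp B (e b), ψ ∉ NN B I a b := fun b hb => exists_not_mem (by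
    rw [e5 b hb, hI.cardN a b ha (not_mem_pt.1 hb).1 (not_mem_pt.1 hb).2]; have := h.four; omega)
  have e8 : ∀ b ∉ pt a, ∀ c ∉ pt a, e c = e b → ∀ t ∈ DD B I a b, t ∈ DD B I a c → t ∉ e b →
      DD B I a b = DD B I a c := fun b hb c hc h1 t h2 h3 h4 =>
    eq_of_index_two (e1 b hb) (h1 ▸ e1 c hc) (e2 b hb) (h1 ▸ e2 c hc) h2 h3 h4
  have Q : ∀ b ∉ pt a, ∀ z ∉ pt a, z ∈ e b → b ∈ e z := fun b hb z hz h1 => by
    by_contra h2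
    obtain ⟨φ, h3⟩ := ex b hb
    obtain ⟨b', h4, h5⟩ := h.tri ha (hI.basic h3).2.2.2.1 (hI.basic h3).2.2.2.2.1 (e1 z hz) (e2 z hz)
      fun c hc => hI.D_sym ha (hI.not_mem_pt hc) hz (h.E_le hc (he b φ h3 ▸ h1))
    have hb' := hI.not_mem_pt h4
    obtain ⟨ψ, h6, h7⟩ := e7 z hz
    have h8 : ψ ≠ 0 := fun h8 => h7 (h8 ▸ zero_mem _)
    obtain ⟨h9, h10⟩ := e6 z hz ψ h6 h8
    obtain ⟨z', h11, h12⟩ := h.tri ha h8 h9 (e1 b' hb') (e2 b' hb')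
      fun c hc => hI.D_sym ha (hI.not_mem_pt hc) hb' (h.E_le hc (h10 ▸ h5))
    have hz' := hI.not_mem_pt h11
    rw [he b' φ h4, ← he b φ h3] at h12
    refine h7 ?_
    rw [NN, e8 z hz z' hz' ((he z' ψ h11).trans h10) b (hI.D_sym ha hb hz (e1 b hb h1))
      (hI.D_sym ha hb hz' (e1 b hb h12)) h2]
    exact hI.mem_N_of h11
  have P : ∀ b ∉ pt a, ∀ z ∈ DD B I a b, z ∉ e b → b ∈ DD B I a z ∧ b ∉ e z := fun b hb z h1 h2 =>
    ⟨hI.D_sym ha hb (e4 b hb z h2) h1, fun h3 => h2 (Q z (e4 b hb z h2) b hb h3)⟩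
  have Ex : ∀ z₀ ∉ pt a, ∀ y ∉ e z₀, ∃ z ∉ pt a, e z = e z₀ ∧ y ∈ DD B I a z := fun z₀ hz y hy => by
    obtain ⟨φ, h1, h2, h3⟩ := exists_ker₁ (Y := perp B (e z₀))
      (by rw [e5 z₀ hz]; have := h.four; omega) (B y)
    obtain ⟨h4, h5⟩ := e6 z₀ hz φ h1 h2
    obtain ⟨z, h6, h7⟩ := exists_not_mem (X := pt a) (Y := ZZ B B' I a φ ⊓ DD B I a y)
      (by rw [h.iota ha h2 h4 h3 (h5 ▸ hy), card_pt ha]; omega)
    exact ⟨z, h7, (he z φ (hI.mem_Z ha h2 h4 (not_mem_pt.1 h7).1 (not_mem_pt.1 h7).2 h6.1)).trans h5,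
      hI.D_sym ha (e4 z₀ hz y hy) h7 h6.2⟩
  have Lin : ∀ y ∉ pt a, ∀ y' ∉ pt a, y + y' ∉ pt a → e y' = e y → ∀ z ∈ DD B I a y, z ∉ e y →
      ∀ z' ∈ DD B I a y', z' ∉ e y → e (y + y') = e y ∧ z + z' ∈ DD B I a (y + y') ∧ z + z' ∉ e y := by
    intro y hy y' hy' hyy h1 z h2 h3 z' h4 h5
    have h6 : ∀ y ∉ pt a, ∀ z ∈ DD B I a y, z ∉ e y → ∀ φ ∈ perp B (e y), φ ≠ 0 → B z φ = 0 →
        I a y φ := fun y hy z h2 h3 φ h7 h8 h9 =>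
      hI.mem_N ha (not_mem_pt.1 hy).1 (not_mem_pt.1 hy).2 h8 fun v hv => by
        by_cases h10 : v ∈ e y
        · exact h7 v h10
        · simpa [h9] using h7 _ (add_mem_of_card (e1 y hy) (e2 y hy) hv h2 h10 h3)
    have h7 : ∀ φ ∈ perp B (e y), φ ≠ 0 → B z φ = 0 → B z' φ = 0 → I a (y + y') φ :=
      fun φ h7 h8 h9 h10 => hI.mem_Z' (h6 y hy z h2 h3 φ h7 h8 h9) (add_mem (hI.mem_Z_of
        (h6 y hy z h2 h3 φ h7 h8 h9)) (hI.mem_Z_of (h6 y' hy' z' h4 (h1 ▸ h5) φ (h1 ▸ h7) h8 h10))) hyy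
    obtain ⟨φ, h8, h9, h10, h11⟩ := exists_ker₂ (Y := perp B (e y))
      (by rw [e5 y hy]; have := h.four; omega) (B z) (B z')
    have h12 := h7 φ h8 h9 h10 h11
    have h13 : e (y + y') = e y := (he _ _ h12).trans (e6 y hy φ h8 h9).2
    obtain ⟨t, h14, h15⟩ := exists_not_mem (X := e (y + y')) (Y := DD B I a (y + y')) (by
      rw [e2 _ hyy]; have : 0 < Nat.card (e (y + y')) := Nat.card_pos; omega)
    have h16 : t ∈ e y ⊔ ln z z' := by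
      by_contra h16
      obtain ⟨ψ, h17, h18⟩ := hI.sep h16
      have h19 := mem_perp_ln.1 (perp_anti le_sup_right h17)
      exact zero_ne_one ((h14 ψ (h7 ψ (perp_anti le_sup_left h17) (by rintro rfl; simp at h18)
        h19.1 h19.2)).symm.trans h18)
    obtain ⟨x, h17, w, h18, rfl⟩ := AddSubgroup.mem_sup.1 h16
    rw [← h13] at h17
    have h19 : w ∈ DD B I a (y + y') := by simpa using add_mem (e1 _ hyy h17) h14
    have h20 : w ∉ e (y + y') := fun h20 => h15 (add_mem h17 h20)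
    have h21 : ∀ u v, u ∉ pt a → v ∉ pt a → u + v = y + y' → I a u φ → w ∉ DD B I a u :=
      fun u v hu hv h21 h22 h23 => by
        have h24 := h.uniq h22 h12 h23 h19 (he _ _ h12 ▸ h20)
        rw [← h21] at h24 hyy
        rcases h24 with h24 | h24 | h24 | h24
        exacts [hyy (Or.inl h24), hyy (Or.inr h24), hv (Or.inl (by simpa using h24)),
          hv (Or.inr (by rwa [add_comm, add_left_inj] at h24))]
    rcases h18 with rfl | rfl | rfl | rfl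
    · exact (h20 (zero_mem _)).elim
    · exact (h21 y y' hy hy' rfl (h6 y hy w h2 h3 φ h8 h9 h10) h2).elim
    · exact (h21 y' y hy' hy (add_comm _ _) (h6 y' hy' w h4 (h1 ▸ h5) φ (h1 ▸ h8) h9 h11) h4).elim
    · exact ⟨h13, h19, h13 ▸ h20⟩
  obtain ⟨z₀, hz₁, hz₂⟩ := exists_not_mem (X := e y₀) (Y := DD B I a y₀) (by
    rw [e2 _ hy₀]; have : 0 < Nat.card (e y₀) := Nat.card_pos; omega)
  have hz₀ := e4 y₀ hy₀ z₀ hz₂
  have hw : y₀ + z₀ ∉ e y₀ := fun h1 => hz₂ (by simpa using add_mem (e3 y₀ hy₀) h1)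
  have hw₀ := e4 y₀ hy₀ _ hw
  have K : ∀ y ∉ pt a, y + y₀ ∉ pt a → e y = e y₀ → ∀ z ∈ DD B I a y, z ∉ e y → e z = e z₀ →
      y + y₀ + z ∈ e (y₀ + z₀) := fun y hy hyy h1 z h2 h3 h4 => by
    have hz := e4 y hy z h3
    obtain ⟨h5, h6, h7⟩ := Lin y hy y₀ hy₀ hyy h1.symm z h2 h3 z₀ hz₁ (h1 ▸ hz₂)
    have hzz := e4 y hy _ h7
    obtain ⟨h8, h9, h10⟩ := Lin z hz z₀ hz₀ hzz h4.symm y (P y hy z h2 h3).1 (P y hy z h2 h3).2 y₀
      (P y₀ hy₀ z₀ hz₁ hz₂).1 (h4 ▸ (P y₀ hy₀ z₀ hz₁ hz₂).2)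
    have h11 : y + y₀ ∈ e y := add_mem (e3 y hy) (h1 ▸ e3 y₀ hy₀)
    have h12 : y + y₀ + z ∉ e y := fun h12 => h3 (by simpa using add_mem h11 h12)
    have hp := e4 y hy _ h12
    obtain ⟨h13, h14⟩ := P y hy _ (add_mem (e1 y hy h11) h2) h12
    obtain ⟨h15, h16⟩ := P _ hzz (y + y₀ + z) (add_mem h9 (e1 _ hzz (h8 ▸ e3 z hz))) fun h15 =>
      h10 (by rw [h8] at h15; simpa using add_mem h15 (e3 z hz))
    refine Q _ hp _ hw₀ ?_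
    convert add_mem (e3 _ hp) (add_mem_of_card (e1 _ hp) (e2 _ hp) h13 h15 h14 h16) using 1
    rw [eq_comm, ← add_eq_zero2]
    abel_nf
    simp [two_zsmul]
  obtain ⟨ψ, h1, h2⟩ := e7 y₀ hy₀
  have h3 : ψ ≠ 0 := fun h3 => h2 (h3 ▸ zero_mem _)
  obtain ⟨h4, h5⟩ := e6 y₀ hy₀ ψ h1 h3
  have h6 : ∀ y ∈ ZZ B B' I a ψ, y ∉ pt a → y + y₀ ∉ pt a ∧ e y = e y₀ := fun y h6 h7 => by
    have h8 := hI.mem_Z ha h3 h4 (not_mem_pt.1 h7).1 (not_mem_pt.1 h7).2 h6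
    refine ⟨fun h9 => h2 (hI.mem_N_of (hI.mem_Z' h8 ?_ hy₀)), (he _ _ h8).trans h5⟩
    have h10 : y + y₀ ∈ ZZ B B' I a ψ := by
      rcases h9 with h9 | h9 <;> rw [h9]
      exacts [zero_mem _, hI.self_mem_Z a ψ]
    simpa using add_mem h6 h10
  have h7 : ∀ y ∈ ZZ B B' I a ψ, y ∉ pt a → ∃ z ∉ pt a, e z = e z₀ ∧ z ∈ DD B I a y ∧ z ∉ e y ∧
      y ∈ DD B I a z ∧ y ∉ e z := fun y h7 h8 => by
    have h9 : y ∉ e z₀ := fun h9 => hz₂ ((h6 y h7 h8).2 ▸ Q z₀ hz₀ y h8 h9)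
    obtain ⟨z, h10, h11, h12⟩ := Ex z₀ hz₀ y h9
    exact ⟨z, h10, h11, (P z h10 y h12 (h11 ▸ h9)).1, (P z h10 y h12 (h11 ▸ h9)).2, h12, h11 ▸ h9⟩
  obtain ⟨y, hy, y', hy', h8⟩ := exists_ind (h.cardZ8 ha h3 h4) ha
  obtain ⟨h9, h10, h11⟩ := h8.not_mem
  obtain ⟨z, h12, h13, h14, h15, h16, h17⟩ := h7 y hy h9
  obtain ⟨z', h18, h19, h20, h21, h22, h23⟩ := h7 y' hy' h10
  have h24 := (h6 y' hy' h10).2.trans (h6 y hy h9).2.symm
  obtain ⟨h25, h26, h27⟩ := Lin y h9 y' h10 h11 h24 z h14 h15 z' h20 (h24 ▸ h21)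
  have h28 := h19.trans h13.symm
  have h29 := (Lin z h12 z' h18 (e4 y h9 _ h27) h28 y h16 h17 y' h22 (h28 ▸ h23)).1
  refine hw (Q _ hw₀ _ hy₀ ?_)
  convert add_mem (add_mem (K y h9 (h6 y hy h9).1 (h6 y hy h9).2 z h14 h15 h13)
    (K y' h10 (h6 y' hy' h10).1 (h6 y' hy' h10).2 z' h20 h21 h19))
    (K _ h11 (h6 _ (add_mem hy hy') h11).1 (h6 _ (add_mem hy hy') h11).2 _ h26 (h25 ▸ h27)
      (h29.trans h13)) using 1
  rw [eq_comm, ← add_eq_zero2]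
  abel_nf
  rw [show (4 : ℤ) = 2 * 2 from rfl, mul_smul]
  simp [two_zsmul]

omit h in
theorem not_four (h : Three G B B' I J 4)
    (hn : ∀ a b φ, I a b φ → ZZ B B' I a φ ≠ ZZ B B' I b φ) : False := by
  have hI := h.hI
  have U : ∀ b φ ψ, b ≠ 0 → φ ≠ 0 → B b φ = 0 → ψ ≠ 0 → B b ψ = 0 →
      ZZ B B' I b ψ = ZZ B B' I b φ → ψ = φ := fun b φ ψ hb h1 h2 h3 h4 h5 => by
    by_contra h6
    obtain ⟨c, h7, d, h8, h9⟩ := exists_ind (h.cardZ8 hb h1 h2) hb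
    have h10 : ∀ c ∈ ZZ B B' I b φ, c ∉ pt b → I b c φ ∧ DD B I b c = perp B' (ln φ ψ) :=
      fun c h7 h8 => by
        rw [not_mem_pt] at h8
        have h9 := hI.mem_Z hb h1 h2 h8.1 h8.2 h7
        rw [← hI.perp_N, eq_ln_of_card (hI.cardN b c hb h8.1 h8.2) (hI.mem_N_of h9)
          (hI.mem_N_of (hI.mem_Z hb h3 h4 h8.1 h8.2 (h5 ▸ h7))) h1 h3 h6]
        exact ⟨h9, rfl⟩
    obtain ⟨h11, h12⟩ := h10 c h7 h9.not_mem.1
    obtain ⟨h13, h14⟩ := h10 d h8 h9.not_mem.2.1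
    exact h9.2.2.2 (h.uniq' h11 h13 (h12.trans h14.symm))
  have M : ∀ u b φ, I u b φ → ∃ ψ, I b u ψ ∧ ZZ B B' I b ψ = ZZ B B' I u φ := fun u b φ h1 => by
    obtain ⟨hu, hb, hbu, hφ, h2, h3⟩ := hI.basic h1
    obtain ⟨c, h4, h5⟩ := exists_not_mem (X := ln u b) (Y := ZZ B B' I u φ)
      (by rw [card_ln hu hb hbu, hI.cardZ u φ hu hφ h2]; omega)
    have h6 := h5
    simp only [mem_ln, not_or] at h6
    obtain ⟨g, h7, h8, h9⟩ := hI.tfull (a := u + b) (b := c) (c := u)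
      ⟨by simp [add_eq_zero2, hbu.symm], h6.1, h6.2.2.2, by
        simp only [mem_ln, not_or]
        exact ⟨hu, by simp [hb], Ne.symm h6.2.1, fun h7 => h6.2.2.1 (by
          rw [add_assoc, left_eq_add, add_eq_zero2] at h7; exact h7.symm)⟩⟩
    rw [add_add_self_left] at h9
    have h10 := hI.smul g (hI.I_add h1)
    have h11 := (hI.smul_Z g u φ c).2 h4
    rw [h9, h7] at h10
    rw [h9, h8] at h11
    have h12 : I b u (g • φ) := by simpa using hI.I_add h10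
    refine ⟨_, h12, eq_of_index_two (ln_le (hI.mem_Z_of h12) (hI.self_mem_Z _ _))
      (ln_le (hI.self_mem_Z _ _) (hI.mem_Z_of h1)) ?_ ?_ h11 h4 h5⟩
    · rw [card_ln hu hb hbu, hI.cardZ _ _ hb (hI.basic h12).2.2.2.1 (hI.basic h12).2.2.2.2.1]
    · rw [card_ln hu hb hbu, hI.cardZ u φ hu hφ h2]
  have S : ∀ (g : G) a b φ ψ, ZZ B B' I a φ = ZZ B B' I b ψ →
      ZZ B B' I (g • a) (g • φ) = ZZ B B' I (g • b) (g • ψ) := fun g a b φ ψ h1 => by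
    ext v
    rw [← smul_inv_smul g v, hI.smul_Z, hI.smul_Z, h1]
  obtain ⟨u, b, φ₀, h0⟩ := hI.ex
  obtain ⟨hu, hb, hbu, hφ₀, -⟩ := hI.basic h0
  obtain ⟨y, hy⟩ := hI.exists_one hφ₀
  have h1 : y ∉ DD B I u b := fun h1 => zero_ne_one ((h1 φ₀ h0).symm.trans hy)
  have hi : Ind3 u b y := ⟨hu, hb, hbu, fun h2 => h1 (hI.ln_le_D u b h2)⟩
  obtain ⟨g, hgu, hgb, hgy⟩ := hI.tfull hi
  obtain ⟨h2, h3, h4⟩ := hi.not_mem
  have h5 := card_eq_two_mul (hI.mem_N_of h0) hy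
  rw [hI.cardN u b hu hb hbu] at h5
  obtain ⟨ν, h6, h7⟩ := exists_ne_zero_of_card (Y := NN B I u b ⊓ (B y).ker) (by omega)
  have h8 := hI.mem_N' h0 h6.1 h7
  have h9 : g • ν = ν := by
    have h9 := hI.smul g h8
    rw [hgu, hgb] at h9
    have h10 : g • ν ∈ NN B I u b ⊓ (B y).ker := ⟨hI.mem_N_of h9, by
      have := hI.inv g y ν
      rw [hgy, show B y ν = 0 from h6.2] at this
      simpa [(hI.basic h9).2.2.2.2.1] using this⟩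
    rw [eq_pt_of_card (by omega) h6 h7] at h10
    exact h10.resolve_left (smul_ne_zero2 g h7)
  obtain ⟨ψ, h10, h11⟩ := M u b ν h8
  have h12 : g • ψ = ψ := by
    have h12 := S g _ _ _ _ h11
    have h13 := hI.smul g h10
    rw [hgu, hgb] at h13
    rw [hgu, hgb, h9, ← h11] at h12
    exact U b _ _ hb (hI.basic h10).2.2.2.1 (hI.basic h10).2.2.2.2.1 (hI.basic h13).2.2.2.1
      (hI.basic h13).2.2.2.2.1 h12
  have h13 : ∀ χ ∈ NN B I u b, g • χ = χ := by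
    rw [eq_ln_of_card (hI.cardN u b hu hb hbu) h6.1 (hI.mem_N_of (hI.I_comm h10)) h7
      (hI.basic h10).2.2.2.1 (by rintro rfl; exact hn _ _ _ h8 h11.symm)]
    rintro _ (rfl | rfl | rfl | rfl) <;> simp [h9, h12]
  have h14 : ∀ χ ∈ NN B I u (b + y), g • χ = χ := fun χ hχ => by
    have h14 : χ ∈ NN B I u b ⊔ NN B I u y := by
      by_contra h14
      obtain ⟨v, h15, h16⟩ := hI.toPerf.flip.sep h14
      have h17 := perp_anti le_sup_left h15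
      have h18 := perp_anti le_sup_right h15
      rw [hI.perp_N] at h17 h18
      rw [hI.compat, hχ v] at h16
      · exact zero_ne_one h16
      by_cases h19 : v ∈ pt u
      · exact hI.ln_le_D _ _ (by rcases h19 with rfl | rfl <;> simp [mem_ln])
      · exact hI.D_sym hu h19 h4 (add_mem (hI.D_sym hu h2 h19 h17) (hI.D_sym hu h3 h19 h18))
    obtain ⟨χ₁, h15, χ₂, h16, rfl⟩ := AddSubgroup.mem_sup.1 h14
    rw [not_mem_pt] at h3 h4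
    have h17 := (hI.smul_N g _ _ _).2 hχ
    have h18 := (hI.smul_N g _ _ _).2 h16
    rw [hgu, smul_add, hgb, hgy, ← add_assoc, add_comm _ u, NN, hI.D_add hu h4.1 h4.2] at h17
    rw [hgu, hgy, add_comm _ u, NN, hI.D_add hu h3.1 h3.2] at h18
    rw [← add_eq_zero2]
    by_contra h19
    have h20 := hI.mem_N hu h4.1 h4.2 h19 (add_mem h17 hχ)
    have h21 := hI.mem_N hu h3.1 h3.2 h19 (by
      rw [smul_add, h13 χ₁ h15, add_add_add_comm, add_self2, zero_add]; exact add_mem h18 h16)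
    have h22 := hI.mem_Z' h21 (c := b) (by simpa using add_mem (hI.mem_Z_of h20) (hI.mem_Z_of h21)) h2
    exact h1 (h.E_le h22 (h.ZE _ _ hu h19 (hI.basic h21).2.2.2.2.1 (hI.mem_Z_of h21)))
  obtain ⟨χ, h15⟩ := hI.ex1 hu (not_mem_pt.1 h4).1 (not_mem_pt.1 h4).2
  obtain ⟨χ', h16, h17⟩ := M _ _ _ h15
  have h18 := S g _ _ _ _ h17
  rw [hgu, smul_add, hgb, hgy, h14 χ (hI.mem_N_of h15), h14 χ' (hI.mem_N_of (hI.I_comm h16)),
    ← h17, ← add_assoc] at h18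
  exact hn _ _ _ (hI.I_add h16) h18.symm

theorem elim : False := by
  by_cases h1 : ∃ a b φ, I a b φ ∧ ZZ B B' I a φ = ZZ B B' I b φ
  · obtain ⟨a, b, φ, h1, h2⟩ := h1
    refine h.flip.no_xi fun ψ c d h3 => ?_
    obtain ⟨g, rfl, rfl, rfl⟩ := h.hI.tr h1 h3
    rw [← h.hI.perp_Z, ← h.hI.perp_Z]
    congr 1
    ext v
    rw [← smul_inv_smul g v, h.hI.smul_Z, h.hI.smul_Z, h2]
  push Not at h1
  obtain ⟨a, b, φ, h2⟩ := h.hI.ex
  have h3 : ¬ 8 ≤ κ := fun h3 => h1 a b φ h2 (h.xi_of_eight h3 h2)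
  obtain ⟨k, rfl⟩ := h.hI.pow
  have h4 := h.four
  rcases k with _ | _ | _ | k
  · omega
  · omega
  · exact not_four h h1
  · omega

end Three

theorem Two.elim' (h : Two G B B' I J κ κ') (hκ : κ ≤ κ') : False := by
  obtain ⟨a, b, φ, h1⟩ := h.hI.ex
  by_cases h2 : κ = 2
  · subst h2; exact h.not_two
  obtain rfl := (h.count hκ (h.hI.basic h1).1 (h.hI.basic h1).2.2.2.1
    (h.hI.basic h1).2.2.2.2.1).2.2.resolve_left h2
  refine Three.elim ⟨h, ?_⟩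
  obtain ⟨k, rfl⟩ := h.hI.pow
  have h4 := h.hI.two_le
  rcases k with _ | _ | k <;> omega

theorem Two.elim (h : Two G B B' I J κ κ') : False :=
  (le_total κ κ').elim h.elim' h.flip.elim'

/-- the stabilizer of a hyperplane is doubly transitive on its nonzero vectors -/
theorem Base.t2_hyp (h : Base G B B') {φ : V'} (hφ : φ ≠ 0) {a b c d : V} (ha : a ≠ 0) (hb : b ≠ 0)
    (hba : b ≠ a) (hc : c ≠ 0) (hd : d ≠ 0) (hdc : d ≠ c) (h1 : B a φ = 0) (h2 : B b φ = 0)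
    (h3 : B c φ = 0) (h4 : B d φ = 0) : ∃ g : G, g • a = c ∧ g • b = d ∧ g • φ = φ := by
  obtain ⟨I, hI⟩ := h.exists_half
  obtain ⟨J, hJ⟩ := h.flip.exists_half
  obtain ⟨κ, hI⟩ := hI.exists_halfK
  obtain ⟨κ', hJ⟩ := hJ.exists_halfK
  have key : ∃ a φ, a ≠ 0 ∧ φ ≠ 0 ∧ B a φ = 0 ∧ ¬ ZZ B B' I a φ ≤ Es B' J φ a := by
    by_contra h5
    push Not at h5
    exact Two.elim ⟨hI, hJ, h5⟩
  obtain ⟨u, ψ, h5, h6, h7, h8⟩ := key
  obtain ⟨z, h9, h10⟩ := SetLike.not_le_iff_exists.1 h8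
  have h11 : ∀ v, B v ψ = 0 → v ∉ Es B' J ψ u → v ∈ ZZ B B' I u ψ := fun v h11 h12 => by
    obtain ⟨g, h13, h14, rfl⟩ := hJ.trEs ((h.compat _ _).trans (hI.Z_le h7 h9))
      ((h.compat _ _).trans h11) h10 h12
    simpa [h13, h14] using (hI.smul_Z g u ψ z).2 h9
  have h12 : ∀ v, B v ψ = 0 → v ∈ ZZ B B' I u ψ := fun v h12 => by
    by_cases h13 : v ∈ Es B' J ψ u
    · simpa using add_mem (h11 (v + z) (by simp [h12, hI.Z_le h7 h9])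
        fun h14 => h10 (by simpa using add_mem h13 h14)) h9
    · exact h11 v h12 h13
  have h13 : ∀ a b, a ≠ 0 → b ≠ 0 → b ≠ a → B a φ = 0 → B b φ = 0 → I a b φ :=
    fun a b ha hb hba h1 h2 => by
      obtain ⟨g, rfl, rfl⟩ := h.trFlag ha h5 hφ h6 (h1.trans h7.symm)
      exact hI.mem_Z ha hφ h1 hb hba ((hI.smul_Z g _ _ _).1 (h12 _ (by rw [h.inv, h2])))
  exact hI.tr (h13 a b ha hb hba h1 h2) (h13 c d hc hd hdc h3 h4)

end CfsgLib.H9.CK
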