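import Cfsg.Agent.Lib.H9CK4

/-! # Doubly transitive linear groups over `F₂`, V: the theorem of Cameron and Kantor -/

set_option autoImplicit false
set_option linter.unusedSectionVars false

namespace CfsgLib.H9.CK

open MulAction

section
variable {G V V' : Type*} [Group G] [Finite G] [AddCommGroup V] [AddCommGroup V'] [Finite V]
  [Finite V'] [Ch2 V] [Ch2 V'] [DistribMulAction G V] [DistribMulAction G V']
  {B : V →+ V' →+ ZMod 2} {B' : V' →+ V →+ ZMod 2}

/-- scalar multiplication by an element of `ZMod 2` -/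
def sc (x : ZMod 2) (a : V) : V := if x = 1 then a else 0

@[simp] theorem sc_zero (a : V) : sc 0 a = 0 := rfl
@[simp] theorem sc_one (a : V) : sc 1 a = a := rfl
theorem sc_add (x y : ZMod 2) (a : V) : sc (x + y) a = sc x a + sc y a := by
  rcases z2_cases x with rfl | rfl <;> rcases z2_cases y with rfl | rfl <;> simp
theorem smul_sc (g : G) (x : ZMod 2) (a : V) : g • sc x a = sc x (g • a) := by
  rcases z2_cases x with rfl | rfl <;> simp
theorem sc_mem {X : AddSubgroup V} (x : ZMod 2) {a : V} (h : a ∈ X) : sc x a ∈ X := by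
  rcases z2_cases x with rfl | rfl <;> simp [h]
theorem map_sc (f : V →+ ZMod 2) (x : ZMod 2) {a : V} (h : f a = 0) : f (sc x a) = 0 := by
  rcases z2_cases x with rfl | rfl <;> simp [h]

variable (G V) in
/-- the group induces all automorphisms -/
def Full : Prop := ∀ σ : V ≃+ V, ∃ g : G, ∀ v, g • v = σ v

variable (G B) in
/-- the group contains a transvection -/
def HasTv : Prop := ∃ (g : G) (a : V) (φ : V'), a ≠ 0 ∧ φ ≠ 0 ∧ B a φ = 0 ∧
  ∀ v, g • v = v + sc (B v φ) a

theorem Base.full (h : Base G B B') (ht : HasTv G B) : Full G V := fun σ => by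
  obtain ⟨t, a, φ, ha, hφ, h1, h2⟩ := ht
  let F : G → AddSubgroup V := fun g => mkSub {v | g • v = σ v} (by simp) fun x hx y hy => by
    rw [Set.mem_setOf_eq, smul_add, map_add, hx, hy]
  obtain ⟨g, hg⟩ := Finite.exists_max fun g => Nat.card (F g)
  refine ⟨g, fun v => by_contra fun hv => ?_⟩
  obtain ⟨ψ, h3, h4, h5⟩ := h.sep_sup (X := (F g).map σ.toAddMonoidHom) (u := σ v) (v := g • v)
    (fun ⟨x, hx, h3⟩ => hv (σ.injective h3 ▸ hx)) fun ⟨x, hx, h3⟩ =>
      hv ((MulAction.injective g (hx.trans h3)) ▸ hx)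
  obtain ⟨k, h6, rfl⟩ := h.trFlag ha (c := σ v + g • v) (fun h6 => hv (add_eq_zero2.1 h6).symm) hφ
    (ψ := ψ) (by rintro rfl; simp at h4) (by simp [h1, h4, h5])
  have h7 : ∀ x, (k * t * k⁻¹ * g) • x = g • x + sc (B (g • x) (k • φ)) (σ v + g • v) := fun x => by
    rw [mul_smul, mul_smul, mul_smul, h2, smul_add, smul_inv_smul, smul_sc, h6, h.inv']
  have h8 : F g ≤ F (k * t * k⁻¹ * g) := fun x hx => by
    change _ = _
    rw [h7, show g • x = σ x from hx, h3 (σ x) ⟨x, hx, rfl⟩, sc_zero, add_zero]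
  refine hv ((AddSubgroup.eq_of_le_of_card_ge h8 (hg _)).ge ?_)
  change _ = _
  rw [h7, h5, sc_one, add_add_self_left']

theorem Base.eq_one (h : Base G B B') (hf : ∀ g : G, (∀ v : V, g • v = v) → g = 1)
    (ht : ¬ HasTv G B) {φ : V'} (hφ : φ ≠ 0) {g : G} (hg : ∀ v, B v φ = 0 → g • v = v) : g = 1 := by
  obtain ⟨y, hy⟩ := h.exists_one hφ
  have h1 : ∀ v, g • v = v + sc (B v φ) (g • y + y) := fun v => by
    rcases z2_cases (B v φ) with h1 | h1
    · rw [h1, hg v h1, sc_zero, add_zero]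
    · have := hg (v + y) (by simp [h1, hy])
      rw [smul_add, add_comm, add_eq_iff2] at this
      rw [h1, this, sc_one, add_left_comm]
  by_cases h2 : g • y + y = 0
  · exact hf g fun v => by rw [h1, h2]; rcases z2_cases (B v φ) with h1 | h1 <;> simp [h1]
  refine (ht ⟨g, _, φ, h2, hφ, ?_, h1⟩).elim
  rcases z2_cases (B (g • y) φ) with h3 | h3
  · exact (h2 (add_eq_zero2.2 (MulAction.injective g (hg _ h3)))).elim
  · simp [h3, hy]

theorem Base.tv_of_eight (h : Base G B B') (hf : ∀ g : G, (∀ v : V, g • v = v) → g = 1)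
    (h8 : Nat.card V = 8) : HasTv G B := by
  by_contra ht
  obtain ⟨φ, -, hφ⟩ := exists_ne_zero_of_card (Y := (⊤ : AddSubgroup V'))
    (by rw [AddSubgroup.card_top]; have := h.flip.big; omega)
  obtain ⟨a, b, ha, hb, hba, h1, h2, -⟩ := h.exists_fix hφ (S := ⊥) bot_le IsPGroup.of_bot
  obtain ⟨y, hy⟩ := h.exists_one hφ
  have h3 := eq_ln_of_card (by have := h.card_hyp hφ; omega) (h.mem_hyp.2 h1) (h.mem_hyp.2 h2)
    ha hb hba
  obtain ⟨g, h4, h5, h6⟩ := h.tfull (c := y) ⟨ha, hb, hba, by rw [← h3, h.mem_hyp, hy]; simp⟩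
  rw [h.eq_one hf ht hφ (g := g) fun v hv => by
    rw [← h.mem_hyp, h3] at hv
    rcases hv with rfl | rfl | rfl | rfl <;> simp [h4, h5], one_smul, left_eq_add] at h6
  exact ha h6

theorem Base.card_le_eight (h : Base G B B') (hf : ∀ g : G, (∀ v : V, g • v = v) → g = 1)
    (ht : ¬ HasTv G B) (h16 : Nat.card V = 16) {P : Subgroup G} (hP : IsPGroup 2 P) :
    Nat.card P ≤ 8 := by
  obtain ⟨φ, -, hφ, h0⟩ := exists_fix_mod (V := V') hP (X := ⊤) (Y := ⊥) (by simp) (by simp)
    fun h0 => by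
      have := AddSubgroup.card_le_of_le h0
      rw [AddSubgroup.card_top, AddSubgroup.card_bot] at this
      have := h.flip.big; omega
  simp only [AddSubgroup.mem_bot, add_eq_zero2] at h0 hφ
  obtain ⟨a, b, ha, hb, hba, h1, h2, h3, h4⟩ := h.exists_fix hφ (S := P) h0 hP
  have h5 := h.card_hyp hφ
  have h6 := ln_le (h.mem_hyp.2 h1) (h.mem_hyp.2 h2)
  have h7 : Nat.card (perp B' (pt φ)) = 2 * Nat.card (ln a b) := by rw [card_ln ha hb hba]; omega
  obtain ⟨c, h8, h9⟩ := exists_not_mem (X := ln a b) (Y := perp B' (pt φ))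
    (by rw [card_ln ha hb hba]; omega)
  have h10 : ∀ s ∈ P, ∀ v ∈ ln a b, s • v ∈ ln a b := fun s hs v hv => by
    rcases hv with rfl | rfl | rfl | rfl <;> rcases h4 s hs with h | h <;>
      simp [h3 s hs, h, mem_ln, add_comm]
  let f : P → pt a × ln a b := fun s => (⟨s.1 • b + b, by
    rcases h4 s s.2 with h | h <;> simp [h, mem_pt]⟩, ⟨s.1 • c + c, add_mem_of_card h6 h7
      (by rw [h.mem_hyp, ← h0 s s.2, h.inv, h.mem_hyp.1 h8]) h8
      (fun h11 => h9 (by simpa using h10 _ (inv_mem s.2) _ h11)) h9⟩)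
  have h11 := Nat.card_le_card_of_injective f fun s t hst => by
    have h11 : s.1 • b = t.1 • b := add_right_cancel (congrArg (fun x => x.1.1) hst)
    have h12 : s.1 • c = t.1 • c := add_right_cancel (congrArg (fun x => x.2.1) hst)
    have h13 : ∀ v ∈ ln a b, s.1 • v = t.1 • v := fun v hv => by
      rcases hv with rfl | rfl | rfl | rfl <;> simp [h3, h11]
    refine Subtype.ext (inv_mul_eq_one.1 (h.eq_one hf ht hφ fun v hv => ?_)).symm
    rw [mul_smul, inv_smul_eq_iff]
    by_cases h14 : v ∈ ln a b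
    · exact h13 v h14
    · have := h13 _ (add_mem_of_card h6 h7 (h.mem_hyp.2 hv) h8 h14 h9)
      rwa [smul_add, smul_add, h12, add_left_inj] at this
  rwa [Nat.card_prod, card_pt ha, card_ln ha hb hba] at h11

theorem Base.tv_of_full (h : Base G B B') (hf : ∀ g : G, (∀ v : V, g • v = v) → g = 1)
    (h32 : 32 ≤ Nat.card V) {φ : V'} (hφ : φ ≠ 0)
    (hfull : ∀ σ : perp B' (pt φ) ≃+ perp B' (pt φ), ∃ g : G, g • φ = φ ∧
      ∀ v : perp B' (pt φ), g • (v : V) = σ v) : HasTv G B := by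
  by_contra ht
  have h1 : ∀ a ψ, B a φ = 0 → B a ψ = 0 → ∃ g : G, g • φ = φ ∧
      ∀ v, B v φ = 0 → g • v = v + sc (B v ψ) a := fun a ψ h1 h2 => by
    let f : perp B' (pt φ) → perp B' (pt φ) := fun v =>
      ⟨v + sc (B v ψ) a, add_mem v.2 (sc_mem _ (h.mem_hyp.2 h1))⟩
    have hf : Function.Involutive f := fun v => Subtype.ext (by
      have := map_sc (B' ψ) (B v ψ) ((h.compat a ψ).trans h2)
      rw [h.compat] at this
      simp [f, this])
    obtain ⟨g, h3, h4⟩ := hfull ⟨hf.toPerm, fun v w => Subtype.ext (by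
      simp [f, sc_add, add_add_add_comm])⟩
    exact ⟨g, h3, fun v hv => h4 ⟨v, h.mem_hyp.2 hv⟩⟩
  obtain ⟨a, b, ha, hb, hba, h2, h3, -⟩ := h.exists_fix hφ (S := ⊥) bot_le IsPGroup.of_bot
  obtain ⟨ψ, h4, h5⟩ := h.sep (not_mem_pt.2 ⟨hb, hba⟩)
  rw [mem_perp_pt] at h4
  obtain ⟨g, h6, h7⟩ := h1 a ψ h2 h4
  obtain ⟨y, hy⟩ := h.exists_one hφ
  have h8 : ∀ g : G, g • φ = φ → B (g • y + y) φ = 0 := fun g hg => by
    have := h.inv g y φ
    rw [hg] at this
    simp [this]
  have h9 : g • y + y ∈ pt a := by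
    by_contra h9
    obtain ⟨χ, h10, h11⟩ := h.sep h9
    rw [mem_perp_pt] at h10
    obtain ⟨a', h12, h13⟩ := exists_not_mem (X := pt a)
      (Y := (perp B' (pt φ) ⊓ (B' ψ).ker) ⊓ (B' χ).ker) (by
        have h12 := card_le_two_mul (perp B' (pt φ)) (B' ψ)
        have h13 := card_le_two_mul (perp B' (pt φ) ⊓ (B' ψ).ker) (B' χ)
        have := h.card_hyp hφ
        rw [card_pt ha]; omega)
    have h14 := h.mem_hyp.1 h12.1.1
    have h15 : B a' ψ = 0 := (h.compat _ _).symm.trans h12.1.2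
    obtain ⟨k, h16, h17⟩ := h1 a' χ h14 ((h.compat _ _).symm.trans h12.2)
    have h18 := h.eq_one hf ht hφ (g := (k * g)⁻¹ * (g * k)) fun v hv => by
      rw [mul_smul, inv_smul_eq_iff, mul_smul, mul_smul, h17 v hv, h7 v hv, smul_add, smul_add,
        smul_sc, smul_sc, h17 v hv, h7 v hv, h7 a' h14, h17 a h2, h15, h10]
      simp [add_right_comm]
    have h19 : g • k • y = k • g • y := by rw [← mul_smul, ← mul_smul, inv_mul_eq_one.1 h18]
    have h20 := h7 _ (h8 k h16)
    have h21 := h17 _ (h8 g h6)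
    rw [smul_add, h19, add_comm, add_eq_iff2] at h20
    rw [smul_add, add_comm, add_eq_iff2, h20, h11, sc_one, ← add_assoc, ← add_assoc, ← add_assoc,
      ← add_assoc, add_comm (k • y) (g • y), add_right_inj] at h21
    exact h13 (h21 ▸ sc_mem _ (Or.inr rfl))
  have h10 : ∀ μ, B a μ = 0 → (∀ v, B v φ = 0 → B v μ = B v ψ) → g • y + y = sc (B y μ) a →
      False := fun μ h10 h11 h12 => ht ⟨g, a, μ, ha, by
        rintro rfl; simpa [h5] using h11 b h3, h10, fun v => by
      rcases z2_cases (B v φ) with h13 | h13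
      · rw [h11 v h13, h7 v h13]
      · have h14 : B (v + y) φ = 0 := by simp [h13, hy]
        have := h7 _ h14
        rw [← h11 _ h14, map_add, AddMonoidHom.add_apply, sc_add, ← h12, smul_add, add_comm,
          add_eq_iff2] at this
        rw [this, ← add_eq_zero2]
        abel_nf
        simp [two_zsmul]⟩
  by_cases h11 : g • y + y = sc (B y ψ) a
  · exact h10 ψ h4 (fun _ _ => rfl) h11
  · refine h10 (ψ + φ) (by simp [h4, h2]) (fun v hv => by simp [hv]) ?_
    rw [map_add, hy]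
    rcases h9 with h9 | h9 <;> rcases z2_cases (B y ψ) with h12 | h12 <;> simp [h9, h12] at h11 ⊢

theorem full_of_small (h4 : Nat.card V ≤ 4) (t : T2 G V) : Full G V := fun σ => by
  by_cases h : ∃ a b : V, a ≠ 0 ∧ b ≠ 0 ∧ b ≠ a
  · obtain ⟨a, b, ha, hb, hba⟩ := h
    obtain ⟨g, h1, h2⟩ := t a b (σ a) (σ b) ha hb hba (by simpa) (by simpa) (by simpa)
    refine ⟨g, fun v => ?_⟩
    have h3 : v ∈ ln a b := (AddSubgroup.eq_of_le_of_card_ge (le_top (a := ln a b))
      (by rwa [card_ln ha hb hba, AddSubgroup.card_top])).ge trivial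
    rcases h3 with rfl | rfl | rfl | rfl <;> simp [h1, h2]
  · push Not at h
    refine ⟨1, fun v => ?_⟩
    by_cases h1 : v = 0
    · simp [h1]
    · rw [one_smul, h v (σ v) h1 (by simpa)]

/-- the action of the stabilizer of a hyperplane on it -/
@[reducible] def Pre.hypAct (h : Pre G B B') (φ : V') :
    DistribMulAction (stabilizer G φ) (perp B' (pt φ)) where
  smul g v := ⟨g.1 • v, by
    have := h.inv g.1 v φ
    rw [g.2] at this
    rw [mem_perp_pt, h.compat, this, ← h.compat]; exact mem_perp_pt.1 v.2⟩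
  one_smul v := Subtype.ext (one_smul G v.1)
  mul_smul a b v := Subtype.ext (mul_smul a.1 b.1 v.1)
  smul_zero a := Subtype.ext (smul_zero a.1)
  smul_add a v w := Subtype.ext (smul_add a.1 v.1 w.1)

variable (V) in
/-- the dual space -/
def Dl : Type _ := V →+ ZMod 2

instance dlAddCommGroup : AddCommGroup (Dl V) := inferInstanceAs (AddCommGroup (V →+ ZMod 2))

/-- the evaluation pairing -/
def dlB : V →+ Dl V →+ ZMod 2 := AddMonoidHom.eval
/-- the transposed evaluation pairing -/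
def dlB' : Dl V →+ V →+ ZMod 2 := AddMonoidHom.id (V →+ ZMod 2)

instance dlFinite : Finite (Dl V) :=
  Finite.of_injective (fun φ : Dl V => ⇑(dlB' φ)) fun _ _ h => AddMonoidHom.ext (congrFun h)
instance dlCh2 : Ch2 (Dl V) := ⟨fun φ => AddMonoidHom.ext fun v => add_self2 (dlB' φ v)⟩
instance dlAct : DistribMulAction G (Dl V) where
  smul g φ := (dlB' φ).comp (DistribSMul.toAddMonoidHom V g⁻¹)
  one_smul φ := AddMonoidHom.ext fun v => congrArg (dlB' φ) (show (1 : G)⁻¹ • v = v by simp)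
  mul_smul a b φ := AddMonoidHom.ext fun v => congrArg (dlB' φ)
    (show (a * b)⁻¹ • v = b⁻¹ • a⁻¹ • v by simp [mul_smul])
  smul_zero a := rfl
  smul_add a v w := rfl

theorem pre_dl : Pre G (V := V) dlB dlB' := by
  refine ⟨⟨fun _ _ => rfl, fun v hv => ?_, fun φ hφ => AddMonoidHom.ext hφ⟩,
    fun g v φ => congrArg (dlB' φ) (inv_smul_smul g v)⟩
  letI : Module (ZMod 2) V := AddCommGroup.zmodModule fun x => by rw [two_nsmul, add_self2]
  exact (Module.forall_dual_apply_eq_zero_iff (ZMod 2) v).1 fun φ => hv φ.toAddMonoidHom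

end

universe u v

/-- **Cameron–Kantor** for `q = 2`: a linear group over `F₂` that is doubly transitive on nonzero
vectors is the full general linear group, with a possible exception in dimension four. -/
theorem cameron_kantor (n : ℕ) : ∀ (G : Type u) (V : Type v) [Group G] [Finite G] [AddCommGroup V]
    [Finite V] [Ch2 V] [DistribMulAction G V], Nat.card V = n →
    (∀ g : G, (∀ v : V, g • v = v) → g = 1) → T2 G V →
    Full G V ∨ (Nat.card V = 16 ∧ ∀ P : Subgroup G, IsPGroup 2 P → Nat.card P ≤ 8) := by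
  induction n using Nat.strong_induction_on with | _ n ih => ?_
  intro G V _ _ _ _ _ _ hn hf t
  by_cases h4 : Nat.card V ≤ 4
  · exact Or.inl (full_of_small h4 t)
  obtain ⟨k, hk⟩ := exists_card_pow (V := V)
  have h8 : 8 ≤ Nat.card V := by rcases k with _ | _ | _ | k <;> omega
  have h : Base G (V := V) dlB dlB' :=
    ⟨pre_dl, t, pre_dl.t2_dual t (by omega), h8⟩
  by_cases ht : HasTv G (V := V) dlB
  · exact Or.inl (h.full ht)
  by_cases h16 : Nat.card V = 16
  · exact Or.inr ⟨h16, fun P hP => h.card_le_eight hf ht h16 hP⟩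
  have h8' : Nat.card V ≠ 8 := fun h8 => ht (h.tv_of_eight hf h8)
  have h32 : 32 ≤ Nat.card V := by rcases k with _ | _ | _ | _ | _ | k <;> omega
  obtain ⟨φ, -, hφ⟩ := exists_ne_zero_of_card (Y := (⊤ : AddSubgroup (Dl V)))
    (by rw [AddSubgroup.card_top]; have := h.flip.big; omega)
  letI := h.hypAct φ
  have h1 := h.card_hyp hφ
  exfalso
  rcases ih _ (by omega) (stabilizer G φ) (perp dlB' (pt φ)) rfl
    (fun g hg => Subtype.ext (h.eq_one hf ht hφ fun v hv =>
      congrArg Subtype.val (hg ⟨v, h.mem_hyp.2 hv⟩)))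
    (fun a b c d ha hb hba hc hd hdc => by
      obtain ⟨g, h2, h3, h4⟩ := h.t2_hyp hφ (a := a) (b := b) (c := c) (d := d) (by simpa)
        (by simpa) (by simpa) (by simpa) (by simpa) (by simpa) (h.mem_hyp.1 a.2) (h.mem_hyp.1 b.2)
        (h.mem_hyp.1 c.2) (h.mem_hyp.1 d.2)
      exact ⟨⟨g, h4⟩, Subtype.ext h2, Subtype.ext h3⟩) with h2 | ⟨h2, h3⟩
  · exact ht (h.tv_of_full hf h32 hφ fun σ => (h2 σ).elim fun g hg =>
      ⟨g.1, g.2, fun v => congrArg Subtype.val (hg v)⟩)
  · obtain ⟨S, hS, hS2, hS'⟩ := exists_sylow (stabilizer G φ)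
    obtain ⟨y, hy⟩ := h.exists_one hφ
    choose f h5 h6 using fun w : perp dlB' (pt φ) => h.sylow_trA hφ hS hS' hy
      (z := y + w) (by rw [map_add, AddMonoidHom.add_apply, hy, h.mem_hyp.1 w.2, add_zero])
    have h7 := Nat.card_le_card_of_injective (fun w => (⟨f w, h5 w⟩ : S)) fun w w' h7 =>
      Subtype.ext (add_left_cancel (a := y) (by rw [← h6, ← h6, show f w = f w' from
        congrArg Subtype.val h7]))
    have h9 := h3 (S.subgroupOf _) (hS2.of_equiv (Subgroup.subgroupOfEquivOfLe hS).symm)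
    rw [Nat.card_congr (Subgroup.subgroupOfEquivOfLe hS).toEquiv] at h9
    omega

end CfsgLib.H9.CK
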