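import Mathlib
import Cfsg.Agent.Lib.ClassCount

/-! # Perfect pairings of elementary abelian 2-groups and a Fourier criterion for orbits -/

set_option autoImplicit false

namespace CfsgLib.H9.CK

open Finset MulAction

/-- additive groups of exponent two -/
class Ch2 (V : Type*) [AddCommGroup V] : Prop where
  add_self : ∀ v : V, v + v = 0

section ch2
variable {V : Type*} [AddCommGroup V] [Ch2 V]

@[simp] theorem add_self2 (v : V) : v + v = 0 := Ch2.add_self v
@[simp] theorem add_add_self_left (a b : V) : a + (a + b) = b := by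
  rw [← add_assoc, add_self2, zero_add]
@[simp] theorem add_add_self_right (a b : V) : a + b + b = a := by
  rw [add_assoc, add_self2, add_zero]
@[simp] theorem add_add_self_left' (a b : V) : a + (b + a) = b := by
  rw [add_comm b, add_add_self_left]
@[simp] theorem add_add_self_right' (a b : V) : a + b + a = b := by
  rw [add_comm a, add_add_self_right]
theorem neg_eq2 (v : V) : -v = v := neg_eq_of_add_eq_zero_left (add_self2 v)
theorem add_eq_zero2 {a b : V} : a + b = 0 ↔ a = b := by rw [add_eq_zero_iff_eq_neg, neg_eq2]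
theorem add_eq_iff2 {a b c : V} : a + b = c ↔ b = a + c :=
  ⟨fun h => by rw [← h, add_add_self_left], fun h => by rw [h, add_add_self_left]⟩

instance ch2_zmod : Ch2 (ZMod 2) := ⟨by decide⟩

instance ch2_addSubgroup (X : AddSubgroup V) : Ch2 X := ⟨fun v => Subtype.ext (add_self2 v.1)⟩

/-- additive subgroup from a zero-containing set closed under addition -/
def mkSub (s : Set V) (h0 : 0 ∈ s) (h : ∀ a ∈ s, ∀ b ∈ s, a + b ∈ s) : AddSubgroup V where
  carrier := s
  zero_mem' := h0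
  add_mem' := fun {a b} ha hb => h a ha b hb
  neg_mem' := fun {a} ha => by rwa [neg_eq2]

theorem mem_mkSub {s : Set V} {h0 : 0 ∈ s} {h : ∀ a ∈ s, ∀ b ∈ s, a + b ∈ s} {v : V} :
    v ∈ mkSub s h0 h ↔ v ∈ s := Iff.rfl

/-- the subgroup `{0, a}` -/
def pt (a : V) : AddSubgroup V := mkSub {v | v = 0 ∨ v = a} (Or.inl rfl) (by
  rintro _ (rfl | rfl) _ (rfl | rfl) <;> simp)

theorem mem_pt {a v : V} : v ∈ pt a ↔ v = 0 ∨ v = a := Iff.rfl

/-- the subgroup `{0, a, b, a + b}` -/
def ln (a b : V) : AddSubgroup V := mkSub {v | v = 0 ∨ v = a ∨ v = b ∨ v = a + b} (Or.inl rfl) (by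
  rintro _ (rfl | rfl | rfl | rfl) _ (rfl | rfl | rfl | rfl) <;> simp [add_comm])

theorem mem_ln {a b v : V} : v ∈ ln a b ↔ v = 0 ∨ v = a ∨ v = b ∨ v = a + b := Iff.rfl

theorem ln_le {a b : V} {X : AddSubgroup V} (ha : a ∈ X) (hb : b ∈ X) : ln a b ≤ X := by
  rintro _ (rfl | rfl | rfl | rfl)
  exacts [X.zero_mem, ha, hb, X.add_mem ha hb]

theorem card_pt {a : V} (ha : a ≠ 0) : Nat.card (pt a) = 2 := by
  change Nat.card ({0, a} : Set V) = 2
  rw [Nat.card_coe_set_eq, Set.ncard_pair ha.symm]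

theorem card_ln {a b : V} (ha : a ≠ 0) (hb : b ≠ 0) (hab : b ≠ a) : Nat.card (ln a b) = 4 := by
  change Nat.card ({0, a, b, a + b} : Set V) = 4
  have h1 : a + b ≠ 0 := fun h => hab (add_eq_zero2.1 h).symm
  rw [Nat.card_coe_set_eq, Set.ncard_insert_of_notMem (by simp [ha.symm, hb.symm, h1.symm]),
    Set.ncard_insert_of_notMem (by simp [hab.symm, hb]), Set.ncard_pair (by simp [ha])]

theorem eq_ln_of_card [Finite V] {a b : V} {X : AddSubgroup V} (hX : Nat.card X = 4) (ha : a ∈ X)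
    (hb : b ∈ X) (ha0 : a ≠ 0) (hb0 : b ≠ 0) (hab : b ≠ a) : X = ln a b :=
  (AddSubgroup.eq_of_le_of_card_ge (ln_le ha hb) (by rw [hX, card_ln ha0 hb0 hab])).symm

theorem eq_pt_of_card [Finite V] {a : V} {X : AddSubgroup V} (hX : Nat.card X = 2) (ha : a ∈ X)
    (ha0 : a ≠ 0) : X = pt a :=
  (AddSubgroup.eq_of_le_of_card_ge (by rintro _ (rfl | rfl); exacts [X.zero_mem, ha])
    (by rw [hX, card_pt ha0])).symm

theorem isPGroup_two : IsPGroup 2 (Multiplicative V) := fun v =>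
  ⟨1, by rw [pow_one, sq]; exact congrArg Multiplicative.ofAdd (add_self2 v.toAdd)⟩

theorem exists_card_pow [Finite V] : ∃ k, Nat.card V = 2 ^ k :=
  IsPGroup.iff_card (G := Multiplicative V).1 (isPGroup_two (V := V))

theorem add_mem_of_card {X Y : AddSubgroup V} [Finite V] (hXY : X ≤ Y)
    (h : Nat.card Y = 2 * Nat.card X) {a b : V} (ha : a ∈ Y) (hb : b ∈ Y) (ha' : a ∉ X)
    (hb' : b ∉ X) : a + b ∈ X := by
  have h1 : (X.addSubgroupOf Y).index = 2 := by
    have := (X.addSubgroupOf Y).card_mul_index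
    rw [Nat.card_congr (AddSubgroup.addSubgroupOfEquivOfLe hXY).toEquiv, h, mul_comm 2] at this
    exact Nat.eq_of_mul_eq_mul_left Nat.card_pos this
  exact (AddSubgroup.add_mem_iff_of_index_two h1 (a := ⟨a, ha⟩) (b := ⟨b, hb⟩)).2
    (iff_of_false ha' hb')

end ch2

theorem z2_cases (x : ZMod 2) : x = 0 ∨ x = 1 := by revert x; decide
theorem z2_ne_zero {x : ZMod 2} : x ≠ 0 ↔ x = 1 := by revert x; decide
theorem z2_ne_one {x : ZMod 2} : x ≠ 1 ↔ x = 0 := by revert x; decide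

/-- the sign character -/
def chi (x : ZMod 2) : ℤ := if x = 0 then 1 else -1

theorem chi_add (x y : ZMod 2) : chi (x + y) = chi x * chi y := by revert x y; decide

theorem sum_chi {A : Type*} [AddCommGroup A] [Fintype A] (f : A →+ ZMod 2) [Decidable (f = 0)] :
    ∑ a, chi (f a) = if f = 0 then (Fintype.card A : ℤ) else 0 := by
  split_ifs with h
  · simp [h, chi]
  · obtain ⟨a, ha⟩ := DFunLike.ne_iff.1 h
    have h1 := Equiv.sum_comp (Equiv.addRight a) fun b => chi (f b)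
    simp only [Equiv.coe_addRight, map_add, chi_add, z2_ne_zero.1 ha] at h1
    rw [← sum_mul, show chi 1 = -1 from rfl] at h1
    linarith

variable {V V' : Type*} [AddCommGroup V] [AddCommGroup V']

/-- the annihilator of a subgroup -/
def perp (B : V →+ V' →+ ZMod 2) (X : AddSubgroup V) : AddSubgroup V' where
  carrier := {φ | ∀ v ∈ X, B v φ = 0}
  zero_mem' := fun v _ => map_zero _
  add_mem' := fun {a b} ha hb v hv => by rw [map_add, ha v hv, hb v hv, add_zero]
  neg_mem' := fun {a} ha v hv => by rw [map_neg, ha v hv, neg_zero]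

theorem mem_perp {B : V →+ V' →+ ZMod 2} {X : AddSubgroup V} {φ : V'} :
    φ ∈ perp B X ↔ ∀ v ∈ X, B v φ = 0 := Iff.rfl

theorem perp_anti {B : V →+ V' →+ ZMod 2} {X Y : AddSubgroup V} (h : X ≤ Y) :
    perp B Y ≤ perp B X := fun _ hφ v hv => hφ v (h hv)

theorem mem_perp_pt [Ch2 V] {B : V →+ V' →+ ZMod 2} {a : V} {φ : V'} :
    φ ∈ perp B (pt a) ↔ B a φ = 0 :=
  ⟨fun h => h a (Or.inr rfl), fun h v hv => by rcases hv with rfl | rfl <;> simp [h]⟩

theorem mem_perp_ln [Ch2 V] {B : V →+ V' →+ ZMod 2} {a b : V} {φ : V'} :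
    φ ∈ perp B (ln a b) ↔ B a φ = 0 ∧ B b φ = 0 :=
  ⟨fun h => ⟨h a (by simp [mem_ln]), h b (by simp [mem_ln])⟩, fun h v hv => by
    rcases hv with rfl | rfl | rfl | rfl <;> simp [h.1, h.2]⟩

/-- a perfect pairing together with its transpose -/
structure Perf (B : V →+ V' →+ ZMod 2) (B' : V' →+ V →+ ZMod 2) : Prop where
  compat : ∀ v φ, B' φ v = B v φ
  left : ∀ v, (∀ φ, B v φ = 0) → v = 0
  right : ∀ φ, (∀ v, B v φ = 0) → φ = 0

namespace Perf
variable {B : V →+ V' →+ ZMod 2} {B' : V' →+ V →+ ZMod 2} (h : Perf B B')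
include h

theorem flip : Perf B' B :=
  ⟨fun φ v => (h.compat v φ).symm, fun φ hφ => h.right φ fun v => (h.compat v φ).symm.trans (hφ v),
    fun v hv => h.left v fun φ => (h.compat v φ).symm.trans (hv φ)⟩

theorem exists_one {φ : V'} (hφ : φ ≠ 0) : ∃ v, B v φ = 1 := by
  by_contra hc
  push Not at hc
  exact hφ (h.right φ fun v => z2_ne_one.1 (hc v))

variable [Finite V] [Finite V']

theorem card_mul_card_perp (X : AddSubgroup V) :
    Nat.card X * Nat.card (perp B X) = Nat.card V' := by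
  classical
  have := Fintype.ofFinite V
  have := Fintype.ofFinite V'
  have h1 : ∑ v : X, ∑ φ : V', chi (B v φ) = Fintype.card V' := by
    rw [sum_eq_single (0 : X) (fun v _ hv => ?_) (by simp)]
    · simp [chi]
    · rw [sum_chi, if_neg fun h0 => hv (Subtype.ext (h.left _ fun φ => by rw [h0]; rfl))]
  have h2 : ∀ φ : V', ∑ v : X, chi (B v φ) = if φ ∈ perp B X then (Fintype.card X : ℤ) else 0 :=
    fun φ => by
      have := sum_chi ((B' φ).comp X.subtype)
      simp only [AddMonoidHom.comp_apply, h.compat, AddSubgroup.coe_subtype] at this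
      rw [this]
      refine if_congr ⟨fun h0 v hv => ?_, fun h0 => AddMonoidHom.ext fun v => ?_⟩ rfl rfl
      · exact (h.compat v φ).symm.trans (DFunLike.congr_fun h0 ⟨v, hv⟩)
      · exact (h.compat v φ).trans (h0 v v.2)
  rw [sum_comm, sum_congr rfl fun φ _ => h2 φ, ← sum_filter, sum_const, nsmul_eq_mul] at h1
  rw [Nat.card_eq_fintype_card, Nat.card_eq_fintype_card, Nat.card_eq_fintype_card,
    Fintype.card_subtype (· ∈ perp B X), mul_comm]
  exact_mod_cast h1

theorem card_eq : Nat.card V' = Nat.card V := by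
  have h1 := h.card_mul_card_perp ⊤
  rw [show perp B ⊤ = ⊥ from eq_bot_iff.2 fun φ hφ => h.right φ fun v => hφ v trivial,
    AddSubgroup.card_bot, mul_one, AddSubgroup.card_top] at h1
  exact h1.symm

theorem perp_perp (X : AddSubgroup V) : perp B' (perp B X) = X := by
  refine (AddSubgroup.eq_of_le_of_card_ge (show X ≤ perp B' (perp B X) from
    fun v hv φ hφ => (h.compat v φ).trans (hφ v hv)) ?_).symm
  have h1 := h.card_mul_card_perp X
  have h2 := h.flip.card_mul_card_perp (perp B X)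
  rw [← h.card_eq, ← h1, mul_comm] at h2
  exact (Nat.eq_of_mul_eq_mul_right Nat.card_pos h2).le

theorem sep {X : AddSubgroup V} {v : V} (hv : v ∉ X) : ∃ φ ∈ perp B X, B v φ = 1 := by
  rw [← h.perp_perp X] at hv
  by_contra hc
  push Not at hc
  exact hv fun φ hφ => (h.compat v φ).trans (z2_ne_one.1 (hc φ hφ))

theorem sep_sup [Ch2 V] {X : AddSubgroup V} {u v : V} (hu : u ∉ X) (hv : v ∉ X) :
    ∃ φ ∈ perp B X, B u φ = 1 ∧ B v φ = 1 := by
  obtain ⟨φ, h1, h2⟩ := h.sep hu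
  obtain ⟨ψ, h3, h4⟩ := h.sep hv
  rcases z2_cases (B v φ) with h5 | h5
  · rcases z2_cases (B u ψ) with h6 | h6
    · exact ⟨φ + ψ, add_mem h1 h3, by simp [h2, h6], by simp [h4, h5]⟩
    · exact ⟨ψ, h3, h6, h4⟩
  · exact ⟨φ, h1, h2, h5⟩

/-- the Fourier criterion -/
theorem fourier {G : Type*} [Group G] [DistribMulAction G V] [DistribMulAction G V'] [Ch2 V]
    [Ch2 V'] (hinv : ∀ (g : G) v φ, B (g • v) (g • φ) = B v φ) (K : Subgroup G) {φ₁ φ₂ : V'} {u : V}
    (h1 : B u φ₁ = 1) (h2 : B u φ₂ = 1)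
    (h3 : ∀ v, B v (φ₁ + φ₂) = 1 → ∃ g ∈ K, g • v = v + u) : ∃ g ∈ K, g • φ₁ = φ₂ := by
  classical
  have := Fintype.ofFinite V
  have := Fintype.ofFinite V'
  set O := univ.filter fun φ : V' => ∃ g ∈ K, g • φ₁ = φ
  set F : V → ℤ := fun v => ∑ φ ∈ O, chi (B v φ)
  have hF : ∀ g ∈ K, ∀ v, F (g • v) = F v := fun g hg v => by
    refine (sum_bijective (g • ·) (MulAction.bijective g) (fun φ => ?_) fun φ _ => ?_).symm
    · simp only [O, mem_filter, mem_univ, true_and]
      exact ⟨fun ⟨a, ha, h⟩ => ⟨g * a, mul_mem hg ha, by rw [mul_smul, h]⟩, fun ⟨a, ha, h⟩ =>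
        ⟨g⁻¹ * a, mul_mem (inv_mem hg) ha, by rw [mul_smul, h, inv_smul_smul]⟩⟩
    · rw [hinv]
  have key : ∀ ψ, ∑ v, F v * chi (B v ψ) = if ψ ∈ O then (Fintype.card V : ℤ) else 0 := fun ψ => by
    simp only [F, sum_mul, ← chi_add, ← map_add]
    simp only [← h.compat]
    rw [sum_comm, sum_congr rfl fun φ _ => sum_chi (B' (φ + ψ)),
      ← sum_ite_eq' O ψ fun _ => (Fintype.card V : ℤ)]
    refine sum_congr rfl fun φ _ => if_congr ⟨fun h0 => add_eq_zero2.1 (h.right _ fun v => ?_),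
      fun h0 => by simp [h0]⟩ rfl rfl
    rw [← h.compat, h0]; rfl
  let σ : V → V := fun v => if B v (φ₁ + φ₂) = 1 then v + u else v
  have hu : B u (φ₁ + φ₂) = 0 := by simp [h1, h2]
  have hσ : Function.Involutive σ := fun v => by
    by_cases hv : B v (φ₁ + φ₂) = 1
    · simp only [σ, hv, if_true, map_add B, AddMonoidHom.add_apply, hu, add_zero,
        add_add_self_right]
    · simp only [σ, hv, if_false]
  have h4 := Equiv.sum_comp hσ.toPerm fun v => F v * chi (B v φ₂)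
  have h5 : ∀ v, F (σ v) * chi (B (σ v) φ₂) = F v * chi (B v φ₁) := fun v => by
    by_cases hv : B v (φ₁ + φ₂) = 1
    · obtain ⟨g, hg, h6⟩ := h3 v hv
      simp only [σ, hv, if_true]
      rw [← h6, hF g hg, h6, map_add, AddMonoidHom.add_apply, h2, ← hv, map_add,
        add_add_self_left']
    · simp only [σ, hv, if_false]
      rw [add_eq_zero2.1 ((map_add _ _ _).symm.trans (z2_ne_one.1 hv))]
  rw [Function.Involutive.coe_toPerm, sum_congr rfl fun v _ => h5 v, key, key,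
    if_pos (by simpa [O] using ⟨1, one_mem K, one_smul _ _⟩)] at h4
  by_contra hc
  rw [if_neg (by simpa [O] using hc)] at h4
  exact Fintype.card_ne_zero (by exact_mod_cast h4)

end Perf

section grp
variable {G α : Type*} [Group G] [Finite G] [MulAction G α]

theorem exists_sylow (K : Subgroup G) :
    ∃ S : Subgroup G, S ≤ K ∧ IsPGroup 2 S ∧ (S.relIndex K).Coprime 2 := by
  obtain ⟨P⟩ : Nonempty (Sylow 2 K) := inferInstance
  refine ⟨(P : Subgroup K).map K.subtype, Subgroup.map_subtype_le _, P.isPGroup'.map _, ?_⟩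
  rw [Subgroup.relIndex, Subgroup.subgroupOf, Subgroup.comap_map_eq_self_of_injective
    K.subtype_injective]
  exact ((Nat.Prime.coprime_iff_not_dvd Nat.prime_two).2 P.not_dvd_index).symm

theorem tr_sylow {S K : Subgroup G} (hSK : S ≤ K) (hS : (S.relIndex K).Coprime 2) {X : Set α}
    {k : ℕ} (hc : X.ncard = 2 ^ k) (hX : ∀ s ∈ S, ∀ x ∈ X, s • x ∈ X)
    (htr : ∀ x ∈ X, ∀ y ∈ X, ∃ g ∈ K, g • x = y ∧ ∀ z ∈ X, g • z ∈ X) :
    ∀ x ∈ X, ∀ y ∈ X, ∃ s ∈ S, s • x = y := by
  intro x hx y hy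
  let L : Subgroup G :=
    { carrier := {g | g ∈ K ∧ ∀ z ∈ X, g • z ∈ X}
      one_mem' := ⟨one_mem K, fun z hz => by rwa [one_smul]⟩
      mul_mem' := fun {a b} ha hb => ⟨mul_mem ha.1 hb.1, fun z hz => by
        rw [mul_smul]; exact ha.2 _ (hb.2 z hz)⟩
      inv_mem' := fun {a} ha => ⟨inv_mem ha.1, fun z hz => by
        have h1 : ∀ n : ℕ, a ^ n • z ∈ X := fun n => by
          induction n with
          | zero => rwa [pow_zero, one_smul]
          | succ n ih => rw [pow_succ', mul_smul]; exact ha.2 _ ih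
        obtain ⟨n, hn⟩ := mem_powers_iff_mem_zpowers.2 (inv_mem (Subgroup.mem_zpowers a))
        exact hn ▸ h1 n⟩ }
  have hSL : S ≤ L := fun s hs => ⟨hSK hs, hX s hs⟩
  have h1 : (stabilizer L x).index = 2 ^ k := by
    rw [index_stabilizer, ← hc]
    congr 1
    ext z
    exact ⟨fun ⟨g, hg⟩ => hg ▸ g.2.2 x hx, fun hz =>
      (htr x hx z hz).elim fun g hg => ⟨⟨g, hg.1, hg.2.2⟩, hg.2.1⟩⟩
  obtain ⟨g, hg, hgx, hg'⟩ := htr x hx y hy
  obtain ⟨s, hs, t, ht, hst⟩ := ClassCount.exists_mul_of_coprime_index (K := S.subgroupOf L)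
    (H := stabilizer L x) (by
      rw [h1]
      exact (hS.coprime_dvd_left (Dvd.intro _ (Subgroup.relIndex_mul_relIndex S L K hSL
        fun _ h => h.1))).pow_right k) ⟨g, hg, hg'⟩
  refine ⟨s, hs, ?_⟩
  rw [← hgx, show g = s * t from congrArg Subtype.val hst, mul_smul]
  exact congrArg _ ht.symm

theorem exists_fix_mod {V : Type*} [AddCommGroup V] [Finite V] [Ch2 V] [DistribMulAction G V]
    {S : Subgroup G} (hS : IsPGroup 2 S) {X Y : AddSubgroup V} (hX : ∀ s ∈ S, ∀ x ∈ X, s • x ∈ X)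
    (hY : ∀ s ∈ S, ∀ x ∈ Y, s • x ∈ Y) (h : ¬ X ≤ Y) :
    ∃ x ∈ X, x ∉ Y ∧ ∀ s ∈ S, s • x + x ∈ Y := by
  let f : S → V ⧸ Y →+ V ⧸ Y := fun s => QuotientAddGroup.map Y Y
    (DistribSMul.toAddMonoidHom V (s : G)) fun x hx => hY s s.2 x hx
  let T := X.map (QuotientAddGroup.mk' Y)
  letI : MulAction S T :=
    { smul := fun s c => ⟨f s c, by
        obtain ⟨_, x, hx, rfl⟩ := c
        exact ⟨_, hX s s.2 x hx, rfl⟩⟩
      one_smul := by
        rintro ⟨_, x, hx, rfl⟩
        exact Subtype.ext (congrArg QuotientAddGroup.mk (one_smul G x))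
      mul_smul := by
        rintro s t ⟨_, x, hx, rfl⟩
        exact Subtype.ext (congrArg QuotientAddGroup.mk (mul_smul (s : G) (t : G) x)) }
  obtain ⟨x₀, hx₀, hx₀'⟩ := SetLike.not_le_iff_exists.1 h
  have h1 : 2 ∣ Nat.card T := by
    have h2 : addOrderOf (⟨_, AddSubgroup.mem_map_of_mem _ hx₀⟩ : T) = 2 :=
      addOrderOf_eq_prime (Subtype.ext (by
        change 2 • QuotientAddGroup.mk' Y x₀ = 0
        rw [← map_nsmul, two_nsmul, add_self2, map_zero]))
        fun h0 => hx₀' ((QuotientAddGroup.eq_zero_iff _).1 (congrArg Subtype.val h0))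
    exact h2 ▸ addOrderOf_dvd_natCard _
  obtain ⟨⟨_, x, hx, rfl⟩, hc, hne⟩ := hS.exists_fixed_point_of_prime_dvd_card_of_fixed_point T h1
    (a := 0) fun s => Subtype.ext (map_zero (f s))
  refine ⟨x, hx, fun hxY => hne (Subtype.ext ((QuotientAddGroup.eq_zero_iff _).2 hxY).symm),
    fun s hs => ?_⟩
  have := QuotientAddGroup.eq.1 (congrArg Subtype.val (hc ⟨s, hs⟩))
  rwa [neg_eq2] at this

end grp

end CfsgLib.H9.CK
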