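import Cfsg.Agent.Lib.H9CK5
import Cfsg.Agent.Lib.BGroup

/-! # Transitive linear groups over `F₂` of prime degree -/

set_option autoImplicit false

namespace CfsgLib.H9.CK

open MulAction

variable {G V : Type*} [Group G] [AddCommGroup V] [Finite V] [DistribMulAction G V]

variable (G V) in
/-- the nonzero vectors as a `G`-set -/
def nzAct : SubMulAction G V where
  carrier := {v | v ≠ 0}
  smul_mem' := fun g _ h h0 => h ((smul_eq_zero_iff_eq g).1 h0)

theorem card_nzAct : Nat.card (nzAct G V) = Nat.card V - 1 := by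
  change Nat.card ({0}ᶜ : Set V) = _
  rw [Nat.card_coe_set_eq, Set.ncard_compl, Set.ncard_singleton]

theorem full_of_t2 [Finite G] [Ch2 V] (h16 : Nat.card V ≠ 16) (t : T2 G V) : Full G V := by
  letI : DistribMulAction (toPermHom G V).range V :=
    { smul_zero := fun ⟨_, g, hg⟩ => by subst hg; exact smul_zero g
      smul_add := fun ⟨_, g, hg⟩ => by subst hg; exact smul_add g }
  refine fun σ => ((cameron_kantor _ (toPermHom G V).range V rfl
    (fun g hg => Subtype.ext (Equiv.ext hg)) fun a b c d ha hb hba hc hd hdc => ?_).resolve_right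
      (fun h => h16 h.1) σ).elim fun ⟨_, g, hg⟩ h => ⟨g, fun v => by subst hg; exact h v⟩
  obtain ⟨g, h1, h2⟩ := t a b c d ha hb hba hc hd hdc
  exact ⟨⟨_, g, rfl⟩, h1, h2⟩

theorem full_or_metabelian [Finite G] [Ch2 V] (hp : (Nat.card V - 1).Prime)
    (htr : ∀ v w : V, v ≠ 0 → w ≠ 0 → ∃ g : G, g • v = w) :
    Full G V ∨ ∀ g ∈ derivedSeries G 2, ∀ v : V, g • v = v := by
  have : IsPretransitive G (nzAct G V) :=
    ⟨fun v w => (htr v w v.2 w.2).imp fun g hg => Subtype.ext hg⟩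
  refine (BGrp.burnside_prime_degree (G := G) (Ω := nzAct G V) (by rwa [card_nzAct])).imp
    (fun h => full_of_t2 (fun h16 => by rw [h16] at hp; norm_num at hp)
      fun a b c d ha hb hba hc hd hdc => ?_) fun h g hg v => ?_
  · obtain ⟨g, h1, h2⟩ := is_two_pretransitive_iff.1 h (show (⟨a, ha⟩ : nzAct G V) ≠ ⟨b, hb⟩ from
      fun h => hba (congrArg Subtype.val h).symm) (show (⟨c, hc⟩ : nzAct G V) ≠ ⟨d, hd⟩ from
      fun h => hdc (congrArg Subtype.val h).symm)
    exact ⟨g, congrArg Subtype.val h1, congrArg Subtype.val h2⟩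
  · by_cases hv : v = 0
    · rw [hv, smul_zero]
    · exact congrArg Subtype.val (DFunLike.congr_fun (h hg) ⟨v, hv⟩)

/-- a faithful linear group of prime order `|V| - 1` is transitive on nonzero vectors -/
theorem trans_of_card (hp : (Nat.card V - 1).Prime) (hf : ∀ g : G, (∀ v : V, g • v = v) → g = 1)
    (hG : Nat.card G = Nat.card V - 1) {v w : V} (hv : v ≠ 0) (hw : w ≠ 0) : ∃ g : G, g • v = w := by
  have : Finite G := Nat.finite_of_card_ne_zero (hG ▸ hp.ne_zero)
  have : Nontrivial G := Finite.one_lt_card_iff_nontrivial.1 (hG ▸ hp.one_lt)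
  obtain ⟨g, hg⟩ := exists_ne (1 : G)
  obtain ⟨u, hu⟩ := not_forall.1 (mt (hf g) hg)
  have h1 : orbit G u = {0}ᶜ := by
    refine Set.eq_of_subset_of_ncard_le (fun x ⟨k, hk⟩ h0 => hu ?_) ?_
    · rw [(smul_eq_zero_iff_eq k).1 (hk.trans h0), smul_zero]
    · rw [Set.ncard_compl, Set.ncard_singleton, ← index_stabilizer]
      refine ((Nat.dvd_prime hp).1 (hG ▸ (stabilizer G u).index_dvd_card)).elim (fun h => ?_) (·.ge)
      exact (hu ((Subgroup.index_eq_one.1 h).ge (Subgroup.mem_top g))).elim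
  obtain ⟨a, rfl⟩ : v ∈ orbit G u := h1 ▸ hv
  obtain ⟨b, rfl⟩ : w ∈ orbit G u := h1 ▸ hw
  exact ⟨b * a⁻¹, by simp [mul_smul]⟩

end CfsgLib.H9.CK
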