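import Cfsg.Agent.Lib.H9Exc
import Cfsg.Agent.Lib.H1S4

/-! # Hall–Higman bounds for the `p`-length -/

set_option autoImplicit false

namespace CfsgLib.H9

open Module Subgroup Polynomial CfsgLib.Fpf Cfsg
open scoped commutatorElement

universe u v w

section poly
variable {k : Type*} [Field k] {p : ℕ} [hp : Fact p.Prime] [CharP k p] {A : Type*} [Ring A]
  [Algebra k A]

variable (k) in
include k in
theorem sub_one_pow_char_pow (T : A) (n : ℕ) : (T - 1) ^ p ^ n = T ^ p ^ n - 1 := by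
  have := congrArg (aeval T) (sub_pow_char_pow (X : k[X]) 1 n (p := p))
  simpa using this

variable (k) in
include k in
theorem geom_eq_sub_one_pow (T : A) (n : ℕ) :
    ∑ i ∈ Finset.range (p ^ n), T ^ i = (T - 1) ^ (p ^ n - 1) := by
  have h : ∑ i ∈ Finset.range (p ^ n), (X : k[X]) ^ i = (X - 1) ^ (p ^ n - 1) := by
    refine mul_right_cancel₀ (b := X - 1) (by simpa using X_sub_C_ne_zero (1 : k)) ?_
    rw [geom_sum_mul, ← pow_succ, Nat.sub_add_cancel (pow_pos hp.out.pos n),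
      sub_one_pow_char_pow k]
  simpa [aeval_geom] using congrArg (aeval T) h

theorem exists_poly_of_sub_one_pow {T : A} {s : ℕ} (h : (T - 1) ^ s = 0) :
    ∃ f : k[X], f.Monic ∧ aeval T f = 0 ∧ f.natDegree = s :=
  ⟨(X - C 1) ^ s, (monic_X_sub_C 1).pow s, by simpa using h,
    by rw [(monic_X_sub_C 1).natDegree_pow, natDegree_X_sub_C, mul_one]⟩

end poly

section grp
variable {X : Type*} [Group X] [Finite X]

theorem isPGroup_of_forall_eq_one {p : ℕ} [hp : Fact p.Prime] {H : Subgroup X}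
    (h : ∀ c ∈ H, (orderOf c).Coprime p → c = 1) : IsPGroup p H := by
  refine IsPGroup.of_card (n := (Nat.card H).primeFactorsList.length)
    (Nat.eq_prime_pow_of_unique_prime_dvd Nat.card_pos.ne' fun {r} hr hd => ?_)
  by_contra hne
  have := Fact.mk hr
  obtain ⟨c, hc⟩ := exists_prime_orderOf_dvd_card' r hd
  have h1 : orderOf (c : X) = r := by rw [Subgroup.orderOf_coe, hc]
  rw [h c c.2 (h1 ▸ (Nat.coprime_primes hr hp.out).2 hne), orderOf_one] at h1
  exact hr.ne_one h1.symm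

theorem commutator_le_of_relIndex_four {Q R B : Subgroup X} (hB : IsPGroup 3 B)
    (hBQ : B ≤ normalizer (Q : Set X)) (hBR : B ≤ normalizer (R : Set X)) (hRQ : R ≤ Q)
    (hn : Q ≤ normalizer (R : Set X)) (h4 : R.relIndex Q = 4) : ⁅Q, ⁅B, B⁆⁆ ≤ R := by
  classical
  have := Fact.mk Nat.prime_three
  have hn' : (R.subgroupOf Q).Normal := (normal_subgroupOf_iff_le_normalizer hRQ).2 hn
  let φ := Cop.sectionAction B Q R hBQ hBR
  let f := (MulAut.toPerm (Q ⧸ R.subgroupOf Q)).comp φ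
  have := Fintype.ofFinite (Q ⧸ R.subgroupOf Q)
  obtain ⟨a, ha⟩ := IsPGroup.iff_card.1 (hB.of_surjective _ f.rangeRestrict_surjective)
  have h1 : Nat.card f.range ∣ 24 := by
    have := f.range.card_subgroup_dvd_card
    rwa [Nat.card_eq_fintype_card (α := Equiv.Perm _), Fintype.card_perm,
      Fintype.card_eq_nat_card, show Nat.card (Q ⧸ R.subgroupOf Q) = 4 from h4] at this
  have h2 : Nat.card f.range ∣ 3 := by
    rw [ha] at h1 ⊢
    exact (Nat.Coprime.pow_left a (by norm_num : Nat.Coprime 3 8)).dvd_of_dvd_mul_left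
      (show _ ∣ 8 * 3 from h1)
  have := isCyclic_of_card_dvd_prime h2
  have hB' : ⁅B, B⁆ ≤ B := Cop.commutator_le_left_of_le_normalizer le_normalizer
  refine (le_relCent_iff (hB'.trans hBR)).1 (commutator_le.2 fun b hb c hc =>
    ⟨hBR (hB' (commutator_mem_commutator hb hc)), fun g hg => ?_⟩)
  rw [← inv_mem_iff, commutatorElement_inv]
  refine (Cop.mem_ker_sectionAction hBQ hBR ⁅(⟨b, hb⟩ : B), ⟨c, hc⟩⁆).1 ?_ g hg
  have h3 : f ⁅(⟨b, hb⟩ : B), ⟨c, hc⟩⁆ = 1 := by
    rw [map_commutatorElement, commutatorElement_eq_one_iff_mul_comm]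
    exact congrArg Subtype.val (IsCyclic.isMulCommutative.is_comm.comm
      (f.rangeRestrict ⟨b, hb⟩) (f.rangeRestrict ⟨c, hc⟩))
  exact MulEquiv.ext fun v => Equiv.congr_fun h3 v

theorem eq_of_le_of_relIndex_le {R E F : Subgroup X} (h1 : R ≤ E) (h2 : E ≤ F)
    (h : R.relIndex F ≤ R.relIndex E) : E = F := by
  have h3 := relIndex_mul_relIndex R E F h1 h2
  have h4 : R.relIndex E ≠ 0 := index_ne_zero_of_finite
  have h5 : E.relIndex F ≠ 0 := index_ne_zero_of_finite
  refine le_antisymm h2 (relIndex_eq_one.1 ?_)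
  by_contra h6
  have : 2 ≤ E.relIndex F := by omega
  nlinarith [Nat.pos_of_ne_zero h4]

/-- commuting elements of order three with commutator space of order four -/
theorem commutator_le_of_four {Q R A : Subgroup X} (hA : IsPGroup 3 A) (hQ : IsPGroup 2 Q)
    (hAQ : A ≤ normalizer (Q : Set X)) (hAR : A ≤ normalizer (R : Set X)) (hRQ : R ≤ Q)
    (hc : ⁅Q, Q⁆ ≤ R) (hab : ⁅A, A⁆ = ⊥)
    (h : ∀ a ∈ A, ⁅Q, zpowers a⁆ ≤ R ∨ R.relIndex (⁅Q, zpowers a⁆ ⊔ R) = 4) {a₀ : X}
    (ha₀ : a₀ ∈ A) (hne : ¬ ⁅Q, zpowers a₀⁆ ≤ R) : ⁅Q, A⁆ ≤ ⁅Q, zpowers a₀⁆ ⊔ R := by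
  have := Fact.mk Nat.prime_three
  have h4 := (h a₀ ha₀).resolve_left hne
  have hz : ∀ a ∈ A, zpowers a ≤ A := fun a ha => zpowers_le.2 ha
  have hcop : ∀ a ∈ A, (Nat.card (zpowers a)).Coprime (Nat.card Q) := fun a ha =>
    Cop.coprime_card_of_isPGroup (coprime_card_of_isPGroup_of_ne Nat.prime_three Nat.prime_two
      (by norm_num) (hA.to_le (hz a ha))) hQ
  have hle : ∀ a ∈ A, ⁅Q, zpowers a⁆ ≤ Q := fun a ha =>
    Cop.commutator_le_left_of_le_normalizer ((hz a ha).trans hAQ)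
  have hAE : A ≤ normalizer ((⁅Q, zpowers a₀⁆ ⊔ R : Subgroup X) : Set X) :=
    le_normalizer_sup (Cop.le_normalizer_commutator hAQ
      ((Cop.commutator_eq_bot_iff_le_centralizer'.1 (le_bot_iff.1 ((commutator_mono (hz a₀ ha₀)
        le_rfl).trans hab.le))).trans (centralizer_le_normalizer _))) hAR
  have hE₀ := Cop.commutator_commutator_eq ((hz a₀ ha₀).trans hAQ) (hcop a₀ ha₀)
  set E := ⁅Q, zpowers a₀⁆ ⊔ R
  have hEQ : E ≤ Q := sup_le (hle a₀ ha₀) hRQ
  have key : ∀ a ∈ A, ¬ ⁅E, zpowers a⁆ ≤ R → ⁅Q, zpowers a⁆ ≤ E := fun a ha hn => by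
    have h1 : ⁅E, zpowers a⁆ ≤ E := Cop.commutator_le_left_of_le_normalizer ((hz a ha).trans hAE)
    have h2 : ⁅E, zpowers a⁆ ⊔ R ≤ ⁅Q, zpowers a⁆ ⊔ R :=
      sup_le_sup_right (commutator_mono hEQ le_rfl) R
    have h3 := prime_dvd_relIndex_sub_one (hA.to_le (hz a ha)) (M := ⁅E, zpowers a⁆ ⊔ R)
      (le_normalizer_sup (normalizer_commutator_ge_right _ _) ((hz a ha).trans hAR))
      ((hz a ha).trans hAR) le_sup_right ((sup_le (h1.trans hEQ) hRQ).trans
        (Cop.le_normalizer_of_commutator_le hc hRQ)) fun g hg h =>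
        Cop.mem_of_mem_commutator_sup_of_commutator_mem ((hz a ha).trans hAQ) ((hz a ha).trans hAR)
          hRQ hc (hcop a ha) (h2 hg) h
    have h5 : R.relIndex (⁅E, zpowers a⁆ ⊔ R) ≠ 1 := fun h =>
      hn (le_sup_left.trans (relIndex_eq_one.1 h))
    have h6 : R.relIndex (⁅E, zpowers a⁆ ⊔ R) ≠ 0 := index_ne_zero_of_finite
    have h7 := (h a ha).resolve_left fun h => hn ((commutator_mono hEQ le_rfl).trans h)
    have h8 := eq_of_le_of_relIndex_le le_sup_right h2 (by omega)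
    exact le_sup_left.trans (h8.ge.trans (sup_le h1 le_sup_right))
  refine commutator_le.2 fun g hg a ha => ?_
  by_cases hn : ⁅E, zpowers a⁆ ≤ R
  · have h1 := key (a * a₀) (mul_mem ha ha₀) fun h => hne ?_
    · have h2 := h1 (commutator_mem_commutator hg (mem_zpowers _))
      rw [CommCalc.comm_mul_right] at h2
      exact (E.mul_mem_cancel_right (conj_mem_of_mem_normalizer (hAE ha)
        (mem_sup_left (commutator_mem_commutator hg (mem_zpowers _))))).1 h2
    · have h2 := (le_relCent_iff ((hz _ (mul_mem ha ha₀)).trans hAR)).2 h (mem_zpowers _)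
      have h3 := (le_relCent_iff ((hz _ ha).trans hAR)).2 hn (mem_zpowers _)
      have h5 := (le_relCent_iff ((hz _ ha₀).trans hAR)).1
        (zpowers_le.2 ((Subgroup.mul_mem_cancel_left _ h3).1 h2))
      exact hE₀.ge.trans ((commutator_mono le_sup_left le_rfl).trans h5)
  · exact key a ha hn (commutator_mem_commutator hg (mem_zpowers _))

theorem relIndex_commutator_le_sq {Q R B : Subgroup X} (h1 : ⁅Q, Q⁆ ≤ R) (hRQ : R ≤ Q)
    (hBQ : B ≤ normalizer (Q : Set X)) {g b : X} (hgQ : g ∈ normalizer (Q : Set X))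
    (hgR : g ∈ normalizer (R : Set X)) (hb : b ∈ B) :
    R.relIndex (⁅Q, zpowers ⁅g, b⁆⁆ ⊔ R) ≤ R.relIndex (⁅Q, B⁆ ⊔ R) ^ 2 := by
  set E₁ := ⁅Q, B⁆ ⊔ R with hE₁
  have hE₁Q : E₁ ≤ Q := sup_le (Cop.commutator_le_left_of_le_normalizer hBQ) hRQ
  set E₂ := E₁.map (MulAut.conj g).toMonoidHom with hE₂
  have hE₂Q : E₂ ≤ Q := (map_mono hE₁Q).trans (map_conj_eq_of_mem_normalizer hgQ).le
  have hE₂' : E₂ = ⁅Q, B.map (MulAut.conj g).toMonoidHom⁆ ⊔ R := by
    rw [hE₂, hE₁, Subgroup.map_sup, Subgroup.map_commutator, map_conj_eq_of_mem_normalizer hgQ,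
      map_conj_eq_of_mem_normalizer hgR]
  have h9' : R.relIndex E₂ = R.relIndex E₁ := by
    conv_lhs => rw [← map_conj_eq_of_mem_normalizer hgR]
    exact relIndex_map_map_of_injective _ _ (MulAut.conj _).injective
  have hT : E₁ ⊔ E₂ ≤ Q := sup_le hE₁Q hE₂Q
  have a1 : ⁅Q, B⁆ ≤ E₁ ⊔ E₂ := le_sup_left.trans le_sup_left
  have a2 : ⁅Q, B.map (MulAut.conj g).toMonoidHom⁆ ≤ E₁ ⊔ E₂ :=
    (le_sup_left.trans hE₂'.ge).trans le_sup_right
  have h2 : ⁅Q, zpowers ⁅g, b⁆⁆ ⊔ R ≤ E₁ ⊔ E₂ := by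
    refine sup_le ((commutator_mono le_rfl (zpowers_le.2 ?_)).trans
      (CommCalc.commutator_sup_right_le (Cop.le_normalizer_of_commutator_le a1 hT)
        (Cop.le_normalizer_of_commutator_le a2 hT) a1 a2)) (le_sup_right.trans le_sup_left)
    exact mul_mem (mem_sup_right (conj_mem_map_conj hb)) (mem_sup_left (inv_mem hb))
  refine (relIndex_le_of_le_right h2 index_ne_zero_of_finite).trans ?_
  rw [← relIndex_mul_relIndex R E₁ _ le_sup_right le_sup_left,
    Cop.relIndex_sup_left_of_le_normalizer (hE₂Q.trans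
      (Cop.le_normalizer_of_commutator_le (h1.trans le_sup_right) hE₁Q)), sq]
  have : E₁.relIndex E₂ ≤ R.relIndex E₂ :=
    relIndex_le_of_le_left le_sup_right index_ne_zero_of_finite
  exact Nat.mul_le_mul_left _ (this.trans h9'.le)

/-- the derived series of a subgroup -/
def dser (H : Subgroup X) : ℕ → Subgroup X
  | 0 => H
  | n + 1 => ⁅dser H n, dser H n⁆

omit [Finite X] in
theorem map_dser {Y : Type*} [Group Y] (f : X →* Y) (H : Subgroup X) (n : ℕ) :
    (dser H n).map f = dser (H.map f) n := by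
  induction n with
  | zero => rfl
  | succ n ih => rw [dser, Subgroup.map_commutator, ih, dser]

omit [Finite X] in
theorem dser_top (n : ℕ) : dser (⊤ : Subgroup X) n = derivedSeries X n := by
  induction n with
  | zero => rfl
  | succ n ih => rw [dser, ih, derivedSeries_succ]

omit [Finite X] in
theorem dser_eq_map (H : Subgroup X) (n : ℕ) : dser H n = (derivedSeries H n).map H.subtype := by
  rw [← dser_top, map_dser, ← MonoidHom.range_eq_map, range_subtype]

omit [Finite X] in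
theorem dser_mono {H K : Subgroup X} (h : H ≤ K) (n : ℕ) : dser H n ≤ dser K n := by
  induction n with
  | zero => exact h
  | succ n ih => exact commutator_mono ih ih

omit [Finite X] in
theorem dser_le (H : Subgroup X) (n : ℕ) : dser H n ≤ H := by
  rw [dser_eq_map]; exact map_subtype_le _

omit [Finite X] in
theorem le_normalizer_dser {H T : Subgroup X} (h : T ≤ normalizer (H : Set X)) (n : ℕ) :
    T ≤ normalizer (dser H n : Set X) := by
  induction n with
  | zero => exact h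
  | succ n ih => exact Cop.le_normalizer_commutator ih ih

end grp

section lin
variable {k : Type u} [Field k] {V : Type v} [AddCommGroup V] [Module k V]
variable {G : Type w} [Group G] [Finite G] {ρ : G →* Module.End k V}
  [IsAlgClosed k] [FiniteDimensional k V] {p : ℕ} [hp : Fact p.Prime] [CharP k p]

omit [Finite G] [IsAlgClosed k] [FiniteDimensional k V] in
theorem pow_eq_one_of_quadratic (hρ : Function.Injective ρ) {a : G} (h : (ρ a - 1) ^ 2 = 0) :
    a ^ p ^ (0 + 1) = 1 := by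
  apply hρ
  rw [map_pow, map_one, ← sub_eq_zero, ← sub_one_pow_char_pow k]
  exact pow_eq_zero_of_le (by simpa using hp.out.two_le) h

theorem eq_bot_of_quadratic_derived (hρ : Function.Injective ρ) (hp2 : p ≠ 2) {K B : Subgroup G}
    (hKp : (Nat.card K).Coprime p) (hB : IsPGroup p B) (hBK : B ≤ normalizer (K : Set G))
    (hC : B ⊓ centralizer (K : Set G) = ⊥)
    (h1 : ∀ a ∈ ⁅B, B⁆, ∀ b ∈ ⁅B, B⁆, (ρ a - 1) * (ρ b - 1) = 0)
    (h2 : ∀ a ∈ ⁅B, B⁆, ∀ b ∈ B, (ρ a - 1) * (ρ b - 1) ^ 2 = 0) : ⁅B, B⁆ = ⊥ := by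
  by_contra hne
  have hAB : ⁅B, B⁆ ≤ B := Cop.commutator_le_left_of_le_normalizer le_normalizer
  have hab : ⁅⁅B, B⁆, ⁅B, B⁆⁆ = ⊥ := eq_bot_iff.2 (commutator_le.2 fun a ha b hb => by
    rw [mem_bot, commutatorElement_eq_one_iff_mul_comm]
    apply hρ
    have e1 := h1 a ha b hb
    have e2 := h1 b hb a ha
    rw [map_mul, map_mul, ← sub_eq_zero, ← sub_zero 0]
    conv_rhs => rw [← e1]; congr; rfl; rw [e1, ← e2]
    noncomm_ring)
  obtain ⟨q, Q, R, ψ, U, e, hq, hpq, hQK, hQ, hq', hSQ, m1, -, -, -, -, P, hU, he, h0, -⟩ :=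
    exists_config hρ (natCast_ne_zero_of_coprime k p hKp) hKp hB hBK hAB
      (Cop.le_normalizer_commutator le_normalizer le_normalizer)
      fun h => hne (le_bot_iff.1 ((le_inf hAB
        (Cop.commutator_eq_bot_iff_le_centralizer'.1 h)).trans hC.le))
  set A := ⁅B, B⁆
  have := Fact.mk hq
  have hp3 : 2 < p := lt_of_le_of_ne hp.out.two_le hp2.symm
  have key : ∀ a ∈ A, a ∈ stabSub ρ U ∧ (⁅Q, zpowers a⁆ ≤ R ∨
      (p = 3 ∧ q = 2 ∧ R.relIndex (⁅Q, zpowers a⁆ ⊔ R) = 4)) := fun a ha => by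
    have h3 : (ρ a - 1) ^ 2 = 0 := (sq _).trans (h1 a ha a ha)
    obtain ⟨f, hf, hfx, hd⟩ := exists_poly_of_sub_one_pow (k := k) h3
    obtain ⟨j, m, hjm, -, -, h4, h5⟩ := hh_at_comp P hq' (isSolvable_of_isPGroup hQ) hp.out
      (hKp.coprime_dvd_left (card_dvd_of_le hQK)) (pow_eq_one_of_quadratic hρ h3) (hSQ (hAB ha)) he
      (fun y hy => h0 y (zpowers_le.2 (hSQ (hAB ha)) hy)) f hf (fun v _ => by rw [hfx]; rfl)
      (by simpa [hd] using hp3)
    obtain ⟨rfl, rfl⟩ : j = 0 ∧ m = 0 := by omega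
    rw [pow_zero, pow_one] at h4 h5
    refine ⟨h4, h5.imp_right fun ⟨N, h6, h7, h8⟩ => ?_⟩
    rw [zero_add, pow_one] at h6
    obtain rfl : N = 2 := by omega
    obtain ⟨d, hd⟩ := exists_pow_of_sq_eq_relIndex (hQ.to_le (sup_le
      (Cop.commutator_le_left_of_le_normalizer (zpowers_le.2 (hSQ (hAB ha)))) P.le)) h7
    exact ⟨h6.symm, ((Nat.prime_dvd_prime_iff_eq Nat.prime_two hq).1
      (Nat.prime_two.dvd_of_dvd_pow hd.dvd)).symm, h7.symm⟩
  have hAU : A ≤ stabSub ρ U := fun a ha => (key a ha).1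
  have hQR := pack_not_le P hU m1 (hAB.trans hSQ) hAU
  have hBU : B ≤ stabSub ρ U := fun b hb => by
    by_contra hbU
    have hb2 : b ^ 2 ∉ stabSub ρ U := fun h => hbU (zpowers_le.2 h (mem_zpowers_pow_iff.2 (by
      obtain ⟨i, hi⟩ := orderOf_eq_pow_of_mem_isPGroup hB hb
      rw [hi]
      exact ((Nat.coprime_primes Nat.prime_two hp.out).2 hp2.symm).pow_right i)))
    refine hU (m1.ge.trans (commutator_le.2 fun g hg a ha => ?_))
    suffices a ∈ fixSub ρ U from mul_mem (conj_mem_of_mem_normalizer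
      (stab_le_normalizer_fixSub (pack_le_stab P hg)) this) (inv_mem this)
    intro v hv
    have h3 := congrArg (fun T : Module.End k V => e (T v)) (h2 a ha b hb)
    have h4 : (ρ a - 1) * (ρ b - 1) ^ 2 =
        ρ (a * b ^ 2) - ρ (a * b) - ρ (a * b) + ρ a - ρ (b ^ 2) + ρ b + ρ b - 1 := by
      simp only [map_mul, map_pow]; noncomm_ring
    have h5 : ∀ c ∈ B, c ∉ stabSub ρ U → e (ρ (a * c) v) = 0 := fun c hc h =>
      h0 _ (hSQ (mul_mem (hAB ha) hc)) (fun h' => h ((Subgroup.mul_mem_cancel_left _ (hAU ha)).1 h'))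
        v hv
    simp only [h4, LinearMap.sub_apply, LinearMap.add_apply, map_sub, map_add,
      h5 _ (pow_mem hb 2) hb2, h5 _ hb hbU, h0 _ (hSQ hb) hbU v hv, Module.End.one_apply,
      h0 _ (hSQ (pow_mem hb 2)) hb2 v hv, he _ hv, he _ (hAU ha v hv)] at h3
    simpa [sub_eq_zero] using h3
  have hBR := pack_le_normalizer P hSQ hBU
  obtain ⟨a₀, ha₀, hne₀⟩ : ∃ a ∈ A, ¬ ⁅Q, zpowers a⁆ ≤ R := by
    by_contra hcon
    push Not at hcon
    exact hQR (m1.ge.trans (commutator_le.2 fun g hg a ha =>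
      hcon a ha (commutator_mem_commutator hg (mem_zpowers a))))
  obtain ⟨rfl, rfl, h4⟩ := (key a₀ ha₀).2.resolve_left hne₀
  have h5 := commutator_le_of_four (hB.to_le hAB) hQ (hAB.trans hSQ) (hAB.trans hBR) P.le
    (pack_commutator_le P) hab (fun a ha => (key a ha).2.imp_right fun h => h.2.2) ha₀ hne₀
  rw [le_antisymm (sup_le (Cop.commutator_le_left_of_le_normalizer (zpowers_le.2 (hSQ (hAB ha₀))))
    P.le) (m1.ge.trans h5)] at h4
  exact hQR (m1.ge.trans (commutator_le_of_relIndex_four hB hSQ hBR P.le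
    (Cop.le_normalizer_of_commutator_le (pack_commutator_le P) P.le) h4))

theorem eq_one_of_quadratic_fixed (hρ : Function.Injective ρ) (hp2 : p ≠ 2) {K : Subgroup G}
    (hKp : (Nat.card K).Coprime p) {x : G} (hxK : x ∈ normalizer (K : Set G))
    (h1 : (ρ x - 1) ^ 2 = 0) (h2 : ∀ z ∈ K, Commute z x → ρ z * (ρ x - 1) = ρ x - 1) :
    x ∈ centralizer (K : Set G) := by
  by_contra hne
  have hx := pow_eq_one_of_quadratic (p := p) hρ h1
  obtain ⟨q, Q, R, ψ, U, e, hq, hpq, hQK, hQ, hq', hSQ, m1, m2, -, -, -, P, hU, he, h0, -⟩ :=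
    exists_config hρ (natCast_ne_zero_of_coprime k p hKp) hKp (H1.isPGroup_zpowers_of_pow hx)
      (zpowers_le.2 hxK) le_rfl le_normalizer
      fun h => hne (Cop.commutator_eq_bot_iff_le_centralizer'.1 h (mem_zpowers x))
  have := Fact.mk hq
  obtain ⟨f, hf, hfx, hd⟩ := exists_poly_of_sub_one_pow (k := k) h1
  obtain ⟨j, m, -, -, -, h4, -⟩ := hh_at_comp P hq' (isSolvable_of_isPGroup hQ) hp.out
    (hKp.coprime_dvd_left (card_dvd_of_le hQK)) hx (hSQ (mem_zpowers x)) he
    (fun y hy => h0 y (hSQ hy)) f hf (fun v _ => by rw [hfx]; rfl)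
    (by simpa [hd] using lt_of_le_of_ne hp.out.two_le hp2.symm)
  rw [pow_zero, pow_one] at h4
  have hQR := pack_not_le P hU m1 hSQ (zpowers_le.2 h4)
  obtain ⟨z, hz, hzU⟩ := SetLike.not_le_iff_exists.1 fun h => hQR (pack_eq_of_commutator_le P h).ge
  have hzR := pack_commutator_le P hz
  have h5 : x ∈ fixSub ρ U := fun v hv => by
    have h6 := LinearMap.congr_fun (h2 z (hQK (m2.ge hz).1)
      (mem_centralizer_zpowers_iff.1 (m2.ge hz).2).symm) v
    rw [Module.End.mul_apply, LinearMap.sub_apply, Module.End.one_apply,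
      P.scal z hzR _ (U.sub_mem (h4 v hv) hv)] at h6
    have h7 : (ψ z - 1) • (ρ x v - v) = 0 := by rw [sub_smul, h6, one_smul, sub_self]
    exact sub_eq_zero.1 ((smul_eq_zero.1 h7).resolve_left fun h =>
      hzU ((P.psi_eq_one_iff hzR).1 (sub_eq_zero.1 h)))
  refine hU (m1.ge.trans (commutator_le.2 fun g hg a ha => ?_))
  have := zpowers_le.2 h5 ha
  exact mul_mem (conj_mem_of_mem_normalizer (stab_le_normalizer_fixSub (pack_le_stab P hg)) this)
    (inv_mem this)

end lin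

section core
variable {G : Type u} [Group G] [Finite G] {p : ℕ} [hp : Fact p.Prime]

theorem exists_coreRep (hG : IsPSolvable p G) (h0 : pPrimeCore p G = ⊥) :
    ∃ (W : Type u) (_ : AddCommGroup W) (_ : Module (AlgebraicClosure (ZMod p)) W)
      (_ : FiniteDimensional (AlgebraicClosure (ZMod p)) W)
      (ρ : G ⧸ pCore p G →* Module.End (AlgebraicClosure (ZMod p)) W) (ι : G → W),
      Function.Injective ρ ∧ SecRep p (MonoidHom.id G) (pCore p G) (phiCore p G)
        (ρ.comp (QuotientGroup.mk' _)) ι := by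
  obtain ⟨W, _, _, _, ρ, ι, S⟩ := exists_secRep p (MonoidHom.id G) (pCore p G) (phiCore p G)
    phiCore_le (fun g => le_normalizer_of_normal' ⊤ _ trivial)
    (fun g => le_normalizer_of_normal' ⊤ _ trivial) commutator_pCore_le_phiCore
    fun a ha => pow_mem_phiCore ha
  have h1 : pCore p G ≤ ρ.ker := fun g hg => (S.rho_eq_one_iff g).2 fun a ha =>
    commutator_pCore_le_phiCore (commutator_mem_commutator hg ha)
  refine ⟨W, inferInstance, inferInstance, inferInstance, QuotientGroup.lift _ ρ h1, ι, ?_, S⟩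
  rw [injective_iff_map_eq_one]
  intro a ha
  obtain ⟨g, rfl⟩ := QuotientGroup.mk_surjective a
  exact (QuotientGroup.eq_one_iff g).2 (le_pCore (isPGroup_of_forall_eq_one (H := ρ.ker)
    fun c hc h => eq_one_of_coprime_of_commutator_mem_phiCore hG h0 h ((S.rho_eq_one_iff c).1 hc))
    ha)

theorem inf_centralizer_pPrimeCore (hG : IsPSolvable p G) (h0 : pCore p G = ⊥) {S : Subgroup G}
    (hS : IsPGroup p S) : S ⊓ centralizer (pPrimeCore p G : Set G) = ⊥ :=
  le_bot_iff.1 ((inf_le_inf_left _ (centralizer_pPrimeCore_le hG h0)).trans (disjoint_iff.1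
    (disjoint_of_coprime_natCard
      (Cop.coprime_card_of_isPGroup (pPrimeCore_coprime p) hS).symm)).le)

theorem commute_pow_quotient (hG : IsPSolvable p G) (h0 : pPrimeCore p G = ⊥) {e : ℕ}
    (h1 : PExp p (e + 1) G) {S : Subgroup (G ⧸ pCore p G)} (hS : IsPGroup p S) {a b : G ⧸ pCore p G}
    (ha : a ∈ S) (hb : b ∈ S) : Commute (a ^ p ^ e) (b ^ p ^ e) := by
  obtain ⟨W, _, _, _, ρ, ι, hρ, T⟩ := exists_coreRep hG h0
  have hK := pPrimeCore_coprime (G := G ⧸ pCore p G) p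
  refine commute_pow_of_exceptional hρ (natCast_ne_zero_of_coprime _ p hK) hK hS
    le_normalizer_of_normal (inf_centralizer_pPrimeCore (isPSolvable_quotient hG _)
      (pCore_quotient_pCore p) hS) (fun g hg => ?_) ha hb
  obtain ⟨i, hi⟩ := hS ⟨g, hg⟩
  obtain ⟨x, rfl⟩ := QuotientGroup.mk_surjective g
  have hall : ∀ a ∈ pCore p G, (a * x) ^ p ^ (e + 1) = 1 := by
    intro a ha
    have : (a * x) ^ p ^ i ∈ pCore p G := by
      rw [← QuotientGroup.eq_one_iff, QuotientGroup.mk_pow, QuotientGroup.mk_mul,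
        (QuotientGroup.eq_one_iff a).2 ha, one_mul]
      exact congrArg Subtype.val hi
    obtain ⟨l, hl⟩ := exists_pow_eq_one_of_pow_mem_pCore this
    exact h1 _ l hl
  have hx1 : x ^ p ^ (e + 1) = 1 := by simpa using hall 1 (one_mem _)
  have h2 := (pow_pos hp.out.pos (e + 1)).ne'
  refine ⟨by rw [← QuotientGroup.mk_pow, hx1]; rfl, _, (monic_geom _ h2).1, ?_,
    by rw [(monic_geom _ h2).2]; exact Nat.sub_one_lt h2⟩
  rw [aeval_geom]
  exact (T.geom_eq_zero_iff x _).2 fun a ha => by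
    rw [MonoidHom.id_apply, hall a ha, hx1]; simp

theorem pExp_quotient_of_commute (hp2 : p ≠ 2) (hG : IsPSolvable p G) (h0 : pPrimeCore p G = ⊥)
    {e : ℕ} (h1 : PExp p (e + 1) G) (h2 : ∀ S : Subgroup G, IsPGroup p S → ∀ a ∈ S, ∀ b ∈ S,
      Commute (a ^ p ^ e) (b ^ p ^ e)) : PExp p e (G ⧸ pCore p G) := by
  obtain ⟨W, _, _, _, ρ, ι, hρ, T⟩ := exists_coreRep hG h0
  intro y i hy
  by_contra hne
  obtain ⟨x, rfl⟩ := QuotientGroup.mk'_surjective _ y
  have hy1 := h1.of_surjective _ (QuotientGroup.mk'_surjective _) _ i hy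
  have hS : IsPGroup p ((zpowers (QuotientGroup.mk' (pCore p G) x)).comap
      (QuotientGroup.mk' (pCore p G))) :=
    (H1.isPGroup_zpowers_of_pow hy).comap_of_ker_isPGroup _
      (by rw [QuotientGroup.ker_mk']; exact pCore_isPGroup p)
  have h3 : (ρ (QuotientGroup.mk' _ x) - 1) ^ (p ^ e + (p ^ e - 1)) = 0 := by
    rw [pow_add, sub_one_pow_char_pow (AlgebraicClosure (ZMod p)),
      ← geom_eq_sub_one_pow (AlgebraicClosure (ZMod p))]
    refine T.ext fun a ha => ?_
    obtain ⟨h4, h5⟩ := T.mul_pow x ha (p ^ e)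
    have h6 := T.map_commutator (x ^ p ^ e) h4
    rw [h5, MonoidHom.id_apply, MonoidHom.id_apply, commutatorElement_eq_one_iff_commute.2
      ((h2 _ hS x (mem_zpowers _) (a * x) (by
        rw [mem_comap, map_mul, show QuotientGroup.mk' _ a = 1 from
          (QuotientGroup.eq_one_iff a).2 ha, one_mul]
        exact mem_zpowers _)).mul_right (Commute.refl _).inv_right), T.map_one] at h6
    rw [Module.End.mul_apply, LinearMap.sub_apply, ← map_pow, ← map_pow]
    exact h6.symm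
  obtain ⟨f, hf, hfx, hd⟩ := exists_poly_of_sub_one_pow (k := AlgebraicClosure (ZMod p)) h3
  have hK := pPrimeCore_coprime (G := G ⧸ pCore p G) p
  have hp3 : 2 < p := lt_of_le_of_ne hp.out.two_le hp2.symm
  have hpe : 0 < p ^ e := pow_pos hp.out.pos e
  have h4 : 3 * p ^ e ≤ p ^ (e + 1) := by rw [pow_succ']; exact Nat.mul_le_mul_right _ hp3
  obtain ⟨q, d, j, m, -, -, hjm, hm, h5, h6, -⟩ := hh_faithful ρ hρ _
    (natCast_ne_zero_of_coprime _ p hK) hp.out hK hy1 (le_normalizer_of_normal' ⊤ _ trivial) (by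
      by_contra hcon
      push Not at hcon
      exact hne (mem_bot.1 ((inf_centralizer_pPrimeCore (isPSolvable_quotient hG _)
        (pCore_quotient_pCore p) (H1.isPGroup_zpowers_of_pow hy)).le
        ⟨pow_mem (mem_zpowers _) _, fun g hg =>
          commutatorElement_eq_one_iff_mul_comm.1 (hcon g hg)⟩))) f hf hfx (by omega)
  have h7 : p ^ j * (q ^ d + 1) = p ^ (e + 1) := by rw [h5, ← pow_add, hjm]
  have h8 : p ^ j ≤ p ^ e := Nat.pow_le_pow_right hp.out.pos (by omega)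
  rw [mul_add, mul_one] at h7
  omega

theorem pLengthLE_two_mul_of_pExp (hp2 : p ≠ 2) (e : ℕ) : ∀ {G : Type u} [Group G] [Finite G],
    IsPSolvable p G → PExp p e G → PLengthLE p (2 * e) G := by
  induction e with
  | zero => exact fun _ h => pLengthLE_zero_iff.2 (coprime_of_pExp_zero h)
  | succ e ih =>
    have key : ∀ {H : Type u} [Group H] [Finite H], IsPSolvable p H → PExp p (e + 1) H →
        (∀ S : Subgroup H, IsPGroup p S → ∀ a ∈ S, ∀ b ∈ S, Commute (a ^ p ^ e) (b ^ p ^ e)) →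
        PLengthLE p (2 * e + 1) H := by
      intro H _ _ hH h1 h2
      refine pLengthLE_of_quotient_coprime _ (pPrimeCore_coprime p) ?_
      have hG₁ := isPSolvable_quotient hH (pPrimeCore p H)
      refine pLengthLE_succ_of_quotient_isPGroup _ (pCore_isPGroup p)
        (ih (isPSolvable_quotient hG₁ _) (pExp_quotient_of_commute hp2 hG₁
          (pPrimeCore_quotient_pPrimeCore p)
          (h1.of_surjective _ (QuotientGroup.mk'_surjective _)) fun S hS a ha b hb => ?_))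
      obtain ⟨T, -, hT, rfl⟩ := exists_lift_isPGroup (QuotientGroup.mk' (pPrimeCore p H)) (K := ⊤)
        (le_top.trans (Subgroup.map_top_of_surjective _ (QuotientGroup.mk'_surjective _)).ge) hS
      obtain ⟨a, ha, rfl⟩ := ha
      obtain ⟨b, hb, rfl⟩ := hb
      simpa using (h2 T hT a ha b hb).map (QuotientGroup.mk' (pPrimeCore p H))
    intro G _ _ hG h1
    refine pLengthLE_of_quotient_coprime _ (pPrimeCore_coprime p) ?_
    have hG₁ := isPSolvable_quotient hG (pPrimeCore p G)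
    have h₁ := h1.of_surjective _ (QuotientGroup.mk'_surjective (pPrimeCore p G))
    exact pLengthLE_succ_of_quotient_isPGroup _ (pCore_isPGroup p)
      (key (isPSolvable_quotient hG₁ _) (h₁.of_surjective _ (QuotientGroup.mk'_surjective _))
        fun S hS a ha b hb =>
          commute_pow_quotient hG₁ (pPrimeCore_quotient_pPrimeCore p) h₁ hS ha hb)

end core

end CfsgLib.H9
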