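import Cfsg.Agent.Lib.Sig.SigOdd
import Cfsg.Agent.Lib.CoreSimpleInd
import Cfsg.Agent.Lib.H5Involutions
import Cfsg.Agent.Lib.FT.Main

/-! # Elementary abelian Sylow 2-subgroups with semiregular automizer -/

set_option autoImplicit false

namespace CfsgLib.H9.Pyr

open Subgroup Cfsg

variable {H : Type*} [Group H] [Finite H]

theorem eq_top_of_centralizers (W : Sylow 2 H) (hW : ∀ w ∈ (W : Subgroup H), w ^ 2 = 1)
    {M : Subgroup H} (h1 : normalizer ((W : Subgroup H) : Set H) ≤ M)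
    (h2 : ∀ w ∈ (W : Subgroup H), w ≠ 1 → centralizer {w} ≤ M)
    (hnc : ∃ a ∈ (W : Subgroup H), ∃ b ∈ (W : Subgroup H), a ≠ 1 ∧ b ≠ 1 ∧ ∀ g, g * a * g⁻¹ ≠ b) :
    M = ⊤ := by
  have hWM : (W : Subgroup H) ≤ M := le_normalizer.trans h1
  have h3 : ∀ t ∈ M, orderOf t = 2 → centralizer {t} ≤ M := fun t ht h3 x hx => by
    obtain ⟨Q, hQ⟩ := (IsPGroup.of_card (p := 2) (n := 1) (G := zpowers (⟨t, ht⟩ : M)) (by
      rw [Nat.card_zpowers, ← Subgroup.orderOf_coe, h3, pow_one])).exists_le_sylow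
    obtain ⟨m, hm⟩ := MulAction.exists_smul_eq M Q (W.subtype hWM)
    have h4 : m * ⟨t, ht⟩ * m⁻¹ ∈ W.subtype hWM := by
      rw [← hm]; exact smul_mem_pointwise_smul _ _ _ (hQ (mem_zpowers _))
    have h5 := h2 _ h4 (fun h => by
      have : (m : H) * t * (m : H)⁻¹ = 1 := h
      rw [← H5.orderOf_conj' (m : H), this] at h3
      simp at h3) (x := m * x * m⁻¹) (mem_centralizer_singleton_iff.2 (by
        have := mem_centralizer_singleton_iff.1 hx
        change _ * ((m : H) * t * m⁻¹) = (m : H) * t * m⁻¹ * _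
        simp only [mul_assoc, inv_mul_cancel_left, mul_right_inj, coe_inv]
        rw [← mul_assoc, this, mul_assoc]))
    exact (mul_mem_cancel_left m.2).1 ((mul_mem_cancel_right (inv_mem m.2)).1 h5)
  obtain ⟨a, ha, b, hb, ha1, hb1, hab⟩ := hnc
  have h4 : ∀ t : H, orderOf t = 2 → t ∈ M := fun t ht => by
    by_contra h4
    have h5 : ∀ s ∈ (W : Subgroup H), s ≠ 1 → ∃ y, y * t * y⁻¹ = s := fun s hs hs1 => by
      have h5 := orderOf_eq_prime (hW s hs) hs1
      by_cases h6 : 2 ∣ orderOf (s * t)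
      · obtain ⟨u, -, h7, -, -, h8, h9⟩ := H5.exists_common_involution_of_even h5 ht h6
        exact (h4 (h3 u (h2 s hs hs1 (mem_centralizer_singleton_iff.2 h8.symm)) h7
          (mem_centralizer_singleton_iff.2 h9))).elim
      · obtain ⟨y, -, h7⟩ := H5.exists_conj_of_odd (hW s hs) (ht ▸ pow_orderOf_eq_one t)
          ((Nat.prime_two.coprime_iff_not_dvd.2 h6).symm)
        exact ⟨y, h7⟩
    obtain ⟨x, rfl⟩ := h5 a ha ha1
    obtain ⟨y, rfl⟩ := h5 b hb hb1
    exact hab (y * x⁻¹) (by group)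
  refine eq_top_iff.2 fun g _ => ?_
  have h5 : ((g • W : Sylow 2 H) : Subgroup H) ≤ M := by
    rintro _ ⟨w, hw, rfl⟩
    by_cases h6 : w = 1
    · simp [h6]
    · exact h4 _ ((H5.orderOf_conj' g w).trans (orderOf_eq_prime (hW w hw) h6))
  obtain ⟨m, hm⟩ := MulAction.exists_smul_eq M ((g • W).subtype h5) (W.subtype hWM)
  have h6 : ((m : H) * g) • W = W := by
    rw [mul_smul]
    apply Sylow.subtype_injective (hP := (Sylow.smul_le h5 m)) (hQ := hWM)
    rw [← hm, Sylow.smul_subtype]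
  exact (mul_mem_cancel_left m.2).1 (h1 (Sylow.smul_eq_iff_mem_normalizer.1 h6))

theorem isSolvable_of_semireg (W : Sylow 2 H) (hW : IsElementaryAbelian 2 (W : Subgroup H))
    (h8 : 8 ≤ Nat.card (W : Subgroup H))
    (hs : ∀ w ∈ (W : Subgroup H), w ≠ 1 → ∀ g ∈ normalizer ((W : Subgroup H) : Set H),
      g * w = w * g → g ∈ centralizer ((W : Subgroup H) : Set H))
    (hnc : ∃ a ∈ (W : Subgroup H), ∃ b ∈ (W : Subgroup H), a ≠ 1 ∧ b ≠ 1 ∧ ∀ g, g * a * g⁻¹ ≠ b) :
    Group.IsSolvable H := by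
  have hWC : ∀ a ∈ (W : Subgroup H), (W : Subgroup H) ≤ centralizer {a} := fun a ha w hw =>
    mem_centralizer_singleton_iff.2 (congrArg Subtype.val (hW.1.1.1 ⟨w, hw⟩ ⟨a, ha⟩))
  have h1 : ∀ a ∈ (W : Subgroup H), a ≠ 1 → HasNormalPComplement 2 (centralizer ({a} : Set H)) :=
    fun a ha h1 => PCompl.hnpc_of_normalizer_le_centralizer (W.subtype (hWC a ha)) fun g hg x hx =>
      Subtype.ext (hs a ha h1 g (mem_normalizer_of_conj_mem fun w hw =>
        (mem_normalizer_iff.1 hg ⟨w, hWC a ha hw⟩).1 hw) (mem_centralizer_singleton_iff.1 g.2) x hx)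
  let θ : H → Subgroup H := fun a => (pResidual 2 (centralizer ({a} : Set H))).map (Subgroup.subtype _)
  have h2 : ∀ a ∈ (W : Subgroup H), a ≠ 1 → ∀ x, x ∈ θ a ↔
      x ∈ centralizer ({a} : Set H) ∧ (orderOf x).Coprime 2 := fun a ha ha1 x =>
    ⟨fun ⟨y, hy, h⟩ => h ▸ ⟨y.2, by
      simpa using (PCompl.hnpc_mem_pResidual_iff (h1 a ha ha1)).1 hy⟩, fun h =>
      ⟨⟨x, h.1⟩, (PCompl.hnpc_mem_pResidual_iff (h1 a ha ha1)).2 (by simpa using h.2), rfl⟩⟩
  have h3 : ∀ a ∈ (W : Subgroup H), a ≠ 1 → (Nat.card (θ a)).Coprime 2 := fun a ha ha1 => by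
    rw [card_map_of_injective (subtype_injective _)]
    exact PCompl.hnpc_iff_coprime_pResidual.1 (h1 a ha ha1)
  have h4 : ∀ g ∈ normalizer ((W : Subgroup H) : Set H), ∀ a ∈ (W : Subgroup H), a ≠ 1 →
      ∀ x ∈ θ a, g * x * g⁻¹ ∈ θ (g * a * g⁻¹) := fun g hg a ha ha1 x hx => by
    rw [h2 a ha ha1, mem_centralizer_singleton_iff] at hx
    rw [h2 _ ((mem_normalizer_iff.1 hg a).1 ha) (by simpa using ha1), H5.orderOf_conj',
      mem_centralizer_singleton_iff]
    refine ⟨?_, hx.2⟩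
    simp only [mul_assoc, inv_mul_cancel_left, mul_right_inj]
    rw [← mul_assoc, hx.1, mul_assoc]
  obtain ⟨k, hk⟩ := IsPGroup.iff_card.1 W.isPGroup'
  let S : Sig.SF H :=
    { r := 2, k := k, A := W, θ := θ, prime := Nat.prime_two, elem := hW, card := hk
      three_le := (Nat.pow_le_pow_iff_right one_lt_two).1 (hk ▸ h8)
      le_cent := fun a ha ha1 x hx => ((h2 a ha ha1 x).1 hx).1
      norm := fun a ha ha1 w hw => mem_normalizer_of_conj_mem fun x hx => by
        have := h4 w (le_normalizer hw) a ha ha1 x hx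
        rwa [mem_centralizer_singleton_iff.1 (hWC a ha hw), mul_inv_cancel_right] at this
      cop := h3
      solv := fun a ha ha1 => FT.feit_thompson (Nat.coprime_two_right.1 (h3 a ha ha1))
      bal := fun a ha ha1 b hb hb1 x hx => (h2 b hb hb1 x).2 ⟨hx.2, ((h2 a ha ha1 x).1 hx.1).2⟩ }
  obtain ⟨L, hL, hL'⟩ := Sig.complete_of_odd S fun a ha =>
    Nat.coprime_two_right.1 (h3 a ha.1 ha.2)
  let K := closure {x | ∃ a ∈ (W : Subgroup H), a ≠ 1 ∧ x ∈ θ a}
  have h5 : normalizer ((W : Subgroup H) : Set H) ≤ normalizer (K : Set H) := fun g hg =>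
    mem_normalizer_of_conj_mem fun x hx => (closure_le (K.comap (MulAut.conj g).toMonoidHom)).2
      (by
        rintro x ⟨a, ha, ha1, hx⟩
        exact subset_closure ⟨_, (mem_normalizer_iff.1 hg a).1 ha,
          by simpa using ha1, h4 g hg a ha ha1 x hx⟩) hx
  rw [← isSolvable_top_iff, ← eq_top_of_centralizers W hW.2
    (M := normalizer ((W : Subgroup H) : Set H) ⊔ K) le_sup_left (fun a ha ha1 x hx => ?_) hnc]
  · refine isSolvable_sup h5 ?_ (isSolvable_of_le hL.solv ((closure_le _).2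
      fun x ⟨a, ha, ha1, hx⟩ => hL' a ⟨ha, ha1⟩ hx))
    have : ((W.subtype le_normalizer : Sylow 2 (normalizer ((W : Subgroup H) : Set H))) :
      Subgroup (normalizer ((W : Subgroup H) : Set H))).Normal := normal_in_normalizer
    exact isSolvable_of_normal_sylow_two (W.subtype le_normalizer)
  · obtain ⟨⟨y, w⟩, h6⟩ := (PCompl.hnpc_isComplement' (h1 a ha ha1) (W.subtype (hWC a ha))).2 ⟨x, hx⟩
    rw [show x = y * w from (congrArg Subtype.val h6).symm]
    exact mul_mem (mem_sup_right (subset_closure ⟨a, ha, ha1, y, y.2, rfl⟩))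
      (mem_sup_left (le_normalizer w.2))

end CfsgLib.H9.Pyr
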