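import Cfsg.Agent.Lib.H9CK5

/-! # Anisotropic quadratic maps `W → U` over `F₂` with `|W| = |U|²` and equal fibres -/

set_option autoImplicit false
set_option linter.unusedSectionVars false

namespace CfsgLib.H9.Pyr

open CK Finset

variable {W U : Type*} [AddCommGroup W] [AddCommGroup U] [Finite W] [Finite U] [Ch2 W] [Ch2 U]

/-- an anisotropic quadratic map with its polar form -/
structure Quad (s : W → U) (β : W →+ W →+ U) : Prop where
  add : ∀ x y, s (x + y) = s x + s y + β x y
  aniso : ∀ x, s x = 0 → x = 0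

variable {s : W → U} {β : W →+ W →+ U}

namespace Quad
variable (h : Quad s β)
include h

theorem zero : s 0 = 0 := by simpa using h.add 0 0

theorem self (x : W) : β x x = 0 := by simpa [h.zero] using (h.add x x).symm

theorem symm (x y : W) : β x y = β y x := by
  have := h.add x y
  rw [add_comm x, h.add, add_comm (s y), add_right_inj] at this
  exact this.symm

theorem map_β {α : W →+ W} (hα : ∀ x, s (α x) = s x) (x y : W) : β (α x) (α y) = β x y := by
  have := h.add (α x) (α y)
  rw [← map_add, hα, hα, hα, h.add, add_right_inj] at this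
  exact this.symm

variable (hc : Nat.card W = Nat.card U ^ 2)
  (hf : ∀ u v, u ≠ 0 → v ≠ 0 → Nat.card {x // s x = u} = Nat.card {x // s x = v})
include hc hf

theorem sum_eq [Fintype W] {l : U →+ ZMod 2} (hl : l ≠ 0) :
    ∑ x, chi (l (s x)) = -(Nat.card U : ℤ) := by
  classical
  have := Fintype.ofFinite U
  obtain ⟨u, hu⟩ := DFunLike.ne_iff.1 hl
  have hu0 : u ≠ 0 := by rintro rfl; simp at hu
  have h1 : ∀ g : U → ℤ, ∑ x, g (s x) = g 0 + Nat.card {x // s x = u} * (∑ v, g v - g 0) := by
    intro g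
    rw [← sum_fiberwise (s := univ) (g := s), ← add_sum_erase _ _ (mem_univ 0),
      ← add_sum_erase _ g (mem_univ 0), add_sub_cancel_left, mul_sum]
    congr 1
    · rw [show filter (s · = 0) univ = {0} from by
        ext x; simpa using ⟨h.aniso x, fun h1 => h1 ▸ h.zero⟩, sum_singleton, h.zero]
    · refine sum_congr rfl fun v hv => ?_
      rw [sum_congr rfl fun x hx => congrArg g (mem_filter.1 hx).2, sum_const, nsmul_eq_mul,
        hf u v hu0 (mem_erase.1 hv).1, Nat.card_eq_fintype_card, Fintype.card_subtype]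
  have h2 := h1 fun _ => 1
  have h3 : 1 < Nat.card U := Finite.one_lt_card_iff_nontrivial.2 ⟨u, 0, hu0⟩
  simp only [sum_const, card_univ, nsmul_eq_mul, mul_one, ← Nat.card_eq_fintype_card, hc] at h2
  have h4 : (Nat.card {x // s x = u} : ℤ) = Nat.card U + 1 :=
    mul_right_cancel₀ (show (Nat.card U : ℤ) - 1 ≠ 0 by omega) (by push_cast at h2; linarith)
  rw [h1 fun v => chi (l v), sum_chi, if_neg hl, h4]
  simp [chi]

theorem nondeg {l : U →+ ZMod 2} (hl : l ≠ 0) {w : W} (hw : ∀ x, l (β w x) = 0) : w = 0 := by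
  classical
  have := Fintype.ofFinite W
  let R : AddSubgroup W := mkSub {y | ∀ x, l (β y x) = 0} (by simp) fun a ha b hb x => by
    simp [ha x, hb x]
  have h1 : (∑ x, chi (l (s x))) ^ 2 = Fintype.card W * ∑ y : R, chi (l (s y)) := by
    rw [sq, sum_mul_sum, sum_congr rfl fun x _ => (Equiv.sum_comp (Equiv.addLeft x) _).symm,
      sum_comm, ← sum_subtype (univ.filter (· ∈ R)) (by simp) fun y => chi (l (s y)), sum_filter,
      mul_sum]
    refine sum_congr rfl fun y _ => ?_
    have h2 := sum_chi (l.comp (β y))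
    simp only [Equiv.coe_addLeft, h.add, map_add, ← chi_add, ← add_assoc, add_self2, zero_add]
    simp only [chi_add, ← mul_sum, h.symm _ y]
    simp only [AddMonoidHom.comp_apply] at h2
    rw [h2]
    by_cases h3 : y ∈ R
    · rw [if_pos h3, if_pos (AddMonoidHom.ext fun x => h3 x), mul_comm]
    · rw [if_neg h3, if_neg fun h4 => h3 fun x => DFunLike.congr_fun h4 x, mul_zero, mul_zero]
  have h2 := sum_chi (AddMonoidHom.mk' (fun y : R => l (s y)) fun a b => by simp [h.add, a.2 b])
  simp only [AddMonoidHom.mk'_apply] at h2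
  have h3 : (0 : ℤ) < Nat.card U ^ 2 := by have : 0 < Nat.card U := Nat.card_pos; positivity
  rw [h.sum_eq hc hf hl, h2, ← Nat.card_eq_fintype_card, hc, neg_sq] at h1
  push_cast at h1
  split_ifs at h1
  · have h4 : Fintype.card R = 1 := by
      exact_mod_cast (mul_left_cancel₀ h3.ne' ((mul_one _).trans h1)).symm
    exact congrArg Subtype.val (Fintype.card_le_one_iff.1 h4.le ⟨w, hw⟩ 0)
  · omega

theorem card_lt {l : U →+ ZMod 2} (hl : l ≠ 0) {X : AddSubgroup W} (hX : ∀ x ∈ X, l (s x) = 0) :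
    Nat.card X < Nat.card U := by
  classical
  have := Fintype.ofFinite W
  by_contra h1
  let B : W →+ W →+ ZMod 2 := β.compr₂ l
  have hB : Perf B B := ⟨fun x y => congrArg l (h.symm y x), fun w hw => h.nondeg hc hf hl hw,
    fun w hw => h.nondeg hc hf hl fun x => (congrArg l (h.symm w x)).trans (hw x)⟩
  have h2 := hB.card_mul_card_perp X
  have h3 : Nat.card (perp B X) ≤ Nat.card U := by
    by_contra h3
    have : 0 < Nat.card U := Nat.card_pos
    nlinarith
  have h4 : (Fintype.card X : ℤ) * ∑ x, chi (l (s x)) =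
      Fintype.card X * ∑ x ∈ univ.filter (· ∈ perp B X), chi (l (s x)) := by
    rw [sum_filter]
    conv_rhs => rw [mul_sum]
    rw [← nsmul_eq_mul, ← card_univ, ← sum_const, sum_congr rfl fun (u : X) _ => (Equiv.sum_comp (Equiv.addLeft (u : W)) _).symm, sum_comm]
    refine sum_congr rfl fun y _ => ?_
    have h5 := sum_chi ((B y).comp X.subtype)
    simp only [Equiv.coe_addLeft, h.add, map_add, fun u : X => hX u u.2, zero_add, chi_add,
      ← mul_sum, h.symm _ y]
    refine (congrArg _ h5).trans ?_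
    by_cases h6 : y ∈ perp B X
    · rw [if_pos h6, if_pos (AddMonoidHom.ext fun u : X => (hB.compat _ _).trans (h6 u u.2)), mul_comm,
        card_univ]
    · rw [if_neg h6, if_neg fun h7 => h6 fun u hu => (hB.compat _ _).symm.trans
        (DFunLike.congr_fun h7 ⟨u, hu⟩), mul_zero, mul_zero]
  have h5 := mul_left_cancel₀ (by simp) h4
  rw [h.sum_eq hc hf hl, ← add_sum_erase _ _ (a := 0) (by simp [zero_mem]), h.zero, map_zero] at h5
  have h6 := card_nsmul_le_sum ((univ.filter (· ∈ perp B X)).erase 0) (fun x => chi (l (s x))) (-1)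
    fun x _ => by unfold chi; split_ifs <;> omega
  rw [card_erase_of_mem (by simp [zero_mem]), card_filter_mem, nsmul_eq_mul] at h6
  have h7 : 0 < Nat.card (perp B X) := Nat.card_pos
  simp only [chi, if_true] at h5 h6
  omega

theorem card_ker_le {w : W} (hw : w ≠ 0) : Nat.card (β w).ker ≤ Nat.card U := by
  have h1 : (β w).range = ⊤ := by
    by_contra h1
    obtain ⟨u, -, hu⟩ := SetLike.not_le_iff_exists.1 (mt top_le_iff.1 h1)
    obtain ⟨l, h2, h3⟩ := (pre_dl (G := Unit)).sep hu
    exact hw (h.nondeg hc hf (l := dlB' l) (fun h4 => zero_ne_one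
      ((DFunLike.congr_fun h4 u).symm.trans h3)) fun x => h2 _ ⟨x, rfl⟩)
  have h2 := (β w).ker.card_mul_index
  rw [AddSubgroup.index_ker, h1, AddSubgroup.card_top, hc, sq] at h2
  exact (Nat.eq_of_mul_eq_mul_right Nat.card_pos h2).le

theorem eq_of_fix {α : W →+ W} (hα : ∀ x, s (α x) = s x) {m : ℕ} (hm : Odd m)
    (h1 : ∀ x, α^[m] x = x) {w : W} (hw : w ≠ 0) (h2 : α w = w) (x : W) : α x = x := by
  let δ := α + AddMonoidHom.id W
  have h3 : ∀ y ∈ δ.ker, δ.range ≤ (β y).ker := by
    rintro y hy _ ⟨z, rfl⟩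
    have h3 := h.map_β hα y z
    rw [show α y = y from add_eq_zero2.1 hy] at h3
    simp [δ, h3]
  have h4 : w ∈ δ.ker := add_eq_zero2.2 h2
  by_contra h5
  have h6 : Nat.card δ.ker ≤ Nat.card U := (AddSubgroup.card_le_of_le fun y hy =>
    (h.symm _ _).trans (h3 y hy ⟨x, rfl⟩)).trans (h.card_ker_le hc hf (mt add_eq_zero2.1 h5))
  have h7 := δ.ker.card_mul_index
  rw [AddSubgroup.index_ker, hc] at h7
  obtain ⟨z, hz⟩ := (AddSubgroup.eq_of_le_of_card_ge (h3 w h4) ((h.card_ker_le hc hf hw).trans (by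
    by_contra h8
    have : 0 < Nat.card U := Nat.card_pos
    nlinarith))).ge (h.self w)
  have h8 : α (α z) = z := by
    have h8 : α z + z = w := hz
    rwa [← h8, map_add, add_comm (α z), add_left_inj] at h2
  obtain ⟨k, rfl⟩ := hm
  have h9 := h1 z
  rw [add_comm, Function.iterate_add_apply, Function.iterate_one, Function.iterate_mul,
    Function.iterate_fixed (f := α^[2]) h8] at h9
  exact hw (hz.symm.trans (add_eq_zero2.2 h9))

theorem false_of_invol {α : W →+ W} (hα : ∀ x, α (α x) = x) {l : U →+ ZMod 2} (hl : l ≠ 0)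
    (h1 : ∀ x, α x = x → l (s x) = 0) : False := by
  let δ := α + AddMonoidHom.id W
  have h2 := h.card_lt hc hf hl (X := δ.ker) fun x hx => h1 x (add_eq_zero2.1 hx)
  have h3 := AddSubgroup.card_le_of_le (show δ.range ≤ δ.ker by
    rintro _ ⟨x, rfl⟩; simp [δ, hα, add_comm x])
  have h4 := δ.ker.card_mul_index
  rw [AddSubgroup.index_ker, hc] at h4
  nlinarith

end Quad

end CfsgLib.H9.Pyr
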