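import Cfsg.Agent.Lib.H9CK5

/-! # Extensions of an abelian 2-group by `GL(n, 2)` contain outer involutions -/

set_option autoImplicit false
set_option linter.unusedSectionVars false

namespace CfsgLib.H9.Pyr

open CK

variable {G M A : Type*} [Group G] [Finite G] [AddCommGroup M] [Finite M] [DistribMulAction G M]
  [AddCommGroup A] [Finite A] [Ch2 A] [DistribMulAction G A]

/-- `x` acts as the transvection with axis `ker l` and centre `y` -/
def Lf (l : A →+ ZMod 2) (y : A) (x : G) : Prop := ∀ a, x • a = a + sc (l a) y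

theorem exists_lf (h : Full G A) {l : A →+ ZMod 2} {y : A} (h1 : l y = 0) : ∃ x : G, Lf l y x := by
  have hf : Function.Involutive fun a => a + sc (l a) y := fun a => by simp [map_sc l _ h1]
  exact h ⟨hf.toPerm, fun v w => by simp [sc_add, add_add_add_comm]⟩

theorem exists_sep {X : AddSubgroup A} {a b : A} (ha : a ∉ X) (hb : b ∉ X) :
    ∃ l : A →+ ZMod 2, (∀ x ∈ X, l x = 0) ∧ l a = 1 ∧ l b = 1 :=
  ((pre_dl (G := Unit)).sep_sup ha hb).elim fun l h => ⟨dlB' l, h⟩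

theorem Lf.conj {l l' : A →+ ZMod 2} {y : A} {x : G} (h : Lf l y x) (g : G)
    (h1 : ∀ a, l' (g • a) = l a) : Lf l' (g • y) (g * x * g⁻¹) := fun a => by
  rw [mul_smul, mul_smul, h, smul_add, smul_inv_smul, smul_sc, ← h1, smul_inv_smul]

theorem Lf.smul_smul {l : A →+ ZMod 2} {y : A} {x : G} (h : Lf l y x) (h1 : l y = 0) (a : A) :
    x • x • a = a := by
  rw [h, h]; simp [map_sc l _ h1]

theorem full_trans (h : Full G A) {a b : A} (ha : a ≠ 0) (hb : b ≠ 0) : ∃ g : G, g • a = b := by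
  obtain ⟨l, -, h1, h2⟩ := exists_sep (X := ⊥) ha hb
  obtain ⟨g, hg⟩ := exists_lf h (l := l) (y := a + b) (by simp [h1, h2])
  exact ⟨g, by rw [hg, h1, sc_one, add_add_self_left]⟩

/-- an extension of `M` in which all involutions lie in `M` -/
structure Ext (j : A →+ M) (ι : M → G) : Prop where
  inj : Function.Injective j
  jsmul : ∀ (g : G) a, j (g • a) = g • j a
  range : ∀ m, m + m = 0 → ∃ a, j a = m
  tor : ∃ k, ∀ m : M, 2 ^ k • m = 0
  mul : ∀ m m', ι (m + m') = ι m * ι m'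
  conj : ∀ g m, g * ι m * g⁻¹ = ι (g • m)
  iinj : Function.Injective ι
  ker : ∀ g : G, (∀ a : A, g • a = a) → ∃ m, ι m = g
  invol : ∀ g, g * g = 1 → ∃ m, ι m = g
  full : Full G A

variable {j : A →+ M} {ι : M → G}

variable (j ι) in
/-- a lift of a transvection whose square has least order -/
structure Good (d : ℕ) (l : A →+ ZMod 2) (y : A) (x : G) (q : M) (u : A) : Prop where
  lf : Lf l y x
  sq : ι q = x * x
  eq : 2 ^ d • q = j u
  ne : ∀ m, j u ≠ 2 ^ d • (x • m + m)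

namespace Ext
variable (h : Ext j ι)
include h

theorem smul_eq (m m' : M) : ι m • m' = m' :=
  h.iinj (by rw [← h.conj, ← h.mul, add_comm, h.mul, mul_inv_cancel_right])

theorem smulA (m : M) (a : A) : ι m • a = a := h.inj (by rw [h.jsmul, h.smul_eq])

theorem exists_mul {l : A →+ ZMod 2} {y : A} {x x' : G} (h1 : Lf l y x) (h2 : Lf l y x') :
    ∃ m, x' = x * ι m :=
  (h.ker (x⁻¹ * x') fun a => by rw [mul_smul, h2, ← h1, inv_smul_smul]).imp fun m hm => by
    rw [hm, mul_inv_cancel_left]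

theorem sq_mul {x : G} {q : M} (h1 : ι q = x * x) (m : M) :
    ι (q + (x • m + m)) = x * ι m * (x * ι m) := by
  rw [add_left_comm, h.mul, h.mul, ← h.conj, h1]; group

theorem onto {k : ℕ} {m : M} {u : A} (h1 : 2 ^ k • m = j u) (h2 : u ≠ 0) (a : A) :
    ∃ m, 2 ^ k • m = j a := by
  by_cases ha : a = 0
  · exact ⟨0, by simp [ha]⟩
  obtain ⟨g, rfl⟩ := full_trans h.full h2 ha
  exact ⟨g • m, by rw [smul_comm, h1, h.jsmul]⟩

theorem exists_good {l : A →+ ZMod 2} {y a : A} (h1 : l y = 0) (h2 : y ≠ 0) (h3 : l a = 1) :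
    ∃ d x q u, Good j ι d l y x q u := by
  classical
  have hex : ∃ f, ∃ x q, Lf l y x ∧ ι q = x * x ∧ 2 ^ f • q = 0 := by
    obtain ⟨x, hx⟩ := exists_lf h.full h1
    obtain ⟨q, hq⟩ := h.ker (x * x) fun a => by rw [mul_smul, hx.smul_smul h1]
    exact h.tor.imp fun k hk => ⟨x, q, hx, hq, hk q⟩
  obtain ⟨x, q, h4, h5, h6⟩ := Nat.find_spec hex
  have h7 : Nat.find hex ≠ 0 := fun h7 => by
    rw [h7, pow_zero, one_smul] at h6
    obtain ⟨m, rfl⟩ := h.invol x (by rw [← h5, h6]; simpa using h.mul 0 0)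
    simpa [h.smulA, h3, h2] using h4 a
  obtain ⟨d, hd⟩ := Nat.exists_eq_succ_of_ne_zero h7
  obtain ⟨u, hu⟩ := h.range (2 ^ d • q) (by rw [← two_nsmul, ← mul_smul, ← pow_succ', ← h6, hd])
  refine ⟨d, x, q, u, h4, h5, hu.symm, fun m h8 => Nat.find_min hex (m := d) (by omega)
    ⟨x * ι m, _, fun a => by rw [mul_smul, h.smulA, h4], h.sq_mul h5 m, ?_⟩⟩
  rw [smul_add, ← h8, ← hu, ← map_add, add_self2, map_zero]

variable {d : ℕ} {l l' : A →+ ZMod 2} {y u : A} {x : G} {q : M} (hg : Good j ι d l y x q u)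
include hg

theorem good_conj (g : G) (h1 : ∀ a, l' (g • a) = l a) :
    Good j ι d l' (g • y) (g * x * g⁻¹) (g • q) (g • u) :=
  ⟨hg.lf.conj g h1, by rw [← h.conj, hg.sq]; group, by rw [smul_comm, hg.eq, h.jsmul], fun m h2 =>
    hg.ne (g⁻¹ • m) (MulAction.injective g (by
      simpa [← h.jsmul, smul_comm g (2 ^ d), mul_smul] using h2))⟩

theorem good_ne_zero : u ≠ 0 := fun h1 => hg.ne 0 (by simp [h1])

theorem good_norm {a : A} (h3 : l a = 1) : ∃ m, 2 ^ d • (x • m + m) = j y := by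
  obtain ⟨m, hm⟩ := h.onto hg.eq (h.good_ne_zero hg) a
  exact ⟨m, by rw [smul_add, smul_comm, hm, ← h.jsmul, ← map_add, hg.lf, h3]; simp⟩

theorem good_not_mem {a : A} (h3 : l a = 1) : u ∉ pt y := by
  rintro (h1 | rfl)
  · exact h.good_ne_zero hg h1
  · exact (h.good_norm hg h3).elim fun m hm => hg.ne m hm.symm

theorem good_zero (h2 : y ≠ 0) : l u = 0 := by
  have h1 : x • q = q := h.iinj (by rw [← h.conj, hg.sq]; group)
  have h3 : x • u = u := h.inj (by rw [h.jsmul, ← hg.eq, smul_comm, h1])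
  by_contra h4
  simp [hg.lf u, z2_ne_zero.1 h4, h2] at h3

theorem good_comm {g : G} (h1 : ∀ a, l (g • a) = l a) (h2 : g • y = y) :
    ∃ m, g * x * g⁻¹ = x * ι m ∧ 2 ^ d • (x • m + m) = j (g • u + u) := by
  have h3 := h.good_conj hg g h1
  rw [h2] at h3
  obtain ⟨m, hm⟩ := h.exists_mul hg.lf h3.lf
  have h4 := h.iinj (h3.sq.trans (hm ▸ (h.sq_mul hg.sq m).symm))
  refine ⟨m, hm, ?_⟩
  rw [map_add, ← h3.eq, h4, smul_add _ q, hg.eq, add_right_comm, ← map_add, add_self2, map_zero,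
    zero_add]

theorem ker_le (h1 : l y = 0) (h2 : y ≠ 0) {a : A} (h3 : l a = 1) {v : A} (hv : l v = 0) :
    v ∈ ln y u := by
  by_contra h4
  have h5 : ∀ v, l v = 0 → v ∉ ln y u → ∃ m, 2 ^ d • (x • m + m) = j v := fun v hv h4 => by
    have h5 := not_mem_pt.1 (h.good_not_mem hg h3)
    simp only [mem_ln, not_or] at h4
    obtain ⟨μ, h6, h7, -⟩ := exists_sep (X := ln y v) (a := u) (b := u) (by
      simp only [mem_ln, not_or]
      exact ⟨h5.1, h5.2, Ne.symm h4.2.2.1, fun h6 => h4.2.2.2 (by simp [h6])⟩) (by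
      simp only [mem_ln, not_or]
      exact ⟨h5.1, h5.2, Ne.symm h4.2.2.1, fun h6 => h4.2.2.2 (by simp [h6])⟩)
    obtain ⟨g, h8⟩ := exists_lf h.full (h6 v (by simp [mem_ln]))
    obtain ⟨m, -, hm⟩ := h.good_comm hg (g := g) (fun a => by simp [h8 a, map_sc l _ hv])
      (by simp [h8 y, h6 y (by simp [mem_ln])])
    exact ⟨m, by simpa [h8 u, h7] using hm⟩
  obtain ⟨m, hm⟩ := h5 v hv h4
  obtain ⟨m', hm'⟩ := h5 (u + v) (by simp [hv, h.good_zero hg h2]) fun h6 => h4 (by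
    simpa using add_mem (show u ∈ ln y u by simp [mem_ln]) h6)
  refine hg.ne (m + m') ?_
  rw [smul_add x, add_add_add_comm, smul_add, hm, hm', ← map_add, add_add_self_left']

theorem decomp (h1 : l y = 0) (h2 : y ≠ 0) {a : A} (h3 : l a = 1) {e : ℕ} (he : d ≤ e)
    (he' : ∀ m : M, 2 ^ (e + 1) • m = 0) {m₀ : M} (h4 : 2 ^ e • m₀ = j a) {m : M} {b : A}
    (h5 : 2 ^ e • m = j b) (h6 : l b = 0) :
    ∃ k m' : M, 2 ^ d • (x • k + k) = 0 ∧ m = k + 2 • m' := by
  let ν : M →+ M := (nsmulAddMonoidHom (2 ^ d)).comp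
    (DistribSMul.toAddMonoidHom M x + AddMonoidHom.id M)
  have hν : ∀ m, ν m = 2 ^ d • (x • m + m) := fun _ => rfl
  let t : ν.range →+ ν.range := nsmulAddMonoidHom 2
  have h7 : t.range.index ≤ 2 := by
    rw [AddSubgroup.index_range, ← card_pt h2]
    have h7 : ∀ z : t.ker, ∃ c ∈ pt y, j c = z.1.1 := by
      rintro ⟨⟨_, k, rfl⟩, hz⟩
      obtain ⟨c, hc⟩ := h.range (ν k) (by rw [← two_nsmul]; exact congrArg Subtype.val hz)
      have h7 : x • c = c := h.inj (by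
        rw [h.jsmul, hc, hν, smul_comm, smul_add, ← mul_smul x, ← hg.sq, h.smul_eq, add_comm k])
      have h8 : l c = 0 := by
        by_contra h8
        simp [hg.lf c, z2_ne_zero.1 h8, h2] at h7
      obtain ⟨n, hn⟩ := h.good_norm hg h3
      refine ⟨c, ?_, hc⟩
      rcases h.ker_le hg h1 h2 h3 h8 with rfl | rfl | rfl | rfl
      · exact Or.inl rfl
      · exact Or.inr rfl
      · exact (hg.ne k hc).elim
      · refine (hg.ne (n + k) ?_).elim
        rw [← hν, map_add, ← hc, hν, hn, ← map_add, add_add_self_left]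
    choose f h8 h9 using h7
    exact Nat.card_le_card_of_injective (fun z => (⟨f z, h8 z⟩ : pt y)) fun z z' h10 =>
      Subtype.ext (Subtype.ext (by rw [← h9, ← h9, show f z = f z' from congrArg Subtype.val h10]))
  have h8 : ∀ m, ν.rangeRestrict m ∈ t.range → ∃ k m' : M, ν k = 0 ∧ m = k + 2 • m' := by
    rintro m ⟨⟨_, m', rfl⟩, h8⟩
    exact ⟨m - 2 • m', m', by
      rw [map_sub, map_nsmul, sub_eq_zero]; exact (congrArg Subtype.val h8).symm, by simp⟩
  have h9 : ∀ m c, 2 ^ e • m = j c → l c = 1 → ν.rangeRestrict m ∉ t.range := fun m c h9 h10 h11 => by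
    obtain ⟨k, m', h12, rfl⟩ := h8 m h11
    obtain ⟨e, rfl⟩ := Nat.exists_eq_add_of_le' he
    rw [smul_add, ← mul_smul, ← pow_succ, he', add_zero] at h9
    have := congrArg (2 ^ e • ·) h12
    simp only [hν, ← mul_smul, ← pow_add, smul_zero] at this
    rw [smul_add, smul_comm, h9, ← h.jsmul, ← map_add, hg.lf, h10, sc_one, add_add_self_right',
      map_eq_zero_iff j h.inj] at this
    exact h2 this
  have h10 := h9 m₀ a h4 h3
  have h11 : t.range.index = 2 := by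
    have : t.range.index ≠ 1 := fun h11 => h10 ((AddSubgroup.index_eq_one.1 h11).ge trivial)
    have : t.range.index ≠ 0 := AddSubgroup.index_ne_zero_of_finite
    omega
  refine h8 m (by_contra fun h12 => h9 (m + m₀) (b + a) (by rw [smul_add, h4, h5, map_add])
    (by simp [h3, h6]) ?_)
  rw [map_add]
  exact (AddSubgroup.add_mem_iff_of_index_two h11).2 (iff_of_false h12 h10)

omit hg in
theorem elim (h8 : 8 ≤ Nat.card A) : False := by
  classical
  obtain ⟨y, -, hy⟩ := exists_ne_zero_of_card (Y := (⊤ : AddSubgroup A))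
    (by rw [AddSubgroup.card_top]; omega)
  obtain ⟨a, -, _, -, ha⟩ := exists_ind (Y := (⊤ : AddSubgroup A)) (by rwa [AddSubgroup.card_top]) hy
  obtain ⟨l₁, h1, h2, -⟩ := exists_sep ha.not_mem.1 ha.not_mem.1
  replace h1 := h1 y (Or.inr rfl)
  obtain ⟨d, x₁, q₁, u₁, g₁⟩ := h.exists_good h1 hy h2
  have h3 := h.good_not_mem g₁ h2
  obtain ⟨l₂, h4, h5, -⟩ := exists_sep h3 h3
  replace h4 := h4 y (Or.inr rfl)
  have h6 := h.good_zero g₁ hy
  have h7 : ∀ l : A →+ ZMod 2, l y = 0 → l u₁ = 1 →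
      ∃ x q u, Good j ι d l y x q u ∧ l₁ u = 1 ∧ l u = 0 := fun l h7 h9 => by
    obtain ⟨v, h10, h11⟩ : ∃ v, l₁ v = 1 ∧ l v = 1 := by
      rcases z2_cases (l a) with h10 | h10
      exacts [⟨a + u₁, by simp [h2, h6], by simp [h9, h10]⟩, ⟨a, h2, h10⟩]
    obtain ⟨g, hg⟩ := exists_lf h.full (l := l₁ + l) (y := v) (by simp [h10, h11])
    have h12 := h.good_conj g₁ (l' := l) g fun b => by
      rcases z2_cases (l₁ b) with h12 | h12 <;> rcases z2_cases (l b) with h13 | h13 <;>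
        simp [hg b, h12, h13, h11]
    rw [show g • y = y by simp [hg y, h1, h7]] at h12
    exact ⟨_, _, _, h12, by simp [hg u₁, h6, h9, h10], h.good_zero h12 hy⟩
  obtain ⟨x₂, q₂, u₂, g₂, h9, h10⟩ := h7 l₂ h4 h5
  obtain ⟨x₃, q₃, u₃, g₃, h11, h12⟩ := h7 (l₁ + l₂) (by simp [h1, h4]) (by simp [h5, h6])
  have h13 : l₂ u₃ = 1 := by rw [← h11]; exact (add_eq_zero2.1 h12).symm
  obtain ⟨m, hm⟩ := h.exists_mul g₃.lf (x' := x₁ * x₂) fun b => by
    rw [mul_smul, g₂.lf, g₁.lf]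
    simp [map_sc l₁ _ h1, sc_add, add_assoc, add_comm (sc (l₁ b) y)]
  obtain ⟨c, hc, hc'⟩ := h.good_comm g₁ (g := x₂) (fun b => by simp [g₂.lf b, map_sc l₁ _ h1])
    (by simp [g₂.lf y, h4])
  rw [g₂.lf, h5, sc_one, add_add_self_right'] at hc'
  have h14 : q₁ + c + q₂ = q₃ + (x₃ • m + m) := h.iinj (by
    rw [h.sq_mul g₃.sq, ← hm, h.mul, h.mul, g₁.sq, g₂.sq, mul_assoc x₁, ← hc]; group)
  obtain ⟨n, hn⟩ : ∃ n, 2 ^ d • (x₃ • n + n) = j (u₁ + u₂ + u₃) := by
    have h15 := h.ker_le g₁ h1 hy h2 (v := u₁ + u₂ + u₃) (by simp [h6, h9, h11])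
    have h16 : l₂ (u₁ + u₂ + u₃) = 0 := by simp [h5, h10, h13]
    rcases h15 with h15 | h15 | h15 | h15 <;> rw [h15] at h16 ⊢
    · exact ⟨0, by simp⟩
    · exact h.good_norm g₃ (a := u₁) (by simp [h5, h6])
    · simp [h5] at h16
    · simp [h5, h4] at h16
  have h15 : 2 ^ d • c = 2 ^ d • (x₃ • (m + n) + (m + n)) := by
    have := congrArg (2 ^ d • ·) h14
    simp only [smul_add _ _ q₂, smul_add _ q₁, smul_add _ q₃, g₁.eq, g₂.eq, g₃.eq] at this
    rw [smul_add x₃, add_add_add_comm, smul_add, hn, ← add_left_inj (j u₃), add_assoc, ← map_add,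
      add_add_self_right, add_comm _ (j u₃), ← add_left_inj (j (u₁ + u₂)), add_assoc, add_assoc,
      ← map_add, add_self2, map_zero, add_zero, ← add_right_inj (j u₃), ← add_assoc, ← add_assoc,
      ← map_add, add_self2, map_zero, zero_add, ← this, map_add]
    abel
  obtain ⟨c', h16, -⟩ := h.good_comm g₁ (g := x₃) (fun b => by simp [g₃.lf b, map_sc l₁ _ h1])
    (by simp [g₃.lf y, h4, h1])
  have h17 : ∀ m : M, x₃ • x₁ • m = x₁ • x₃ • m := fun m => by
    rw [← mul_smul, mul_inv_eq_iff_eq_mul.1 h16, mul_smul, mul_smul, h.smul_eq]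
  let w : M → M := fun m => 2 ^ d • (x₁ • (x₃ • m + m) + (x₃ • m + m))
  have hw : ∀ m, w m = x₁ • 2 ^ d • (x₃ • m + m) + 2 ^ d • (x₃ • m + m) := fun m => by
    simp only [w, smul_add, smul_comm x₁]
  have hw' : ∀ m, w m = x₃ • 2 ^ d • (x₁ • m + m) + 2 ^ d • (x₁ • m + m) := fun m => by
    simp only [w, smul_add, smul_comm x₃, h17]; abel
  have hadd : ∀ m m', w (m + m') = w m + w m' := fun m m' => by
    simp only [w, smul_add]; abel
  have htwo : ∀ m, w (2 • m) = 2 • w m := fun m => by rw [two_nsmul, two_nsmul, hadd]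
  have h18 := Nat.find_spec h.tor
  have h19 : d < Nat.find h.tor := by
    by_contra h19
    obtain ⟨e, rfl⟩ := Nat.exists_eq_add_of_le' (not_lt.1 h19)
    refine h.good_ne_zero g₁ (h.inj ?_)
    rw [← g₁.eq, pow_add, mul_smul, h18, smul_zero, map_zero]
  obtain ⟨e, he⟩ := Nat.exists_eq_succ_of_ne_zero (show Nat.find h.tor ≠ 0 by omega)
  rw [he] at h18
  have h20 : ∀ m : M, ∃ b, j b = 2 ^ e • m := fun m =>
    h.range _ (by rw [← two_nsmul, ← mul_smul, ← pow_succ', h18])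
  obtain ⟨m₁, h21⟩ := not_forall.1 (Nat.find_min h.tor (m := e) (by omega))
  obtain ⟨b₁, hb₁⟩ := h20 m₁
  have h22 := h.onto hb₁.symm (by rintro rfl; exact h21 (by rw [← hb₁, map_zero]))
  have h23 : ∀ m b, 2 ^ e • m = j b → l₁ b = 0 → ∃ m', w m = 2 • w m' := fun m b h23 h24 => by
    obtain ⟨k, m', h25, rfl⟩ := h.decomp g₁ h1 hy h2 (by omega) h18 (h22 a).choose_spec h23 h24
    exact ⟨m', by rw [hadd, hw', h25, htwo]; simp⟩
  have h24 : ∀ m, ∃ m', w m = 2 • w m' := fun m => by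
    obtain ⟨b, hb⟩ := h20 m
    rcases z2_cases (l₁ b) with h24 | h24
    · exact h23 m b hb.symm h24
    obtain ⟨m₃, h25⟩ := h22 u₃
    obtain ⟨k, m', h26, rfl⟩ := h.decomp g₃ (by simp [h1, h4]) hy (a := u₁) (by simp [h5, h6])
      (by omega) h18 (h22 u₁).choose_spec h25 h12
    obtain ⟨m'', h27⟩ := h23 (m + (k + 2 • m')) (b + u₃) (by rw [smul_add, h25, map_add, hb])
      (by simp [h24, h11])
    rw [hadd, hadd, hw k, h26, htwo, smul_zero, add_zero, zero_add, ← eq_sub_iff_add_eq] at h27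
    refine ⟨m'' - m', ?_⟩
    rw [h27, ← smul_sub, show w m'' = w (m'' - m') + w m' by rw [← hadd, sub_add_cancel],
      add_sub_cancel_right]
  have h25 : ∀ k m, ∃ m', w m = 2 ^ k • w m' := fun k => by
    induction k with
    | zero => exact fun m => ⟨m, by simp⟩
    | succ k ih =>
      intro m
      obtain ⟨m', h25⟩ := ih m
      obtain ⟨m'', h26⟩ := h24 m'
      exact ⟨m'', by rw [h25, h26, pow_succ, mul_smul]⟩
  obtain ⟨m', h26⟩ := h25 (e + 1) (m + n)
  rw [h18, hw, ← h15, smul_comm, ← smul_add, hc', map_eq_zero_iff j h.inj] at h26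
  exact hy h26

end Ext

end CfsgLib.H9.Pyr
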