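import Cfsg.Agent.Lib.H9Pyr1
import Cfsg.Agent.Lib.H9Pyr2
import Cfsg.Agent.Lib.H9Pyr3
import Cfsg.Agent.Lib.H9Mersenne
import Cfsg.Agent.Lib.Suz.HigmanB
import Cfsg.Agent.Lib.PComplementMore
import Cfsg.Agent.Lib.CharBurnside

/-! # Groups whose involutions form, with `1`, a subgroup of order one more than a prime -/

set_option autoImplicit false
set_option linter.unusedSectionVars false

namespace CfsgLib.H9.Pyr

open Subgroup Cfsg CK MulAction
open scoped IsMulCommutative commutatorElement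

variable {G : Type*} [Group G] [Finite G]

/-- conjugation action on an abelian normal subgroup, written additively -/
@[reducible] def addConj (V : Subgroup G) [V.Normal] [IsMulCommutative V] :
    DistribMulAction G (Additive V) where
  smul g a := Additive.ofMul (MulAut.conjNormal g a.toMul)
  one_smul a := congrArg Additive.ofMul (DFunLike.congr_fun (map_one (MulAut.conjNormal (H := V))) a.toMul)
  mul_smul g k a := congrArg Additive.ofMul
    (DFunLike.congr_fun (map_mul (MulAut.conjNormal (H := V)) g k) a.toMul)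
  smul_zero g := congrArg Additive.ofMul (map_one (MulAut.conjNormal g))
  smul_add g a b := congrArg Additive.ofMul (map_mul (MulAut.conjNormal g) a.toMul b.toMul)

attribute [local instance] addConj

theorem addConj_smul_eq {V : Subgroup G} [V.Normal] [IsMulCommutative V] {g : G} {a b : Additive V} :
    g • a = b ↔ g * a.toMul * g⁻¹ = b.toMul :=
  ⟨fun h => congrArg (fun x : Additive V => (x.toMul : G)) h, fun h =>
    congrArg Additive.ofMul (Subtype.ext h)⟩

theorem iterate_hom {N P : Type*} [Group N] [Group P] (f : N →* MulAut P) (n : N) (k : ℕ) (x : P) :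
    (f n)^[k] x = f (n ^ k) x := by
  induction k with
  | zero => simp
  | succ k ih => rw [Function.iterate_succ_apply', ih, pow_succ', map_mul, MulAut.mul_apply]

theorem eq_of_odd_of_fix {P : Type*} [CommGroup P] [Finite P] (hP : IsPGroup 2 P) (α : P →* P)
    {m : ℕ} (hm : Odd m) (h1 : ∀ x, α^[m] x = x) (h2 : ∀ x, x * x = 1 → α x = x) (x : P) :
    α x = x := by
  by_contra h3
  obtain ⟨k, hk⟩ := hP (α x * x⁻¹)
  induction k generalizing x with
  | zero => exact h3 (mul_inv_eq_one.1 (by simpa using hk))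
  | succ k ih =>
    have h4 : α (x * x) = x * x := by_contra fun h4 => ih _ h4 (by
      rw [← hk, pow_succ', pow_mul]; congr 1; simp [sq, mul_mul_mul_comm])
    have h5 : α x * x⁻¹ * (α x * x⁻¹) = 1 := by
      rw [mul_mul_mul_comm, ← map_mul, h4, ← mul_inv, mul_inv_cancel]
    have h6 : α (α x) = x := by
      have := h2 _ h5
      rw [map_mul, map_inv, mul_inv_eq_iff_eq_mul, mul_right_comm, ← map_mul, h4] at this
      simpa using this
    obtain ⟨j, rfl⟩ := hm
    have h7 := h1 x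
    rw [add_comm, Function.iterate_add_apply, Function.iterate_one, Function.iterate_mul,
      Function.iterate_fixed (f := α^[2]) h6] at h7
    exact h3 h7

/-- the involutions together with `1` form a subgroup `V` with `|V| - 1` prime, and are conjugate -/
structure Core (V : Subgroup G) : Prop where
  mem : ∀ x, x ∈ V ↔ x * x = 1
  prime : (Nat.card V - 1).Prime
  conj : ∀ x ∈ V, ∀ y ∈ V, x ≠ 1 → y ≠ 1 → ∃ g, g * x * g⁻¹ = y

variable {V : Subgroup G} [V.Normal] [IsMulCommutative V]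

/-- a Sylow 2-subgroup of `C(V)` -/
abbrev TT (T : Sylow 2 (centralizer (V : Set G))) : Subgroup G :=
  (T : Subgroup (centralizer (V : Set G))).map (Subgroup.subtype _)

variable (T : Sylow 2 (centralizer (V : Set G)))

theorem exists_odd : ∃ m, Odd m ∧ ∀ c ∈ centralizer (V : Set G),
    c ∈ normalizer (TT T : Set G) → c ^ m ∈ TT T := by
  have h1 : TT T ≤ centralizer (V : Set G) ⊓ normalizer (TT T : Set G) :=
    le_inf (map_subtype_le _) le_normalizer
  have := normal_subgroupOf_of_le_normalizer (N := TT T)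
    (H := centralizer (V : Set G) ⊓ normalizer (TT T : Set G)) inf_le_right
  refine ⟨_, ?_, fun c h2 h3 => pow_index_mem ((TT T).subgroupOf
    (centralizer (V : Set G) ⊓ normalizer (TT T : Set G))) ⟨c, h2, h3⟩⟩
  refine Nat.not_even_iff_odd.1 fun h => T.not_dvd_index ?_
  have h2 := relIndex_mul_relIndex _ _ _ h1 inf_le_left
  rw [relIndex, relIndex, relIndex, ← comap_subtype (TT T) (centralizer _),
    comap_map_eq_self_of_injective (subtype_injective _)] at h2
  exact h2 ▸ h.two_dvd.mul_right _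

theorem frattini (g : G) : ∃ n ∈ normalizer (TT T : Set G), ∀ a : Additive V, n • a = g • a := by
  obtain ⟨n, hn, c, hc, rfl⟩ := mem_sup_of_normal_right.1 (T.normalizer_sup_eq_top.ge (mem_top g))
  exact ⟨n, hn, fun a => by
    rw [mul_smul, addConj_smul_eq.2 (mul_inv_eq_iff_eq_mul.2 (hc _ a.toMul.2).symm)]⟩

namespace Core
variable (h : Core V)
include h

theorem ch2 : Ch2 (Additive V) :=
  ⟨fun a => congrArg Additive.ofMul (Subtype.ext ((h.mem _).1 a.toMul.2))⟩

theorem trans {a b : Additive V} (ha : a ≠ 0) (hb : b ≠ 0) : ∃ g : G, g • a = b :=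
  (h.conj _ a.toMul.2 _ b.toMul.2 (fun h => ha (Subtype.ext h)) fun h => hb (Subtype.ext h)).imp
    fun _ => addConj_smul_eq.2

theorem four : 4 ≤ Nat.card V := by
  have := h.ch2
  obtain ⟨k, hk⟩ := exists_card_pow (V := Additive V)
  have := h.prime.two_le
  change Nat.card V = _ at hk
  rcases k with _ | _ | k <;> omega

theorem le_TT : V ≤ TT T := fun v hv => by
  have h1 : IsPGroup 2 V := fun x => ⟨1, Subtype.ext (by simpa [sq] using (h.mem _).1 x.2)⟩
  exact ⟨⟨v, V.le_centralizer hv⟩, (h1.comap_subtype (K := centralizer (V : Set G))).le_sylow_of_normal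
    T hv, rfl⟩

theorem ab (h0 : pPrimeCore 2 G = ⊥) [IsMulCommutative (TT T)] :
    Group.IsSolvable (centralizer (V : Set G)) ∧ ¬ (Full G (Additive V) ∧ 8 ≤ Nat.card V) := by
  obtain ⟨m, hm, h1⟩ := exists_odd T
  have h2 : HasNormalPComplement 2 (centralizer (V : Set G)) :=
    PCompl.hnpc_of_normalizer_le_centralizer T fun c hc x hx => by
      have h2 : c.1 ∈ normalizer (TT T : Set G) := mem_normalizer_of_conj_mem (by
        rintro _ ⟨y, hy, rfl⟩
        exact ⟨_, (mem_normalizer_iff.1 hc y).1 hy, rfl⟩)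
      have h3 := eq_of_odd_of_fix (T.isPGroup'.map _)
        ((TT T).normalizerMonoidHom ⟨c, h2⟩).toMonoidHom hm (fun y => by
          change ((TT T).normalizerMonoidHom ⟨c, h2⟩)^[m] y = y
          rw [iterate_hom]
          exact Subtype.ext (mul_inv_eq_iff_eq_mul.2 (congrArg Subtype.val
            (mul_comm (⟨_, h1 c c.2 h2⟩ : TT T) y))))
        (fun y hy => Subtype.ext (mul_inv_eq_iff_eq_mul.2
          (c.2 _ ((h.mem _).2 (congrArg Subtype.val hy))).symm)) ⟨x, x, hx, rfl⟩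
      exact Subtype.ext (mul_inv_eq_iff_eq_mul.1 (congrArg Subtype.val h3)).symm
  have h3 := PCompl.isPGroup_of_hnpc_of_pPrimeCore_eq_bot h2 ((map_eq_bot_iff_of_injective _
    (subtype_injective _)).1 (eq_bot_iff.2 (h0 ▸ map_pPrimeCore_le_of_isSubnormal 2
      (Normal.isSubnormal inferInstance))))
  refine ⟨isSolvable_of_isPGroup h3, fun ⟨h4, h5⟩ => ?_⟩
  have h6 : TT T = centralizer (V : Set G) := by
    rw [TT, T.is_maximal' (h3.to_subgroup ⊤) le_top |>.symm, ← MonoidHom.range_eq_map, range_subtype]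
  have : IsMulCommutative (centralizer (V : Set G)) := h6 ▸ inferInstance
  have := h.ch2
  obtain ⟨k, hk⟩ := IsPGroup.iff_card.1 h3
  refine Ext.elim (G := G) (M := Additive (centralizer (V : Set G))) (A := Additive V)
    (j := (inclusion V.le_centralizer).toAdditive) (ι := fun m => m.toMul)
    ⟨inclusion_injective V.le_centralizer, fun _ _ => rfl, fun m hm => ⟨Additive.ofMul ⟨m.toMul, (h.mem _).2
      (congrArg Subtype.val hm)⟩, rfl⟩, ⟨k, fun m => ?_⟩, fun _ _ => rfl, fun _ _ => rfl,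
      Subtype.val_injective, fun g hg => ⟨Additive.ofMul ⟨g, fun v hv => (mul_inv_eq_iff_eq_mul.1
        (addConj_smul_eq.1 (hg (Additive.ofMul ⟨v, hv⟩)))).symm⟩, rfl⟩,
      fun g hg => ⟨Additive.ofMul ⟨g, V.le_centralizer ((h.mem g).2 hg)⟩, rfl⟩, h4⟩ h5
  rw [← hk]
  exact congrArg Additive.ofMul (pow_card_eq_one' (x := m.toMul))

theorem exists_hig : ∃ (Y : Subgroup (normalizer (TT T : Set G))),
    Suz.HigSetup ((TT T).normalizerMonoidHom.comp Y.subtype) := by
  have := Fact.mk h.prime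
  obtain ⟨Y⟩ : Nonempty (Sylow (Nat.card V - 1) (normalizer (TT T : Set G))) := inferInstance
  have h4 := h.four
  have := h.ch2
  refine ⟨Y, T.isPGroup'.map _, ?_, isSolvable_of_isPGroup Y.isPGroup', fun x y h1 h2 h3 h5 => ?_, ?_⟩
  · obtain ⟨k, hk⟩ := IsPGroup.iff_card.1 Y.isPGroup'
    obtain ⟨j, hj⟩ := exists_card_pow (V := Additive V)
    change Nat.card V = _ at hj
    rw [hk]
    exact (h.prime.odd_of_ne_two (by rcases j with _ | _ | j <;> omega)).pow
  · let a : Additive V := Additive.ofMul ⟨x, (h.mem _).2 (congrArg Subtype.val (sq x ▸ h2))⟩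
    let b : Additive V := Additive.ofMul ⟨y, (h.mem _).2 (congrArg Subtype.val (sq y ▸ h5))⟩
    have ha : a ≠ 0 := fun h6 => h1 (Subtype.ext (congrArg (fun x : Additive V => (x.toMul : G)) h6))
    have hb : b ≠ 0 := fun h6 => h3 (Subtype.ext (congrArg (fun x : Additive V => (x.toMul : G)) h6))
    have h6 : ∀ b, b ≠ 0 → ∃ n : normalizer (TT T : Set G), n • a = b := fun b hb => by
      obtain ⟨g, rfl⟩ := h.trans ha hb
      obtain ⟨n, hn, h6⟩ := frattini T g
      exact ⟨⟨n, hn⟩, h6 a⟩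
    have h7 : (stabilizer (normalizer (TT T : Set G)) a).index = Nat.card V - 1 := by
      rw [index_stabilizer, show orbit _ a = {0}ᶜ from Set.ext fun b => ⟨fun ⟨g, hg⟩ h0 => ha
        ((smul_eq_zero_iff_eq g).1 (hg.trans h0)), h6 b⟩, Set.ncard_compl, Set.ncard_singleton]
      rfl
    obtain ⟨n, hn⟩ := h6 b hb
    obtain ⟨k, hk, c, hc, rfl⟩ := ClassCount.exists_mul_of_coprime_index (K := Y)
      (H := stabilizer _ a) (by rw [h7]; exact (h.prime.coprime_iff_not_dvd.2 Y.not_dvd_index).symm) n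
    rw [mul_smul, hc] at hn
    exact ⟨⟨k, hk⟩, Subtype.ext (addConj_smul_eq (V := V).1 hn)⟩
  · obtain ⟨a, -, ha⟩ := exists_ne_zero_of_card (Y := (⊤ : AddSubgroup (Additive V)))
      (by rw [AddSubgroup.card_top]; exact le_trans (by omega) h4)
    obtain ⟨b, -, hb⟩ := exists_not_mem (X := pt a) (Y := (⊤ : AddSubgroup (Additive V)))
      (by rw [AddSubgroup.card_top, card_pt ha]; exact lt_of_lt_of_le (by omega) h4)
    rw [not_mem_pt] at hb
    exact ⟨⟨a.toMul, h.le_TT T a.toMul.2⟩, ⟨b.toMul, h.le_TT T b.toMul.2⟩,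
      fun h1 => hb.2 (Subtype.ext (congrArg Subtype.val h1).symm),
      fun h1 => ha (Subtype.ext (show (a.toMul : G) = 1 from congrArg Subtype.val h1)),
      Subtype.ext (by simpa [sq] using (h.mem _).1 a.toMul.2),
      fun h1 => hb.1 (Subtype.ext (show (b.toMul : G) = 1 from congrArg Subtype.val h1)),
      Subtype.ext (by simpa [sq] using (h.mem _).1 b.toMul.2)⟩

theorem nonab (hnc : ∃ u v : TT T, ⁅u, v⁆ ≠ 1) :
    Group.IsSolvable (centralizer (V : Set G)) ∧ ¬ (Full G (Additive V) ∧ 8 ≤ Nat.card V) := by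
  classical
  obtain ⟨Y, hY⟩ := h.exists_hig T
  obtain ⟨m, hm, hm'⟩ := exists_odd T
  have := h.ch2
  have := Suz.omZ_normal (TT T)
  have hZ : ∀ x : TT T, x ∈ Suz.omZ (TT T) ↔ x.1 ∈ V := fun x => by
    rw [hY.mem_omZ, h.mem, sq, Subtype.ext_iff]; rfl
  have : IsMulCommutative (TT T ⧸ Suz.omZ (TT T)) :=
    Normal.quotient_commutative_iff_commutator_le.2 (hY.commutator_eq hnc).le
  let a : TT T → Additive (TT T ⧸ Suz.omZ (TT T)) := fun x => Additive.ofMul x
  have ha0 : ∀ x, a x = 0 ↔ x.1 ∈ V := fun x => (QuotientGroup.eq_one_iff x).trans (hZ x)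
  have has : Function.Surjective a := Additive.ofMul.surjective.comp QuotientGroup.mk_surjective
  have : Ch2 (Additive (TT T ⧸ Suz.omZ (TT T))) := ⟨fun w => by
    obtain ⟨x, rfl⟩ := has w
    exact (ha0 (x * x)).2 ((hZ _).1 (hY.mem_omZ.2 (sq x ▸ hY.sq_sq hnc x)))⟩
  let e : TT T → Additive V := fun x => if hx : x.1 ∈ V then Additive.ofMul ⟨x, hx⟩ else 0
  have he : ∀ x : TT T, x.1 ∈ V → ((e x).toMul : G) = x := fun x hx => by simp [e, hx]
  obtain ⟨s, b, h1, h2, h3, h4⟩ := hY.exists_quad hnc a (fun _ _ => rfl)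
    (fun x hx => hY.mem_omZ.1 ((hZ x).2 ((ha0 x).1 hx))) has e fun v hv w hw => Subtype.ext (by
      change ((e (v * w)).toMul : G) = (e v).toMul * (e w).toMul
      rw [he _ ((hZ _).1 (mul_mem hv hw)), he _ ((hZ _).1 hv), he _ ((hZ _).1 hw)]; rfl)
  have hs : ∀ x, ((s (a x)).toMul : G) = x * x := fun x => by
    rw [h1, he _ ((hZ _).1 (hY.mem_omZ.2 (hY.sq_sq hnc x))), sq]; rfl
  have h5 : ∀ x y, b x y = b y x := fun x y => by
    have := h3 x y
    rw [add_comm x, h3, add_comm (s y), add_right_inj] at this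
    exact this.symm
  let β := AddMonoidHom.mk' (fun x => AddMonoidHom.mk' (b x) fun y z => by
    rw [h5, h4, h5 y, h5 z]) fun x y => AddMonoidHom.ext (h4 x y)
  have hq : Quad s β := ⟨h3, fun w hw => by
    obtain ⟨x, rfl⟩ := has w
    exact (ha0 x).2 ((h.mem _).2 (by rw [← hs, hw]; rfl))⟩
  have hinv : CopAut.Inv (TT T).normalizerMonoidHom (Suz.omZ (TT T)) := fun n x hx =>
    (hZ _).2 (Normal.conj_mem inferInstance _ ((hZ x).1 hx) n.1)
  let α : normalizer (TT T : Set G) → Additive (TT T ⧸ Suz.omZ (TT T)) ≃+ _ :=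
    fun n => (Suz.quotInv hinv n).toAdditive
  have hα : ∀ n w, s (α n w) = n.1 • s w := fun n w => by
    obtain ⟨x, rfl⟩ := has w
    refine (addConj_smul_eq.2 ?_).symm
    rw [hs, show α n (a x) = a ((TT T).normalizerMonoidHom n x) from rfl, hs]
    change _ = n.1 * x * n.1⁻¹ * (n.1 * x * n.1⁻¹)
    group
  have hαT : ∀ n : normalizer (TT T : Set G), n.1 ∈ TT T → ∀ w, α n w = w := fun n hn w => by
    obtain ⟨x, rfl⟩ := has w
    change a (⟨n, hn⟩ * x * ⟨n, hn⟩⁻¹) = a x
    change a _ + a x + -a _ = a x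
    abel
  have hαp : ∀ n k w, (α n)^[k] w = α (n ^ k) w := fun n k w =>
    iterate_hom (Suz.quotInv hinv) n k w.toMul
  have hC : ∀ n : normalizer (TT T : Set G), n.1 ∈ centralizer (V : Set G) → ∀ w, s (α n w) = s w :=
    fun n hn w => by
      rw [hα, addConj_smul_eq.2 (mul_inv_eq_iff_eq_mul.2 (hn _ (s w).toMul.2).symm)]
  have hf : ∀ u v, u ≠ 0 → v ≠ 0 → Nat.card {x // s x = u} = Nat.card {x // s x = v} :=
    fun u v hu hv => by
      obtain ⟨g, rfl⟩ := h.trans hu hv
      obtain ⟨n, hn, h6⟩ := frattini T g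
      exact Nat.card_congr ((α ⟨n, hn⟩).toEquiv.subtypeEquiv fun w => by
        rw [← h6]; exact (smul_left_cancel_iff n).symm.trans (by rw [← hα ⟨n, hn⟩]; rfl))
  have hcV : Nat.card (Suz.omZ (TT T)) = Nat.card V := by
    rw [show Suz.omZ (TT T) = V.subgroupOf _ from Subgroup.ext hZ, card_subgroupOf_of_le (h.le_TT T)]
  have h6 := hY.card_eq hnc
  have h7 := h.four
  rw [← (Suz.omZ (TT T)).card_mul_index, hcV] at h6
  have hss : Function.Surjective s := fun u => by
    by_cases hu : u = 0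
    · exact ⟨0, hu ▸ hq.zero⟩
    obtain ⟨x, y, hxy⟩ := hnc
    have h8 : a x ≠ 0 := fun h8 => hxy (commutatorElement_eq_one_iff_mul_comm.2
      (hY.comm_of_sq (hY.mem_omZ.1 ((hZ x).2 ((ha0 x).1 h8))) y).symm)
    have h9 := hf _ u (mt (hq.aniso _) h8) hu
    have : Nonempty {w // s w = s (a x)} := ⟨⟨_, rfl⟩⟩
    exact (Nat.card_pos_iff.1 (h9 ▸ Nat.card_pos)).1.elim fun w => ⟨w.1, w.2⟩
  -- passage to `C(V)/V`
  let V' := V.subgroupOf (centralizer (V : Set G))
  let W := T.mapSurjective (QuotientGroup.mk'_surjective V')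
  have hW : ∀ w ∈ W.toSubgroup, ∃ x : TT T, ∃ hx, w = QuotientGroup.mk' V' ⟨x, hx⟩ := by
    rintro _ ⟨x, hx, rfl⟩
    exact ⟨⟨x, x, hx, rfl⟩, x.2, rfl⟩
  have hW' : ∀ (x : TT T) hx, QuotientGroup.mk' V' ⟨x, hx⟩ ∈ W.toSubgroup := by
    rintro ⟨_, x, hx, rfl⟩ _
    exact ⟨x, hx, rfl⟩
  have hWa : ∀ (x y : TT T) hx hy, QuotientGroup.mk' V' ⟨x, hx⟩ = QuotientGroup.mk' V' ⟨y, hy⟩ ↔
      a x = a y := fun x y hx hy => QuotientGroup.eq.trans ((hZ (x⁻¹ * y)).symm.trans
        QuotientGroup.eq.symm)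
  have hWN : ∀ c : centralizer (V : Set G), QuotientGroup.mk' V' c ∈ normalizer (W.toSubgroup :
      Set (centralizer (V : Set G) ⧸ V')) → c.1 ∈ normalizer (TT T : Set G) := fun c hc => mem_normalizer_of_conj_mem fun x hx => by
    obtain ⟨y, hy, h8⟩ := hW _ ((mem_normalizer_iff.1 hc _).1 (hW' ⟨x, hx⟩ (map_subtype_le _ hx)))
    rw [← map_inv, ← map_mul, ← map_mul] at h8
    exact (mul_mem_cancel_right y.2).1 (h.le_TT T (mem_subgroupOf.1 (QuotientGroup.eq.1 h8))) |>
      inv_mem_iff.1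
  have hWc : ∀ (c : centralizer (V : Set G)) (hc : c.1 ∈ normalizer (TT T : Set G)) (x : TT T) hx,
      QuotientGroup.mk' V' c * QuotientGroup.mk' V' ⟨x, hx⟩ =
        QuotientGroup.mk' V' ⟨x, hx⟩ * QuotientGroup.mk' V' c ↔ α ⟨c, hc⟩ (a x) = a x :=
    fun c hc x hx => by
      rw [← mul_inv_eq_iff_eq_mul, ← map_inv, ← map_mul, ← map_mul]
      exact hWa ((TT T).normalizerMonoidHom ⟨c, hc⟩ x) x _ hx
  have hsol : Group.IsSolvable (centralizer (V : Set G) ⧸ V') →
      Group.IsSolvable (centralizer (V : Set G)) :=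
    isSolvable_of_normal_of_quotient V' (isSolvable_subgroupOf isSolvable_of_isMulCommutative _)
  rcases h6 with h6 | h6
  · have h8 : Function.Injective s := ((Nat.bijective_iff_surjective_and_card s).2 ⟨hss,
      Nat.eq_of_mul_eq_mul_left (show 0 < Nat.card V by omega) (h6.trans (sq _))⟩).1
    refine ⟨hsol (isSolvable_of_hnpc_two (PCompl.hnpc_of_normalizer_le_centralizer W
      fun c hc w hw => ?_)), fun ⟨h9, h10⟩ => ?_⟩
    · obtain ⟨c, rfl⟩ := QuotientGroup.mk'_surjective V' c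
      obtain ⟨x, hx, rfl⟩ := hW w hw
      exact ((hWc c (hWN c hc) x hx).2 (h8 (hC _ c.2 _))).symm
    obtain ⟨x, y, hxy⟩ := hnc
    suffices h11 : β (a x) (a y) = 0 from hxy (Subtype.ext ((he _ ((hZ _).1 (hY.mem_omZ.2
      (hY.commutatorElement_sq ⟨x, y, hxy⟩ x y)))).symm.trans
        (congrArg (fun u : Additive V => (u.toMul : G)) ((h2 x y).symm.trans h11))))
    generalize a x = u
    generalize a y = v
    by_cases h11 : s (u + v) ∈ ln (s u) (s v)
    · rcases h11 with h11 | h11 | h11 | h11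
      · rw [add_eq_zero2.1 (hq.aniso _ h11), hq.self]
      · simp [left_eq_add.1 (h8 h11).symm]
      · simp [right_eq_add.1 (h8 h11).symm]
      · exact left_eq_add.1 (h11.symm.trans (hq.add u v))
    by_cases h12 : u = 0 ∨ v = 0 ∨ v = u
    · rcases h12 with rfl | rfl | rfl <;> simp [hq.self]
    push Not at h12
    obtain ⟨l, h13, h14, -⟩ := exists_sep h11 h11
    obtain ⟨g, hg⟩ := exists_lf h9 (h13 (s u) (by simp [mem_ln]))
    obtain ⟨n, hn, h15⟩ := frattini T g
    have h16 : ∀ w, l (s w) = 0 → α ⟨n, hn⟩ w = w := fun w hw =>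
      h8 (by rw [hα, h15, hg, hw, sc_zero, add_zero])
    have h17 := hα ⟨n, hn⟩ (u + v)
    rw [map_add, h16 u (h13 _ (by simp [mem_ln])), h16 v (h13 _ (by simp [mem_ln])), h15, hg, h14,
      sc_one, left_eq_add] at h17
    exact (h12.1 (hq.aniso u h17)).elim
  have hc : Nat.card (Additive (TT T ⧸ Suz.omZ (TT T))) = Nat.card (Additive V) ^ 2 :=
    Nat.eq_of_mul_eq_mul_left (show 0 < Nat.card V by omega) (h6.trans (pow_succ' _ _))
  obtain ⟨u, -, hu⟩ := exists_ne_zero_of_card (Y := (⊤ : AddSubgroup (Additive V)))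
    (by rw [AddSubgroup.card_top]; exact le_trans (by omega) h7)
  obtain ⟨v, -, hv⟩ := exists_not_mem (X := pt u) (Y := (⊤ : AddSubgroup (Additive V)))
    (by rw [AddSubgroup.card_top, card_pt hu]; exact lt_of_lt_of_le (by omega) h7)
  refine ⟨hsol (isSolvable_of_semireg W ⟨⟨⟨fun w w' => ?_⟩⟩, fun w hw => ?_⟩ ?_
    (fun w hw hw1 c hc' h8 w' hw' => ?_) ?_), fun ⟨h9, h10⟩ => ?_⟩
  · obtain ⟨x, hx, h8⟩ := hW _ w.2
    obtain ⟨y, hy, h9⟩ := hW _ w'.2
    refine Subtype.ext ?_
    rw [coe_mul, coe_mul, h8, h9]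
    exact (hWc ⟨x, hx⟩ (le_normalizer x.2) y hy).2 (hαT _ x.2 _)
  · obtain ⟨x, hx, rfl⟩ := hW _ hw
    rw [sq, ← map_mul]
    exact (hWa (x * x) 1 _ (one_mem _)).2 (add_self2 (a x))
  · choose f hf using has
    have h8 := Nat.card_le_card_of_injective (fun w => (⟨_, hW' (f w) (map_subtype_le _ (f w).2)⟩ :
      W.toSubgroup)) fun w w' h8 => by
        rw [← hf w, ← hf w']; exact (hWa _ _ _ _).1 (congrArg Subtype.val h8)
    rw [hc] at h8
    exact le_trans (show 8 ≤ Nat.card V ^ 2 by nlinarith) h8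
  · obtain ⟨c, rfl⟩ := QuotientGroup.mk'_surjective V' c
    obtain ⟨x, hx, rfl⟩ := hW w hw
    obtain ⟨y, hy, rfl⟩ := hW w' hw'
    exact ((hWc c (hWN c hc') y hy).2 (hq.eq_of_fix hc hf (α := α ⟨c, hWN c hc'⟩) (hC _ c.2) hm
      (fun w => (hαp _ m w).trans (hαT _ (hm' _ c.2 (hWN c hc')) w))
      (fun h9 => hw1 ((hWa x 1 hx (one_mem _)).2 h9)) ((hWc c _ x hx).1 h8) _)).symm
  · obtain ⟨u, rfl⟩ := hss u
    obtain ⟨v, rfl⟩ := hss v
    obtain ⟨x, rfl⟩ := has u
    obtain ⟨y, rfl⟩ := has v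
    rw [not_mem_pt] at hv
    refine ⟨_, hW' x (map_subtype_le _ x.2), _, hW' y (map_subtype_le _ y.2),
      fun h8 => hu (((hWa x 1 _ (one_mem _)).1 h8).symm ▸ hq.zero),
      fun h8 => hv.1 (((hWa y 1 _ (one_mem _)).1 h8).symm ▸ hq.zero), fun g h8 => hv.2 ?_⟩
    obtain ⟨c, rfl⟩ := QuotientGroup.mk'_surjective V' g
    rw [← map_inv, ← map_mul, ← map_mul] at h8
    obtain ⟨z, h9⟩ := (QuotientGroup.mk'_eq_mk' V').1 h8
    refine Subtype.ext (show ((s (a y)).toMul : G) = (s (a x)).toMul from ?_)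
    have h10 : (c : G) * x * c⁻¹ * z = y := congrArg Subtype.val h9.2
    have h11 := mul_mem (mul_mem c.2 (map_subtype_le _ x.2)) (inv_mem c.2) z.1 h9.1
    have h12 := c.2 _ (s (a x)).toMul.2
    rw [hs] at h12 ⊢
    rw [hs, ← h10, coe_inv, mul_assoc, ← mul_assoc z.1, h11, mul_assoc _ z.1, (h.mem z.1).1 h9.1,
      mul_one, ← mul_inv_eq_iff_eq_mul.2 h12.symm]
    group
  · obtain ⟨l, h11, h12, -⟩ := exists_sep hv hv
    replace h11 := h11 u (Or.inr rfl)
    obtain ⟨g, hg⟩ := exists_lf h9 h11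
    obtain ⟨n, hn, h13⟩ := frattini T g
    have h14 : ∀ w : Additive V, (n * n) • w = w := fun w => by
      rw [mul_smul, h13, h13, hg.smul_smul h11]
    refine hq.false_of_invol hc hf (α := α (⟨n, hn⟩ ^ m)) (fun w => (hαp _ 2 w).trans (hαT _ ?_ w))
      (l := l) (by rintro rfl; simp at h12) fun w hw => ?_
    · rw [← pow_mul, mul_comm, pow_mul, sq]
      exact hm' _ (fun x hx => (mul_inv_eq_iff_eq_mul.1
        (addConj_smul_eq.1 (h14 (Additive.ofMul ⟨x, hx⟩)))).symm) (mul_mem hn hn)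
    · have h15 := hα (⟨n, hn⟩ ^ m) w
      obtain ⟨k, rfl⟩ := hm
      rw [show α _ w = w from hw, coe_pow, pow_succ', pow_mul, mul_smul, sq,
        (mem_stabilizer_iff.1 (pow_mem (mem_stabilizer_iff.2 (h14 _)) k)), h13, hg,
        left_eq_add] at h15
      by_contra h16
      simp [z2_ne_zero.1 h16, hu] at h15

theorem isSolvable (h0 : pPrimeCore 2 G = ⊥) : Group.IsSolvable G := by
  obtain ⟨T⟩ : Nonempty (Sylow 2 (centralizer (V : Set G))) := inferInstance
  have := h.ch2
  obtain ⟨h1, h2⟩ : Group.IsSolvable (centralizer (V : Set G)) ∧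
      ¬ (Full G (Additive V) ∧ 8 ≤ Nat.card V) := by
    by_cases hnc : ∃ u v : TT T, ⁅u, v⁆ ≠ 1
    · exact h.nonab T hnc
    · push Not at hnc
      have : IsMulCommutative (TT T) :=
        ⟨⟨fun u v => commutatorElement_eq_one_iff_mul_comm.1 (hnc u v)⟩⟩
      exact h.ab T h0
  have h3 : ∀ g : G, (∀ a : Additive V, g • a = a) → g ∈ centralizer (V : Set G) := fun g hg v hv =>
    (mul_inv_eq_iff_eq_mul.1 (addConj_smul_eq.1 (hg (Additive.ofMul ⟨v, hv⟩)))).symm
  rcases full_or_metabelian (G := G) (V := Additive V) h.prime (fun _ _ => h.trans) with h4 | h4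
  · obtain ⟨k, hk⟩ := exists_card_pow (V := Additive V)
    have h5 : Nat.card (nzAct G (Additive V)) = 3 := by
      have := h.four
      have h5 : ¬ 8 ≤ Nat.card V := fun h5 => h2 ⟨h4, h5⟩
      rw [card_nzAct]
      change Nat.card V = _ at hk
      change Nat.card V - 1 = _
      rcases k with _ | _ | _ | k <;> omega
    let f := toPermHom G (nzAct G (Additive V))
    refine isSolvable_of_normal_of_quotient f.ker (isSolvable_of_le h1 fun g hg => h3 g fun a => ?_)
      (isSolvable_of_equiv (QuotientGroup.quotientKerEquivRange f).symm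
        (isSolvable_of_two_primes Nat.prime_two Nat.prime_three fun r hr h6 => ?_))
    · by_cases ha : a = 0
      · rw [ha, smul_zero]
      · exact congrArg Subtype.val (DFunLike.congr_fun hg ⟨a, ha⟩)
    · have h7 := h6.trans f.range.card_subgroup_dvd_card
      rw [Nat.card_perm, h5, show Nat.factorial 3 = 2 * 3 from rfl, hr.dvd_mul,
        Nat.prime_dvd_prime_iff_eq hr Nat.prime_two, Nat.prime_dvd_prime_iff_eq hr Nat.prime_three]
        at h7
      exact h7
  · refine isSolvable_of_normal_of_quotient _ h1 ⟨2, ?_⟩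
    rw [← map_derivedSeries_eq (QuotientGroup.mk'_surjective _), Subgroup.map_eq_bot_iff,
      QuotientGroup.ker_mk']
    exact fun g hg => h3 g (h4 g hg)

end Core

end CfsgLib.H9.Pyr
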