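import Cfsg.Agent.Lib.H9Pyr4
import Cfsg.Agent.Lib.FrobMain
import Cfsg.Agent.Lib.SylowAction
import Cfsg.Agent.Lib.Kazarin
import Cfsg.Agent.Lib.H9Comp
import Cfsg.Agent.Lib.CoreInvol
import Cfsg.Agent.S3797

/-! # Pyramidal groups of prime power degree -/

set_option autoImplicit false

namespace CfsgLib.H9.Pyr

open Subgroup Cfsg MulAction
open scoped IsMulCommutative

theorem isSquare_card_range {F V : Type*} [Field F] [AddCommGroup V] [Module F V] [Finite V]
    (h2 : (2 : F) ≠ 0) {I J : Module.End F V} (hI : I * I * (I * I) = 1) (hJ : J * J = I * I)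
    (hIJ : I * J = I * I * (J * I)) : IsSquare (Nat.card (LinearMap.range (I * I - 1))) := by
  have h1 : ∀ K : Module.End F V, K * (I * I) = I * I * K → ∀ x ∈ LinearMap.range (I * I - 1),
      K x ∈ LinearMap.range (I * I - 1) := by
    rintro K hK _ ⟨x, rfl⟩
    exact ⟨K x, by rw [← Module.End.mul_apply, ← Module.End.mul_apply, mul_sub, sub_mul, hK]; simp⟩
  have hI' := h1 I (mul_assoc _ _ _).symm
  have hJ' := h1 J (by rw [← hJ, mul_assoc])
  have h3 : ∀ x ∈ LinearMap.range (I * I - 1), (I * I) x = -x := by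
    rintro _ ⟨x, rfl⟩
    rw [← Module.End.mul_apply, mul_sub, hI]; simp
  have h4 : I.restrict hI' * J.restrict hJ' = (-1 : F) • (J.restrict hJ' * I.restrict hI') := by
    ext x
    have := h3 _ (hJ' _ (hI' _ x.2))
    rw [← Module.End.mul_apply J, ← Module.End.mul_apply, ← hIJ] at this
    simpa using this
  have h5 : I.restrict hI' * I.restrict hI' = (-1 : F) • 1 := by
    ext x; simpa using h3 _ x.2
  have h6 : J.restrict hJ' * J.restrict hJ' = (-1 : F) • 1 := by
    ext x; simpa [← hJ] using h3 _ x.2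
  have h7 := congrArg LinearMap.det h4
  have h8 := congrArg LinearMap.det h5
  have h9 := congrArg LinearMap.det h6
  simp only [map_mul, LinearMap.det_smul, map_one, mul_one] at h7 h8 h9
  rw [mul_comm, eq_comm, mul_left_eq_self₀, or_iff_left (mul_ne_zero
    (fun h => pow_ne_zero _ (neg_ne_zero.2 one_ne_zero) (h9.symm.trans (by rw [h, zero_mul])))
    fun h => pow_ne_zero _ (neg_ne_zero.2 one_ne_zero) (h8.symm.trans (by rw [h, zero_mul]))), neg_one_pow_eq_one_iff_even fun h => h2 (by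
      rw [← one_add_one_eq_two, ← eq_neg_iff_add_eq_zero, h])] at h7
  rw [Module.natCard_eq_pow_finrank (K := F)]
  exact h7.isSquare_pow _

theorem isSquare_index {G A : Type*} [Group G] [AddCommGroup A] [Finite A] {r : ℕ} [Fact r.Prime]
    [Module (ZMod r) A] [DistribMulAction G A] (h : (2 : ZMod r) ≠ 0) {i j : G}
    (h1 : i * i * (i * i) = 1) (h2 : j * j = i * i) (h3 : i * j = i * i * (j * i)) :
    ∃ K : AddSubgroup A, (∀ a, a ∈ K ↔ (i * i) • a = a) ∧ IsSquare K.index := by
  let f : G →* Module.End (ZMod r) A :=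
    { toFun := fun g => (DistribSMul.toAddMonoidHom _ g).toZModLinearMap r
      map_one' := LinearMap.ext (one_smul G)
      map_mul' := fun a b => LinearMap.ext (mul_smul a b) }
  refine ⟨(f i * f i - 1).toAddMonoidHom.ker, fun a => by rw [← map_mul]; exact sub_eq_zero, ?_⟩
  rw [AddSubgroup.index_ker]
  exact isSquare_card_range (I := f i) (J := f j) h (by simp [← map_mul, h1])
    (by simp [← map_mul, h2]) (by simp only [← map_mul, ← h3])

universe u

theorem isSquare_relIndex (G : Type u) [Group G] [Finite G] : ∀ (i j : G),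
    i * i * (i * i) = 1 → j * j = i * i → i * j = i * i * (j * i) → ∀ (N : Subgroup G) [N.Normal],
    Odd (Nat.card N) → IsSquare ((centralizer {i * i}).relIndex N) := by
  refine card_induction (P := fun G _ _ => ∀ (i j : G), i * i * (i * i) = 1 → j * j = i * i →
    i * j = i * i * (j * i) → ∀ (N : Subgroup G) [N.Normal], Odd (Nat.card N) →
    IsSquare ((centralizer {i * i}).relIndex N)) ?_ G
  intro G _ _ ih i j h1 h2 h3 N _ hN
  by_cases h0 : N = ⊥
  · simp [h0]
  obtain ⟨M, hM, hMN⟩ := exists_isMinNormal_le N h0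
  have := hM.1
  have h4 := hN.of_dvd_nat (card_dvd_of_le hMN)
  obtain ⟨r, hr, h5⟩ := hM.exists_isElementaryAbelian (FT.feit_thompson h4)
  have := Fact.mk hr
  have := h5.1
  have h6 : IsSquare ((centralizer {i * i}).relIndex M) := by
    letI := addConj M
    obtain ⟨_⟩ : Nonempty (Module (ZMod r) (Additive M)) := ⟨AddCommGroup.zmodModule fun x =>
      congrArg Additive.ofMul (Subtype.ext (h5.2 _ x.toMul.2))⟩
    have h2r : (2 : ZMod r) ≠ 0 := fun h => by
      obtain rfl := (Nat.prime_dvd_prime_iff_eq hr Nat.prime_two).1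
        ((ZMod.natCast_eq_zero_iff 2 r).1 h)
      exact hM.2.1 (card_eq_one.1 (((isPGroup_of_isElementaryAbelian h5).card_eq_or_dvd).resolve_right
        (Nat.two_dvd_ne_zero.2 (Nat.odd_iff.1 h4))))
    obtain ⟨K, h6, h7⟩ := isSquare_index (A := Additive M) (r := r) h2r h1 h2 h3
    have h8 := ((centralizer {i * i}).subgroupOf M).card_mul_index
    rw [show Nat.card ((centralizer {i * i}).subgroupOf M) = Nat.card K from Nat.card_congr
        (Additive.ofMul.subtypeEquiv fun x => ?_)] at h8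
    · rw [relIndex, ← Nat.eq_of_mul_eq_mul_left Nat.card_pos (K.card_mul_index.trans h8.symm)]
      exact h7
    · rw [mem_subgroupOf, mem_centralizer_singleton_iff, eq_comm, ← mul_inv_eq_iff_eq_mul, h6]
      exact (addConj_smul_eq (a := Additive.ofMul x) (b := Additive.ofMul x)).symm
  have h7 := card_map_mk'_mul_card_inf N M
  have := Normal.map ‹N.Normal› _ (QuotientGroup.mk'_surjective M)
  have h8 := ih (G ⧸ M) (card_quotient_lt hM.2.1) (QuotientGroup.mk' M i) (QuotientGroup.mk' M j)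
    (by simp only [← map_mul, h1, map_one]) (by simp only [← map_mul, h2])
    (by simp only [← map_mul, ← h3]) (N.map (QuotientGroup.mk' M)) (hN.of_dvd_nat ⟨_, h7.symm⟩)
  have h9 := Cop.map_mk'_inf_centralizer (A := zpowers (i * i)) (G := N) M le_normalizer_of_normal
    (by
      rw [inf_eq_right.2 hMN, Nat.card_zpowers]
      exact (Nat.coprime_two_left.2 h4).coprime_dvd_left (orderOf_dvd_of_pow_eq_one (sq (i * i) ▸ h1)))
    (Or.inl isSolvable_of_isMulCommutative)
  rw [MonoidHom.map_zpowers, H1.centralizer_zpowers_eq, H1.centralizer_zpowers_eq] at h9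
  have h10 := card_map_mk'_mul_card_inf (N ⊓ centralizer {i * i}) M
  have h11 := card_inf_mul_relIndex (centralizer {i * i}) N
  have h12 := card_inf_mul_relIndex (centralizer {i * i}) M
  have h13 := card_inf_mul_relIndex (centralizer {QuotientGroup.mk' M (i * i)})
    (N.map (QuotientGroup.mk' M))
  rw [inf_comm, h9] at h13
  rw [← inf_assoc, inf_eq_left.2 hMN, inf_comm M] at h10
  rw [inf_eq_left.2 hMN, ← h11, ← h12, ← h13, inf_comm _ N, ← h10, mul_mul_mul_comm] at h7
  rw [← Nat.eq_of_mul_eq_mul_left (Nat.mul_pos Nat.card_pos Nat.card_pos) h7, map_mul]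
  exact h8.mul h6

variable {G : Type*} [Group G] [Finite G]

theorem ncard_sq_eq : {x : G | x * x = 1}.ncard = {x : G | orderOf x = 2}.ncard + 1 := by
  rw [← Set.ncard_insert_of_notMem (a := 1) (by simp)]
  congr 1
  ext x
  by_cases h : x = 1
  · simp [h]
  · simpa [h] using ⟨fun h1 => orderOf_eq_prime (sq x ▸ h1) h, fun h1 => by
      rw [← sq, ← h1, pow_orderOf_eq_one]⟩

theorem odd_ncard_invol {t : G} (ht : orderOf t = 2) : Odd {x : G | orderOf x = 2}.ncard := by
  classical
  have := Fintype.ofFinite G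
  have h1 := Equiv.Perm.card_fixedPoints_modEq (α := G) (f := Inv.inv) (p := 2) (n := 1)
    (funext inv_inv)
  rw [← Nat.card_eq_fintype_card, ← Nat.card_eq_fintype_card, Nat.card_coe_set_eq,
    show Function.fixedPoints Inv.inv = {x : G | x * x = 1} from
      Set.ext fun x => inv_eq_iff_mul_eq_one, ncard_sq_eq] at h1
  rw [← Nat.not_even_iff_odd, ← Nat.even_add_one, even_iff_two_dvd]
  exact (h1.dvd_iff dvd_rfl).1 (ht ▸ orderOf_dvd_natCard t)

theorem exists_invSub (h : ∀ x y : G, orderOf x = 2 → orderOf y = 2 → x * y = y * x) :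
    ∃ V : Subgroup G, (∀ x, x ∈ V ↔ x * x = 1) ∧ V.Normal ∧ IsMulCommutative V ∧
      ∃ n, Nat.card V = 2 ^ n ∧ {x : G | orderOf x = 2}.ncard + 1 = 2 ^ n := by
  have h1 : ∀ x y : G, x * x = 1 → y * y = 1 → x * y = y * x := fun x y hx hy => by
    by_cases h1 : x = 1 ∨ y = 1
    · rcases h1 with rfl | rfl <;> simp
    · push Not at h1
      exact h x y (orderOf_eq_prime (sq x ▸ hx) h1.1) (orderOf_eq_prime (sq y ▸ hy) h1.2)
  let V : Subgroup G :=
    { carrier := {x | x * x = 1}
      one_mem' := mul_one 1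
      mul_mem' := fun {x y} hx hy => by
        change _ = _
        rw [mul_assoc, ← mul_assoc y, ← h1 x y hx hy, mul_assoc, hy, mul_one, hx]
      inv_mem' := fun {x} hx => by change _ = _; rw [← mul_inv_rev, hx, inv_one] }
  obtain ⟨n, hn⟩ := IsPGroup.iff_card.1 (show IsPGroup 2 V from
    fun x => ⟨1, Subtype.ext ((sq x.1).trans x.2)⟩)
  exact ⟨V, fun _ => Iff.rfl, ⟨fun x hx g => Invol.conj_mul_self hx g⟩,
    ⟨⟨fun x y => Subtype.ext (h1 _ _ x.2 y.2)⟩⟩, n, hn, by rw [← ncard_sq_eq, ← hn]; rfl⟩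

theorem isSolvable_of_nine (h9 : {x : G | orderOf x = 2}.ncard = 9)
    (hc : ∀ x y : G, orderOf x = 2 → orderOf y = 2 → ∃ g : G, g * x * g⁻¹ = y) :
    Group.IsSolvable G := by
  letI : MulAction G {x : G | orderOf x = 2} :=
    { smul := fun g x => ⟨g * x * g⁻¹, (H5.orderOf_conj' g x).trans x.2⟩
      one_smul := fun x => Subtype.ext (show 1 * x.1 * 1⁻¹ = x by simp)
      mul_smul := fun a b x => Subtype.ext
        (show a * b * x.1 * (a * b)⁻¹ = a * (b * x * b⁻¹) * a⁻¹ by group) }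
  let f := toPermHom G {x : G | orderOf x = 2}
  rw [← Nat.card_coe_set_eq] at h9
  refine isSolvable_of_normal_of_quotient f.ker (FT.feit_thompson (Nat.not_even_iff_odd.1 fun h => ?_))
    (isSolvable_of_equiv (QuotientGroup.quotientKerEquivRange f).symm
      (isSolvable_of_two_primes Nat.prime_two Nat.prime_three fun r hr h1 => ?_))
  · obtain ⟨t, ht⟩ := exists_prime_orderOf_dvd_card' 2 h.two_dvd
    obtain ⟨V, -, -, -, n, -, hn⟩ := exists_invSub (G := G) fun x y hx hy => by
      obtain ⟨g, hg⟩ := hc t x ((orderOf_coe t).trans ht) hx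
      have h1 : f x = 1 := hg ▸ Normal.conj_mem inferInstance _ t.2 g
      exact mul_inv_eq_iff_eq_mul.1 (show x * y * x⁻¹ = y from
        congrArg Subtype.val (DFunLike.congr_fun h1 (⟨y, hy⟩ : {x : G | orderOf x = 2})))
    rw [← Nat.card_coe_set_eq, h9] at hn
    rcases n with _ | _ | _ | _ | n <;> omega
  · have := Fact.mk hr
    obtain ⟨⟨_, g, rfl⟩, hg⟩ := exists_prime_orderOf_dvd_card' r h1
    rw [← orderOf_coe, ← pow_one r] at hg
    have h2 := H4.card_modEq_ncard_fixedBy (Ω := {x : G | orderOf x = 2}) hg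
    have h3 := H4.ncard_fixedBy_lt (Ω := {x : G | orderOf x = 2}) (c := f g) fun h3 => by
      rw [show orderOf (f g) = 1 from orderOf_eq_one_iff.2 h3, pow_one] at hg
      exact hr.one_lt.ne hg
    have h4 : (fixedBy {x : G | orderOf x = 2} (f g)).ncard =
        {x : centralizer ({g} : Set G) | orderOf x = 2}.ncard := by
      rw [← Set.ncard_image_of_injective _ Subtype.val_injective,
        ← Set.ncard_image_of_injective _ (Subtype.val_injective (p := (· ∈ centralizer _)))]
      congr 1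
      ext x
      exact ⟨fun ⟨y, h4, h5⟩ => h5 ▸ ⟨⟨y, mem_centralizer_singleton_iff.2 (mul_inv_eq_iff_eq_mul.1
        (congrArg Subtype.val h4)).symm⟩, (orderOf_coe _).symm.trans y.2, rfl⟩,
        fun ⟨y, h4, h5⟩ => h5 ▸ ⟨⟨y, (orderOf_coe y).trans h4⟩, Subtype.ext
          (mul_inv_eq_iff_eq_mul.2 (mem_centralizer_singleton_iff.1 y.2).symm), rfl⟩⟩
    rw [h4, h9] at h2 h3
    have h5 := (Nat.modEq_iff_dvd' h3.le).1 h2.symm
    have h6 := Nat.le_of_dvd (by omega) h5
    by_cases h7 : {x : centralizer ({g} : Set G) | orderOf x = 2}.ncard = 0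
    · rw [h7] at h5
      exact Or.inr ((Nat.prime_dvd_prime_iff_eq hr Nat.prime_three).1 (hr.dvd_of_dvd_pow (n := 2) h5))
    obtain ⟨t, ht⟩ := Set.nonempty_of_ncard_ne_zero h7
    obtain ⟨m, hm⟩ := odd_ncard_invol ht
    rw [hm] at h3 h5 h6
    have h8 : r ≤ 8 := by omega
    interval_cases r <;> first | omega | norm_num at hr

theorem isSolvable_of_odd {p k : ℕ} (hp : p.Prime) (hk : Odd k)
    (h : {x : G | orderOf x = 2}.ncard = p ^ k)
    (hc : ∀ x y : G, orderOf x = 2 → orderOf y = 2 → ∃ g : G, g * x * g⁻¹ = y) :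
    Group.IsSolvable G := by
  have h1 : ∀ {H : Type _} [Group H] [Finite H], (∀ x y : H, orderOf x = 2 → orderOf y = 2 →
      ∃ g : H, g * x * g⁻¹ = y) → ∀ t : H, orderOf t = 2 →
      (centralizer {t}).index = {x : H | orderOf x = 2}.ncard := fun hc t ht => by
    rw [ClassCount.index_centralizer_eq_ncard]
    congr 1
    ext x
    exact ⟨fun h => by obtain ⟨g, rfl⟩ := isConj_iff.1 h; exact (H5.orderOf_conj' g t).trans ht,
      fun h => isConj_iff.2 (hc t x ht h)⟩
  obtain ⟨t, ht⟩ := Set.nonempty_of_ncard_ne_zero (h ▸ pow_ne_zero k hp.ne_zero)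
  set O := pPrimeCore 2 G
  have hO := pPrimeCore_coprime (G := G) 2
  let π := QuotientGroup.mk' O
  have h2 : ∀ x : G, orderOf x = 2 → orderOf (π x) = 2 := fun x hx =>
    orderOf_eq_prime (by rw [← map_pow, orderOf_dvd_iff_pow_eq_one.1 hx.dvd, map_one]) fun h2 => by
      have := hO.coprime_dvd_left (O.orderOf_dvd_natCard ((QuotientGroup.eq_one_iff x).1 h2))
      simp [hx] at this
  have h3 : ∀ y : G ⧸ O, orderOf y = 2 → ∃ x, orderOf x = 2 ∧ π x = y := fun y hy => by
    obtain ⟨x, rfl⟩ := QuotientGroup.mk'_surjective O y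
    obtain ⟨m, hm⟩ := Nat.coprime_two_right.1 hO
    have h3 : (π x) ^ 2 = 1 := orderOf_dvd_iff_pow_eq_one.1 hy.dvd
    have h4 : π (x ^ Nat.card O) = π x := by rw [map_pow, hm, pow_succ, pow_mul, h3]; simp
    refine ⟨_, orderOf_eq_prime ?_ (fun h5 => ?_), h4⟩
    · rw [← pow_mul, mul_comm, pow_mul]
      exact congrArg Subtype.val (pow_card_eq_one' (x := (⟨x ^ 2, (QuotientGroup.eq_one_iff _).1
        ((map_pow π x 2).trans h3)⟩ : O)))
    · rw [← show π _ = QuotientGroup.mk' O x from h4, h5] at hy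
      simp at hy
  have hc' : ∀ x y : G ⧸ O, orderOf x = 2 → orderOf y = 2 → ∃ g, g * x * g⁻¹ = y := fun x y hx hy => by
    obtain ⟨x, h4, rfl⟩ := h3 x hx
    obtain ⟨y, h5, rfl⟩ := h3 y hy
    obtain ⟨g, rfl⟩ := hc x y h4 h5
    exact ⟨π g, by simp⟩
  have h4 := pPrimeCore_quotient_pPrimeCore (G := G) 2
  obtain ⟨z, h5, h6, h7, h8⟩ := Agent.S3797.exists_invol (pCore_isPGroup (G := G ⧸ O) 2) fun h5 =>
    inf_fitting_ne_bot_of_isSolvable solvableRadical_isSolvable (fun h6 => by
      have := h6.le (map_solvableRadical_le (QuotientGroup.mk'_surjective O) (mem_map_of_mem _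
        (Chr.mem_solvableRadical_of_class_prime_pow hp ⟨k, (h1 hc t ht).trans h⟩)))
      simpa [show π t = 1 from this] using h2 t ht)
      (by rw [fitting_eq_pCore_of_pPrimeCore_eq_bot h4, h5, inf_bot_eq])
  have h9 := orderOf_eq_prime h7 h6
  obtain ⟨V, hV, _, _, n, h10, h11⟩ := exists_invSub (G := G ⧸ O) fun x y hx hy => by
    obtain ⟨g, rfl⟩ := hc' z y h9 hy
    obtain ⟨a, h10⟩ := hc' z (g⁻¹ * x * g) h9 ((H5.orderOf_conj'' g x).trans hx)
    have := mem_centralizer_singleton_iff.1 (h8 (h10 ▸ (pCore_normal 2 _).conj_mem z h5 a))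
    rw [← mul_left_inj g, ← mul_right_inj g⁻¹]
    simpa [mul_assoc] using this
  have h12 : ∀ t, orderOf t = 2 → (centralizer {t}).map π ≤ centralizer {π t} := by
    rintro t - _ ⟨x, hx, rfl⟩
    rw [mem_centralizer_singleton_iff, ← map_mul, mem_centralizer_singleton_iff.1 hx, map_mul]
  obtain ⟨j, -, hj⟩ := (Nat.dvd_prime_pow hp).1 ((h1 hc' _ (h2 t ht)).symm.dvd.trans
    (((index_dvd_of_le (h12 t ht)).trans (index_map_dvd _ (QuotientGroup.mk'_surjective O))).trans
      ((h1 hc t ht).trans h).dvd))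
  rcases j.eq_zero_or_pos with rfl | hj0
  swap
  · rw [hj] at h11
    obtain rfl := (eq_one_of_pow_add_one_eq_two_pow hp.two_le hj0 h11).1
    refine isSolvable_of_normal_of_quotient O (FT.feit_thompson (Nat.coprime_two_right.1 hO))
      (Core.isSolvable (V := V) ⟨hV, by rwa [h10, ← h11, pow_one, Nat.add_sub_cancel],
        fun x hx y hy h13 h14 => hc' x y (orderOf_eq_prime (sq x ▸ (hV x).1 hx) h13)
          (orderOf_eq_prime (sq y ▸ (hV y).1 hy) h14)⟩ h4)
  obtain ⟨u, hu⟩ := Set.ncard_eq_one.1 hj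
  have h13 : ∀ x : G ⧸ O, orderOf x = 2 → x = u := fun x hx => hu.le hx
  obtain ⟨S⟩ : Nonempty (Sylow 2 G) := inferInstance
  rcases PGrp.isCyclic_or_quaternion_of_unique_involution S.isPGroup' (fun a b ha hb => by
    have h14 := QuotientGroup.eq.1 ((h13 _ (h2 a ((orderOf_coe a).trans ha))).trans
      (h13 _ (h2 b ((orderOf_coe b).trans hb))).symm)
    exact Subtype.ext (inv_mul_eq_one.1 (Invol.eq_one_of_odd_of_mem S.isPGroup'
      (mul_mem (inv_mem a.2) b.2) ((Nat.coprime_two_right.1 hO).of_dvd_nat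
        (O.orderOf_dvd_natCard h14))))) with h14 | ⟨m, hm, ⟨e⟩⟩
  · exact isSolvable_of_isCyclic_sylow_two S h14
  obtain ⟨i, j, h14, h15, h16, h17⟩ := Frob.exists_quaternion_pair hm
  let f : QuaternionGroup (2 ^ m) →* G := (S : Subgroup G).subtype.comp e.symm.toMonoidHom
  have hf : Function.Injective f := (subtype_injective _).comp e.symm.injective
  have h18 : orderOf (f i * f i) = 2 := by
    rw [← map_mul, orderOf_injective f hf]; exact orderOf_eq_prime (sq (i * i) ▸ h15) h14
  have h19 := isSquare_relIndex G (f i) (f j) (by simp only [← map_mul, h15, map_one])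
    (by simp only [← map_mul, h16]) (by simp only [← map_mul, ← h17]) O (Nat.coprime_two_right.1 hO)
  have h20 := Cop.centralizer_map_mk' (A := zpowers (f i * f i)) O
    (by rw [Nat.card_zpowers, h18]; exact hO.symm) (Or.inl isSolvable_of_isMulCommutative)
  rw [MonoidHom.map_zpowers, H1.centralizer_zpowers_eq, H1.centralizer_zpowers_eq] at h20
  rw [(ClassCount.relIndex_eq_index_iff _ _).2 fun g => ?_, h1 hc _ h18, h] at h19
  · obtain ⟨a, ha⟩ := h19
    obtain ⟨b, -, rfl⟩ := (Nat.dvd_prime_pow hp).1 (Dvd.intro _ ha.symm)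
    rw [← pow_add] at ha
    exact (Nat.not_even_iff_odd.2 hk ⟨b, Nat.pow_right_injective hp.two_le ha⟩).elim
  · obtain ⟨c, hc, h21⟩ := h20.le (x := π g) (mem_centralizer_singleton_iff.2
      (mul_inv_eq_iff_eq_mul.1 ((h13 _ ((H5.orderOf_conj' _ _).trans (h2 _ h18))).trans
        (h13 _ (h2 _ h18)).symm)))
    refine ⟨g * c⁻¹, (QuotientGroup.eq_one_iff _).1 ?_, c, hc, by simp⟩
    change π _ = 1
    rw [map_mul, map_inv, ← h21, mul_inv_cancel]

end CfsgLib.H9.Pyr
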