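import Cfsg.Agent.Lib.GradedLie
import Cfsg.Agent.Lib.AssocLie

/-!
# Higman's theorem for Lie rings with an automorphism of prime order, and its group form
-/

set_option autoImplicit false

namespace CfsgLib.HigmanLie

open GradedLie TensorProduct Polynomial

universe u

/-- `c` bounds the class of `ℤ/p`-graded Lie rings with trivial zero component. -/
def HigmanBound (p c : ℕ) : Prop :=
  ∀ (L : Type u) [LieRing L] (F : ZMod p → AddSubgroup L), IsGr F → F 0 = ⊥ → C F c = ⊥

theorem higmanBound (p : ℕ) [Fact p.Prime] :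
    HigmanBound.{u} p (∑ i ∈ Finset.range (2 ^ (p - 1) - 1), (p - 1) ^ i) :=
  fun _ _ _ hF h0 => higman hF h0

theorem higmanBound_three : HigmanBound.{u} 3 2 := fun _ _ _ hF h0 => higman_three hF h0

theorem exists_root (p : ℕ) [hp : Fact p.Prime] : ∃ (R : Type) (_ : CommRing R)
    (χ : AddChar (ZMod p) R) (ε : R →ₗ[ℤ] ℤ), ε 1 = 1 ∧ ∑ a, χ a = 0 := by
  have hm := cyclotomic.monic p ℤ
  have h1 : ∑ i ∈ Finset.range p, AdjoinRoot.root (cyclotomic p ℤ) ^ i = 0 := by
    have := (congrArg (AdjoinRoot.mk (cyclotomic p ℤ)) (cyclotomic_prime ℤ p)).symm.trans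
      AdjoinRoot.mk_self
    simpa using this
  have h2 : AdjoinRoot.root (cyclotomic p ℤ) ^ p = 1 := by
    rw [← sub_eq_zero, ← geom_sum_mul, h1, zero_mul]
  refine ⟨AdjoinRoot (cyclotomic p ℤ), inferInstance, AddChar.zmodChar p h2,
    (lcoeff ℤ 0).comp (AdjoinRoot.modByMonicHom hm), ?_, ?_⟩
  · have h3 : (1 : ℤ[X]) %ₘ cyclotomic p ℤ = 1 := by
      rw [modByMonic_eq_self_iff hm, degree_one, degree_cyclotomic]
      exact_mod_cast Nat.totient_pos.2 hp.out.pos
    rw [← map_one (AdjoinRoot.mk (cyclotomic p ℤ)), LinearMap.comp_apply,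
      AdjoinRoot.modByMonicHom_mk, h3]
    simp
  · rw [← h1]
    simp_rw [AddChar.zmodChar_apply]
    exact Finset.sum_nbij' ZMod.val (fun n => (n : ZMod p)) (fun a _ => by simpa using a.val_lt)
      (fun _ _ => Finset.mem_univ _) (fun a _ => by simp)
      (fun a ha => ZMod.val_cast_of_lt (by simpa using ha)) fun _ _ => rfl

section Eigen

variable {p : ℕ} [hp : Fact p.Prime] {R : Type*} [CommRing R] (χ : AddChar (ZMod p) R)
  {L : Type*} [LieRing L] [LieAlgebra R L] (φ : Module.End R L)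

/-- Eigenspaces. -/
def eig (i : ZMod p) : AddSubgroup L where
  carrier := {x | φ x = χ i • x}
  zero_mem' := by simp
  add_mem' := fun {a b} ha hb => by
    rw [Set.mem_ofPred_eq] at *; rw [map_add, ha, hb, smul_add]
  neg_mem' := fun {a} ha => by
    rw [Set.mem_ofPred_eq] at *; rw [map_neg, ha, smul_neg]

theorem isGr_eig (hφ : ∀ x y, φ ⁅x, y⁆ = ⁅φ x, φ y⁆) : IsGr (eig χ φ) := by
  intro i j x hx y hy
  change φ x = _ at hx
  change φ y = _ at hy
  change φ _ = _
  rw [hφ, hx, hy, smul_lie, lie_smul, smul_smul, AddChar.map_add_eq_mul]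

theorem nsmul_mem_iSup (hχ : ∑ a, χ a = 0) (hφ : φ ^ p = 1) (x : L) :
    p • x ∈ ⨆ i, eig χ φ i := by
  have h1 : ∀ j : ZMod p, φ ((φ ^ j.val) x) = (φ ^ (j + 1).val) x := fun j => by
    rw [ZMod.val_add, ← pow_eq_pow_mod _ hφ, ZMod.val_one, pow_succ', Module.End.mul_apply]
  have h2 : p • x = ∑ i : ZMod p, ∑ j : ZMod p, χ (-(i * j)) • (φ ^ j.val) x := by
    rw [Finset.sum_comm, Finset.sum_eq_single 0]
    · simp
    · intro j _ hj
      rw [← Finset.sum_smul]
      simp_rw [← mul_neg]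
      rw [Fintype.sum_equiv (Equiv.mulRight₀ (-j) (neg_ne_zero.2 hj)) (fun i => χ (i * -j)) χ
        fun _ => rfl, hχ, zero_smul]
    · simp
  rw [h2]
  refine sum_mem fun i _ => AddSubgroup.mem_iSup_of_mem i ?_
  change φ _ = _
  rw [map_sum, Finset.smul_sum]
  refine Fintype.sum_equiv (Equiv.addRight (1 : ZMod p)) _ _ fun j => ?_
  rw [map_smul, h1, smul_smul, ← AddChar.map_add_eq_mul, Equiv.coe_addRight]
  congr 2
  ring

theorem sum_pow_of_mem_eig_zero {x : L} (hx : x ∈ eig χ φ 0) :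
    ∑ j ∈ Finset.range p, (φ ^ j) x = p • x := by
  change φ x = _ at hx
  rw [AddChar.map_zero_eq_one, one_smul] at hx
  rw [Finset.sum_congr rfl (g := fun _ => x), Finset.sum_const, Finset.card_range]
  intro j _
  rw [Module.End.pow_apply, Function.iterate_fixed hx]

end Eigen

/-- The lower central series of a Lie ring. -/
def lcs (L : Type*) [LieRing L] : ℕ → AddSubgroup L
  | 0 => ⊤
  | n + 1 => AddSubgroup.closure {z | ∃ x ∈ lcs L n, ∃ y, ⁅x, y⁆ = z}

theorem lie_mem_iSup_br {L A : Type*} [LieRing L] [AddCommGroup A] {F H : A → AddSubgroup L}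
    {x y : L} (hx : x ∈ ⨆ i, F i) (hy : y ∈ ⨆ i, H i) : ⁅x, y⁆ ∈ ⨆ i, br F H i := by
  induction hx using AddSubgroup.iSup_induction' with
  | h1 => rw [zero_lie]; exact zero_mem _
  | hadd x x' _ _ h h' => rw [add_lie]; exact add_mem h h'
  | hp i x hx =>
  induction hy using AddSubgroup.iSup_induction' with
  | h1 => rw [lie_zero]; exact zero_mem _
  | hadd x x' _ _ h h' => rw [lie_add]; exact add_mem h h'
  | hp j y hy => exact AddSubgroup.mem_iSup_of_mem _ (lie_mem_br hx hy)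

theorem nsmul_lcs_eq_zero_aux {p c : ℕ} [hp : Fact p.Prime] (hc : HigmanBound.{u} p c) {L : Type u}
    {S R : Type} [CommRing S] [CommRing R] [Algebra S R] (χ : AddChar (ZMod p) R)
    (ε : R →ₗ[S] S) (hε : ε 1 = 1) (hχ : ∑ a, χ a = 0) [LieRing L] [LieAlgebra S L]
    (φ : Module.End S L) (hφ : ∀ x y, φ ⁅x, y⁆ = ⁅φ x, φ y⁆) (hφp : φ ^ p = 1)
    (m : ℕ) (hm : ∀ x, m • ∑ j ∈ Finset.range p, (φ ^ j) x = 0) {x : L} (hx : x ∈ lcs L c) :
    (m * p ^ (c + 2)) • x = 0 := by
  let ψ : Module.End R (R ⊗[S] L) := LinearMap.baseChange R φ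
  have hψ : ∀ (j : ℕ) (r : R) (x : L), (ψ ^ j) (r ⊗ₜ x) = r ⊗ₜ (φ ^ j) x := by
    intro j r x
    induction j with
    | zero => rfl
    | succ j ih => rw [pow_succ', pow_succ', Module.End.mul_apply, ih]; rfl
  have hψp : ψ ^ p = 1 := by
    refine LinearMap.ext fun x => ?_
    induction x using TensorProduct.induction_on with
    | zero => simp
    | add x y hx hy => rw [map_add, map_add, hx, hy]
    | tmul r x => rw [hψ, hφp]; rfl
  have hψl : ∀ x y, ψ ⁅x, y⁆ = ⁅ψ x, ψ y⁆ := by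
    intro x y
    induction x using TensorProduct.induction_on with
    | zero => simp
    | add x x' hx hx' => rw [add_lie, map_add, map_add, add_lie, hx, hx']
    | tmul r x =>
    induction y using TensorProduct.induction_on with
    | zero => simp
    | add x x' hx hx' => rw [lie_add, map_add, map_add, lie_add, hx, hx']
    | tmul s y => simp [ψ, hφ]
  have hψm : ∀ x, m • ∑ j ∈ Finset.range p, (ψ ^ j) x = 0 := by
    intro x
    induction x using TensorProduct.induction_on with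
    | zero => simp
    | add x y hx hy => simp only [map_add, Finset.sum_add_distrib, smul_add, hx, hy, add_zero]
    | tmul r x => simp only [hψ]; rw [← tmul_sum, ← tmul_smul, hm, tmul_zero]
  let I : LieIdeal R (R ⊗[S] L) :=
    { carrier := {y | (m * p) • y = 0}
      zero_mem' := smul_zero _
      add_mem' := fun {a b} ha hb => by
        rw [Set.mem_ofPred_eq] at *; rw [smul_add, ha, hb, add_zero]
      smul_mem' := fun r {a} ha => by
        rw [Set.mem_ofPred_eq] at *; rw [smul_comm, ha, smul_zero]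
      lie_mem := fun {a b} hb => by
        rw [Set.mem_ofPred_eq] at *; rw [← lie_nsmul, hb, lie_zero] }
  let π : R ⊗[S] L →+ (R ⊗[S] L) ⧸ I := (LieSubmodule.Quotient.mk' I).toLinearMap.toAddMonoidHom
  have hπ : ∀ x y, π ⁅x, y⁆ = ⁅π x, π y⁆ := fun x y => LieSubmodule.Quotient.mk_bracket I x y
  let F : ZMod p → AddSubgroup ((R ⊗[S] L) ⧸ I) := fun i => (eig χ ψ i).map π
  have hF : IsGr F := by
    rintro i j _ ⟨x, hx, rfl⟩ _ ⟨y, hy, rfl⟩
    exact ⟨_, isGr_eig χ ψ hψl i j x hx y hy, hπ x y⟩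
  have hF0 : F 0 = ⊥ := by
    rw [eq_bot_iff]
    rintro _ ⟨x, hx, rfl⟩
    refine (LieSubmodule.Quotient.mk_eq_zero I).2 ?_
    change (m * p) • x = 0
    rw [mul_smul, ← sum_pow_of_mem_eig_zero χ ψ hx, hψm]
  have h0 : ∀ y, p • π y ∈ ⨆ i, F i := fun y => by
    rw [← AddSubgroup.map_iSup, ← map_nsmul]
    exact ⟨_, nsmul_mem_iSup χ ψ hχ hψp y, rfl⟩
  have key : ∀ n, ∀ x ∈ lcs L n, p ^ (n + 1) • π (1 ⊗ₜ x) ∈ ⨆ i, C F n i := by
    intro n
    induction n with
    | zero => intro x _; rw [zero_add, pow_one]; exact h0 _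
    | succ n ih =>
      intro x hx
      induction hx using AddSubgroup.closure_induction with
      | zero => simp
      | add x y _ _ hx hy => rw [tmul_add, map_add, smul_add]; exact add_mem hx hy
      | neg x _ hx => rw [tmul_neg, map_neg, smul_neg]; exact neg_mem hx
      | mem _ hz =>
        obtain ⟨x, hx, y, rfl⟩ := hz
        have := lie_mem_iSup_br (ih x hx) (h0 (1 ⊗ₜ y))
        rwa [nsmul_lie, lie_nsmul, smul_smul, ← pow_succ, ← hπ,
          LieAlgebra.ExtendScalars.bracket_tmul, one_mul, ← C_succ] at this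
  have h1 := key c x hx
  rw [hc _ F hF hF0] at h1
  simp only [Pi.bot_apply, iSup_bot, AddSubgroup.mem_bot] at h1
  rw [← map_nsmul] at h1
  have h2 : (m * p) • p ^ (c + 1) • ((1 : R) ⊗ₜ[S] x) = 0 :=
    (LieSubmodule.Quotient.mk_eq_zero I).1 h1
  have h3 := congrArg (fun t => TensorProduct.lid S L (LinearMap.rTensor L ε t)) h2
  simp only [map_nsmul, LinearMap.rTensor_tmul, hε, lid_tmul, one_smul, map_zero, smul_smul] at h3
  rwa [mul_assoc, ← pow_succ'] at h3

/-- **Higman's theorem** for Lie rings, with torsion. -/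
theorem nsmul_lcs_eq_zero {p c : ℕ} [hp : Fact p.Prime] (hc : HigmanBound.{u} p c) {L : Type u}
    [LieRing L] (φ : AddMonoid.End L) (hφ : ∀ x y, φ ⁅x, y⁆ = ⁅φ x, φ y⁆) (hφp : φ ^ p = 1)
    (m : ℕ) (hm : ∀ x, m • ∑ j ∈ Finset.range p, (φ ^ j) x = 0) {x : L} (hx : x ∈ lcs L c) :
    (m * p ^ (c + 2)) • x = 0 := by
  obtain ⟨R, _, χ, ε, hε, hχ⟩ := exists_root p
  have h : ∀ (j : ℕ) (x : L), ((AddMonoidHom.toIntLinearMap φ : Module.End ℤ L) ^ j) x =
      (φ ^ j) x := fun j x => by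
    rw [Module.End.pow_apply, AddMonoid.End.coe_pow]; rfl
  refine nsmul_lcs_eq_zero_aux hc χ ε hε hχ (AddMonoidHom.toIntLinearMap φ) hφ
    (LinearMap.ext fun x => ?_) m (fun x => ?_) hx
  · exact (h p x).trans (by rw [hφp]; rfl)
  · exact (congrArg (m • ·) (Finset.sum_congr rfl fun j _ => h j x)).trans (hm x)

section Groups

open AssocLie Subgroup

variable {G : Type u} [Group G]

theorem ι_mem_lcs (H : Subgroup G) (n k : ℕ) : ∀ g ∈ H.lowerCentralSeries (n + k),
    ι H.lowerCentralSeries (n + k) g ∈ lcs (AL H.lowerCentralSeries) n := by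
  induction n with
  | zero => intro g _; trivial
  | succ n ih =>
    intro g hg
    rw [add_right_comm] at hg ⊢
    have hg' := hg
    rw [Subgroup.lowerCentralSeries_succ, Subgroup.commutator_def] at hg'
    induction hg' using Subgroup.closure_induction with
    | one => rw [ι_one]; exact zero_mem _
    | mul x y hx hy h1 h2 => rw [ι_mul hx hy]; exact add_mem (h1 hx) (h2 hy)
    | inv x hx h1 => rw [ι_inv hx]; exact neg_mem (h1 hx)
    | mem _ hz =>
      obtain ⟨x, hx, y, hy, rfl⟩ := hz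
      have := lie_ι (K := H.lowerCentralSeries) (j := 0) hx hy
      rw [add_zero] at this
      rw [← this]
      exact AddSubgroup.subset_closure ⟨_, ih x hx, _, rfl⟩

theorem map_mem_lcs {H : Subgroup G} {α : G →* G} (hα : ∀ g ∈ H, α g ∈ H) (n : ℕ) :
    ∀ g ∈ H.lowerCentralSeries n, α g ∈ H.lowerCentralSeries n := by
  induction n with
  | zero => exact hα
  | succ n ih =>
    rw [Subgroup.lowerCentralSeries_succ]
    refine fun g hg => mem_comap.1 ((map_le_iff_le_comap (f := α)).1 ?_ hg)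
    rw [Subgroup.map_commutator]
    exact commutator_mono (map_le_iff_le_comap.2 ih) (map_le_iff_le_comap.2 hα)

/-- The endomorphism of the associated Lie ring. -/
noncomputable def endo {H : Subgroup G} (α : MulAut G) (hα : ∀ g ∈ H, α g ∈ H) :
    AddMonoid.End (AL H.lowerCentralSeries) :=
  AssocLie.map α.toMonoidHom (map_mem_lcs hα)

theorem pow_mem_lcs {H : Subgroup G} (α : MulAut G) (hα : ∀ g ∈ H, α g ∈ H) (j n : ℕ) {g : G}
    (hg : g ∈ H.lowerCentralSeries n) : (α ^ j) g ∈ H.lowerCentralSeries n := by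
  induction j with
  | zero => exact hg
  | succ j ih => rw [pow_succ']; exact map_mem_lcs (α := α.toMonoidHom) hα n _ ih

theorem endo_pow_ι {H : Subgroup G} (α : MulAut G) (hα : ∀ g ∈ H, α g ∈ H) (j : ℕ) {n : ℕ} {g : G}
    (hg : g ∈ H.lowerCentralSeries n) :
    (endo α hα ^ j) (ι _ n g) = ι _ n ((α ^ j) g) := by
  induction j with
  | zero => rfl
  | succ j ih =>
    rw [pow_succ', pow_succ', AddMonoid.End.coe_mul, Function.comp_apply, ih]
    exact map_ι _ _ (pow_mem_lcs α hα j n hg)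

theorem endo_pow_eq_one {H : Subgroup G} {α : MulAut G} (hα : ∀ g ∈ H, α g ∈ H) {p : ℕ}
    (hp : α ^ p = 1) : endo α hα ^ p = 1 :=
  hom_ext fun n g hg => by
    erw [endo_pow_ι α hα p hg, hp]; rfl

theorem sum_pow_sub {M : Type*} [AddCommGroup M] {φ : AddMonoid.End M} {p : ℕ} (hp : φ ^ p = 1)
    (y : M) : ∑ j ∈ Finset.range p, (φ ^ j) (φ y - y) = 0 := by
  have h : ∀ j, (φ ^ j) (φ y) = (φ ^ (j + 1)) y := fun j => by rw [pow_succ]; rfl
  simp_rw [map_sub, h]
  rw [Finset.sum_range_sub (fun j => (φ ^ j) y), hp, pow_zero, sub_self]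

/-- Group form: if `m`-th powers of elements of `γ_n(H)` are congruent to `h⁻¹ α h`, then the
factors `γ_n(H)/γ_(n+1)(H)`, `n > c`, have exponent dividing `m p^(c+2)`. -/
theorem pow_mem_lcs_succ {p c : ℕ} [Fact p.Prime] (hc : HigmanBound.{u} p c) {H : Subgroup G}
    {α : MulAut G} (hα : ∀ g ∈ H, α g ∈ H) (hp : α ^ p = 1) (m : ℕ)
    (hm : ∀ n, ∀ g ∈ H.lowerCentralSeries n, ∃ y,
      m • ι H.lowerCentralSeries n g = endo α hα y - y)
    (k : ℕ) {g : G} (hg : g ∈ H.lowerCentralSeries (c + k)) :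
    g ^ (m * p ^ (c + 2)) ∈ H.lowerCentralSeries (c + k + 1) := by
  rw [← ι_eq_zero_iff (pow_mem hg _), ι_pow hg]
  refine nsmul_lcs_eq_zero hc (endo α hα) (map_lie _ _) (endo_pow_eq_one hα hp) m (fun x => ?_)
    (ι_mem_lcs H c k g hg)
  induction x using AssocLie.induction_on with
  | h0 => simp
  | h2 x y hx hy => simp only [map_add, Finset.sum_add_distrib, smul_add, hx, hy, add_zero]
  | h1 n g hg =>
    obtain ⟨y, hy⟩ := hm n g hg
    rw [Finset.smul_sum]
    simp_rw [← map_nsmul, hy]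
    exact sum_pow_sub (endo_pow_eq_one hα hp) y

end Groups

end CfsgLib.HigmanLie
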