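import Mathlib
import Cfsg.Agent.Lib.CoreFitting
import Cfsg.Agent.Lib.CoreElements
import Cfsg.Agent.Lib.H8Misc

/-! Minimal covers of groups by nilpotent subgroups. -/

set_option autoImplicit false

namespace CfsgLib.PGrp

open Subgroup

variable {G : Type*} [Group G]

/-- A minimal cover all of whose members are nilpotent. -/
def IsNilpMinCover (𝓐 : Finset (Subgroup G)) : Prop :=
  ((∀ A ∈ 𝓐, A ≠ ⊤) ∧ (∀ g : G, ∃ A ∈ 𝓐, g ∈ A)) ∧
    (∀ 𝓑 : Finset (Subgroup G), (∀ A ∈ 𝓑, A ≠ ⊤) ∧ (∀ g : G, ∃ A ∈ 𝓑, g ∈ A) →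
      𝓐.card ≤ 𝓑.card) ∧ (∀ A ∈ 𝓐, Group.IsNilpotent ↥A)

theorem IsNilpMinCover.eq_of_le {𝓐 : Finset (Subgroup G)} (h : IsNilpMinCover 𝓐)
    {A B M : Subgroup G} (hA : A ∈ 𝓐) (hB : B ∈ 𝓐) (hM : M ≠ ⊤) (hAM : A ≤ M) (hBM : B ≤ M) :
    A = B := by
  classical
  by_contra hne
  have h1 := h.2.1 (insert M ((𝓐.erase A).erase B)) ⟨?_, ?_⟩
  · have h2 := Finset.card_insert_le M ((𝓐.erase A).erase B)
    have hB' : B ∈ 𝓐.erase A := Finset.mem_erase.2 ⟨Ne.symm hne, hB⟩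
    have h3 := Finset.card_pos.2 ⟨B, hB'⟩
    rw [Finset.card_erase_of_mem hB'] at h2
    have h4 := Finset.card_erase_of_mem hA
    have h5 := Finset.card_pos.2 ⟨A, hA⟩
    omega
  · intro C hC
    rcases Finset.mem_insert.1 hC with rfl | hC
    · exact hM
    · exact h.1.1 C (Finset.mem_of_mem_erase (Finset.mem_of_mem_erase hC))
  · intro g
    obtain ⟨C, hC, hg⟩ := h.1.2 g
    by_cases h1 : C = A
    · exact ⟨M, Finset.mem_insert_self _ _, hAM (h1 ▸ hg)⟩
    by_cases h2 : C = B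
    · exact ⟨M, Finset.mem_insert_self _ _, hBM (h2 ▸ hg)⟩
    exact ⟨C, Finset.mem_insert_of_mem (Finset.mem_erase.2 ⟨h2, Finset.mem_erase.2 ⟨h1, hC⟩⟩), hg⟩

/-- If `u` lies in a unique conjugate of `M`, every nilpotent subgroup containing `u` lies
in `M`. -/
theorem nilpotent_le_of_unique_conj {M A : Subgroup G} {u : G} (huM : u ∈ M)
    (hu : ∀ g, g⁻¹ * u * g ∈ M → g ∈ M) (hA : Group.IsNilpotent A) (huA : u ∈ A) : A ≤ M := by
  by_contra hle
  have h1 : A ⊓ M < A := lt_of_le_of_ne inf_le_left fun h => hle (inf_eq_left.1 h)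
  obtain ⟨g, hg, hg'⟩ := SetLike.exists_of_lt (lt_inf_normalizer_of_isNilpotent hA h1)
  obtain ⟨hgA, hgN⟩ := mem_inf.1 hg
  refine hg' (mem_inf.2 ⟨hgA, hu g ?_⟩)
  have := (mem_normalizer_iff.1 (inv_mem hgN) u).1 (mem_inf.2 ⟨huA, huM⟩)
  rw [inv_inv] at this
  exact (mem_inf.1 this).2

/-- If the `r`-element `t` lies in fewer than `r` conjugates of `M` and `C(t) ≤ M`, every nilpotent
subgroup containing `t` lies in `M`. -/
theorem nilpotent_le_of_few_conj [Finite G] {M A : Subgroup G} {t : G} {r k : ℕ} (hr : r.Prime)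
    (ht : orderOf t = r ^ k) (htM : t ∈ M) (hC : ∀ g, Commute g t → g ∈ M) {ι : Type*}
    [Finite ι] (hι : Nat.card ι < r) (R : G → ι → Prop) (h1 : ∀ g, g⁻¹ * t * g ∈ M → ∃ i, R g i)
    (h2 : ∀ g g' i, R g i → R g' i → g⁻¹ * g' ∈ M) (hA : Group.IsNilpotent A) (htA : t ∈ A) :
    A ≤ M := by
  by_contra hle
  have h3 : A ⊓ M < A := lt_of_le_of_ne inf_le_left fun h => hle (inf_eq_left.1 h)
  set N := A ⊓ normalizer ((A ⊓ M : Subgroup G) : Set G) with hN
  have h4 : ∀ g ∈ N, g⁻¹ * t * g ∈ M := by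
    intro g hg
    have := (mem_normalizer_iff.1 (inv_mem (mem_inf.1 hg).2) t).1 (mem_inf.2 ⟨htA, htM⟩)
    rw [inv_inv] at this
    exact (mem_inf.1 this).2
  have h5 : M.relIndex N < r := by
    refine lt_of_le_of_lt ?_ hι
    choose φ hφ using fun q : N ⧸ M.subgroupOf N => h1 _ (h4 _ q.out.2)
    refine Nat.card_le_card_of_injective φ fun q q' h => ?_
    rw [← q.out_eq', ← q'.out_eq', QuotientGroup.eq]
    exact h2 _ _ _ (hφ q) (h ▸ hφ q')
  refine (lt_inf_normalizer_of_isNilpotent hA h3).not_ge (le_inf inf_le_left ?_)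
  refine le_of_forall_primePow_mem fun x hx p j hp hxo => ?_
  by_cases hpr : p = r
  · subst hpr
    have hNn : Group.IsNilpotent N := isNilpotent_of_le hA inf_le_left
    have h6 := H8.relIndex_dvd_index_of_isSubnormal
      (isSubnormal_of_isNilpotent (zpowers (⟨x, hx⟩ : N))) (M.subgroupOf N)
    have h7 : (M.subgroupOf N).relIndex (zpowers (⟨x, hx⟩ : N)) ∣ p ^ j := by
      rw [← hxo, ← orderOf_mk x hx, ← Nat.card_zpowers]
      exact relIndex_dvd_card _ _
    have h8 : (M.subgroupOf N).index.Coprime (p ^ j) :=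
      (Nat.coprime_of_lt_prime index_ne_zero_of_finite h5 hp).symm.pow_right _
    have h9 := relIndex_eq_one.1 (Nat.eq_one_of_dvd_coprimes h8 h6 h7)
    exact h9 (mem_zpowers _)
  · refine hC x (commute_of_coprime_of_mem_isNilpotent hA (mem_inf.1 hx).1 htA ?_)
    rw [hxo, ht]
    exact Nat.Coprime.pow _ _ ((Nat.coprime_primes hp hr).2 hpr)

theorem isNilpotent_comap_of_ker_le_center {H : Type*} [Group H] (f : H →* G)
    (hf : f.ker ≤ center H) {A : Subgroup G} (hA : Group.IsNilpotent A) :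
    Group.IsNilpotent (A.comap f) := by
  refine Subgroup.isNilpotent_of_ker_le_center (f.subgroupComap A) fun x hx => ?_
  have h1 : (x : H) ∈ f.ker := congrArg Subtype.val (MonoidHom.mem_ker.1 hx)
  exact mem_center_iff.2 fun y => Subtype.ext (mem_center_iff.1 (hf h1) y)

theorem map_ne_top_of_ker_le {H : Type*} [Group H] (f : H →* G) {M : Subgroup H}
    (hM : M ≠ ⊤) (hf : f.ker ≤ M) : M.map f ≠ ⊤ := fun h =>
  hM (by rw [← comap_map_eq_self hf, h, comap_top])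

/-- First criterion: all elements whose nilpotent overgroups lie in a fixed proper subgroup lie in
one nilpotent subgroup. -/
theorem IsNilpMinCover.exists_nilpotent {𝓐 : Finset (Subgroup G)} (h : IsNilpMinCover 𝓐)
    {H : Type*} [Group H] (f : H →* G) (hf : Function.Surjective f) (hZ : f.ker ≤ center H)
    {M : Subgroup H} (hM : M ≠ ⊤) (hker : f.ker ≤ M) :
    ∃ A : Subgroup H, Group.IsNilpotent A ∧
      ∀ x, (∀ B : Subgroup H, Group.IsNilpotent B → x ∈ B → B ≤ M) → x ∈ A := by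
  have key : ∀ x, (∀ B : Subgroup H, Group.IsNilpotent B → x ∈ B → B ≤ M) →
      ∃ A ∈ 𝓐, f x ∈ A ∧ A ≤ M.map f := by
    intro x hx
    obtain ⟨A, hA, hxA⟩ := h.1.2 (f x)
    refine ⟨A, hA, hxA, ?_⟩
    rw [← map_comap_eq_self_of_surjective hf A]
    exact map_mono (hx _ (isNilpotent_comap_of_ker_le_center f hZ (h.2.2 A hA)) hxA)
  by_cases h0 : ∃ x, ∀ B : Subgroup H, Group.IsNilpotent B → x ∈ B → B ≤ M
  · obtain ⟨x, hx⟩ := h0
    obtain ⟨A, hA, -, hAM⟩ := key x hx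
    refine ⟨A.comap f, isNilpotent_comap_of_ker_le_center f hZ (h.2.2 A hA), fun y hy => ?_⟩
    obtain ⟨B, hB, hyB, hBM⟩ := key y hy
    rw [h.eq_of_le hA hB (map_ne_top_of_ker_le f hM hker) hAM hBM]
    exact hyB
  · exact ⟨⊥, inferInstance, fun x hx => absurd ⟨x, hx⟩ h0⟩

/-- Second criterion: replace the members containing conjugates of `u` by conjugates of `M`. -/
theorem IsNilpMinCover.false_of_unique_conj {𝓐 : Finset (Subgroup G)} (h : IsNilpMinCover 𝓐)
    {H : Type*} [Group H] (f : H →* G) (hf : Function.Surjective f) (hZ : f.ker ≤ center H)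
    {M : Subgroup H} (hM : M ≠ ⊤) (hker : f.ker ≤ M) {u : H} (huM : u ∈ M)
    (hu : ∀ g, g⁻¹ * u * g ∈ M → g ∈ M) (t : H)
    (ht : ∀ A : Subgroup H, Group.IsNilpotent A → t ∈ A →
      (∀ a ∈ A, ∃ g, g⁻¹ * a * g ∈ M) ∧ ∀ g, g * u * g⁻¹ ∉ A) : False := by
  classical
  let C : H → Subgroup H := fun g => M.map (MulAut.conj g).toMonoidHom
  have hC : ∀ g x, x ∈ C g ↔ g⁻¹ * x * g ∈ M := by
    intro g x
    constructor
    · rintro ⟨y, hy, rfl⟩
      simpa [mul_assoc] using hy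
    · intro hx
      exact ⟨_, hx, by simp [mul_assoc]⟩
  have hC1 : ∀ g, (C g).map f ≠ ⊤ := by
    intro g
    refine map_ne_top_of_ker_le f (fun h => hM ?_) fun x hx => (hC g x).2 (hker ?_)
    · rw [eq_top_iff]
      intro x _
      have := (hC g (g * x * g⁻¹)).1 (h ▸ mem_top _)
      simpa [mul_assoc] using this
    · simpa using (inferInstance : f.ker.Normal).conj_mem x hx g⁻¹
  have hC2 : ∀ g (A : Subgroup H), Group.IsNilpotent A → g * u * g⁻¹ ∈ A → A ≤ C g := by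
    intro g A hA hgA
    refine nilpotent_le_of_unique_conj ((hC _ _).2 (by simpa [mul_assoc] using huM))
      (fun k hk => (hC _ _).2 (hu _ ?_)) hA hgA
    have := (hC _ _).1 hk
    convert this using 1
    group
  have hC3 : ∀ g g', g * u * g⁻¹ ∈ C g' → C g = C g' := by
    intro g g' hg
    have h1 : g⁻¹ * g' ∈ M := by
      refine hu _ ?_
      have := (hC _ _).1 hg
      convert this using 1
      group
    ext x
    rw [hC, hC]
    constructor
    · intro h2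
      have := mul_mem (mul_mem (inv_mem h1) h2) h1
      convert this using 1
      group
    · intro h2
      have := mul_mem (mul_mem h1 h2) (inv_mem h1)
      convert this using 1
      group
  have hnil : ∀ A ∈ 𝓐, Group.IsNilpotent (A.comap f) := fun A hA =>
    isNilpotent_comap_of_ker_le_center f hZ (h.2.2 A hA)
  let ψ : Subgroup G → Subgroup G := fun A =>
    if hA : ∃ g, g * u * g⁻¹ ∈ A.comap f then (C hA.choose).map f else A
  have hψ1 : ∀ A ∈ 𝓐, ∀ g, g * u * g⁻¹ ∈ A.comap f → ψ A = (C g).map f := by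
    intro A hA g hg
    have h1 : ∃ g, g * u * g⁻¹ ∈ A.comap f := ⟨g, hg⟩
    simp only [ψ, dif_pos h1]
    rw [hC3 g _ (hC2 _ _ (hnil A hA) h1.choose_spec hg)]
  have hψ2 : ∀ A ∈ 𝓐, A ≤ ψ A ∧ ψ A ≠ ⊤ := by
    intro A hA
    by_cases h1 : ∃ g, g * u * g⁻¹ ∈ A.comap f
    · obtain ⟨g, hg⟩ := h1
      rw [hψ1 A hA g hg]
      refine ⟨?_, hC1 g⟩
      rw [← map_comap_eq_self_of_surjective hf A]
      exact map_mono (hC2 g _ (hnil A hA) hg)
    · simp only [ψ, dif_neg h1]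
      exact ⟨le_rfl, h.1.1 A hA⟩
  obtain ⟨A, hA, htA⟩ := h.1.2 (f t)
  obtain ⟨h1, h2⟩ := ht _ (hnil A hA) htA
  have h3 := h.2.1 ((𝓐.erase A).image ψ) ⟨?_, ?_⟩
  · have h4 := Finset.card_image_le (s := 𝓐.erase A) (f := ψ)
    have h5 := Finset.card_erase_lt_of_mem hA
    omega
  · intro B hB
    obtain ⟨D, hD, rfl⟩ := Finset.mem_image.1 hB
    exact (hψ2 D (Finset.mem_of_mem_erase hD)).2
  · intro x
    obtain ⟨B, hB, hx⟩ := h.1.2 x
    by_cases hBA : B = A
    · obtain ⟨x, rfl⟩ := hf x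
      obtain ⟨g, hg⟩ := h1 x (hBA ▸ hx)
      obtain ⟨D, hD, hgD⟩ := h.1.2 (f (g * u * g⁻¹))
      refine ⟨ψ D, Finset.mem_image_of_mem _ (Finset.mem_erase.2 ⟨?_, hD⟩), ?_⟩
      · rintro rfl
        exact h2 g hgD
      · rw [hψ1 D hD g hgD]
        exact ⟨x, (hC _ _).2 hg, rfl⟩
    · exact ⟨ψ B, Finset.mem_image_of_mem _ (Finset.mem_erase.2 ⟨hBA, hB⟩), (hψ2 B hB).1 hx⟩

section Sylow

variable [Finite G] {𝓐 : Finset (Subgroup G)} {p : ℕ} [hp : Fact p.Prime]

theorem le_centralizer_of_nilpotent_of_sylow_comm (P : Sylow p G)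
    (hab : IsMulCommutative (P : Subgroup G)) {A : Subgroup G} (hA : Group.IsNilpotent A) {x : G}
    (hx : x ∈ A) {k : ℕ} (hk : orderOf x = p ^ k) : A ≤ centralizer {x} := by
  refine le_of_forall_primePow_mem fun y hy q j hq hyo => mem_centralizer_singleton_iff.2 ?_
  by_cases hqp : q = p
  · subst hqp
    obtain ⟨S⟩ : Nonempty (Sylow q A) := inferInstance
    have hS : (S : Subgroup A).Normal := inferInstance
    have h1 : ∀ z : A, (∃ k, orderOf (z : G) = q ^ k) → z ∈ (S : Subgroup A) := by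
      rintro z ⟨k, hk⟩
      refine mem_of_coprime_index ?_
      rw [← orderOf_coe, hk]
      exact ((Nat.Prime.coprime_iff_not_dvd hq).2 S.not_dvd_index).pow_left _
    obtain ⟨Q, hQ⟩ := (S.isPGroup'.map A.subtype).exists_le_sylow
    obtain ⟨g, rfl⟩ := MulAction.exists_smul_eq G P Q
    have h2 : IsMulCommutative ((g • P : Sylow q G) : Subgroup G) := by
      rw [Sylow.coe_subgroup_smul]
      exact Subgroup.map_isMulCommutative _ _
    exact congrArg Subtype.val (h2.is_comm.comm ⟨y, hQ ⟨⟨y, hy⟩, h1 _ ⟨j, hyo⟩, rfl⟩⟩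
      ⟨x, hQ ⟨⟨x, hx⟩, h1 _ ⟨k, hk⟩, rfl⟩⟩)
  · refine commute_of_coprime_of_mem_isNilpotent hA hy hx ?_
    rw [hyo, hk]
    exact Nat.Coprime.pow _ _ ((Nat.coprime_primes hq hp.out).2 hqp)

theorem IsNilpMinCover.eq_of_mem (h : IsNilpMinCover 𝓐) (hZ : center G = ⊥) (P : Sylow p G)
    (hab : IsMulCommutative (P : Subgroup G)) {A B : Subgroup G} (hA : A ∈ 𝓐) (hB : B ∈ 𝓐)
    {x : G} (hx1 : x ≠ 1) {k : ℕ} (hk : orderOf x = p ^ k) (hxA : x ∈ A) (hxB : x ∈ B) : A = B := by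
  refine h.eq_of_le hA hB (M := centralizer {x}) (fun h' => hx1 ?_)
    (le_centralizer_of_nilpotent_of_sylow_comm P hab (h.2.2 A hA) hxA hk)
    (le_centralizer_of_nilpotent_of_sylow_comm P hab (h.2.2 B hB) hxB hk)
  rw [← mem_bot, ← hZ, mem_center_iff]
  exact fun g => mem_centralizer_singleton_iff.1 (h' ▸ mem_top g)

theorem IsNilpMinCover.centralizer_mem (h : IsNilpMinCover 𝓐) (hZ : center G = ⊥) (P : Sylow p G)
    (hab : IsMulCommutative (P : Subgroup G)) (hP : (P : Subgroup G) ≠ ⊥)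
    (hel : ¬ (Cfsg.IsElementaryAbelian p (P : Subgroup G) ∧ p < Nat.card (P : Subgroup G))) :
    centralizer ((P : Subgroup G) : Set G) ∈ 𝓐 := by
  have hord : ∀ x ∈ (P : Subgroup G), ∃ k, orderOf x = p ^ k := fun x hx =>
    orderOf_eq_pow_of_mem_isPGroup P.isPGroup' hx
  have hcomm : ∀ x ∈ (P : Subgroup G), ∀ y ∈ (P : Subgroup G), Commute x y := fun x hx y hy =>
    congrArg Subtype.val (hab.is_comm.comm ⟨x, hx⟩ ⟨y, hy⟩)
  have heq : ∀ A ∈ 𝓐, ∀ B ∈ 𝓐, ∀ x ∈ (P : Subgroup G), x ≠ 1 → x ∈ A → x ∈ B → A = B :=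
    fun A hA B hB x hx hx1 hxA hxB => h.eq_of_mem hZ P hab hA hB hx1 (hord x hx).choose_spec hxA hxB
  obtain ⟨A, hA, hPA⟩ : ∃ A ∈ 𝓐, (P : Subgroup G) ≤ A := by
    by_cases h1 : ∀ x ∈ (P : Subgroup G), x ^ p = 1
    · have h2 : Nat.card (P : Subgroup G) ≤ p := not_lt.1 fun h2 => hel ⟨⟨hab, h1⟩, h2⟩
      obtain ⟨⟨x, hx⟩, hx1⟩ := ne_bot_iff_exists_ne_one.1 hP
      obtain ⟨A, hA, hxA⟩ := h.1.2 x
      refine ⟨A, hA, le_trans (eq_of_le_of_card_ge (zpowers_le.2 hx) ?_).ge (zpowers_le.2 hxA)⟩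
      rwa [Nat.card_zpowers, orderOf_eq_prime (h1 x hx) fun h => hx1 (Subtype.ext h)]
    · push Not at h1
      have h2 : ∀ x ∈ (P : Subgroup G), x ^ p ≠ 1 → ∀ A ∈ 𝓐, x ∈ A →
          ∀ y ∈ (P : Subgroup G), y ^ p = 1 → y ∈ A := by
        intro x hx hxp A hA hxA y hy hyp
        obtain ⟨B, hB, hxyB⟩ := h.1.2 (x * y)
        have h3 : x ^ p ∈ B := by
          have := pow_mem hxyB p
          rwa [(hcomm x hx y hy).mul_pow, hyp, mul_one] at this
        rw [← heq A hA B hB _ (pow_mem hx p) hxp (pow_mem hxA p) h3] at hxyB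
        simpa using mul_mem (inv_mem hxA) hxyB
      obtain ⟨x, hx, hxp⟩ := h1
      obtain ⟨A, hA, hxA⟩ := h.1.2 x
      refine ⟨A, hA, fun y hy => ?_⟩
      by_cases hyp : y ^ p = 1
      · exact h2 x hx hxp A hA hxA y hy hyp
      obtain ⟨B, hB, hyB⟩ := h.1.2 y
      have : Nontrivial (P : Subgroup G) := (nontrivial_iff_ne_bot _).2 hP
      obtain ⟨z, hz⟩ := exists_prime_orderOf_dvd_card' (G := (P : Subgroup G)) p
        (P.isPGroup'.card_eq_or_dvd.resolve_left Finite.one_lt_card.ne')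
      rw [← orderOf_coe] at hz
      have hz1 : (z : G) ≠ 1 := fun h => hp.out.ne_one (by rw [← hz, h, orderOf_one])
      have hzp : (z : G) ^ p = 1 := orderOf_dvd_iff_pow_eq_one.1 (dvd_of_eq hz)
      rw [heq A hA B hB z z.2 hz1 (h2 x hx hxp A hA hxA z z.2 hzp)
        (h2 y hy hyp B hB hyB z z.2 hzp)]
      exact hyB
  convert hA
  apply le_antisymm
  · refine le_of_forall_primePow_mem fun c hc q j hq hco => ?_
    by_cases hqp : q = p
    · subst hqp
      have h1 : IsPGroup q ((P : Subgroup G) ⊔ zpowers c : Subgroup G) :=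
        P.isPGroup'.to_sup_of_normal_left' (isPGroup_zpowers_iff.2 ⟨j, hco⟩)
          ((zpowers_le.2 hc).trans (centralizer_le_normalizer _))
      rw [← P.is_maximal' h1 le_sup_left] at hPA
      exact hPA (mem_sup_right (mem_zpowers c))
    · obtain ⟨⟨x, hx⟩, hx1⟩ := ne_bot_iff_exists_ne_one.1 hP
      obtain ⟨B, hB, hxB⟩ := h.1.2 (x * c)
      obtain ⟨k, hk⟩ := hord x hx
      have h1 : (orderOf x).Coprime (orderOf c) := by
        rw [hk, hco]
        exact Nat.Coprime.pow _ _ ((Nat.coprime_primes hp.out hq).2 (Ne.symm hqp))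
      have h2 : Commute x c := hc x hx
      rw [heq A hA B hB x hx (fun h => hx1 (Subtype.ext h)) (hPA hx)
        (zpowers_le.2 hxB (mem_zpowers_mul_of_coprime h2 h1))]
      exact zpowers_le.2 hxB (mem_zpowers_mul_of_coprime' h2 h1)
  · intro a ha x hx
    obtain ⟨k, hk⟩ := hord x hx
    exact (mem_centralizer_singleton_iff.1 (le_centralizer_of_nilpotent_of_sylow_comm P hab
      (h.2.2 A hA) (hPA hx) hk ha)).symm

end Sylow

end CfsgLib.PGrp
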