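import Mathlib
import Cfsg.Agent.Lib.NilpCover

/-! Nilpotent subgroups of linear groups and stabilizers of lines. -/

set_option autoImplicit false

namespace CfsgLib.PGrp

open Subgroup Matrix
open scoped MatrixGroups

variable {ι F : Type*} [Fintype ι] [DecidableEq ι] [Field F]

theorem gl_mulVec_ne_zero (g : GL ι F) {v : ι → F} (hv : v ≠ 0) : (g : Matrix ι ι F) *ᵥ v ≠ 0 := by
  intro h
  apply hv
  have := congrArg (((g⁻¹ : GL ι F) : Matrix ι ι F) *ᵥ ·) h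
  simpa [mulVec_mulVec] using this

/-- The stabilizer of the line spanned by `v`. -/
def lineStab (v : ι → F) : Subgroup (GL ι F) where
  carrier := {g | ∃ c : F, c ≠ 0 ∧ (g : Matrix ι ι F) *ᵥ v = c • v}
  one_mem' := ⟨1, one_ne_zero, by simp⟩
  mul_mem' := by
    rintro g h ⟨c, hc, hg⟩ ⟨d, hd, hh⟩
    refine ⟨d * c, mul_ne_zero hd hc, ?_⟩
    rw [Units.val_mul, ← mulVec_mulVec, hh, mulVec_smul, hg, smul_smul]
  inv_mem' := by
    rintro g ⟨c, hc, hg⟩
    refine ⟨c⁻¹, inv_ne_zero hc, ?_⟩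
    have := congrArg (((g⁻¹ : GL ι F) : Matrix ι ι F) *ᵥ ·) hg
    simp only [mulVec_mulVec, Units.inv_mul, one_mulVec, mulVec_smul] at this
    rw [eq_inv_smul_iff₀ hc, ← this]

theorem mem_lineStab {v : ι → F} (hv : v ≠ 0) {g : GL ι F} :
    g ∈ lineStab v ↔ ∃ c : F, (g : Matrix ι ι F) *ᵥ v = c • v := by
  refine ⟨fun ⟨c, _, h⟩ => ⟨c, h⟩, fun ⟨c, h⟩ => ⟨c, ?_, h⟩⟩
  rintro rfl
  exact gl_mulVec_ne_zero g hv (by rw [h, zero_smul])

theorem inv_mul_mem_lineStab {v : ι → F} (hv : v ≠ 0) {g h : GL ι F} :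
    g⁻¹ * h ∈ lineStab v ↔ ∃ c : F, (h : Matrix ι ι F) *ᵥ v = c • (g : Matrix ι ι F) *ᵥ v := by
  rw [mem_lineStab hv]
  refine exists_congr fun c => ⟨fun h1 => ?_, fun h1 => ?_⟩
  · have := congrArg ((g : Matrix ι ι F) *ᵥ ·) h1
    simpa [mulVec_mulVec, ← Matrix.mul_assoc, mulVec_smul] using this
  · rw [Units.val_mul, ← mulVec_mulVec, h1, mulVec_smul, mulVec_mulVec, Units.inv_mul, one_mulVec]

theorem conj_mem_lineStab {v : ι → F} (hv : v ≠ 0) {g x : GL ι F} :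
    g⁻¹ * x * g ∈ lineStab v ↔ ∃ c : F,
      (x : Matrix ι ι F) *ᵥ (g : Matrix ι ι F) *ᵥ v = c • (g : Matrix ι ι F) *ᵥ v := by
  rw [mul_assoc, inv_mul_mem_lineStab hv, Units.val_mul, ← mulVec_mulVec]

theorem center_le_lineStab {v : ι → F} (hv : v ≠ 0) : center (GL ι F) ≤ lineStab v := by
  intro g hg
  obtain ⟨c, hc⟩ := GeneralLinearGroup.mem_center_iff_val_mem_range_scalar.1 hg
  exact (mem_lineStab hv).2 ⟨c, by rw [← hc]; simp⟩

theorem unique_conj_lineStab {v : ι → F} (hv : v ≠ 0) {x : GL ι F}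
    (h : ∀ (w : ι → F) (c : F), w ≠ 0 → (x : Matrix ι ι F) *ᵥ w = c • w → ∃ d : F, w = d • v)
    (g : GL ι F) (hg : g⁻¹ * x * g ∈ lineStab v) : g ∈ lineStab v := by
  obtain ⟨c, hc⟩ := (conj_mem_lineStab hv).1 hg
  exact (mem_lineStab hv).2 (h _ c (gl_mulVec_ne_zero g hv) hc)

theorem nilpotent_le_lineStab_of_unique {H : Subgroup (GL ι F)} {v : ι → F} (hv : v ≠ 0) {x : H}
    (hx : (x : GL ι F) ∈ lineStab v)
    (h : ∀ (w : ι → F) (c : F), w ≠ 0 → ((x : GL ι F) : Matrix ι ι F) *ᵥ w = c • w →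
      ∃ d : F, w = d • v) (B : Subgroup H) (hB : Group.IsNilpotent B) (hxB : x ∈ B) :
    B ≤ (lineStab v).subgroupOf H :=
  nilpotent_le_of_unique_conj (M := (lineStab v).subgroupOf H) hx
    (fun g hg => unique_conj_lineStab hv h g hg) hB hxB

omit [Fintype ι] in
theorem eq_smul_single_of_eq_zero {w : ι → F} {i : ι} (h : ∀ j, j ≠ i → w j = 0) :
    w = w i • Pi.single i (1 : F) := by
  ext j
  by_cases hj : j = i
  · simp [hj]
  · simp [hj, h j hj]

theorem eigen_diagonal {d : ι → F} (hd : Function.Injective d) {w : ι → F} {c : F} (hw : w ≠ 0)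
    (h : diagonal d *ᵥ w = c • w) : ∃ i, c = d i ∧ w = w i • Pi.single i (1 : F) := by
  obtain ⟨i, hi⟩ := Function.ne_iff.1 hw
  have h1 : ∀ j, d j * w j = c * w j := fun j => by simpa [mulVec_diagonal] using congrFun h j
  have h2 : c = d i := (mul_right_cancel₀ hi (h1 i)).symm
  refine ⟨i, h2, eq_smul_single_of_eq_zero fun j hj => ?_⟩
  by_contra h3
  exact hj (hd ((mul_right_cancel₀ h3 (h1 j)).trans h2))

theorem mem_lineStab_of_commute_diagonal {d : ι → F} (hd : Function.Injective d) {t g : GL ι F}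
    (ht : (t : Matrix ι ι F) = diagonal d) (hg : Commute g t) (i : ι) :
    g ∈ lineStab (Pi.single i (1 : F)) := by
  have hv : (Pi.single i (1 : F) : ι → F) ≠ 0 := by simp
  have h1 : diagonal d *ᵥ (g : Matrix ι ι F) *ᵥ Pi.single i 1 =
      d i • (g : Matrix ι ι F) *ᵥ Pi.single i 1 := by
    rw [mulVec_mulVec, ← ht, ← Units.val_mul, ← hg.eq, Units.val_mul, ← mulVec_mulVec, ht,
      ← mulVec_smul, diagonal_mulVec_single, ← Pi.single_smul, smul_eq_mul]
  obtain ⟨j, hj, h2⟩ := eigen_diagonal hd (gl_mulVec_ne_zero g hv) h1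
  obtain rfl := hd hj
  exact (mem_lineStab hv).2 ⟨_, h2⟩

theorem nilpotent_le_lineStab_of_diagonal [Finite F] {H : Subgroup (GL ι F)} {d : ι → F}
    (hd : Function.Injective d) {t : H} (ht : ((t : GL ι F) : Matrix ι ι F) = diagonal d)
    {r k : ℕ} (hr : r.Prime) (ho : orderOf t = r ^ k) (hι : Nat.card ι < r) (i : ι)
    (B : Subgroup H) (hB : Group.IsNilpotent B) (htB : t ∈ B) :
    B ≤ (lineStab (Pi.single i (1 : F))).subgroupOf H := by
  have hv : (Pi.single i (1 : F) : ι → F) ≠ 0 := by simp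
  refine nilpotent_le_of_few_conj hr ho (M := (lineStab (Pi.single i (1 : F))).subgroupOf H)
    (mem_lineStab_of_commute_diagonal hd ht (Commute.refl _) i)
    (fun g hg => mem_lineStab_of_commute_diagonal hd ht (hg.map H.subtype) i) hι
    (fun g j => ∃ c : F, ((g : GL ι F) : Matrix ι ι F) *ᵥ Pi.single i 1 = c • Pi.single j 1)
    (fun g hg => ?_) ?_ hB htB
  · obtain ⟨c, hc⟩ := (conj_mem_lineStab hv).1 hg
    rw [ht] at hc
    obtain ⟨j, -, h2⟩ := eigen_diagonal hd (gl_mulVec_ne_zero _ hv) hc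
    exact ⟨j, _, h2⟩
  · rintro g g' j ⟨c, hc⟩ ⟨c', hc'⟩
    have h0 : c ≠ 0 := by
      rintro rfl
      exact gl_mulVec_ne_zero _ hv (by rw [hc, zero_smul])
    exact (inv_mul_mem_lineStab hv).2 ⟨c' * c⁻¹, by
      rw [hc, hc', smul_smul, inv_mul_cancel_right₀ h0]⟩

end CfsgLib.PGrp
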