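import Cfsg.Agent.Lib.SchurBasic
import Cfsg.Agent.Lib.CommCalc

/-!
Central extensions of metacyclic groups.
-/

set_option autoImplicit false

namespace CfsgLib.H4

open Subgroup
open scoped commutatorElement IsMulCommutative

theorem normal_zpowers_of_conj_mem {E : Type*} [Group E] {c : E} (hc : IsOfFinOrder c)
    {S : Set E} (hS : closure S = ⊤) (h : ∀ s ∈ S, s * c * s⁻¹ ∈ zpowers c) :
    (zpowers c).Normal := by
  have : Finite (zpowers c : Set E) := hc.finite_zpowers.to_subtype
  rw [← normalizer_eq_top_iff, eq_top_iff, ← hS, closure_le]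
  intro s hs
  apply mem_normalizer_fintype
  rintro _ ⟨k, rfl⟩
  have : s * c ^ k * s⁻¹ = (s * c * s⁻¹) ^ k := conj_zpow.symm
  change s * c ^ k * s⁻¹ ∈ zpowers c
  rw [this]
  exact zpow_mem (h s hs) k

theorem exists_metacyclic_mult {E G : Type*} [Group E] [Group G] [Finite G] {π : E →* G}
    (hπ : IsCentExt π) {A B : E} {r : ℤ} (hgen : closure ({π A, π B} : Set G) = ⊤)
    (hrel : π B * π A * (π B)⁻¹ = π A ^ r) :
    (∀ x ∈ mult π, ∃ j : ℤ, x = ⁅B, A⁆ ^ j ∧ π A ^ ((r - 1) * j) = 1) ∧
    (∀ k i : ℤ, π A ^ k = π B ^ i → ⁅B, A⁆ ^ k = 1) ∧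
    (∀ (n : ℕ) (k : ℤ), π B ^ n = π A ^ k → ⁅B, A⁆ ^ (∑ i ∈ Finset.range n, r ^ i) = 1) := by
  set c := ⁅B, A⁆ with hc
  have hBA : B * A * B⁻¹ = c * A := by simp [hc, commutatorElement_def]
  have hπc : π c = π A ^ (r - 1) := by
    rw [hc, map_commutatorElement, commutatorElement_def, hrel, zpow_sub_one]
  have hz : (A ^ (r - 1))⁻¹ * c ∈ center E := by
    apply hπ.central
    rw [MonoidHom.mem_ker, map_mul, map_inv, map_zpow, hπc, inv_mul_cancel]
  set z := (A ^ (r - 1))⁻¹ * c with hzdef
  have hcz : c = A ^ (r - 1) * z := by simp [hzdef]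
  have hAc : Commute c A := by
    rw [hcz]
    exact Commute.mul_left ((Commute.refl A).zpow_left _) (mem_center_iff.mp hz A).symm
  have hBAk : ∀ k : ℤ, B * A ^ k * B⁻¹ = c ^ k * A ^ k := by
    intro k
    rw [← conj_zpow, hBA, hAc.mul_zpow]
  have hBc : B * c * B⁻¹ = c ^ r := by
    calc B * c * B⁻¹ = B * A ^ (r - 1) * B⁻¹ * z := by
          rw [hcz, mul_assoc (B * _), mem_center_iff.mp hz B⁻¹]; group
      _ = c ^ (r - 1) * c := by rw [hBAk, mul_assoc, ← hcz]
      _ = c ^ r := by rw [← zpow_add_one, sub_add_cancel]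
  have hcomm : ∀ x y x' y' : E, π x = π x' → π y = π y' → Commute x' y' → Commute x y := by
    intro x y x' y' hx hy h
    rw [← commutatorElement_eq_one_iff_commute, commutatorElement_eq_of_map_eq hπ.central hx hy,
      commutatorElement_eq_one_iff_commute]
    exact h
  refine ⟨?_, ?_, ?_⟩
  · have hfin := finite_commutator_of_central hπ.central
    have hcmem : c ∈ commutator E := commutator_mem_commutator (mem_top _) (mem_top _)
    have hcfin : IsOfFinOrder c :=
      (commutator E).subtype.isOfFinOrder (isOfFinOrder_of_finite (⟨c, hcmem⟩ : commutator E))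
    have : Finite (zpowers c : Set E) := hcfin.finite_zpowers.to_subtype
    have hnorm : ({A, B} : Set E) ⊆ normalizer (zpowers c : Set E) := by
      have key : ∀ s : E, s * c * s⁻¹ ∈ zpowers c → s ∈ normalizer (zpowers c : Set E) := by
        intro s hs
        apply mem_normalizer_fintype
        rintro _ ⟨k, rfl⟩
        have : s * c ^ k * s⁻¹ = (s * c * s⁻¹) ^ k := conj_zpow.symm
        change s * c ^ k * s⁻¹ ∈ zpowers c
        rw [this]
        exact zpow_mem hs k
      rintro s (rfl | rfl)
      · apply key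
        rw [← hAc.eq, mul_inv_cancel_right]
        exact mem_zpowers c
      · apply key
        rw [hBc]
        exact zpow_mem (mem_zpowers c) r
    have hsurj : Function.Surjective (π.comp (closure ({A, B} : Set E)).subtype) := by
      rw [← MonoidHom.range_eq_top, MonoidHom.range_comp, range_subtype, MonoidHom.map_closure,
        Set.image_pair, hgen]
    have hle : commutator E ≤ zpowers c := by
      rw [← map_commutator_of_lift hπ.central hsurj, map_subtype_commutator]
      refine CommCalc.commutator_closure_closure_le hnorm hnorm ?_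
      rintro s (rfl | rfl) t (rfl | rfl)
      · rw [commutatorElement_self]; exact one_mem _
      · rw [← commutatorElement_inv]; exact inv_mem (mem_zpowers c)
      · exact mem_zpowers c
      · rw [commutatorElement_self]; exact one_mem _
    intro x hx
    obtain ⟨j, rfl⟩ := hle hx.2
    refine ⟨j, rfl, ?_⟩
    rw [zpow_mul, ← hπc, ← map_zpow]
    exact hx.1
  · intro k i h
    have h1 : Commute B (A ^ k) :=
      hcomm B (A ^ k) B (B ^ i) rfl (by rw [map_zpow, map_zpow, h]) ((Commute.refl B).zpow_right i)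
    have h2 := hBAk k
    rw [h1.eq, mul_inv_cancel_right] at h2
    exact (right_eq_mul.mp h2)
  · intro n k h
    have h1 : Commute (B ^ n) A :=
      hcomm (B ^ n) A (A ^ k) A (by rw [map_zpow, map_pow, h]) rfl ((Commute.refl A).zpow_left k)
    have h2 : ∀ n : ℕ, B ^ n * A * (B ^ n)⁻¹ = c ^ (∑ i ∈ Finset.range n, r ^ i) * A := by
      intro n
      induction n with
      | zero => simp
      | succ n ih =>
        calc B ^ (n + 1) * A * (B ^ (n + 1))⁻¹ = B * (B ^ n * A * (B ^ n)⁻¹) * B⁻¹ := by group
          _ = (B * c * B⁻¹) ^ (∑ i ∈ Finset.range n, r ^ i) * (B * A * B⁻¹) := by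
            rw [ih, conj_zpow]; group
          _ = _ := by
            rw [hBc, hBA, ← zpow_mul, ← mul_assoc, ← zpow_add_one, Finset.sum_range_succ',
              Finset.mul_sum]
            simp only [pow_succ', pow_zero]
    have h3 := h2 n
    rw [h1.eq, mul_inv_cancel_right] at h3
    exact (right_eq_mul.mp h3)

theorem card_le_of_le_zpowers {E : Type*} [Group E] {H : Subgroup E} {c : E} {k : ℕ} (hk : 0 < k)
    (hc : c ^ k = 1) (h : H ≤ zpowers c) : Nat.card H ≤ k := by
  have hfin : IsOfFinOrder c := isOfFinOrder_iff_pow_eq_one.mpr ⟨k, hk, hc⟩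
  have : Finite (zpowers c) := hfin.finite_zpowers.to_subtype
  refine (card_le_of_le h).trans ?_
  rw [Nat.card_zpowers]
  exact orderOf_le_of_pow_eq_one hk hc

section SD

variable {N : Type*} [CommGroup N] (β : MulAut N)

/-- The split extension of `N` by an infinite cyclic group acting through `β`. -/
abbrev SD := N ⋊[zpowersHom (MulAut N) β] Multiplicative ℤ

/-- The generator of the infinite cyclic group. -/
def sdB : SD β := SemidirectProduct.inr (Multiplicative.ofAdd 1)

theorem sdB_conj (x : N) :
    sdB β * SemidirectProduct.inl x * (sdB β)⁻¹ = SemidirectProduct.inl (β x) := by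
  rw [sdB, ← map_inv, ← SemidirectProduct.inl_aut]
  simp

theorem sdB_pow_conj (n : ℕ) (x : N) :
    sdB β ^ n * SemidirectProduct.inl x * (sdB β ^ n)⁻¹ = SemidirectProduct.inl ((β ^ n) x) := by
  rw [sdB, ← map_pow, ← map_inv, ← SemidirectProduct.inl_aut]
  simp

theorem sd_mem_center {w : SD β} (h1 : ∀ x : N, Commute w (SemidirectProduct.inl x))
    (h2 : Commute w (sdB β)) : w ∈ center (SD β) := by
  rw [mem_center_iff]
  intro g
  rw [← SemidirectProduct.inl_left_mul_inr_right g]
  refine (Commute.mul_right (h1 _) ?_).symm.eq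
  have : (SemidirectProduct.inr g.right : SD β) = sdB β ^ g.right.toAdd := by
    rw [sdB, ← map_zpow]
    congr 1
    apply Multiplicative.toAdd.injective
    simp
  rw [this]
  exact h2.zpow_right _

theorem sd_inl_mem_center {x : N} (h : β x = x) : SemidirectProduct.inl x ∈ center (SD β) := by
  refine sd_mem_center β (fun y => ?_) ?_
  · exact (Commute.all x y).map _
  · have := sdB_conj β x
    rw [h, mul_inv_eq_iff_eq_mul] at this
    exact this.symm

theorem sdB_pow_mem_center {n : ℕ} (h : β ^ n = 1) : sdB β ^ n ∈ center (SD β) := by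
  refine sd_mem_center β (fun y => ?_) ((Commute.refl _).pow_left n)
  have := sdB_pow_conj β n y
  rw [h, mul_inv_eq_iff_eq_mul] at this
  exact this

end SD

end CfsgLib.H4
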