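import Cfsg.Agent.Lib.SchurProj

/-!
Transfer arguments for the Schur multiplier.
-/

set_option autoImplicit false

namespace CfsgLib.H4

open Subgroup
open scoped commutatorElement IsMulCommutative

universe u

/-- a central element of the commutator subgroup has its `[G : H]`-th power in `H'`. -/
theorem pow_index_mem_commutator_of_central {G : Type*} [Group G] (H : Subgroup G)
    [H.FiniteIndex] {z : G} (hz : z ∈ center G) (hz' : z ∈ commutator G) :
    ∃ h : z ^ H.index ∈ H, (⟨z ^ H.index, h⟩ : H) ∈ commutator H := by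
  have key : ∀ (k : ℕ) (g₀ : G), g₀⁻¹ * z ^ k * g₀ ∈ H → g₀⁻¹ * z ^ k * g₀ = z ^ k := by
    intro k g₀ _
    rw [mem_center_iff.mp (pow_mem hz k) g₀⁻¹, inv_mul_cancel_right]
  have h1 := MonoidHom.transfer_eq_pow (Abelianization.of : H →* Abelianization H) z key
  have h2 : (Abelianization.of : H →* Abelianization H).transfer z = 1 :=
    Abelianization.commutator_subset_ker _ hz'
  rw [h2] at h1
  exact ⟨_, abelianization_of_eq_one_iff.mp h1.symm⟩

/-- a quotient of a finite abelian group embeds in it. -/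
theorem exists_injective_of_surjective_comm {B Q : Type*} [CommGroup B] [Finite B] [Group Q]
    (f : B →* Q) (hf : Function.Surjective f) : ∃ g : Q →* B, Function.Injective g := by
  have : IsMulCommutative Q := ⟨⟨fun a b => by
    obtain ⟨a, rfl⟩ := hf a
    obtain ⟨b, rfl⟩ := hf b
    rw [← map_mul, mul_comm, map_mul]⟩⟩
  have : Finite Q := Finite.of_surjective f hf
  have : NeZero (Monoid.exponent Q) := ⟨Monoid.exponent_ne_zero_of_finite⟩
  have : NeZero (Monoid.exponent B) := ⟨Monoid.exponent_ne_zero_of_finite⟩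
  obtain ⟨e1⟩ := CommGroup.monoidHom_mulEquiv_of_hasEnoughRootsOfUnity Q ℂ
  obtain ⟨e2⟩ := CommGroup.monoidHom_mulEquiv_of_hasEnoughRootsOfUnity B ℂ
  let d : (Q →* ℂˣ) →* (B →* ℂˣ) := MonoidHom.compHom' f
  have hd : Function.Injective d := fun a b h => (MonoidHom.cancel_right hf).mp h
  exact ⟨e2.toMonoidHom.comp (d.comp e1.symm.toMonoidHom),
    e2.injective.comp (hd.comp e1.symm.injective)⟩

theorem isCentExt_subgroupComap {Γ G : Type*} [Group Γ] [Group G] {σ : Γ →* G}
    (hσ : IsCentExt σ) (U : Subgroup G) : IsCentExt (σ.subgroupComap U) := by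
  refine ⟨σ.subgroupComap_surjective_of_surjective U hσ.surj, ?_⟩
  intro x hx
  have : (x : Γ) ∈ σ.ker := congrArg Subtype.val hx
  rw [mem_center_iff]
  intro y
  exact Subtype.ext (mem_center_iff.mp (hσ.central this) y)

theorem orderOf_sq_le_index_center {p : ℕ} (hp : p.Prime) (n : ℕ) :
    ∀ (S : Type u) [Group S] [Finite S], Nat.card S = n →
      (∀ g : S, ∃ k : ℕ, g ^ p ^ k ∈ center S) → ∀ (χ : center S →* ℂˣ) (z : center S),
        (z : S) ∈ commutator S → orderOf (χ z) ^ 2 ≤ (center S).index := by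
  induction n using Nat.strong_induction_on with
  | _ n ih =>
  intro S _ _ hn hS χ z hz
  have := Fact.mk hp
  by_cases hker : χ.ker = ⊥
  swap
  · -- pass to the quotient by the kernel of `χ`
    let N : Subgroup S := χ.ker.map (center S).subtype
    have hN : N ≤ center S := map_subtype_le _
    have := normal_of_le_center hN
    have hN1 : N ≠ ⊥ := by
      intro h
      exact hker ((map_eq_bot_iff_of_injective _ (subtype_injective _)).mp h)
    have hlt : Nat.card (S ⧸ N) < n := by
      rw [← hn, ← N.index_mul_card, ← index_eq_card]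
      exact lt_mul_of_one_lt_right (Nat.pos_of_ne_zero index_ne_zero_of_finite)
        (N.one_lt_card_iff_ne_bot.mpr hN1)
    have hmap : (center S).map (QuotientGroup.mk' N) ≤ center (S ⧸ N) := by
      rintro _ ⟨x, hx, rfl⟩
      rw [mem_center_iff]
      intro y
      obtain ⟨y, rfl⟩ := QuotientGroup.mk'_surjective N y
      rw [← map_mul, ← map_mul, mem_center_iff.mp hx y]
    let i : center S →* center (S ⧸ N) :=
      ((QuotientGroup.mk' N).comp (center S).subtype).codRestrict _
        (fun x => hmap (mem_map_of_mem _ x.2))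
    obtain ⟨χ', hχ'⟩ := exists_extension_of_divisible complexUnits_divisible i χ (by
      intro x hx
      have h1 : (x : S) ∈ N := (QuotientGroup.eq_one_iff _).mp (congrArg Subtype.val hx)
      obtain ⟨y, hy, hxy⟩ := h1
      rwa [← Subtype.ext hxy])
    have h1 := ih _ hlt (S ⧸ N) rfl (by
      intro g
      obtain ⟨g, rfl⟩ := QuotientGroup.mk'_surjective N g
      obtain ⟨k, hk⟩ := hS g
      exact ⟨k, by rw [← map_pow]; exact hmap (mem_map_of_mem _ hk)⟩) χ' (i z) (by
      have : (commutator S).map (QuotientGroup.mk' N) ≤ commutator (S ⧸ N) := by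
        rw [commutator_def, map_commutator]
        exact commutator_mono le_top le_top
      exact this (mem_map_of_mem _ hz))
    rw [hχ'] at h1
    refine h1.trans (Nat.le_of_dvd (Nat.pos_of_ne_zero index_ne_zero_of_finite) ?_)
    exact (index_dvd_of_le hmap).trans (index_map_dvd _ (QuotientGroup.mk'_surjective N))
  by_cases htop : center S = ⊤
  · have : commutator S = ⊥ := (commutator_eq_bot_iff_center_eq_top S).mpr htop
    rw [this, mem_bot] at hz
    have : z = 1 := Subtype.ext hz
    rw [this, map_one, orderOf_one, one_pow]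
    exact Nat.pos_of_ne_zero index_ne_zero_of_finite
  have hP : IsPGroup p (S ⧸ center S) := by
    intro g
    obtain ⟨g, rfl⟩ := QuotientGroup.mk_surjective g
    obtain ⟨k, hk⟩ := hS g
    exact ⟨k, by rw [← QuotientGroup.mk_pow, QuotientGroup.eq_one_iff]; exact hk⟩
  have : Nontrivial (S ⧸ center S) := QuotientGroup.nontrivial_iff.mpr htop
  have hcn := hP.center_nontrivial
  obtain ⟨k, hk0, hk⟩ := (hP.to_subgroup (center (S ⧸ center S))).nontrivial_iff_card.mp hcn
  obtain ⟨⟨y, hy⟩, hyp⟩ := exists_prime_orderOf_dvd_card' (G := center (S ⧸ center S)) p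
    (hk ▸ dvd_pow_self p hk0.ne')
  obtain ⟨x, rfl⟩ := QuotientGroup.mk_surjective y
  rw [orderOf_mk] at hyp
  have hxp : x ^ p ∈ center S := by
    rw [← QuotientGroup.eq_one_iff, QuotientGroup.mk_pow, ← hyp, pow_orderOf_eq_one]
  have hx1 : x ∉ center S := by
    intro h
    rw [(QuotientGroup.eq_one_iff x).mpr h, orderOf_one] at hyp
    exact hp.one_lt.ne hyp
  have hxc : ∀ s : S, ⁅x, s⁆ ∈ center S := by
    intro s
    rw [← QuotientGroup.eq_one_iff]
    change (QuotientGroup.mk' (center S)) ⁅x, s⁆ = 1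
    rw [map_commutatorElement, commutatorElement_eq_one_iff_mul_comm]
    exact (mem_center_iff.mp hy _).symm
  let c₀ : S →* center S :=
    { toFun := fun s => ⟨⁅x, s⁆, hxc s⟩
      map_one' := Subtype.ext (by simp)
      map_mul' := fun s t => Subtype.ext (by
        simp only [MulMemClass.mk_mul_mk]
        rw [commutatorElement_mul_right_eq_mul_conj, mul_assoc, mul_assoc,
          ← mem_center_iff.mp (hxc t) s⁻¹, mul_inv_cancel_left]) }
  let c : S →* ℂˣ := χ.comp c₀
  have hcomm : ∀ s ∈ c.ker, x * s = s * x := by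
    intro s hs
    have h1 : c₀ s ∈ χ.ker := hs
    rw [hker, mem_bot] at h1
    exact commutatorElement_eq_one_iff_mul_comm.mp (congrArg Subtype.val h1)
  have hrange : c.range ≤ rootsOfUnity p ℂ := by
    rintro _ ⟨s, rfl⟩
    rw [mem_rootsOfUnity, MonoidHom.comp_apply, ← map_pow]
    have hpow : ∀ n : ℕ, ⁅x ^ n, s⁆ = ⁅x, s⁆ ^ n := by
      intro n
      induction n with
      | zero => simp
      | succ n ihn =>
        rw [pow_succ', commutatorElement_mul_left_eq_conj_mul, ihn,
          mem_center_iff.mp (pow_mem (hxc s) n) x, mul_inv_cancel_right, pow_succ]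
    have : c₀ s ^ p = 1 := by
      apply Subtype.ext
      change ⁅x, s⁆ ^ p = 1
      rw [← hpow, commutatorElement_eq_one_iff_mul_comm]
      exact (mem_center_iff.mp hxp s).symm
    rw [this, map_one]
  have hidx : c.ker.index = p := by
    have h1 : c.ker.index ∣ p := by
      rw [index_ker]
      have := card_dvd_of_le hrange
      rwa [HasEnoughRootsOfUnity.natCard_rootsOfUnity] at this
    rcases (Nat.dvd_prime hp).mp h1 with h | h
    · exfalso
      apply hx1
      rw [index_eq_one] at h
      rw [mem_center_iff]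
      intro s
      exact (hcomm s (h ▸ mem_top s)).symm
    · exact h
  have hZC : center S ≤ c.ker := by
    intro s hs
    have : c₀ s = 1 := Subtype.ext
      (commutatorElement_eq_one_iff_mul_comm.mpr (mem_center_iff.mp hs x))
    rw [MonoidHom.mem_ker, MonoidHom.comp_apply, this, map_one]
  have hxC : x ∈ c.ker := by
    have : c₀ x = 1 := Subtype.ext (commutatorElement_self x)
    rw [MonoidHom.mem_ker, MonoidHom.comp_apply, this, map_one]
  have hlt : Nat.card c.ker < n := by
    rw [← hn, ← c.ker.index_mul_card, hidx]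
    exact lt_mul_of_one_lt_left Nat.card_pos hp.one_lt
  have hsub : (center S).subgroupOf c.ker ≤ center c.ker := by
    intro s hs
    rw [mem_center_iff]
    intro t
    exact Subtype.ext (mem_center_iff.mp hs t)
  let i : center S →* center c.ker :=
    (inclusion hZC).codRestrict _ (fun s => hsub s.2)
  obtain ⟨χ', hχ'⟩ := exists_extension_of_divisible_inj complexUnits_divisible i
    (fun a b h => inclusion_injective hZC (congrArg Subtype.val h)) χ
  obtain ⟨hzp, hzp'⟩ := pow_index_mem_commutator_of_central c.ker z.2 hz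
  have h1 := ih _ hlt c.ker rfl (by
    intro g
    obtain ⟨k, hk⟩ := hS g
    exact ⟨k, hsub hk⟩) χ' (i (z ^ c.ker.index)) hzp'
  rw [hχ', map_pow, hidx] at h1
  have h2 : orderOf (χ z) ≤ p * orderOf (χ z ^ p) := by
    rw [orderOf_pow' _ hp.ne_zero]
    conv_lhs => rw [← Nat.mul_div_cancel' (Nat.gcd_dvd_left (orderOf (χ z)) p)]
    exact Nat.mul_le_mul_right _ (Nat.gcd_le_right _ hp.pos)
  have h3 : (center S).index = ((center S).subgroupOf c.ker).index * p := by
    rw [← hidx]
    exact (relIndex_mul_index hZC).symm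
  have h4 := relIndex_mul_index hsub
  have h5 : p ≤ ((center S).subgroupOf c.ker).relIndex (center c.ker) := by
    obtain ⟨m, hm⟩ := hP.exists_card_eq
    have hd : ((center S).subgroupOf c.ker).relIndex (center c.ker) ∣ p ^ m := by
      rw [← hm, ← index_eq_card, h3, ← h4]
      exact (Dvd.intro _ rfl).mul_right _
    obtain ⟨j, -, hj⟩ := (Nat.dvd_prime_pow hp).mp hd
    rcases j with _ | j
    · exfalso
      rw [pow_zero, relIndex_eq_one] at hj
      apply hx1
      have : (⟨x, hxC⟩ : c.ker) ∈ center c.ker := by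
        rw [mem_center_iff]
        intro t
        exact Subtype.ext (hcomm t t.2).symm
      exact hj this
    · rw [hj, pow_succ]
      exact Nat.le_mul_of_pos_left _ (pow_pos hp.pos _)
  calc orderOf (χ z) ^ 2 ≤ (p * orderOf (χ z ^ p)) ^ 2 := Nat.pow_le_pow_left h2 2
    _ = p * orderOf (χ z ^ p) ^ 2 * p := by ring
    _ ≤ ((center S).subgroupOf c.ker).relIndex (center c.ker) * (center c.ker).index * p :=
      Nat.mul_le_mul_right _ (Nat.mul_le_mul h5 h1)
    _ = (center S).index := by rw [h4, h3]

section Norm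

variable {F A : Type*} [Group F] [CommGroup A]

theorem transfer_eq_prod_of_forall_conj_mem (H : Subgroup F) [H.FiniteIndex] [Fintype (F ⧸ H)]
    (Ψ : H →* A) (r : F) (hr : ∀ g : F, g⁻¹ * r * g ∈ H) :
    Ψ.transfer r = ∏ q : F ⧸ H, Ψ ⟨q.out⁻¹ * r * q.out, hr _⟩ := by
  let T : H.LeftTransversal := ⟨Set.range Quotient.out, isComplement_range_left Quotient.out_eq'⟩
  rw [MonoidHom.transfer_def Ψ T r, leftTransversals.diff]
  refine Finset.prod_congr (by congr; exact Subsingleton.elim _ _) ?_
  intro q _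
  congr 1
  apply Subtype.ext
  have hq : r⁻¹ • q = q := by
    obtain ⟨g, rfl⟩ := QuotientGroup.mk_surjective q
    rw [MulAction.Quotient.smul_mk, QuotientGroup.eq, smul_eq_mul]
    simpa using hr g
  simp only [smul_apply_eq_smul_apply_inv_smul, hq, smul_eq_mul, mul_assoc]
  rw [IsComplement.leftQuotientEquiv_apply Quotient.out_eq']

/-- The norm of a homomorphism on a normal subgroup along the cosets of `H`. -/
noncomputable def normMap (H : Subgroup F) [Fintype (F ⧸ H)] {R : Subgroup F} [R.Normal]
    (ψ : R →* A) : R →* A :=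
  ∏ q : F ⧸ H, ψ.comp (MulAut.conjNormal q.out⁻¹ : MulAut R).toMonoidHom

theorem normMap_apply (H : Subgroup F) [Fintype (F ⧸ H)] {R : Subgroup F} [R.Normal]
    (ψ : R →* A) (r : R) :
    normMap H ψ r = ∏ q : F ⧸ H, ψ (MulAut.conjNormal q.out⁻¹ r) := by
  rw [normMap, MonoidHom.finsetProd_apply]
  rfl

theorem normMap_conj (H : Subgroup F) [Fintype (F ⧸ H)] {R : Subgroup F} [R.Normal]
    (ψ : R →* A) (hψ : ∀ h ∈ H, ∀ r : R, ψ (MulAut.conjNormal h r) = ψ r) (g : F) (r : R) :
    normMap H ψ (MulAut.conjNormal g r) = normMap H ψ r := by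
  rw [normMap_apply, normMap_apply]
  refine Fintype.prod_equiv (MulAction.toPerm g⁻¹) _ _ ?_
  intro q
  have h1 : (g⁻¹ • q).out⁻¹ * (g⁻¹ * q.out) ∈ H := by
    rw [← QuotientGroup.eq, QuotientGroup.out_eq', ← smul_eq_mul, ← MulAction.Quotient.smul_mk,
      QuotientGroup.out_eq']
  rw [← hψ _ h1, ← MulAut.mul_apply, ← MulAut.mul_apply, ← map_mul, ← map_mul]
  congr 3
  simp [mul_assoc]

end Norm

/-- Corestriction and transfer between the multipliers of `G` and of a subgroup `U`. -/
theorem exists_transfer_cores {G : Type u} [Group G] [Finite G] (U : Subgroup G) {A B : Type*}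
    [CommGroup A] [CommGroup B] (hA : Cfsg.HasSchurMultiplier G A)
    (hB : Cfsg.HasSchurMultiplier U B) :
    ∃ (T : A →* B) (I : B →* A), ∀ a, I (T a) = a ^ U.index := by
  let φ := freeProj G
  have hφ : Function.Surjective φ := freeProj_surjective G
  let H : Subgroup (FreeGroup G) := U.comap φ
  have hidx : H.index = U.index := index_comap_of_surjective U hφ
  have : H.FiniteIndex := ⟨by rw [hidx]; exact index_ne_zero_of_finite⟩
  let _ := H.fintypeQuotientOfFiniteIndex
  let φH : H →* U := φ.subgroupComap U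
  have hφH : Function.Surjective φH := φ.subgroupComap_surjective_of_surjective U hφ
  have hRH : φ.ker ≤ H := ker_le_comap φ U
  have hR : ∀ r : φ.ker, ((inclusion hRH r : H) : CQ φH) ∈ (cqProj φH).ker :=
    fun r => Subtype.ext r.2
  let ψ : φ.ker →* center (CQ φH) :=
    ((QuotientGroup.mk' _).comp (inclusion hRH)).codRestrict _
      (fun r => cqProj_central φH (hR r))
  have hψ : ∀ h ∈ H, ∀ r : φ.ker, ψ (MulAut.conjNormal h r) = ψ r := by
    intro h hh r
    apply Subtype.ext
    have h1 : inclusion hRH (MulAut.conjNormal h r) = ⟨h, hh⟩ * inclusion hRH r * ⟨h, hh⟩⁻¹ :=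
      Subtype.ext rfl
    change ((inclusion hRH (MulAut.conjNormal h r) : H) : CQ φH) = (inclusion hRH r : H)
    rw [h1, QuotientGroup.mk_mul, QuotientGroup.mk_mul, QuotientGroup.mk_inv,
      mem_center_iff.mp (cqProj_central φH (hR r)), mul_inv_cancel_right]
  let ρ : φ.ker →* (cqProj φ).ker :=
    ((QuotientGroup.mk' _).comp φ.ker.subtype).codRestrict _ (fun r => r.2)
  have hρ : Function.Surjective ρ := by
    rintro ⟨x, hx⟩
    obtain ⟨x, rfl⟩ := QuotientGroup.mk_surjective x
    exact ⟨⟨x, hx⟩, rfl⟩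
  have hker : ρ.ker ≤ (normMap H ψ).ker := by
    intro r hr
    have h1 : (r : FreeGroup G) ∈ ⁅φ.ker, (⊤ : Subgroup (FreeGroup G))⁆ :=
      (QuotientGroup.eq_one_iff _).mp (congrArg Subtype.val hr)
    have h2 : ⁅φ.ker, (⊤ : Subgroup (FreeGroup G))⁆ ≤ (normMap H ψ).ker.map φ.ker.subtype := by
      rw [commutator_le]
      intro a ha b _
      refine ⟨⟨a, ha⟩ * MulAut.conjNormal b ⟨a, ha⟩⁻¹, ?_, ?_⟩
      · rw [SetLike.mem_coe, MonoidHom.mem_ker, map_mul, normMap_conj H ψ hψ, ← map_mul,
          mul_inv_cancel, map_one]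
      · simp [commutatorElement_def, mul_assoc]
    obtain ⟨r', hr', h3⟩ := h2 h1
    rwa [← Subtype.ext h3]
  let N : (cqProj φ).ker →* center (CQ φH) := ρ.liftOfSurjective hρ ⟨_, hker⟩
  have hN : ∀ r, N (ρ r) = normMap H ψ r := fun r =>
    MonoidHom.liftOfRightInverse_comp_apply _ _ _ _ _
  have hNmem : ∀ x : mult (cqProj φ),
      (N (inclusion (mult_le_ker _) x) : CQ φH) ∈ mult (cqProj φH) := by
    intro x
    obtain ⟨r, hr⟩ := hρ (inclusion (mult_le_ker _) x)
    rw [← hr, hN]
    refine mem_inf.mpr ⟨?_, ?_⟩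
    · rw [normMap_apply]
      exact Subgroup.prod_mem ((cqProj φH).ker.subgroupOf (center (CQ φH))) (fun q _ => hR _)
    · have hx : (r : FreeGroup G) ∈ commutator (FreeGroup G) := by
        rw [← abelianization_of_eq_one_iff, ← cqAb_mk φ]
        have h1 : ((r : FreeGroup G) : CQ φ) = x := congrArg Subtype.val hr
        rw [h1, abelianization_of_eq_one_iff.mpr x.2.2, map_one]
      have h1 : (Abelianization.of : H →* Abelianization H).transfer r = 1 :=
        Abelianization.commutator_subset_ker _ hx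
      rw [transfer_eq_prod_of_forall_conj_mem H _ r (fun g => hRH (by
        simpa using (inferInstance : φ.ker.Normal).conj_mem _ r.2 g⁻¹))] at h1
      rw [← abelianization_of_eq_one_iff]
      apply cqAb_injective φH
      rw [map_one, ← h1, normMap_apply]
      change ((cqAb φH).comp (Abelianization.of.comp (center (CQ φH)).subtype)) _ = _
      rw [map_prod]
      refine Finset.prod_congr rfl ?_
      intro q _
      change Abelianization.of (inclusion hRH _) = _
      congr 1
      apply Subtype.ext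
      simp
  let T : mult (cqProj φ) →* mult (cqProj φH) :=
    ((center (CQ φH)).subtype.comp (N.comp (inclusion (mult_le_ker _)))).codRestrict _ hNmem
  let ι : CQ φH →* CQ φ := cqLift φH ((QuotientGroup.mk' _).comp H.subtype)
    (fun r hr => cqProj_central φ (congrArg Subtype.val hr))
  let I : mult (cqProj φH) →* mult (cqProj φ) := multMap ι (by
    intro x hx
    obtain ⟨x, rfl⟩ := QuotientGroup.mk_surjective x
    exact congrArg Subtype.val hx)
  have hIT : ∀ x, I (T x) = x ^ U.index := by
    intro x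
    apply Subtype.ext
    obtain ⟨r, hr⟩ := hρ (inclusion (mult_le_ker _) x)
    have h1 : ((r : FreeGroup G) : CQ φ) = x := congrArg Subtype.val hr
    change ι (N (inclusion (mult_le_ker _) x)) = (x : CQ φ) ^ U.index
    rw [← hr, hN, normMap_apply, ← h1, ← hidx]
    have hc : ((r : FreeGroup G) : CQ φ) ∈ center (CQ φ) := cqProj_central φ r.2
    have : ∀ s : Finset (FreeGroup G ⧸ H),
        ι (∏ q ∈ s, ψ (MulAut.conjNormal q.out⁻¹ r) : center (CQ φH)) =
          ((r : FreeGroup G) : CQ φ) ^ s.card := by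
      classical
      intro s
      induction s using Finset.induction_on with
      | empty => simp
      | insert q s hq ih =>
        rw [Finset.prod_insert hq, Subgroup.coe_mul, map_mul, ih, Finset.card_insert_of_notMem hq,
          pow_succ']
        congr 1
        change ((q.out⁻¹ * r * q.out⁻¹⁻¹ : FreeGroup G) : CQ φ) = _
        rw [QuotientGroup.mk_mul, QuotientGroup.mk_mul, QuotientGroup.mk_inv _ (q.out⁻¹),
          mem_center_iff.mp hc, mul_inv_cancel_right]
    rw [this, Finset.card_univ, index_eq_card, Nat.card_eq_fintype_card]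
  obtain ⟨eA⟩ := (hasSchurMultiplier_iff (cqProj_isCentExt hφ) (cqProj_liftsAll φ)).mp hA
  obtain ⟨eB⟩ := (hasSchurMultiplier_iff (cqProj_isCentExt hφH) (cqProj_liftsAll φH)).mp hB
  refine ⟨eB.symm.toMonoidHom.comp (T.comp eA.toMonoidHom),
    eA.symm.toMonoidHom.comp (I.comp eB.toMonoidHom), fun a => ?_⟩
  simp [hIT]

theorem pow_card_eq_one_of_hasSchurMultiplier {G : Type u} [Group G] {A : Type*} [CommGroup A]
    (hA : Cfsg.HasSchurMultiplier G A) (a : A) : a ^ Nat.card G = 1 := by
  obtain ⟨⟨Γ, _, _, σ, hσ, ⟨e⟩⟩, -⟩ := hA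
  obtain ⟨x, rfl⟩ := e.surjective a
  obtain ⟨h1, h2⟩ := pow_index_mem_commutator_of_central σ.ker (hσ.2.1 x.2) (hσ.2.2 x.2)
  have := ker_comm hσ.2.1
  rw [commutator_eq_bot, mem_bot] at h2
  have h3 : σ.ker.index = Nat.card G := by
    rw [index_ker, MonoidHom.range_eq_top.mpr hσ.1, card_top]
  rw [← map_pow, ← h3, ← map_one e, ← h2]
  rfl

end CfsgLib.H4
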