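import Mathlib
import Cfsg.Prelude.Def_KGroupFacts

/-!
Hopf-style theory of the Schur multiplier: central extensions, the group `F / [R, F]` of a free
presentation, and the identification of `Cfsg.HasSchurMultiplier` with `ker ⊓ commutator`.
-/

set_option autoImplicit false

namespace CfsgLib.H4

open Subgroup
open scoped commutatorElement

universe u v

section Basic

variable {E Γ G H : Type*} [Group E] [Group Γ] [Group G] [Group H]

/-- A central extension. -/
structure IsCentExt (π : E →* G) : Prop where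
  surj : Function.Surjective π
  central : π.ker ≤ center E

/-- `ker π ⊓ E'`. -/
def mult (π : E →* G) : Subgroup E := π.ker ⊓ commutator E

theorem mem_mult {π : E →* G} {x : E} : x ∈ mult π ↔ π x = 1 ∧ x ∈ commutator E := Iff.rfl

theorem mult_le_ker (π : E →* G) : mult π ≤ π.ker := inf_le_left

theorem mult_le_commutator (π : E →* G) : mult π ≤ commutator E := inf_le_right

theorem isCentExt_of_stem {σ : Γ →* G} (h : Cfsg.IsStemExtension σ) : IsCentExt σ := ⟨h.1, h.2.1⟩

theorem mult_eq_ker_of_stem {σ : Γ →* G} (h : Cfsg.IsStemExtension σ) : mult σ = σ.ker :=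
  inf_eq_left.mpr h.2.2

theorem isStem_iff {σ : Γ →* G} : Cfsg.IsStemExtension σ ↔ IsCentExt σ ∧ mult σ = σ.ker :=
  ⟨fun h => ⟨isCentExt_of_stem h, mult_eq_ker_of_stem h⟩,
    fun h => ⟨h.1.1, h.1.2, inf_eq_left.mp h.2⟩⟩

theorem isCentExt_id : IsCentExt (MonoidHom.id G) :=
  ⟨Function.surjective_id, by simp⟩

theorem isStem_id : Cfsg.IsStemExtension (MonoidHom.id G) :=
  ⟨Function.surjective_id, by simp, by simp⟩

theorem commutatorElement_mul_central {a b z w : E} (hz : z ∈ center E) (hw : w ∈ center E) :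
    ⁅a * z, b * w⁆ = ⁅a, b⁆ := by
  have hz' := mem_center_iff.mp hz
  have hw' := mem_center_iff.mp hw
  simp only [commutatorElement_def, mul_inv_rev]
  have h1 : a * z * (b * w) * (z⁻¹ * a⁻¹) * (w⁻¹ * b⁻¹) =
      a * (z * (b * w) * z⁻¹) * a⁻¹ * (w⁻¹ * b⁻¹) := by group
  rw [h1, ← hz' (b * w), mul_inv_cancel_right]
  have h2 : a * (b * w) * a⁻¹ * (w⁻¹ * b⁻¹) = a * b * (w * a⁻¹ * w⁻¹) * b⁻¹ := by group
  rw [h2, ← hw' a⁻¹, mul_inv_cancel_right]

/-- commutators only depend on the images under a map with central kernel. -/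
theorem commutatorElement_eq_of_map_eq {σ : Γ →* G} (hσ : σ.ker ≤ center Γ) {a b a' b' : Γ}
    (ha : σ a = σ a') (hb : σ b = σ b') : ⁅a, b⁆ = ⁅a', b'⁆ := by
  have h1 : a'⁻¹ * a ∈ center Γ := hσ (by simp [MonoidHom.mem_ker, ha])
  have h2 : b'⁻¹ * b ∈ center Γ := hσ (by simp [MonoidHom.mem_ker, hb])
  rw [← commutatorElement_mul_central (a := a') (b := b') h1 h2]
  simp

/-- two lifts agree on the commutator subgroup. -/
theorem eq_on_commutator_of_lifts {σ : Γ →* G} (hσ : σ.ker ≤ center Γ) {f g : E →* Γ}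
    (h : σ.comp f = σ.comp g) {x : E} (hx : x ∈ commutator E) : f x = g x := by
  have : commutator E ≤ f.eqLocus g := by
    rw [commutator_def, commutator_le]
    intro a _ b _
    change f ⁅a, b⁆ = g ⁅a, b⁆
    rw [map_commutatorElement, map_commutatorElement]
    exact commutatorElement_eq_of_map_eq hσ (DFunLike.congr_fun h a) (DFunLike.congr_fun h b)
  exact this hx

theorem map_commutator_of_lift {σ : Γ →* G} (hσ : σ.ker ≤ center Γ) {f : E →* Γ}
    (hf : Function.Surjective (σ.comp f)) : (commutator E).map f = commutator Γ := by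
  apply le_antisymm
  · rw [commutator_def, map_commutator]
    exact commutator_mono le_top le_top
  · rw [commutator_def Γ, commutator_le]
    intro a _ b _
    obtain ⟨x, hx⟩ := hf (σ a)
    obtain ⟨y, hy⟩ := hf (σ b)
    refine ⟨⁅x, y⁆, commutator_mem_commutator (mem_top _) (mem_top _), ?_⟩
    rw [map_commutatorElement]
    exact commutatorElement_eq_of_map_eq hσ hx hy

theorem map_mult_of_lift {σ : Γ →* G} (hσ : σ.ker ≤ center Γ) {π : E →* G}
    (hπ : Function.Surjective π) {f : E →* Γ} (hf : σ.comp f = π) :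
    (mult π).map f = mult σ := by
  have h1 := map_commutator_of_lift hσ (f := f) (hf ▸ hπ)
  apply le_antisymm
  · rintro _ ⟨x, hx, rfl⟩
    refine ⟨?_, h1 ▸ mem_map_of_mem f hx.2⟩
    have := hx.1
    rw [← hf] at this
    exact this
  · rintro y ⟨hy1, hy2⟩
    rw [← h1] at hy2
    obtain ⟨x, hx, rfl⟩ := hy2
    refine ⟨x, ⟨?_, hx⟩, rfl⟩
    rw [← hf]
    exact hy1

theorem surjective_of_lift_of_stem {σ : Γ →* G} (hσ : Cfsg.IsStemExtension σ) {f : E →* Γ}
    (hf : Function.Surjective (σ.comp f)) : Function.Surjective f := by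
  intro y
  obtain ⟨x, hx⟩ := hf (σ y)
  have h1 : (f x)⁻¹ * y ∈ commutator Γ := hσ.2.2 (by
    have : σ (f x) = σ y := hx
    simp [MonoidHom.mem_ker, this])
  rw [← map_commutator_of_lift hσ.2.1 hf] at h1
  obtain ⟨z, -, hz⟩ := h1
  exact ⟨x * z, by rw [map_mul, hz]; simp⟩

/-- the map on `mult` induced by a lift. -/
def multMap {σ : Γ →* H} {π : E →* G} (f : E →* Γ) (hf : π.ker ≤ (σ.comp f).ker) :
    mult π →* mult σ :=
  (f.comp (mult π).subtype).codRestrict (mult σ) (fun x =>
    ⟨hf x.2.1, by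
      have : (commutator E).map f ≤ commutator Γ := by
        rw [commutator_def, map_commutator]
        exact commutator_mono le_top le_top
      exact this (mem_map_of_mem f x.2.2)⟩)

@[simp] theorem multMap_apply {σ : Γ →* H} {π : E →* G} (f : E →* Γ)
    (hf : π.ker ≤ (σ.comp f).ker) (x : mult π) : (multMap f hf x : Γ) = f x := rfl

theorem multMap_surjective {σ : Γ →* G} (hσ : σ.ker ≤ center Γ) {π : E →* G}
    (hπ : Function.Surjective π) {f : E →* Γ} (hf : σ.comp f = π) :
    Function.Surjective (multMap (σ := σ) (π := π) f (hf ▸ le_rfl)) := by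
  rintro ⟨y, hy⟩
  rw [← map_mult_of_lift hσ hπ hf] at hy
  obtain ⟨x, hx, rfl⟩ := hy
  exact ⟨⟨x, hx⟩, rfl⟩

theorem finite_commutator_of_central [Finite G] {π : E →* G} (hπ : π.ker ≤ center E) :
    Finite (commutator E) := by
  classical
  have : Finite (commutatorSet E) := by
    let s : G → E := Function.invFun π
    have hs : ∀ a, π (s (π a)) = π a := fun a => Function.invFun_eq ⟨a, rfl⟩
    have : commutatorSet E ⊆ Set.range (fun p : G × G => ⁅s p.1, s p.2⁆) := by
      rintro _ ⟨a, b, rfl⟩
      exact ⟨(π a, π b), commutatorElement_eq_of_map_eq hπ (hs a) (hs b)⟩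
    exact ((Set.finite_range _).subset this).to_subtype
  infer_instance

theorem finite_mult [Finite G] {π : E →* G} (hπ : π.ker ≤ center E) : Finite (mult π) := by
  have := finite_commutator_of_central hπ
  exact Finite.of_injective _ (inclusion_injective (mult_le_commutator π))

theorem mult_comm {π : E →* G} (hπ : π.ker ≤ center E) : IsMulCommutative (mult π) :=
  ⟨⟨fun a b => Subtype.ext (mem_center_iff.mp (hπ b.2.1) a)⟩⟩

theorem ker_comm {π : E →* G} (hπ : π.ker ≤ center E) : IsMulCommutative π.ker :=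
  ⟨⟨fun a b => Subtype.ext (mem_center_iff.mp (hπ b.2) a)⟩⟩

end Basic

section Free

variable {F G : Type*} [Group F] [Group G]

/-- `F / [R, F]` where `R` is the kernel of `φ`. -/
abbrev CQ (φ : F →* G) := F ⧸ ⁅φ.ker, (⊤ : Subgroup F)⁆

/-- The map `F / [R, F] → G`. -/
def cqProj (φ : F →* G) : CQ φ →* G :=
  QuotientGroup.lift _ φ (commutator_le_left φ.ker ⊤)

@[simp] theorem cqProj_mk (φ : F →* G) (x : F) : cqProj φ (x : CQ φ) = φ x := rfl

theorem cqProj_central (φ : F →* G) : (cqProj φ).ker ≤ center (CQ φ) := by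
  intro x hx
  obtain ⟨x, rfl⟩ := QuotientGroup.mk_surjective x
  rw [mem_center_iff]
  intro y
  obtain ⟨y, rfl⟩ := QuotientGroup.mk_surjective y
  rw [← QuotientGroup.mk_mul, ← QuotientGroup.mk_mul, QuotientGroup.eq]
  have hx' : x⁻¹ ∈ φ.ker := inv_mem hx
  have := commutator_mem_commutator hx' (mem_top y⁻¹)
  convert this using 1
  simp [commutatorElement_def, mul_assoc]

theorem cqProj_isCentExt {φ : F →* G} (hφ : Function.Surjective φ) : IsCentExt (cqProj φ) :=
  ⟨fun g => by
    obtain ⟨x, rfl⟩ := hφ g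
    exact ⟨x, rfl⟩, cqProj_central φ⟩

/-- a map from `F` killing... : maps of `F` sending `R` to the centre factor through `CQ`. -/
def cqLift {Γ : Type*} [Group Γ] (φ : F →* G) (f : F →* Γ) (hf : ∀ r ∈ φ.ker, f r ∈ center Γ) :
    CQ φ →* Γ :=
  QuotientGroup.lift _ f (by
    rw [commutator_le]
    intro a ha b _
    rw [MonoidHom.mem_ker, map_commutatorElement, commutatorElement_eq_one_iff_mul_comm]
    exact (mem_center_iff.mp (hf a ha) _).symm)

@[simp] theorem cqLift_mk {Γ : Type*} [Group Γ] (φ : F →* G) (f : F →* Γ)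
    (hf : ∀ r ∈ φ.ker, f r ∈ center Γ) (x : F) : cqLift φ f hf (x : CQ φ) = f x := rfl

theorem exists_cq_lift [IsFreeGroup F] (φ : F →* G) {Γ H : Type*} [Group Γ] [Group H]
    {σ : Γ →* H} (hσ : IsCentExt σ) (f : G →* H) :
    ∃ g : CQ φ →* Γ, σ.comp g = f.comp (cqProj φ) := by
  let s : H → Γ := Function.surjInv hσ.surj
  have hs : ∀ h, σ (s h) = h := Function.surjInv_eq hσ.surj
  let g : F →* Γ := IsFreeGroup.lift (fun a => s (f (φ (IsFreeGroup.of a))))
  have hg : σ.comp g = f.comp φ := by
    apply IsFreeGroup.ext_hom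
    intro a
    simp [g, hs]
  refine ⟨cqLift φ g ?_, ?_⟩
  · intro r hr
    apply hσ.central
    have := DFunLike.congr_fun hg r
    simp only [MonoidHom.comp_apply] at this
    rw [MonoidHom.mem_ker, this, MonoidHom.mem_ker.mp hr, map_one]
  · ext x
    exact DFunLike.congr_fun hg x

end Free

/-- The tautological free presentation. -/
def freeProj (G : Type u) [Group G] : FreeGroup G →* G := FreeGroup.lift id

theorem freeProj_surjective (G : Type u) [Group G] : Function.Surjective (freeProj G) :=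
  fun g => ⟨FreeGroup.of g, by simp [freeProj]⟩

/-- The standard free central extension. -/
abbrev UExt (G : Type u) [Group G] : Type u := CQ (freeProj G)

/-- Its projection. -/
abbrev uProj (G : Type u) [Group G] : UExt G →* G := cqProj (freeProj G)

theorem uProj_isCentExt (G : Type u) [Group G] : IsCentExt (uProj G) :=
  cqProj_isCentExt (freeProj_surjective G)

section Lifts

variable {E G : Type*} [Group E] [Group G]

/-- `π` factors through every central extension. -/
def LiftsAll (π : E →* G) : Prop := ∃ f : E →* UExt G, (uProj G).comp f = π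

theorem LiftsAll.lift {π : E →* G} (h : LiftsAll π) {Γ H : Type*} [Group Γ] [Group H]
    {σ : Γ →* H} (hσ : IsCentExt σ) (f : G →* H) : ∃ g : E →* Γ, σ.comp g = f.comp π := by
  obtain ⟨k, rfl⟩ := h
  obtain ⟨g, hg⟩ := exists_cq_lift (freeProj G) hσ f
  exact ⟨g.comp k, by rw [← MonoidHom.comp_assoc, hg, MonoidHom.comp_assoc]⟩

theorem LiftsAll.lift' {π : E →* G} (h : LiftsAll π) {Γ : Type*} [Group Γ]
    {σ : Γ →* G} (hσ : IsCentExt σ) : ∃ g : E →* Γ, σ.comp g = π :=
  h.lift hσ (MonoidHom.id G)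

theorem cqProj_liftsAll {F : Type*} [Group F] [IsFreeGroup F] (φ : F →* G) :
    LiftsAll (cqProj φ) :=
  exists_cq_lift φ (uProj_isCentExt G) (MonoidHom.id G)

theorem uProj_liftsAll (G : Type u) [Group G] : LiftsAll (uProj G) := cqProj_liftsAll _

theorem exists_multMap_surjective {π : E →* G} (hπ : Function.Surjective π) (h : LiftsAll π)
    {Γ : Type*} [Group Γ] {σ : Γ →* G} (hσ : IsCentExt σ) :
    ∃ f : mult π →* mult σ, Function.Surjective f := by
  obtain ⟨g, hg⟩ := h.lift' hσ
  exact ⟨_, multMap_surjective hσ.central hπ hg⟩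

theorem injOn_commutator_of_liftsAll {π : E →* G} (hπ : IsCentExt π) {Γ : Type*} [Group Γ]
    {σ : Γ →* G} (hl : LiftsAll σ) {f : E →* Γ} (hf : σ.comp f = π) {x : E}
    (hx : x ∈ commutator E) (hfx : f x = 1) : x = 1 := by
  obtain ⟨g, hg⟩ := hl.lift' hπ
  have : (g.comp f) x = MonoidHom.id E x :=
    eq_on_commutator_of_lifts hπ.central (by rw [← MonoidHom.comp_assoc, hg, hf]; rfl) hx
  rw [MonoidHom.comp_apply, hfx, map_one] at this
  exact this.symm

theorem nonempty_mult_equiv {π : E →* G} (hπ : IsCentExt π) (hl : LiftsAll π) {Γ : Type*}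
    [Group Γ] {σ : Γ →* G} (hσ : IsCentExt σ) (hl' : LiftsAll σ) :
    Nonempty (mult π ≃* mult σ) := by
  obtain ⟨f, hf⟩ := hl.lift' hσ
  refine ⟨MulEquiv.ofBijective _ ⟨?_, multMap_surjective hσ.central hπ.surj hf⟩⟩
  rw [injective_iff_map_eq_one]
  intro x hx
  exact Subtype.ext (injOn_commutator_of_liftsAll hπ hl' hf x.2.2 (congrArg Subtype.val hx))

end Lifts

section Compl

open scoped IsMulCommutative

theorem exists_section_of_torsionFree {K B : Type*} [CommGroup K] [CommGroup B] [Group.FG B]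
    [IsMulTorsionFree B] (q : K →* B)
    (hq : Function.Surjective q) : ∃ s : B →* K, ∀ b, q (s b) = b := by
  have h1 : Module.Finite ℤ (Additive B) := Module.Finite.iff_addGroup_fg.mpr inferInstance
  have h3 : Module.Free ℤ (Additive B) := inferInstance
  obtain ⟨s, hs⟩ := Module.projective_lifting_property (MonoidHom.toAdditive q).toIntLinearMap
    (LinearMap.id : Additive B →ₗ[ℤ] Additive B) hq
  refine ⟨MonoidHom.toAdditive.symm s.toAddMonoidHom, fun b => ?_⟩
  exact DFunLike.congr_fun hs (Additive.ofMul b)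

variable {E G : Type*} [Group E] [Group G]

/-- The properties of `F / [R, F] → G` for a finitely generated free group `F`. -/
structure IsFreeExt (π : E →* G) : Prop extends IsCentExt π where
  liftsAll : LiftsAll π
  fg : Group.FG E
  tf : IsMulTorsionFree (Abelianization E)

theorem abelianization_of_eq_one_iff {x : E} : Abelianization.of x = 1 ↔ x ∈ commutator E := by
  rw [← MonoidHom.mem_ker, Abelianization.ker_of]

/-- the abelianization of `F/[R,F]` embeds in that of `F`. -/
def cqAb {F : Type*} [Group F] (φ : F →* G) : Abelianization (CQ φ) →* Abelianization F :=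
  Abelianization.lift (cqLift φ Abelianization.of (fun r _ => by
    rw [CommGroup.center_eq_top]; exact mem_top _))

@[simp] theorem cqAb_mk {F : Type*} [Group F] (φ : F →* G) (x : F) :
    cqAb φ (Abelianization.of (x : CQ φ)) = Abelianization.of x := rfl

theorem cqAb_injective {F : Type*} [Group F] (φ : F →* G) : Function.Injective (cqAb φ) := by
  rw [injective_iff_map_eq_one]
  intro x hx
  obtain ⟨x, rfl⟩ : ∃ y : CQ φ, Abelianization.of y = x := QuotientGroup.mk_surjective x
  obtain ⟨x, rfl⟩ := QuotientGroup.mk_surjective x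
  rw [cqAb_mk, abelianization_of_eq_one_iff] at hx
  rw [abelianization_of_eq_one_iff]
  have : (commutator F).map (QuotientGroup.mk' _ : F →* CQ φ) ≤ commutator (CQ φ) := by
    rw [commutator_def, map_commutator]
    exact commutator_mono le_top le_top
  exact this (mem_map_of_mem _ hx)

theorem isMulTorsionFree_ab_freeGroup (α : Type*) :
    IsMulTorsionFree (Abelianization (FreeGroup α)) := by
  have h : IsAddTorsionFree (FreeAbelianGroup α) :=
    IsAddTorsionFree.of_isTorsionFree ℤ (FreeAbelianGroup α)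
  exact ⟨fun n hn => h.nsmul_right_injective hn⟩

theorem cqProj_isFreeExt {α : Type*} [Finite α] {φ : FreeGroup α →* G}
    (hφ : Function.Surjective φ) : IsFreeExt (cqProj φ) where
  toIsCentExt := cqProj_isCentExt hφ
  liftsAll := cqProj_liftsAll φ
  fg := inferInstance
  tf := by
    have := isMulTorsionFree_ab_freeGroup α
    exact (cqAb_injective φ).isMulTorsionFree _

theorem uProj_isFreeExt (G : Type u) [Group G] [Finite G] : IsFreeExt (uProj G) :=
  cqProj_isFreeExt (freeProj_surjective G)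

theorem fg_ker [Finite G] (π : E →* G) [Group.FG E] : Group.FG π.ker := by
  have : π.ker.FiniteIndex := inferInstance
  infer_instance

theorem IsFreeExt.exists_compl [Finite G] {π : E →* G} (hπ : IsFreeExt π) {K : Subgroup E}
    (hK : K ⊔ mult π = π.ker) : ∃ S ≤ K, S ⊓ mult π = ⊥ ∧ S ⊔ mult π = π.ker := by
  have hKle : K ≤ π.ker := hK ▸ le_sup_left
  have := hπ.fg
  have := hπ.tf
  have := fg_ker π
  have : IsMulCommutative K :=
    ⟨⟨fun a b => Subtype.ext (mem_center_iff.mp (hπ.central (hKle b.2)) a)⟩⟩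
  have hMn : (mult π).Normal := inferInstanceAs (π.ker ⊓ commutator E).Normal
  let B : Subgroup (Abelianization E) := (Abelianization.of.comp π.ker.subtype).range
  have : Group.FG B := Group.fg_range _
  let q : K →* B := (Abelianization.of.comp K.subtype).codRestrict B
    (fun x => ⟨⟨x, hKle x.2⟩, rfl⟩)
  have hq : Function.Surjective q := by
    rintro ⟨_, ⟨t, ht⟩, rfl⟩
    rw [← hK, ← SetLike.mem_coe, mul_normal] at ht
    obtain ⟨k, hk, m, hm, rfl⟩ := ht
    refine ⟨⟨k, hk⟩, Subtype.ext ?_⟩
    change Abelianization.of k = Abelianization.of (k * m)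
    rw [map_mul, abelianization_of_eq_one_iff.mpr hm.2, mul_one]
  obtain ⟨s, hs⟩ := exists_section_of_torsionFree q hq
  refine ⟨(K.subtype.comp s).range, ?_, ?_, ?_⟩
  · rintro _ ⟨b, rfl⟩
    exact (s b).2
  · rw [eq_bot_iff]
    rintro _ ⟨⟨b, rfl⟩, hb⟩
    have h1 : q (s b) = 1 := Subtype.ext (abelianization_of_eq_one_iff.mpr hb.2)
    rw [hs] at h1
    rw [h1, map_one]
    exact one_mem _
  · apply le_antisymm
    · refine sup_le ?_ (mult_le_ker π)
      rintro _ ⟨b, rfl⟩
      exact hKle (s b).2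
    · intro t ht
      let b : B := ⟨Abelianization.of t, ⟨t, ht⟩, rfl⟩
      have h1 : Abelianization.of (s b : E) = Abelianization.of t := congrArg Subtype.val (hs b)
      have h2 : (s b : E)⁻¹ * t ∈ mult π := by
        refine mem_inf.mpr ⟨mul_mem (inv_mem (hKle (s b).2)) ht, ?_⟩
        rw [← abelianization_of_eq_one_iff, map_mul, map_inv, h1, inv_mul_cancel]
      have : t = (s b : E) * ((s b : E)⁻¹ * t) := by simp
      rw [this]
      exact mul_mem (mem_sup_left ⟨b, rfl⟩) (mem_sup_right h2)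

theorem normal_of_le_center {S : Subgroup E} (h : S ≤ center E) : S.Normal :=
  ⟨fun n hn g => by
    rw [mem_center_iff.mp (h hn) g, mul_inv_cancel_right]; exact hn⟩

/-- The quotient of a central extension by a complement of `mult` in the kernel is a finite stem
extension with kernel `mult`. -/
theorem stem_of_compl [Finite G] {π : E →* G} (hπ : IsCentExt π) (S : Subgroup E) [S.Normal]
    (hS : S ≤ π.ker) (h1 : S ⊓ mult π = ⊥) (h2 : S ⊔ mult π = π.ker) :
    Finite (E ⧸ S) ∧ Cfsg.IsStemExtension (QuotientGroup.lift S π hS) ∧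
      Function.Bijective (multMap (σ := QuotientGroup.lift S π hS) (π := π)
        (QuotientGroup.mk' S) le_rfl) := by
  set σ := QuotientGroup.lift S π hS with hσ
  have hcomp : σ.comp (QuotientGroup.mk' S) = π := rfl
  have hMn : (mult π).Normal := inferInstanceAs (π.ker ⊓ commutator E).Normal
  have hker : σ.ker = (mult π).map (QuotientGroup.mk' S) := by
    apply le_antisymm
    · intro x hx
      obtain ⟨x, rfl⟩ := QuotientGroup.mk_surjective x
      have hx' : x ∈ π.ker := hx
      rw [← h2, ← SetLike.mem_coe, mul_normal] at hx'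
      obtain ⟨k, hk, m, hm, rfl⟩ := hx'
      refine ⟨m, hm, ?_⟩
      simp only [QuotientGroup.mk'_apply, QuotientGroup.mk_mul]
      rw [(QuotientGroup.eq_one_iff k).mpr hk, one_mul]
    · rintro _ ⟨m, hm, rfl⟩
      exact hm.1
  have hcen : σ.ker ≤ center (E ⧸ S) := by
    rw [hker]
    rintro _ ⟨m, hm, rfl⟩
    rw [mem_center_iff]
    intro y
    obtain ⟨y, rfl⟩ := QuotientGroup.mk_surjective y
    simp only [QuotientGroup.mk'_apply, ← QuotientGroup.mk_mul]
    rw [mem_center_iff.mp (hπ.central hm.1) y]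
  have hmult := map_mult_of_lift hcen hπ.surj hcomp
  have hstem : Cfsg.IsStemExtension σ := by
    refine ⟨?_, hcen, ?_⟩
    · intro g
      obtain ⟨x, rfl⟩ := hπ.surj g
      exact ⟨x, rfl⟩
    · rw [hker, hmult]
      exact mult_le_commutator σ
  refine ⟨?_, hstem, ?_, multMap_surjective hcen hπ.surj hcomp⟩
  · have := finite_mult hπ.central
    have : Finite σ.ker := by
      rw [hker]
      exact Finite.of_surjective _ (MonoidHom.subgroupMap_surjective _ _)
    exact (MonoidHom.finite_iff_finite_ker_range σ).mpr ⟨this, inferInstance⟩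
  · rw [injective_iff_map_eq_one]
    intro x hx
    have h3 : (x : E) ∈ S := (QuotientGroup.eq_one_iff _).mp (congrArg Subtype.val hx)
    have : (x : E) ∈ S ⊓ mult π := ⟨h3, x.2⟩
    rw [h1] at this
    exact Subtype.ext this

end Compl

theorem nonempty_mulEquiv_of_surjective_surjective {A B : Type*} [Group A] [Group B] [Finite A]
    (f : A →* B) (g : B →* A) (hf : Function.Surjective f) (hg : Function.Surjective g) :
    Nonempty (A ≃* B) := by
  have : Function.Injective (g ∘ f) := Finite.injective_iff_surjective.mpr (hg.comp hf)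
  exact ⟨MulEquiv.ofBijective f ⟨this.of_comp, hf⟩⟩

/-- A Schur cover exists. -/
theorem exists_cover (G : Type u) [Group G] [Finite G] :
    ∃ (Γ : Type u) (_ : Group Γ) (_ : Finite Γ) (σ : Γ →* G), Cfsg.IsStemExtension σ ∧
      Nonempty (σ.ker ≃* mult (uProj G)) := by
  obtain ⟨S, hS, h1, h2⟩ := (uProj_isFreeExt G).exists_compl
    (sup_eq_left.mpr (mult_le_ker (uProj G)))
  have := normal_of_le_center (hS.trans (uProj_isCentExt G).central)
  obtain ⟨hf, hs, hb⟩ := stem_of_compl (uProj_isCentExt G) S hS h1 h2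
  exact ⟨_, inferInstance, hf, _, hs,
    ⟨(MulEquiv.subgroupCongr (mult_eq_ker_of_stem hs).symm).trans
      (MulEquiv.ofBijective _ hb).symm⟩⟩

theorem hasSchurMultiplier_iff_uProj {G : Type u} [Group G] [Finite G] {A : Type v} [CommGroup A] :
    Cfsg.HasSchurMultiplier G A ↔ Nonempty (A ≃* mult (uProj G)) := by
  obtain ⟨Γ, _, _, σ, hσ, ⟨e⟩⟩ := exists_cover G
  constructor
  · rintro ⟨⟨Δ, _, _, τ, hτ, ⟨e'⟩⟩, h⟩
    obtain ⟨f, hf⟩ := h Γ σ hσ
    obtain ⟨g, hg⟩ := exists_multMap_surjective (uProj_isCentExt G).surj (uProj_liftsAll G)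
      (isCentExt_of_stem hτ)
    have : Finite A := Finite.of_equiv _ e'.toEquiv
    exact nonempty_mulEquiv_of_surjective_surjective (e.toMonoidHom.comp f)
      ((((MulEquiv.subgroupCongr (mult_eq_ker_of_stem hτ)).trans e').toMonoidHom).comp g)
      (e.surjective.comp hf)
      (((MulEquiv.subgroupCongr (mult_eq_ker_of_stem hτ)).trans e').surjective.comp hg)
  · rintro ⟨e'⟩
    refine ⟨⟨Γ, inferInstance, inferInstance, σ, hσ, ⟨e.trans e'.symm⟩⟩, ?_⟩
    intro Δ _ _ τ hτ
    obtain ⟨g, hg⟩ := exists_multMap_surjective (uProj_isCentExt G).surj (uProj_liftsAll G)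
      (isCentExt_of_stem hτ)
    exact ⟨(MulEquiv.subgroupCongr (mult_eq_ker_of_stem hτ)).toMonoidHom.comp
      (g.comp e'.toMonoidHom),
      (MulEquiv.subgroupCongr (mult_eq_ker_of_stem hτ)).surjective.comp (hg.comp e'.surjective)⟩

theorem hasSchurMultiplier_iff {G : Type u} [Group G] [Finite G] {A : Type v} [CommGroup A]
    {E : Type*} [Group E] {π : E →* G} (hπ : IsCentExt π) (hl : LiftsAll π) :
    Cfsg.HasSchurMultiplier G A ↔ Nonempty (A ≃* mult π) := by
  obtain ⟨e⟩ := nonempty_mult_equiv hπ hl (uProj_isCentExt G) (uProj_liftsAll G)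
  rw [hasSchurMultiplier_iff_uProj]
  exact ⟨fun ⟨f⟩ => ⟨f.trans e.symm⟩, fun ⟨f⟩ => ⟨f.trans e⟩⟩

theorem finite_of_hasSchurMultiplier {G : Type u} [Group G] {A : Type v} [CommGroup A]
    (h : Cfsg.HasSchurMultiplier G A) : Finite A := by
  obtain ⟨⟨Δ, _, _, τ, hτ, ⟨e'⟩⟩, -⟩ := h
  exact Finite.of_equiv _ e'.toEquiv

theorem finite_of_hasSchurMultiplier' {G : Type u} [Group G] {A : Type v} [CommGroup A]
    (h : Cfsg.HasSchurMultiplier G A) : Finite G := by
  obtain ⟨⟨Δ, _, _, τ, hτ, -⟩, -⟩ := h
  exact Finite.of_surjective _ hτ.1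

/-- For any central extension (finite or not), `ker ⊓ commutator` is a quotient of the
multiplier. -/
theorem exists_surjective_mult {G : Type u} [Group G] {A : Type v} [CommGroup A]
    (h : Cfsg.HasSchurMultiplier G A) {Γ : Type*} [Group Γ] {σ : Γ →* G} (hσ : IsCentExt σ) :
    ∃ f : A →* mult σ, Function.Surjective f := by
  have := finite_of_hasSchurMultiplier' h
  obtain ⟨e⟩ := hasSchurMultiplier_iff_uProj.mp h
  obtain ⟨g, hg⟩ := exists_multMap_surjective (uProj_isCentExt G).surj (uProj_liftsAll G) hσ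
  exact ⟨g.comp e.toMonoidHom, hg.comp e.surjective⟩

/-- Criterion: a central extension realising `A` together with an upper bound. -/
theorem hasSchurMultiplier_of_card_le {G : Type u} [Group G] [Finite G] {A : Type v} [CommGroup A]
    {Γ : Type*} [Group Γ] {σ : Γ →* G} (hσ : IsCentExt σ) (e : A ≃* mult σ)
    (hle : Nat.card (mult (uProj G)) ≤ Nat.card A) : Cfsg.HasSchurMultiplier G A := by
  obtain ⟨g, hg⟩ := exists_multMap_surjective (uProj_isCentExt G).surj (uProj_liftsAll G) hσ
  have := finite_mult (uProj_isCentExt G).central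
  have hb : Function.Bijective g := by
    refine hg.bijective_of_nat_card_le ?_
    rwa [← Nat.card_congr e.toEquiv]
  exact hasSchurMultiplier_iff_uProj.mpr ⟨e.trans (MulEquiv.ofBijective g hb).symm⟩

theorem hasTrivialMultiplier_iff {G : Type u} [Group G] [Finite G]
    {E : Type*} [Group E] {π : E →* G} (hπ : IsCentExt π) (hl : LiftsAll π) :
    Cfsg.HasCyclicSchurMultiplier G 1 ↔ mult π = ⊥ := by
  rw [Cfsg.HasCyclicSchurMultiplier, hasSchurMultiplier_iff hπ hl]
  constructor
  · rintro ⟨e⟩
    rw [eq_bot_iff_card, ← Nat.card_congr e.toEquiv]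
    simp
  · intro h
    have : Subsingleton (mult π) := by rw [h]; infer_instance
    have : Unique (mult π) := uniqueOfSubsingleton 1
    have : Unique (Multiplicative (ZMod 1)) := inferInstanceAs (Unique (Fin 1))
    exact ⟨MulEquiv.ofUnique⟩

theorem mult_eq_bot_of_trivial {G : Type u} [Group G]
    (h : Cfsg.HasCyclicSchurMultiplier G 1) {Γ : Type*} [Group Γ] {σ : Γ →* G}
    (hσ : IsCentExt σ) : mult σ = ⊥ := by
  obtain ⟨f, hf⟩ := exists_surjective_mult h hσ
  have : Subsingleton (Multiplicative (ZMod 1)) := inferInstanceAs (Subsingleton (Fin 1))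
  have := hf.subsingleton
  exact eq_bot_of_subsingleton _

theorem hasSchurMultiplier_congr {G : Type u} [Group G] {A : Type v} [CommGroup A] {B : Type*}
    [CommGroup B] (h : Cfsg.HasSchurMultiplier G A) (e : A ≃* B) : Cfsg.HasSchurMultiplier G B := by
  have := finite_of_hasSchurMultiplier' h
  obtain ⟨f⟩ := hasSchurMultiplier_iff_uProj.mp h
  exact hasSchurMultiplier_iff_uProj.mpr ⟨e.symm.trans f⟩

/-- A lift from a free extension to a Schur cover is injective on `mult`. -/
theorem multMap_bijective_of_cover {G : Type u} [Group G] {A : Type v} [CommGroup A]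
    (h : Cfsg.HasSchurMultiplier G A) {E Γ : Type*} [Group E] [Group Γ] {π : E →* G}
    (hπ : IsCentExt π) (hl : LiftsAll π) {σ : Γ →* G} (hσ : Cfsg.IsStemExtension σ)
    (hk : Nonempty (σ.ker ≃* A)) {f : E →* Γ} (hf : σ.comp f = π) :
    Function.Bijective (multMap (σ := σ) (π := π) f (hf ▸ le_rfl)) := by
  have := finite_of_hasSchurMultiplier' h
  obtain ⟨e⟩ := (hasSchurMultiplier_iff hπ hl).mp h
  obtain ⟨e'⟩ := hk
  have := finite_mult hπ.central
  refine (multMap_surjective hσ.2.1 hπ.surj hf).bijective_of_nat_card_le ?_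
  rw [← Nat.card_congr e.toEquiv, mult_eq_ker_of_stem hσ, Nat.card_congr e'.toEquiv]

end CfsgLib.H4
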