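import Cfsg.Agent.Lib.SchurBasic

/-!
Extension of characters into divisible groups; projective representations attached to central
characters.
-/

set_option autoImplicit false

namespace CfsgLib.H4

open Subgroup
open scoped commutatorElement IsMulCommutative

theorem exists_extension_of_divisible_inj {K B D : Type*} [Group K] [CommGroup B] [CommGroup D]
    (hD : ∀ n : ℕ, n ≠ 0 → ∀ d : D, ∃ x : D, x ^ n = d) (i : K →* B) (hi : Function.Injective i)
    (g : K →* D) : ∃ h : B →* D, ∀ k, h (i k) = g k := by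
  have : IsMulCommutative K := ⟨⟨fun a b => hi (by rw [map_mul, map_mul, mul_comm])⟩⟩
  let _ : DivisibleBy (Additive D) ℕ := divisibleByOfSMulRightSurj _ _ (fun {n} hn d => by
    obtain ⟨x, hx⟩ := hD n hn d.toMul
    exact ⟨Additive.ofMul x, congrArg Additive.ofMul hx⟩)
  let _ : DivisibleBy (Additive D) ℤ := AddGroup.divisibleByIntOfDivisibleByNat _
  obtain ⟨h, hh⟩ := (Module.Baer.of_divisible (Additive D)).extension_property_addMonoidHom
    (MonoidHom.toAdditive i) hi (MonoidHom.toAdditive g)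
  exact ⟨MonoidHom.toAdditive.symm h, fun k => DFunLike.congr_fun hh (Additive.ofMul k)⟩

theorem exists_extension_of_divisible {K B D : Type*} [Group K] [CommGroup B] [CommGroup D]
    (hD : ∀ n : ℕ, n ≠ 0 → ∀ d : D, ∃ x : D, x ^ n = d) (i : K →* B)
    (g : K →* D) (hi : i.ker ≤ g.ker) : ∃ h : B →* D, ∀ k, h (i k) = g k := by
  obtain ⟨h, hh⟩ := exists_extension_of_divisible_inj hD (QuotientGroup.kerLift i)
    (QuotientGroup.kerLift_injective i) (QuotientGroup.lift _ g hi)
  exact ⟨h, fun k => hh (k : K ⧸ i.ker)⟩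

theorem complexUnits_divisible (n : ℕ) (hn : n ≠ 0) (d : ℂˣ) : ∃ x : ℂˣ, x ^ n = d := by
  obtain ⟨z, hz⟩ := IsAlgClosed.exists_pow_nat_eq (d : ℂ) (Nat.pos_of_ne_zero hn)
  have hz0 : z ≠ 0 := by
    rintro rfl
    rw [zero_pow hn] at hz
    exact d.ne_zero hz.symm
  exact ⟨Units.mk0 z hz0, Units.ext hz⟩

theorem center_GL_divisible {ι : Type*} [Fintype ι] [DecidableEq ι] (n : ℕ) (hn : n ≠ 0)
    (d : center (GL ι ℂ)) : ∃ x : center (GL ι ℂ), x ^ n = d := by
  obtain ⟨d, hd⟩ := d
  have hd' := hd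
  rw [Matrix.GeneralLinearGroup.center_eq_range_scalar] at hd'
  obtain ⟨u, rfl⟩ := hd'
  obtain ⟨v, rfl⟩ := complexUnits_divisible n hn u
  refine ⟨⟨Matrix.GeneralLinearGroup.scalar ι v, ?_⟩, Subtype.ext (by simp)⟩
  rw [Matrix.GeneralLinearGroup.center_eq_range_scalar]
  exact ⟨v, rfl⟩

theorem exists_character_ne_one {K : Type*} [Group K] [IsMulCommutative K] {a : K}
    (hfin : IsOfFinOrder a) (ha : a ≠ 1) : ∃ χ : K →* ℂˣ, χ a ≠ 1 := by
  have : Finite (zpowers a) := hfin.finite_zpowers.to_subtype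
  have : NeZero (Monoid.exponent (zpowers a)) := ⟨Monoid.exponent_ne_zero_of_finite⟩
  obtain ⟨φ, hφ⟩ := CommGroup.exists_apply_ne_one_of_hasEnoughRootsOfUnity (zpowers a) ℂ
    (a := ⟨a, mem_zpowers a⟩) (fun h => ha (congrArg Subtype.val h))
  obtain ⟨h, hh⟩ := exists_extension_of_divisible_inj complexUnits_divisible (zpowers a).subtype
    (subtype_injective _) φ
  exact ⟨h, fun h1 => hφ ((hh ⟨a, mem_zpowers a⟩).symm.trans h1)⟩

variable {E Q : Type*} [Group E] [Group Q]

/-- the representation induced from a character of the (central) kernel. -/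
theorem exists_induced_rep [Finite Q] {π : E →* Q} (hπ : IsCentExt π) (χ : π.ker →* ℂˣ) :
    ∃ ρ : E →* GL (Fin (Nat.card Q)) ℂ,
      ∀ t : π.ker, ρ t = Matrix.GeneralLinearGroup.scalar _ (χ t) := by
  classical
  let e : Q ≃ Fin (Nat.card Q) := Finite.equivFin Q
  let s : Fin (Nat.card Q) → E := fun i => Function.surjInv hπ.surj (e.symm i)
  have hs : ∀ i, π (s i) = e.symm i := fun i => Function.surjInv_eq hπ.surj _
  let l : E → ℂ := fun x => if h : x ∈ π.ker then (χ ⟨x, h⟩ : ℂ) else 0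
  have hl0 : ∀ x, x ∉ π.ker → l x = 0 := fun x hx => dif_neg hx
  have hl1 : ∀ x (hx : x ∈ π.ker), l x = χ ⟨x, hx⟩ := fun x hx => dif_pos hx
  have hlmul : ∀ a b, a ∈ π.ker → l (a * b) = l a * l b := by
    intro a b ha
    by_cases hb : b ∈ π.ker
    · rw [hl1 a ha, hl1 b hb, hl1 _ (mul_mem ha hb), ← Units.val_mul, ← map_mul]
      rfl
    · rw [hl0 b hb, mul_zero, hl0]
      rwa [mul_mem_cancel_left ha]
  have hδ : ∀ i j, l ((s i)⁻¹ * s j) = if i = j then 1 else 0 := by
    intro i j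
    split_ifs with h
    · subst h
      rw [inv_mul_cancel, hl1 1 (one_mem _)]
      exact congrArg Units.val (map_one χ)
    · apply hl0
      intro h1
      rw [MonoidHom.mem_ker, map_mul, map_inv, hs, hs, inv_mul_eq_one] at h1
      exact h (e.symm.injective h1)
  let ρ : E →* Matrix (Fin (Nat.card Q)) (Fin (Nat.card Q)) ℂ :=
    { toFun := fun x => Matrix.of (fun i j => l ((s i)⁻¹ * x * s j))
      map_one' := by
        ext i j
        simp only [Matrix.of_apply, mul_one, hδ, Matrix.one_apply]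
      map_mul' := by
        intro x y
        ext i j
        simp only [Matrix.of_apply, Matrix.mul_apply]
        rw [Finset.sum_eq_single (e ((π x)⁻¹ * e.symm i))]
        · rw [← hlmul]
          · congr 1
            group
          · rw [MonoidHom.mem_ker, map_mul, map_mul, map_inv, hs, hs]
            simp
        · intro k _ hk
          rw [hl0, zero_mul]
          intro h1
          rw [MonoidHom.mem_ker, map_mul, map_mul, map_inv, hs, hs] at h1
          apply hk
          rw [← e.symm_apply_eq]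
          calc e.symm k = (π x)⁻¹ * e.symm i * ((e.symm i)⁻¹ * π x * e.symm k) := by group
            _ = (π x)⁻¹ * e.symm i := by rw [h1, mul_one]
        · simp }
  refine ⟨ρ.toHomUnits, fun t => ?_⟩
  ext i j
  change l ((s i)⁻¹ * t * s j) = _
  rw [mem_center_iff.mp (hπ.central t.2) (s i)⁻¹, mul_assoc, hlmul _ _ t.2, hδ, hl1 _ t.2]
  simp [Matrix.diagonal_apply]

theorem isCentExt_mk_center (G : Type*) [Group G] : IsCentExt (QuotientGroup.mk' (center G)) :=
  ⟨QuotientGroup.mk'_surjective _, by rw [QuotientGroup.ker_mk']⟩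

/-- A projective representation of `Q` lifts along `σ` as soon as the lift of the free
extension is injective on `mult`. -/
theorem exists_lift_projective {Γ : Type*} [Group Γ] {π : E →* Q} (hl : LiftsAll π)
    {σ : Γ →* Q} {f : E →* Γ} (hf : σ.comp f = π) (hfs : Function.Surjective f)
    (hinj : ∀ x ∈ commutator E, f x = 1 → x = 1) {ι : Type*} [Fintype ι] [DecidableEq ι]
    (γ : Q →* (GL ι ℂ ⧸ center (GL ι ℂ))) :
    ∃ ρ : Γ →* GL ι ℂ, (QuotientGroup.mk' (center (GL ι ℂ))).comp ρ = γ.comp σ := by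
  obtain ⟨ρ₀, hρ₀⟩ := hl.lift (isCentExt_mk_center (GL ι ℂ)) γ
  have hmem : ∀ x : f.ker, ρ₀ x ∈ center (GL ι ℂ) := by
    intro x
    have h1 := DFunLike.congr_fun hρ₀ (x : E)
    rw [← hf] at h1
    simp only [MonoidHom.comp_apply, MonoidHom.mem_ker.mp x.2, map_one] at h1
    exact (QuotientGroup.eq_one_iff _).mp h1
  obtain ⟨D, hD⟩ := exists_extension_of_divisible_inj (center_GL_divisible (ι := ι))
    (Abelianization.of.comp f.ker.subtype) (by
      rw [injective_iff_map_eq_one]
      intro x hx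
      exact Subtype.ext (hinj x (abelianization_of_eq_one_iff.mp hx) x.2))
    ((ρ₀.comp f.ker.subtype).codRestrict _ hmem)
  let ρ₁ : E →* GL ι ℂ :=
    { toFun := fun x => ρ₀ x * ((D (Abelianization.of x))⁻¹ : center (GL ι ℂ))
      map_one' := by simp
      map_mul' := by
        intro x y
        rw [map_mul, map_mul, map_mul, mul_inv, Subgroup.coe_mul, mul_assoc, mul_assoc]
        congr 1
        rw [← mul_assoc, ← mul_assoc, mem_center_iff.mp (D (Abelianization.of x))⁻¹.2 (ρ₀ y)] }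
  have hker : f.ker ≤ ρ₁.ker := by
    intro x hx
    have := congrArg Subtype.val (hD ⟨x, hx⟩)
    change ρ₀ x * _ = 1
    rw [Subgroup.coe_inv, mul_inv_eq_one]
    exact this.symm
  refine ⟨f.liftOfSurjective hfs ⟨ρ₁, hker⟩, ?_⟩
  ext y
  obtain ⟨x, rfl⟩ := hfs y
  have h1 := DFunLike.congr_fun hρ₀ x
  rw [← hf] at h1
  simp only [MonoidHom.comp_apply] at h1 ⊢
  rw [← h1, MonoidHom.liftOfRightInverse_comp_apply]
  change ((ρ₀ x * _ : GL ι ℂ) : GL ι ℂ ⧸ center (GL ι ℂ)) = (ρ₀ x : GL ι ℂ)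
  rw [QuotientGroup.mk_mul_of_mem _ (Subtype.prop _)]

/-- If all projective representations lift along `σ`, any lift into `σ` is injective on `mult`. -/
theorem injective_of_lift_projective [Finite Q] {Γ : Type*} [Group Γ] {π : E →* Q}
    (hπ : IsCentExt π) {σ : Γ →* Q} {f : E →* Γ} (hf : σ.comp f = π)
    (hlift : ∀ (n : ℕ) (γ : Q →* (GL (Fin n) ℂ ⧸ center (GL (Fin n) ℂ))),
      ∃ ρ : Γ →* GL (Fin n) ℂ, (QuotientGroup.mk' (center (GL (Fin n) ℂ))).comp ρ = γ.comp σ)
    {x : E} (hx : x ∈ mult π) (hfx : f x = 1) : x = 1 := by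
  by_contra hne
  have := ker_comm hπ.central
  have := finite_mult hπ.central
  have hfin : IsOfFinOrder (⟨x, hx.1⟩ : π.ker) := by
    rw [← (subtype_injective _).isOfFinOrder_iff (f := π.ker.subtype)]
    exact (mult π).subtype.isOfFinOrder (isOfFinOrder_of_finite (⟨x, hx⟩ : mult π))
  obtain ⟨χ, hχ⟩ := exists_character_ne_one hfin (fun h => hne (congrArg Subtype.val h))
  obtain ⟨ρ₀, hρ₀⟩ := exists_induced_rep hπ χ
  have hker : π.ker ≤ ((QuotientGroup.mk' (center (GL (Fin (Nat.card Q)) ℂ))).comp ρ₀).ker := by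
    intro t ht
    rw [MonoidHom.mem_ker, MonoidHom.comp_apply, QuotientGroup.mk'_apply,
      QuotientGroup.eq_one_iff, hρ₀ ⟨t, ht⟩, Matrix.GeneralLinearGroup.center_eq_range_scalar]
    exact ⟨_, rfl⟩
  obtain ⟨ρ, hρ⟩ := hlift _ (π.liftOfSurjective hπ.surj ⟨_, hker⟩)
  have h1 : ρ.comp f x = ρ₀ x := by
    refine eq_on_commutator_of_lifts (isCentExt_mk_center _).central ?_ hx.2
    rw [← MonoidHom.comp_assoc, hρ, MonoidHom.comp_assoc, hf]
    exact MonoidHom.liftOfRightInverse_comp _ _ _ _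
  rw [MonoidHom.comp_apply, hfx, map_one, hρ₀ ⟨x, hx.1⟩] at h1
  apply hχ
  have i : Fin (Nat.card Q) := ⟨0, Nat.card_pos⟩
  have h2 := congrArg (fun g : GL (Fin (Nat.card Q)) ℂ => g.val i i) h1
  simp at h2
  exact Units.ext h2.symm

end CfsgLib.H4
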